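import Cfsg.Agent.H2.AM2

/-! Sections isomorphic to `S₄`. -/

set_option autoImplicit false
namespace CfsgH2
open Subgroup Function Cfsg CfsgL0 CfsgBG
open scoped commutatorElement

variable {G : Type*} [Group G] [Finite G] {A B D E H J K L M P Q R S T U V W X Y : Subgroup G}

/-- `H` involves `S₄`. -/
def I4 (H : Subgroup G) : Prop := Sec H (⊤ : Subgroup (Equiv.Perm (Fin 4)))

omit [Finite G] in
theorem i4_iff : Involves (Equiv.Perm (Fin 4)) H ↔ I4 H := involves_iff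
omit [Finite G] in
theorem sec_sub (l : K ≤ H) : Sec H K :=
  ⟨K, _, inclusion l, K.subtype, inclusion_injective l, map_subtype_top K⟩
omit [Finite G] in
theorem I4.of_sec {G' : Type*} [Group G'] {K : Subgroup G'} (h : I4 K) (s : Sec H K) : I4 H :=
  s.top.trans h
omit [Finite G] in
theorem I4.mono (h : I4 K) (l : K ≤ H) : I4 H := h.of_sec (sec_sub l)
omit [Finite G] in
theorem i4_top : Involves (Equiv.Perm (Fin 4)) G ↔ I4 (⊤ : Subgroup G) :=
  involves_iff.trans ⟨fun h => Sec.trans (X := G) ⟨_, _, MonoidHom.id _, (⊤ : Subgroup G).subtype,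
    injective_id, map_subtype_top _⟩ h, fun h => (Sec.self (⊤ : Subgroup G)).top.trans h⟩
omit [Finite G] in
theorem I4.of_qt (h : I4 (qt K H)) (n : H ≤ N[K]) : I4 H := h.of_sec ((sec_sub le_rfl).qt n)
omit [Finite G] in
theorem I4.of_map {G' : Type*} [Group G'] {f : G →* G'} (h : I4 (H.map f)) : I4 H :=
  h.of_sec ((sec_sub le_rfl).map f)

theorem idx_dvd_six (c : o[X] = 4) (n : L ≤ N[X]) : C[X].relIndex L ∣ 6 := by
  classical
  let α := {x : G // x ∈ X ∧ x ≠ 1}
  have k : ∀ (l : L) (x : α), (l : G) * x * (l : G)⁻¹ ∈ X ∧ (l : G) * x * (l : G)⁻¹ ≠ 1 := fun l x =>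
    ⟨conj_mem_of_norm (n l.2) x.2.1, fun e => x.2.2 (by simpa using e)⟩
  let φ : L →* Equiv.Perm α := MonoidHom.toHomPerm
    { toFun l := fun x => ⟨_, k l x⟩
      map_one' := funext fun x => Subtype.ext (by simp; rfl)
      map_mul' a b := funext fun x => Subtype.ext (by
        change _ = (a : G) * (b * x * (b : G)⁻¹) * (a : G)⁻¹
        simp [mul_assoc]) }
  have e : φ.ker = C[X].subgroupOf L := by
    ext l
    simp only [MonoidHom.mem_ker, mem_subgroupOf, mem_cent_iff]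
    constructor
    · intro h x hx
      by_cases c : x = 1
      · simp [c]
      have := congrArg (fun f : Equiv.Perm α => (f ⟨x, hx, c⟩ : G)) h
      simp only [φ] at this
      exact (mul_inv_eq_iff_eq_mul.1 this).symm
    · intro h
      ext x
      exact mul_inv_eq_iff_eq_mul.2 (h x x.2.1).symm
  have c3 : Nat.card α = 3 := by
    have : Nat.card α = ((X : Set G) \ {1}).ncard := Nat.card_coe_set_eq ((X : Set G) \ {1})
    rw [this, Set.ncard_diff_singleton_of_mem X.one_mem, ← Nat.card_coe_set_eq]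
    exact congrArg (· - 1) c
  have := card_subgroup_dvd_card φ.range
  rwa [← index_ker, e, Nat.card_perm, c3] at this

theorem idx_six (c : o[X] = 4) (n : L ≤ N[X]) (h : ¬ ⁅L, L⁆ ≤ C[X]) : C[X].relIndex L = 6 := by
  have d := idx_dvd_six c n
  have pr : ¬ (C[X].relIndex L).Prime := fun e =>
    h (commutator_le_of_relIndex_prime (le_norm_cent n) e)
  have h1 : C[X].relIndex L ≠ 1 := fun e => h (commutator_self_le.trans (relIndex_eq_one.1 e))
  have := Nat.le_of_dvd (by norm_num) d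
  generalize C[X].relIndex L = m at *
  interval_cases m <;> first | rfl | omega | exact absurd (by norm_num) pr

theorem i4_core (c : o[X] = 4) (n : L ≤ N[X]) (h : ¬ ⁅L, L⁆ ≤ C[X]) : I4 (X ⊔ L) := by
  haveI : Fact (Nat.Prime 3) := ⟨Nat.prime_three⟩
  have i6 := idx_six c n h
  obtain ⟨D, d⟩ := exists_syl (p := 3) L
  have nD : D ≤ N[X] := d.le.trans n
  have h1 : ¬ D ≤ C[X] := fun e => d.not_dvd_of_le e (by rw [i6]; norm_num)
  have nC : L ≤ N[L ⊓ C[X]] := le_norm_inf le_normalizer (le_norm_cent n)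
  have i3 : (L ⊓ C[X]).relIndex (D ⊔ L ⊓ C[X]) = 3 := by
    rw [relIndex_sup_of_norm (d.le.trans nC)]
    obtain ⟨k, e⟩ := exists_relIndex_eq_pow d.pg (L ⊓ C[X])
    refine eq_three' ?_ (fun f => ?_) fun f => h1 ((relIndex_eq_one.1 f).trans inf_le_right)
    · rw [← relIndex_sup_of_norm (d.le.trans nC), ← i6, ← inf_relIndex_left L,
        ← relIndex_mul_relIndex _ _ _ le_sup_right (sup_le d.le inf_le_left)]
      exact dvd_mul_right _ _
    · rw [e] at f
      exact absurd (Nat.prime_two.dvd_of_dvd_pow f) (by norm_num)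
  have i2 : (D ⊔ L ⊓ C[X]).relIndex L = 2 := by
    have := relIndex_mul_relIndex _ _ _ (le_sup_right : L ⊓ C[X] ≤ D ⊔ L ⊓ C[X])
      (sup_le d.le inf_le_left)
    rw [i3, inf_relIndex_left, i6] at this
    omega
  have f := (d.mono le_sup_left (sup_le d.le inf_le_left)).frattini_sup (sup_le d.le inf_le_left)
    (le_norm_of_relIndex_two (sup_le d.le inf_le_left) i2)
  set K := L ⊓ N[D]
  have DK : D ≤ K := le_inf d.le le_normalizer
  have f2 : K ⊔ L ⊓ C[X] = L := le_antisymm (sup_le inf_le_left inf_le_left)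
    (f.ge.trans (sup_le (sup_le_sup_right DK _) le_sup_left))
  have nK : K ≤ N[X] := inf_le_left.trans n
  have j6 : (K ⊓ C[X]).relIndex K = 6 := by
    have := relIndex_sup_of_norm ((inf_le_left : K ≤ L).trans nC)
    rw [f2, inf_relIndex_left, i6, ← inf_relIndex_left K (L ⊓ C[X]), ← inf_assoc,
      inf_eq_left.2 (inf_le_left : K ≤ L)] at this
    exact this.symm
  have pX : PG[2, X] := isPGroup_of_card (n := 2) c
  have b : X ⊓ C[D] = ⊥ := by
    have m := card_modEq_inf_cent d.pg nD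
    have m2 : o[X ⊓ C[D]] ∣ 4 := c ▸ card_dvd_of_le inf_le_left
    have m3 : o[X ⊓ C[D]] ≠ 4 := fun e => h1 (le_centralizer_iff.1
      ((eq_of_le_of_card_le inf_le_left (c.trans e.symm).le).ge.trans inf_le_right))
    have := Nat.le_of_dvd (by norm_num) m2
    rw [c, Nat.ModEq] at m
    rw [← card_eq_one]
    generalize o[X ⊓ C[D]] = r at *
    interval_cases r <;> omega
  have b2 : K ⊓ X = ⊥ := le_bot_iff.1 (b ▸ le_inf inf_le_right (coprime_norm_le_cent
    (inf_le_left.trans inf_le_right) (le_norm_inf (le_norm_of_le DK) nD)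
    (coprime_of_pgroup d.pg fun e => ?_)))
  swap
  · obtain ⟨k, e2⟩ := exists_card_eq_pow (pX.to_le (inf_le_right : K ⊓ X ≤ X))
    rw [e2] at e
    exact absurd (Nat.prime_three.dvd_of_dvd_pow e) (by norm_num)
  refine I4.mono (K := K ⊔ X) ?_ (sup_le (inf_le_left.trans le_sup_right) le_sup_left)
  have i4 : K.relIndex (K ⊔ X) = 4 := Nat.eq_of_mul_eq_mul_left (card_pos' K)
    (by rw [card_mul_relIndex le_sup_left, card_sup_of_disj (.inl nK) b2, c])
  let K' := K.subgroupOf (K ⊔ X)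
  let φ := MulAction.toPermHom ↥(K ⊔ X) (↥(K ⊔ X) ⧸ K')
  have l1 : φ.ker.map (K ⊔ X).subtype ≤ K :=
    map_le_iff_le_comap.2 (K'.normalCore_eq_ker.ge.trans K'.normalCore_le)
  have n1 : K ⊔ X ≤ N[φ.ker.map (K ⊔ X).subtype] := le_norm_map_subtype _
  have l2 : φ.ker ≤ (K ⊓ C[X]).subgroupOf (K ⊔ X) := map_le_iff_le_comap.1 (le_inf l1
    (le_cent_of_inf_eq_bot (l1.trans nK) (le_sup_right.trans n1)
      (le_bot_iff.1 (b2 ▸ inf_le_inf_right _ l1))))
  have c4 : Nat.card (↥(K ⊔ X) ⧸ K') = 4 := i4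
  have l3 : 24 ≤ φ.ker.index := by
    have := relIndex_mul_relIndex _ _ _ (inf_le_left : K ⊓ C[X] ≤ K) (le_sup_left : K ≤ K ⊔ X)
    rw [j6, i4] at this
    exact this.le.trans (Nat.le_of_dvd (index_pos _) (index_dvd_of_le l2))
  have sj : φ.range = ⊤ := eq_of_le_of_card_le le_top (by
    rw [← index_ker, card_top, Nat.card_perm, c4]; exact l3)
  let e := (Finite.equivFinOfCardEq c4).permCongrHom
  exact ⟨_, _, MonoidHom.id _, e.toMonoidHom.comp φ, injective_id, by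
    rw [← Subgroup.map_map, ← MonoidHom.range_eq_map, sj, map_top_of_surjective _ e.surjective]⟩

theorem i4_sec (l : Y ≤ X) (c : Y.relIndex X = 4) (n0 : X ≤ N[Y]) (n1 : L ≤ N[X]) (n2 : L ≤ N[Y])
    (h : ¬ ⁅⁅L, L⁆, X⁆ ≤ Y) : I4 (X ⊔ L) := by
  refine I4.of_qt (K := Y) ?_ (sup_le n0 n2)
  rw [qt_sup n0 n2]
  refine i4_core ((card_qt n0).trans c) (qt_le_norm n1) fun e => h ?_
  rwa [← qt_commutator n2 n2, qt_le_cent_iff (commutator_self_le.trans n2) n0] at e

theorem mem_of_sq_mem {x : G} (o : (orderOf x).Coprime 2) (h : x * x ∈ K) : x ∈ K :=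
  mem_of_pow_mem_coprime (n := 2) (by rwa [pow_two]) o

theorem cop_zpowers {x : G} (o : (orderOf x).Coprime 2) (pX : PG[2, X]) :
    o[zpowers x].Coprime o[X] := by
  rw [Nat.card_zpowers]
  exact (coprime_of_pgroup pX ((coprime_iff_not_dvd Nat.prime_two).1 o)).symm

theorem mem_cent_of_stab {x : G} (o : (orderOf x).Coprime 2) (pX : PG[2, X]) (n : x ∈ N[X])
    (h : x ∈ stab X Y) (c : x ∈ C[Y]) : x ∈ C[X] :=
  zpowers_le.1 (coprime_le_cent_of_stable (zpowers_le.2 n) (cop_zpowers o pX)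
    (.inr (isSolvable_of_pgroup pX)) (comm_le_of_le_stab (zpowers_le.2 h)) (zpowers_le.2 c))

/-- `a` inverts `x`, and `x` acts non-trivially on the section `X / Y` of order four. -/
theorem i4_pair {a x : G} (l : Y ≤ X) (c : Y.relIndex X = 4) (n0 : X ≤ N[Y]) (lX : X ≤ H)
    (ha : a ∈ H ⊓ (N[X] ⊓ N[Y])) (hx : x ∈ H ⊓ (N[X] ⊓ N[Y])) (o : (orderOf x).Coprime 2)
    (i : a * x * a⁻¹ * x ∈ stab X Y) (h : x ∉ stab X Y) : I4 H := by
  refine (i4_sec (L := H ⊓ (N[X] ⊓ N[Y])) l c n0 (inf_le_right.trans inf_le_left)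
    (inf_le_right.trans inf_le_right) fun e => h (mem_of_sq_mem o ?_)).mono (sup_le lX inf_le_left)
  rw [commutator_comm] at e
  have := le_stab (commutator_self_le.trans (inf_le_right.trans inf_le_right)) e
    (commutator_mem_commutator ha hx)
  simpa [commutatorElement_def, mul_assoc] using mul_mem (inv_mem this) i

theorem i4_dih {a x : G} (ab : Ab[X]) (pX : PG[2, X]) (lX : X ≤ H) (ha : a ∈ H ⊓ N[X])
    (hx : x ∈ H ⊓ N[X]) (o : (orderOf x).Coprime 2) (i : a * x * a⁻¹ * x ∈ C[X]) (h : x ∉ C[X])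
    (c : C1[a].relIndex X ≤ 2) : I4 H := by
  have h1 : x ∉ stab X (X ⊓ C1[x]) := fun e =>
    h (mem_cent_of_stab o pX hx.2 e (le_cent1_iff.1 inf_le_right))
  have nx : x ∈ N[X ⊓ C1[x]] := mem_norm_inf hx.2 (le_normalizer (self_mem_cent1 x))
  have n0 : X ≤ N[X ⊓ C1[x]] := le_norm_of_le_cent (le_cent_of_comm ab inf_le_left)
  have na : a ∈ N[X ⊓ C1[x]] := inv_mem_iff.1 (mem_norm_of_conj fun v hv => by
    refine ⟨conj_mem_of_norm (inv_mem ha.2) hv.1, mem_centralizer_singleton_iff.2 ?_⟩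
    have e1 := mem_cent_iff.1 i v hv.1
    have e2 := mem_centralizer_singleton_iff.1 hv.2
    have e3 : v * (a * x * a⁻¹) = a * x * a⁻¹ * v := mul_right_cancel (b := x) (by
      rw [mul_assoc v, e1, mul_assoc _ x v, mul_assoc _ v x, e2])
    calc _ = a⁻¹ * (v * (a * x * a⁻¹)) * a := by group
      _ = _ := by rw [e3]; group)
  refine i4_pair inf_le_left ?_ n0 lX ⟨ha.1, ha.2, na⟩ ⟨hx.1, hx.2, nx⟩ o
    (cent_le_stab inf_le_left i) h1
  have l : X ⊓ (C1[a] ⊓ C1[x * a * x⁻¹]) ≤ X ⊓ C1[x] := by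
    refine le_inf inf_le_left (le_cent1_iff.2 (mem_of_sq_mem o ?_))
    have e1 : a ∈ C[X ⊓ (C1[a] ⊓ C1[x * a * x⁻¹])] := le_cent1_iff.1 (inf_le_right.trans inf_le_left)
    have e2 : x * a * x⁻¹ ∈ C[X ⊓ (C1[a] ⊓ C1[x * a * x⁻¹])] :=
      le_cent1_iff.1 (inf_le_right.trans inf_le_right)
    simpa [mul_assoc] using mul_mem (mul_mem e2 (inv_mem e1)) (cent_anti inf_le_left i)
  have c2 : C1[x * a * x⁻¹].relIndex X ≤ 2 := by
    rwa [centralizer_conj, ← map_cj_eq hx.2, relIndex_map_cj]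
  have c3 : (X ⊓ C1[x]).relIndex X ≤ 4 := (relIndex_le_of_le_left l (relIndex_pos _ _).ne').trans (by
    rw [inf_relIndex_left]; exact relIndex_inf_le.trans (Nat.mul_le_mul c c2))
  have c4 : (X ⊓ C1[x]).relIndex X ≠ 2 := fun e =>
    h1 (zpowers_le.1 (le_stab' inf_le_left (comm_le_of_relIndex_two e inf_le_left n0
      (zpowers_le.2 nx) (zpowers_le.2 hx.2))))
  have c5 := dvd_relIndex_of_not_le pX (K := X ⊓ C1[x]) fun e =>
    h (le_cent1_iff.1 (e.trans inf_le_right))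
  have := relIndex_pos (X ⊓ C1[x]) X
  omega

omit [Finite G] in
theorem el_two (h : ∀ a ∈ A, a * a = 1) : IsElementaryAbelian 2 A :=
  ⟨isMulComm_iff.2 fun a ha b hb => by
    have := h _ (mul_mem ha hb)
    calc a * b = a * (a * b * (a * b)) * b * (b * b)⁻¹ * (a * a)⁻¹ * (a * a) * (b * b) := by
          rw [this]; group
      _ = _ := by
          rw [show a * (a * b * (a * b)) * b = a * a * (b * a) * (b * b) by group, h a ha, h b hb]
          group, fun a ha => by rw [pow_two, h a ha]⟩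

/-- `a` inverts `x` modulo `C`, and the hyperplane `B` of `A` centralizes `x` modulo `C`. -/
structure DH (C M A B : Subgroup G) (a x : G) : Prop where
  le : B ≤ A
  aA : a ∈ A
  sup : B ⊔ zpowers a = A
  idx : B.relIndex A = 2
  ge : A ⊓ C ≤ B
  xM : x ∈ M
  odd : (orderOf x).Coprime 2
  nx : x ∉ C
  inv : a * x * a⁻¹ * x ∈ C
  inv' : a * a = 1 → a * x * a⁻¹ = x⁻¹
  cm : ∀ b ∈ B, ⁅b, x⁆ ∈ C

theorem exists_dh (s : Sol[M]) (n : M ≤ N[K]) (l : K ≤ M) (c : O2[qt K M] = ⊥) (lA : A ≤ M)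
    (e : ∀ a ∈ A, a * a ∈ K) (h : ¬ A ≤ K) : ∃ B a x, DH K M A B a x := by
  have nA := lA.trans n
  have el : IsElementaryAbelian 2 (qt K A) := el_two fun y hy => by
    rw [← pow_two]; exact pow_eq_one_qt (fun a ha _ => by rw [pow_two]; exact e a ha) y hy
  have od : ¬ 2 ∣ o[F[qt K M]] :=
    (piN_compl_singleton Nat.prime_two).1 (fit_piN (by rwa [compl_compl]))
  have nF : qt K A ≤ N[F[qt K M]] := (qt_mono lA).trans le_norm_fit
  have := mt (le_of_cocyclic (M := C[qt K A]) el.1 nF (coprime_of_pgroup (elem_pgroup el) od))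
    fun f => h ((qt_eq_bot nA).1 (eq_bot_of_pgroup_of_not_dvd (elem_pgroup el) fun g => od (g.trans
      (card_dvd_of_le ((le_inf (qt_mono lA) (le_centralizer_iff.1 f)).trans
        (cent_fit_le (isSolvable_qt s)))))))
  push Not at this
  obtain ⟨U, h1, ⟨a', ha, h2⟩, h3⟩ := this
  obtain ⟨y', hy, h4⟩ := SetLike.not_le_iff_exists.1 h3
  obtain ⟨a, aA, rfl⟩ := mem_qt.1 ha
  obtain ⟨y, yM, rfl⟩ := mem_qt.1 (fit_le hy.1)
  have h5 : qmk K ⁅a, y⁆ ≠ 1 := fun f => h4 (by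
    rw [← h2, cent_sup, cent_zpowers]
    rw [map_commutatorElement, commutatorElement_eq_one_iff_mul_comm] at f
    exact ⟨hy.2, mem_centralizer_singleton_iff.2 f.symm⟩)
  have cU : qt K A ≤ C[U] := le_cent_of_comm el.1 h1
  have h6 : qmk K ⁅a, y⁆ ∈ F[qt K M] ⊓ C[U] := by
    rw [map_commutatorElement, commutatorElement_def]
    exact mul_mem (conj_mem_of_norm (le_norm_inf nF (le_norm_cent (le_norm_of_le_cent cU)) ha) hy)
      (inv_mem hy)
  obtain ⟨u, hu, x, hx, e1, o1, o2⟩ := exists_pi_parts {2} ⁅a, y⁆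
  have h7 : qmk K u = 1 := by
    have uz : qmk K u ∈ zpowers (qmk K ⁅a, y⁆) := by
      rw [← MonoidHom.map_zpowers]; exact mem_map_of_mem _ hu
    exact orderOf_eq_one_iff.1 ((o1.of_dvd (orderOf_map_dvd _ _)).eq_one (piN_orderOf
      ((piN_compl_singleton Nat.prime_two).2 od) (zpowers_le.2 h6 uz).1))
  have aU : qmk K a ∉ U := fun f => h4 (cent_anti (h2.ge.trans (sup_le le_rfl (zpowers_le.2 f))) hy.2)
  have xz : qmk K x ∈ zpowers (qmk K ⁅a, y⁆) := by
    rw [← MonoidHom.map_zpowers]; exact mem_map_of_mem _ hx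
  have a2 : qmk K a * qmk K a = 1 := by rw [← pow_two]; exact el.2 _ ha
  have iv : ∀ {Γ : Type _} [Group Γ] {a y x : Γ}, a * a = 1 → x ∈ zpowers ⁅a, y⁆ →
      a * x * a⁻¹ = x⁻¹ := by
    rintro Γ _ a y _ h ⟨k, rfl⟩
    have : a * ⁅a, y⁆ * a⁻¹ = ⁅a, y⁆⁻¹ := by
      rw [commutatorElement_def, inv_eq_of_mul_eq_one_right h]
      calc _ = a * a * y * a * y⁻¹ * a := by group
        _ = _ := by rw [h, mul_inv_rev, mul_inv_rev, mul_inv_rev, inv_eq_of_mul_eq_one_right h]; group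
    rw [← conj_zpow, this, inv_zpow]
  have sp : A ⊓ qc K U ⊔ zpowers (a : G) = A := by
    have za : zpowers (a : G) ≤ A := zpowers_le.2 aA
    have n2 : qc K U ≤ N[K] := qc_le_norm
    have l2 : A ≤ qc K U ⊔ zpowers (a : G) := by
      rw [← qt_le_qt' nA (sup_le n2 (za.trans nA)) (le_qc.trans le_sup_left),
        qt_sup n2 (za.trans nA), qt_qc, qt_zpowers a.2, h2]
    rw [inf_comm, ← sup_inf_of_norm' (.inr ?_) za, inf_eq_right.2 l2]
    exact za.trans (le_norm_qc nA (le_norm_of_le_cent cU))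
  refine ⟨A ⊓ qc K U, a, x, inf_le_left, aA, sp, ?_, inf_le_inf_left _ le_qc, ?_, ?_, fun f => h5 ?_,
    ?_, fun f => ?_, fun b hb => ?_⟩
  · rw [inf_relIndex_left, ← relIndex_qt nA le_qc, qt_qc, ← h2]
    exact relIndex_sup_zpowers_prime Nat.prime_two (cent_le_norm _ (cU ha)) (by
      rw [pow_two, a2]; exact one_mem _) aU
  · have : ⁅a, y⁆ ∈ M.subgroupOf N[K] :=
      mul_mem (mul_mem (mul_mem (lA aA) yM) (inv_mem (lA aA))) (inv_mem yM)
    exact zpowers_le.2 this hx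
  · rw [orderOf_coe]; exact (piN_compl_singleton' Nat.prime_two).1 o2
  · rw [e1, map_mul, h7, one_mul]; exact qmk_eq_one.2 f
  · refine (qmk_eq_one (x := a * x * a⁻¹ * x)).1 ?_
    rw [map_mul, map_mul, map_mul, map_inv, iv a2 (map_commutatorElement (qmk K) a y ▸ xz),
      inv_mul_cancel]
  · exact congrArg Subtype.val (iv (a := a) (Subtype.ext f) hx)
  · obtain ⟨nb, hb⟩ := mem_qc.1 hb.2
    refine (qmk_eq_one (x := ⁅(⟨b, nb⟩ : N[K]), x⁆)).1 ?_
    rw [map_commutatorElement, commutatorElement_eq_one_iff_mul_comm]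
    exact mem_cent_iff.1 (zpowers_le.2 h6 xz).2 _ hb

end CfsgH2
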