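import Cfsg.Agent.H2.S4C

/-! Thompson's normal complement theorem for `S₄`-free groups. -/

set_option autoImplicit false
namespace CfsgH2
open Subgroup Function Cfsg CfsgL0 CfsgBG
open scoped commutatorElement

universe u
section
variable {G : Type*} [Group G] [Finite G] {A B D E H J K L M P Q R S T U V W X Y Z : Subgroup G}

theorem sol_of_pg_comm {p : ℕ} [Fact p.Prime] (h : PG[p, ⁅piRes {p} M, piRes {p} M⁆]) : Sol[M] := by
  obtain ⟨S, s⟩ := exists_syl (p := p) M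
  have n : piRes {p} M ≤ N[⁅piRes {p} M, piRes {p} M⁆] := le_norm_commutator le_normalizer le_normalizer
  rw [← s.piRes_sup, sup_comm]
  exact isSolvable_sup (isSolvable_of_pgroup s.pg) (isSolvable_of_qt n (isSolvable_of_comm
    ((isMulComm_qt_iff n).2 le_rfl)) (isSolvable_of_pgroup (h.to_le inf_le_right)))
    (s.le.trans le_norm_piRes)

theorem s4_min {e : ℕ} (he : 2 ∣ e) (hS : Syl 2 S ⊤) (n1 : N[J[e, S]] ≠ ⊤) (n2 : C[Z[S]] ≠ ⊤)
    (a : Con 2 (⊤ : Subgroup G)) (b : IsCoatom S) (c : Sol[(⊤ : Subgroup G)]) : I4 (⊤ : Subgroup G) := by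
  by_contra f
  obtain ⟨A, a1, a2, a3⟩ := quad_J hS fun c => n1 (top_le_iff.1 c)
  have pV : PG[2, Z[O2[(⊤ : Subgroup G)]]] := isPGroup_piCoreOf.to_le inf_le_left
  have nV : ⊤ ≤ N[Z[O2[(⊤ : Subgroup G)]]] := le_norm_piCoreOf.trans norm_le_norm_center
  have k : ∀ e, 2 ∣ e → C[omegaOne e Z[O2[(⊤ : Subgroup G)]]] ≤ O2[(⊤ : Subgroup G)] := fun e he =>
    haveI := top_le_norm_iff.1 (le_norm_cent (le_norm_omegaOne' (p := e) nV))
    coatom_core hS b a n2 (piRes_le_cent_of_omega' he pV (isMulComm_cent_inf _) (le_top.trans nV)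
      piRes_le)
  set V := omegaOne e Z[O2[(⊤ : Subgroup G)]]
  have el : IsElementaryAbelian e V := elem_omegaOne (isMulComm_cent_inf _)
  have l : V ≤ Z[O2[(⊤ : Subgroup G)]] := omegaOne_le
  have cV : O2[(⊤ : Subgroup G)] ≤ C[V] := le_centralizer_iff.1 (l.trans inf_le_right)
  have r : RV ⊤ V := ⟨c, el.1, pV.to_le l, le_top, le_norm_omegaOne' nV, by
    rw [top_inf_eq, le_antisymm (k e he) cV]; exact piCoreOf_qt_self, f⟩
  have h1 := r.sq_le A le_top (hS.pg.to_le a1.le) fun x hx => cV (k 2 dvd_rfl (mem_cent_iff.2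
    fun v hv => by
      have hv' : v ∈ V := omegaOne_le_of (fun _ h1 h2 => mem_omegaOne h1 (pow_eq_one_of_dvd h2 he)) hv
      have e1 : ⁅v, x⁆ ∈ A := comm_le_right a3 (commutator_mem_commutator hv' hx)
      have e2 : ⁅v, x⁆ ∈ ΩZ[O2[(⊤ : Subgroup G)]] := comm_le_left (zpowers_le.2
        (le_norm_omegaOne' nV trivial)) (commutator_mem_commutator hv (mem_zpowers x))
      rw [← commutatorElement_eq_one_iff_mul_comm, commutator_mul_right',
        comm_of_isMulComm a1.ab hx e1, mul_inv_cancel_right, ← pow_two, elem_OZ.2 _ e2]))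
  have h2 := h1.trans (me_off a1 (l.trans (inf_le_left.trans hS.pCoreOf_le)) el)
  have := relIndex_pos C[V] A
  exact a2 ((relIndex_eq_one.1 (by nlinarith)).trans (k e he))
end

theorem npc_thompson_s4 {G : Type u} [Group G] [Finite G] {S M : Subgroup G} {e : ℕ} (he : 2 ∣ e)
    (f : ¬ I4 (⊤ : Subgroup G)) (hS : Syl 2 S M) (hN : NPC 2 (M ⊓ N[J[e, S]]))
    (hC : NPC 2 (M ⊓ C[Z[S]])) : NPC 2 M := by
  refine ncw2_ind (wJ_char he) (wOZ_char (dvd_zero 2)) (fun X _ _ S s hS n1 n2 a b c => ?_) hS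
    (by rwa [iw_J]) (by rwa [iw_OZ, omegaOne_zero])
  rw [iw_J] at n1
  rw [iw_OZ, omegaOne_zero] at n2
  exact f (i4_top.1 (involves_iff.2 (s.trans (involves_iff.1 (i4_top.2
    (s4_min he hS n1 n2 a b (sol_of_pg_comm c)))))))

theorem npc_thompson' {G : Type u} [Group G] [Finite G] {S M : Subgroup G} {p e : ℕ} [Fact p.Prime]
    (he : p ∣ e) (f : p ≠ 2 ∨ ¬ Involves (Equiv.Perm (Fin 4)) G) (hS : Syl p S M)
    (hN : NPC p (M ⊓ N[J[e, S]])) (hC : NPC p (M ⊓ C[Z[S]])) : NPC p M := by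
  by_cases c : p = 2
  · subst c
    exact npc_thompson_s4 he (mt i4_top.2 (f.resolve_left (not_not.2 rfl))) hS hN hC
  · exact npc_thompson c he hS hN hC

end CfsgH2
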