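import Cfsg.Agent.L0.Fus12
import Cfsg.Agent.L0.Fus11
import Cfsg.Agent.H2.S4T

/-! Thompson's normal `p`-complement theorem for fusion systems (`p` odd or `S₄`-free). -/

namespace CfsgH2
open Cfsg Subgroup CfsgL0 Function
open Cfsg.FusionSystem hiding inv_mem center

universe u

section
variable {W W' : ∀ (Q : Type u) [Group Q], Subgroup Q} {p : ℕ} {Ω : Type u} [Group Ω]
  {S : Subgroup Ω} {F : FusionSystem S} {X : Subgroup Ω → (Ω → Ω) → Prop}
  [Finite S] [hp : Fact p.Prime]

theorem W_red2 (hS : IsPGroup p S) (hF : F.IsSaturated p) (hW : WI p W) (h1 : WN p W)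
    (hW' : WI p W') (h1' : WN p W') (hX : Cl F X) (h0 : NX F X (Wa W S)) (h0' : NX F X (Wa W' S))
    (h : ∀ V, V ≠ ⊥ → F.IsFullyNormalized V → NX F X (Wa W (normalizerIn S V)) →
      NX F X (Wa W' (normalizerIn S V)) → NX F X V) :
    ∀ P f, M F P f → X P f := by
  by_cases hb : S = ⊥
  · intro P f hf
    have e : ∀ {P}, P ≤ S → P = ⊥ := fun h => le_bot_iff.1 (hb ▸ h)
    exact h0 P f ((e Wa_le).le.trans bot_le) ((e hf.le).le.trans bot_le) hf
      ((e (hf.im_le' ((e Wa_le).le.trans bot_le))).trans (e Wa_le).symm)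
  refine norm_ind hS hF hX (· ≠ ⊥) (fun V hV e => hb (le_bot_iff.1 (e ▸ fun x hx =>
    centric_cI hV ⟨hx, by rw [e, cent_bot]; trivial⟩))) (fun V f a _ b => mt a.im_eq_bot.1 b)
    fun V a b ih _ => ?_
  haveI := finite_nI (S := S) (Q := V)
  have k : normalizerIn S V ≠ ⊥ := fun e => a (le_bot_iff.1 (e ▸ le_nI b.1))
  exact h V a b (NX_W hS hW h0 ih (h1.ne_bot (hS.to_le nI_le) k))
    (NX_W hS hW' h0' ih (h1'.ne_bot (hS.to_le nI_le) k))

end

section
variable {c : Prop} {p : ℕ} {H : Type*} [Group H] [hp : Fact p.Prime]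

theorem inner_of_bot {Ω : Type*} [Group Ω] {S : Subgroup Ω} {F : FusionSystem S} (hb : S = ⊥) :
    F = innerFusionSystem S :=
  eq_inner_iff.2 fun P f hf => ⟨1, one_mem _, fun x hx => by
    rw [show x = 1 from mem_bot.1 (hb ▸ hf.le hx), hf.one]; simp⟩

theorem W_inner2 {W W' : ∀ (Q : Type u) [Group Q], Subgroup Q} (hW : WI p W) (h1 : WN p W)
    (hW' : WI p W') (h1' : WN p W')
    (hloc : ∀ (L : Type u) [Group L] [Finite L] (U : Subgroup L), Syl p U ⊤ →
      (c ∨ ¬ Involves H L) → NPC p N[Wa W U] → NPC p N[Wa W' U] → NPC p (⊤ : Subgroup L))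
    (n : ℕ) : ∀ {Ω : Type u} [Group Ω] {S : Subgroup Ω} [Finite S] {F : FusionSystem S},
      IsPGroup p S → F.IsSaturated p → Gd c p H F → Nat.card S ≤ n →
      NX F (M (innerFusionSystem S)) (Wa W S) → NX F (M (innerFusionSystem S)) (Wa W' S) →
      F = innerFusionSystem S := by
  induction n using Nat.strong_induction_on with | _ n ih => ?_
  intro Ω _ S _ F hS hF hG hn h0 h0'
  refine inner_iff_M.2 (W_red2 hS hF hW h1 hW' h1' (cl_M _) h0 h0' fun V a b hw hw' => ?_)
  obtain ⟨N, hN⟩ := exists_N F b.1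
  haveI := finite_nI (S := S) (Q := V)
  have hT := hS.to_le (nI_le (S := S) (P := V))
  have := inner_of_constr (c := c) (H := H) n (fun {Ω} _ S _ F hS hF hG hn h => ?_) hT _ rfl
    (sat_N hS hF b hN) (hG.imp_right fun hf => free_N hS hF hf b hN)
    (.inr ⟨(card_le_of_le' le_rfl nI_le).trans hn, fun e =>
      a (le_bot_iff.1 (e ▸ le_core (N_normal hN b.1)))⟩) fun E e hG hc => ?_
  · exact NX_of_N hN fun P f hf => (this ▸ hf).sub (inner_sub nI_le)
  · by_cases hb : S = ⊥
    · exact inner_of_bot hb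
    · exact ih _ hn hS hF hG le_rfl (h _ Wa_le (h1.ne_bot hS hb) (le_normalizer.trans (hW.norm hS)))
        (h _ Wa_le (h1'.ne_bot hS hb) (le_normalizer.trans (hW'.norm hS)))
  obtain ⟨L, _, ι, hL⟩ := exists_model hT hc
  haveI := hL.1
  have hU := model_syl hL
  refine (real_inner_iff hL.2.1 hU).2 (hloc L _ hU (hG.imp_right fun hf => free_model hT hc.1 hf
    hc.1 (fun _ => le_rfl) normal_core (constrained_core hc) hL) ?_ ?_)
  · exact hW.ex hT hL.2.1.1 ▸ real_NX_npc hT hc.1 hS hL.2.1 hU Wa_le (le_normalizer.trans (hW.norm hT))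
      fun P f a b d => hw P f a b (d.sub fun P => (e P).trans (N_sub hN P))
  · exact hW'.ex hT hL.2.1.1 ▸ real_NX_npc hT hc.1 hS hL.2.1 hU Wa_le
      (le_normalizer.trans (hW'.norm hT))
      fun P f a b d => hw' P f a b (d.sub fun P => (e P).trans (N_sub hN P))

end

variable {p : ℕ} [hp : Fact p.Prime] {Ω : Type u} [Group Ω] {S : Subgroup Ω} [Finite S]
  {F : FusionSystem S}

/-- `p` odd or `S₄`-free -/
abbrev G4 (p : ℕ) {Ω : Type u} [Group Ω] {S : Subgroup Ω} (F : FusionSystem S) : Prop :=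
  Gd (p ≠ 2) p (Equiv.Perm (Fin 4)) F

omit hp [Finite S] in
theorem Wa_J : Wa (wJ 0) S = J[0, S] := iw_J

omit hp [Finite S] in
theorem Wa_Z : Wa (wOZ 0) S = Z[S] := iw_OZ.trans omegaOne_zero

theorem th_fus (hS : IsPGroup p S) (hF : F.IsSaturated p) (hG : G4 p F)
    (hJ : NX F (M (innerFusionSystem S)) J[0, S]) (hZ : NX F (M (innerFusionSystem S)) Z[S]) :
    F = innerFusionSystem S :=
  W_inner2 (wJ_char (dvd_zero p)).2 (wJ_char (dvd_zero p)).1 (wOZ_char (dvd_zero p)).2
    (wOZ_char (dvd_zero p)).1 (fun L _ _ U hU f a b => npc_thompson' (dvd_zero p) f hU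
      (by rw [top_inf_eq, ← Wa_J]; exact a)
      (by rw [top_inf_eq]; rw [Wa_Z] at b; exact b.mono (cent_le_norm _))) _ hS hF hG le_rfl
    (by rwa [Wa_J]) (by rwa [Wa_Z])

theorem th_fus_all (hS : IsPGroup p S) (hF : F.IsSaturated p) (hG : G4 p F)
    (h : ∀ U ≤ S, U ≠ ⊥ → (U.subgroupOf S).Characteristic → NX F (M (innerFusionSystem S)) U) :
    F = innerFusionSystem S := by
  by_cases hb : S = ⊥
  · exact inner_of_bot hb
  have key : ∀ W : ∀ (Q : Type u) [Group Q], Subgroup Q, WI p W → WN p W →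
      NX F (M (innerFusionSystem S)) (Wa W S) := fun W a b => h _ Wa_le (b.ne_bot hS hb) (by
    rw [Wa, subgroupOf, comap_map_eq_self_of_injective (subtype_injective _)]
    exact characteristic_iff_map_eq.2 fun φ => a S S hS φ)
  exact th_fus hS hF hG (Wa_J (S := S) ▸ key _ (wJ_char (dvd_zero p)).2 (wJ_char (dvd_zero p)).1)
    (Wa_Z (S := S) ▸ key _ (wOZ_char (dvd_zero p)).2 (wOZ_char (dvd_zero p)).1)

theorem NX_Z (hS : IsPGroup p S) (hF : F.IsSaturated p) {X : Subgroup Ω → (Ω → Ω) → Prop}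
    (hX : Cl F X) (h1 : ∀ P f, Z[S] ≤ P → M F P f → (∀ x ∈ Z[S], f x = x) → X P f)
    (h2 : NX F X S) : NX F X Z[S] := by
  obtain ⟨N, n1, n2, n3⟩ := exists_NS hS hF (U := Z[S]) inf_le_left
    (le_normalizer.trans norm_le_norm_center)
  refine NX_of_NK n3 (gen_QC hS n1 n2 (hX.sub (NK_sub n3)) (fun P f a b c => h1 P f a
    (b.sub (NK_sub n3)) c) ?_)
  have : Z[S] ⊔ centralizerIn S Z[S] = S :=
    le_antisymm (sup_le inf_le_left cI_le) (le_sup_of_le_right (le_inf le_rfl le_cent_center))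
  rw [this]
  exact h2.sub (NK_sub n3)

theorem th_fus' (hS : IsPGroup p S) (hF : F.IsSaturated p) (hG : G4 p F)
    (hJ : NX F (M (innerFusionSystem S)) J[0, S])
    (hZ : ∀ P f, Z[S] ≤ P → M F P f → (∀ x ∈ Z[S], f x = x) → M (innerFusionSystem S) P f) :
    F = innerFusionSystem S := by
  refine th_fus hS hF hG hJ (NX_Z hS hF (cl_M _) hZ fun P f a b c d => ?_)
  have hW : WI p (wJ 0) := (wJ_char (dvd_zero p)).2
  refine hJ P f (J_le.trans a) (c.le.trans (le_normalizer.trans (Wa_J (S := S) ▸ hW.norm hS))) c ?_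
  have := hW.M_im hS (c.mono a)
  rwa [d, Wa_J] at this

omit hp [Finite S] in
theorem char_comap_equiv {A B : Type*} [Group A] [Group B] (e : A ≃* B) {Q : Subgroup B}
    (h : Q.Characteristic) : (Q.comap e.toMonoidHom).Characteristic :=
  characteristic_iff_comap_eq.2 fun φ => by
    have := characteristic_iff_comap_eq.1 h ((e.symm.trans φ).trans e)
    ext x
    conv_rhs => rw [← this]
    simp

omit hp [Finite S] in
theorem char_comap_surj {A B : Type*} [Group A] [Group B] (f : A →* B) (hf : Surjective f)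
    (hk : f.ker.Characteristic) {Q : Subgroup B} (h : Q.Characteristic) :
    (Q.comap f).Characteristic := by
  have := Characteristic.comap_quotient_mk
    (char_comap_equiv (QuotientGroup.quotientKerEquivOfSurjective f hf) h)
  rwa [comap_comap] at this

theorem th_char (n : ℕ) : ∀ {Ω : Type u} [Group Ω] {S : Subgroup Ω} [Finite S] {F : FusionSystem S},
    IsPGroup p S → F.IsSaturated p → G4 p F → Nat.card S ≤ n →
    (∀ Q ≤ S, Q ≠ ⊥ → (Q.subgroupOf S).Characteristic → IsPGroup p (F.autGroup Q)) →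
    F = innerFusionSystem S := by
  induction n using Nat.strong_induction_on with | _ n ih => ?_
  intro Ω _ S _ F hS hF hG hn h
  refine th_fus_all hS hF hG fun U a b c => ?_
  have d : S ≤ N[U] := (normal_subgroupOf_iff' a).1 inferInstance
  obtain ⟨N, n1, n2, n3⟩ := exists_NS hS hF a d
  have hsub := NK_sub n3
  refine NX_of_NK n3 (inner_iff_M.1 ?_)
  obtain ⟨Ω', _, θ, E, k, e⟩ := exists_quot hS n1 (normal_sc n2)
  haveI := k.finite
  refine inner_of_quot hS n1 k (e.symm ▸ n2) (by rw [e]; exact (h U a b c).to_le (aut_mono hsub))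
    (ih _ ((k.card_lt (e.symm ▸ b)).trans_le hn) (k.pgroup hS) (k.sat hS n1)
    (hG.imp_right fun hf => free_quot hS n1 (free_NK hS hF hf (by
      rw [NSK_top]; exact (inf_eq_left.2 d).symm) n3 n1 (sat_fn_fc hS hF (fn_of_normal a d)) n2) k
      (e.symm ▸ n2)) le_rfl fun Q q1 q2 q3 => ?_)
  rw [← k.indS_aut q1]
  have : IsPGroup p (N.autGroup (preimageAlong θ Q)) := by
    refine (h _ CfsgL0.pre_le (k.lt_pre q1 q2).ne_bot ?_).to_le (aut_mono hsub)
    have e1 : ∀ R : Subgroup Ω', (preimageAlong θ R).subgroupOf S = R.comap θ := fun R => by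
      rw [preimageAlong, subgroupOf, comap_map_eq_self_of_injective (subtype_injective _)]
    rw [e1]
    refine char_comap_surj θ (MonoidHom.range_eq_top.1 ((range_ex θ).trans k.range))
      (by rw [← MonoidHom.comap_bot, ← e1, e]; exact c) ?_
    have := char_comap_equiv topEquiv.symm q3
    rwa [subgroupOf, comap_comap, show ((⊤ : Subgroup Ω').subtype.comp
      (topEquiv (G := Ω')).symm.toMonoidHom) = MonoidHom.id _ from rfl, comap_id] at this
  exact (this.comap_of_injective _ (subtype_injective _)).map _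

theorem sparse_constr (hS : IsPGroup p S) (hF : F.IsSaturated p) (hG : G4 p F)
    (h0 : F ≠ innerFusionSystem S)
    (h : ∀ E : FusionSystem S, E.IsSaturated p → E ≤ F → E = F ∨ E = innerFusionSystem S) :
    F.IsConstrained p := by
  by_contra hc
  refine h0 (inner_of_constr (c := p ≠ 2) (H := Equiv.Perm (Fin 4)) (Nat.card S + 1)
    (fun {Ω} _ S _ F hS hF hG _ h => th_fus_all hS hF hG fun U a b c => h U a b
      ((normal_subgroupOf_iff' a).1 inferInstance)) hS _ rfl hF hG (.inl (Nat.lt_succ_self _))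
    fun E e _ k => (h E k.1 e).resolve_left fun q => hc (q ▸ k))

end CfsgH2
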