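import Cfsg.Agent.L0.Fus6

/-! The saturation criterion on a generating family. -/

namespace CfsgH2
open Cfsg Subgroup CfsgL0 Function
open Cfsg.FusionSystem hiding inv_mem center

variable {Ω : Type*} [Group Ω] {S : Subgroup Ω} {F : FusionSystem S} {P Q R : Subgroup Ω}
  {f g : Ω → Ω} {p : ℕ}

/-- the class of `Q` has a fully automized receptive member -/
def SatC (F : FusionSystem S) (p : ℕ) (Q : Subgroup Ω) : Prop :=
  ∃ R, F.IsConj Q R ∧ F.IsFullyAutomized p R ∧ F.IsReceptive R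

/-- good pair -/
def GP (F : FusionSystem S) (p : ℕ) (P Q : Subgroup Ω) : Prop :=
  F.IsReceptive Q ∧ ∃ h : P ≤ Q, Syl p (autInducedBy S Q ⊓ stabA h) (F.autGroup Q ⊓ stabA h)

/-- a map on the normalizer carrying `P` to `R` -/
def NL (F : FusionSystem S) (P R : Subgroup Ω) : Prop :=
  ∃ g, M F (normalizerIn S P) g ∧ im P g = R

theorem SatC.conj (h : SatC F p P) (hc : F.IsConj P Q) : SatC F p Q :=
  let ⟨R, a, b⟩ := h; ⟨R, fconj_trans (fconj_symm hc) a, b⟩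

theorem NL.refl : NL F P P := ⟨_, M_id nI_le, im_id P⟩

theorem NL.trans (hP : P ≤ S) (h : NL F P Q) (h' : NL F Q R) : NL F P R := by
  obtain ⟨g, a, rfl⟩ := h
  obtain ⟨k, b, rfl⟩ := h'
  exact ⟨_, a.comp b (im_le_iff.1 (a.im_nI_le (le_nI hP) le_rfl nI_le_norm)),
    ((a.mono (le_nI hP)).im_im k).symm⟩

theorem NL.conj (hP : P ≤ S) (h : NL F P Q) : F.IsConj P Q := by
  obtain ⟨g, a, rfl⟩ := h; exact (a.mono (le_nI hP)).isConj

theorem tr_stab (hf : M F Q f) (e : im Q f = R) (h : P ≤ Q) (h' : im P f ≤ R) {α : MulAut Q} :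
    hf.tr e α ∈ stabA h' ↔ α ∈ stabA h := by
  rw [mem_stabA, mem_stabA, (hf.mono h).im_im, im_congr fun x hx => hf.af_tr e α (h hx),
    ← ((homOn_af α).mono h).im_im f]
  exact ⟨fun e => hf.im_inj (im_le_iff.2 fun x hx => af_mem α (h hx)) h e, fun e => by rw [e]⟩

theorem cA_stab (h : P ≤ Q) {x : Ω} (hx : x ∈ N[Q]) : cA hx ∈ stabA h ↔ x ∈ N[P] := by
  rw [mem_stabA, im_congr fun y hy => af_cA hx (h hy), im_conj, map_cj_eq_iff]

variable [Finite S] [hp : Fact p.Prime] (hS : IsPGroup p S)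

theorem NL.fn (hP : F.IsFullyNormalized P) (h : NL F P R) : NL F R P := by
  obtain ⟨g, a, rfl⟩ := h
  obtain ⟨k, b, c, -, -⟩ := a.exists_inv' (a.im_nI_eq hP le_rfl)
  exact ⟨k, b, by rw [(a.mono (le_nI hP.1)).im_im, im_of_eq fun x hx => c x (le_nI hP.1 hx)]⟩

theorem gp_exists (h : P ≤ Q) (hs : SatC F p Q) : ∃ f, M F Q f ∧ GP F p (im P f) (im Q f) := by
  obtain ⟨R, a, b, c⟩ := hs
  obtain ⟨f, hf, rfl⟩ := isConj_iff'.1 a
  obtain ⟨χ, d, e, s⟩ := exists_syl_stab b (im_mono f h)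
  refine ⟨fun x => af χ (f x), hf.comp_im ((mem_aut b.1).1 d), ?_⟩
  rw [← (hf.mono h).im_im, ← hf.im_im, im_af]
  exact ⟨c, e, s⟩

include hS

theorem SatC.rec_of_fc (hs : SatC F p P) (h : F.IsFullyCentralized P) : F.IsReceptive P := by
  obtain ⟨R, a, b, c⟩ := hs
  obtain ⟨g, hg, rfl⟩ := exists_nmap hS b c a
  exact rec_of_nmap hg h.1 c (hg.im_cI_eq h (le_nI h.1) cI_le_nI)

theorem gp_nmap (h : P ≤ Q) (hf : M F Q f) (hg : GP F p (im P f) (im Q f)) :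
    ∃ g, M F (S ⊓ N[Q] ⊓ N[P]) g ∧ im P g = im P f ∧ im Q g = im Q f := by
  obtain ⟨r, l, s⟩ := hg
  obtain ⟨χ, a, b⟩ := exists_le_Ext hS hf rfl s inf_le_left (X := S ⊓ N[Q] ⊓ N[P]) inf_le_left
    fun x hx => ⟨hf.tr rfl (cA hx.1.2), ⟨(hf.tr_mem rfl).2 (autInd_le_aut hf.le le_rfl
      (cA_mem _ hx.1.1)), (tr_stab hf rfl h l).2 ((cA_stab h _).2 hx.2)⟩,
      fun y hy => by rw [hf.af_tr rfl _ hy, af_cA _ hy]⟩
  have c := hf.comp_im ((mem_aut r.1).1 a.1)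
  obtain ⟨g, d, e⟩ := (rec_iff.1 r).2 _ _ c (by rw [← hf.im_im, im_af])
  refine ⟨g, d.mono b, ?_, ?_⟩
  · rw [im_congr fun x hx => e x (h hx), ← (hf.mono h).im_im]; exact a.2
  · rw [im_congr e, ← hf.im_im, im_af]

theorem gp_move (hg : GP F p P Q) (hn : Q ≤ N[P]) (hs : SatC F p Q)
    (hf : M F (normalizerIn S P) f) : GP F p (im P f) (im Q f) := by
  obtain ⟨r, l, s⟩ := hg
  have a : Q ≤ normalizerIn S P := le_inf r.1 hn
  have hQ := hf.mono a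
  haveI := finite_of_le r.1
  haveI := finite_of_le hQ.im_le
  refine ⟨(hs.conj hQ.isConj).rec_of_fc hS (hf.fc_im (rec_fc r) a
    ((inf_le_inf_left _ (cent_anti l)).trans cI_le_nI)), im_mono f l, ?_⟩
  have s1 := s.map (hQ.tr rfl).toMonoidHom
  have e : (F.autGroup Q ⊓ stabA l).map (hQ.tr rfl).toMonoidHom =
      F.autGroup (im Q f) ⊓ stabA (im_mono f l) := by
    ext β
    obtain ⟨α, rfl⟩ := (hQ.tr rfl).surjective β
    rw [mem_inf, hQ.tr_mem rfl, tr_stab hQ rfl l]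
    exact mem_map_iff_mem (f := (hQ.tr rfl).toMonoidHom) (hQ.tr rfl).injective
  rw [e] at s1
  rwa [s1.eq_of_le (isPGroup_autInd hS).to_inf_left (Q := autInducedBy S (im Q f) ⊓ _) ?_
    (inf_le_inf_right _ (autInd_le_aut hQ.im_le le_rfl))]
  rintro _ ⟨α, ⟨b, c⟩, rfl⟩
  refine ⟨?_, (tr_stab hQ rfl l _).2 c⟩
  obtain ⟨x, d, hx, e⟩ := mem_autInd.1 b
  obtain rfl : α = cA hx := af_ext fun y hy => by rw [e y hy, af_cA _ hy]
  have hx' : x ∈ normalizerIn S P := ⟨d, (cA_stab l _).1 c⟩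
  refine mem_autInd'.2 ⟨f x, hf.mem hx', fun z hz => ?_⟩
  obtain ⟨y, hy, rfl⟩ := hQ.mem_im.1 hz
  exact (hQ.af_tr rfl _ hy).trans (by rw [af_cA _ hy, hf.conj hx' (a hy)])

omit hp in
theorem inf_lt_of (h : Q < normalizerIn S P) [Fact p.Prime] : Q < S ⊓ N[Q] ⊓ N[P] := by
  refine (lt_nI hS nI_le h).trans_le fun x hx => ⟨⟨hx.1.1, hx.2⟩, hx.1.2⟩

variable {n : ℕ} (hs : ∀ Q ≤ S, n < Nat.card Q → SatC F p Q)
include hs

theorem cub : ∀ Q ≤ S, ∀ P < Q, Nat.card P = n → Q ≤ N[P] → ∀ f, M F Q f →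
    ∃ R, NL F P R ∧ NL F (im P f) R := by
  refine down_ind fun Q hQ ih P l c hn f hf => ?_
  have key : ∀ Q' ≤ S, Nat.card Q' = Nat.card Q → ∀ P < Q', Nat.card P = n →
      Q' < normalizerIn S P → ∀ f, M F Q' f → GP F p (im P f) (im Q' f) →
      (∃ R, NL F P R ∧ NL F (im P f) R) ∧
        Nat.card Q < Nat.card (normalizerIn S (im P f)) := by
    intro Q' h1 h2 P h3 h4 h5 f hf hg
    obtain ⟨g, a, b, -⟩ := gp_nmap hS h3.le hf hg
    have d := inf_lt_of hS h5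
    have d' := h2 ▸ card_lt_of_lt' a.le d
    rw [← b]
    refine ⟨ih _ a.le d' P (h3.trans d) h4 inf_le_right g a, d'.trans_le ?_⟩
    rw [← a.card_im]
    exact card_le_of_le' nI_le (a.im_nI_le (h3.trans d).le le_rfl inf_le_right)
  have a : Q ≤ normalizerIn S P := le_inf hQ hn
  rcases a.eq_or_lt with e | a
  · exact ⟨_, ⟨f, e ▸ hf, rfl⟩, .refl⟩
  obtain ⟨k, hk, k1, k2, k3⟩ := hf.exists_inv
  have k4 : im (im P f) k = P := by
    rw [(hf.mono l.le).im_im, im_of_eq fun x hx => k1 x (l.le hx)]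
  rcases (hf.im_nI_le l.le le_rfl hn).eq_or_lt with e | b
  · exact ⟨_, .refl, ⟨k, e ▸ hk, k4⟩⟩
  obtain ⟨h, hh, gp⟩ := gp_exists l.le (hs Q hQ (c ▸ card_lt_of_lt' hQ l))
  obtain ⟨⟨_, r1, g1, r2, rfl⟩, r3⟩ := key Q hQ rfl P l c a h hh gp
  have t : M F (im Q f) fun x => h (k x) := hk.comp hh fun y hy => (k2 y hy).1
  have t1 : im (im P f) (fun x => h (k x)) = im P h := by
    rw [← (hk.mono (im_mono f l.le)).im_im, k4]
  have t2 : im (im Q f) (fun x => h (k x)) = im Q h := by rw [← hk.im_im, k3]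
  obtain ⟨⟨_, r4, g2, r5, rfl⟩, -⟩ := key _ hf.im_le hf.card_im _ (hf.im_lt_im l le_rfl)
    ((hf.card_im' l.le).trans c) b _ t (t1.symm ▸ t2.symm ▸ gp)
  rw [t1] at r4 r5
  have hP := l.le.trans hQ
  have u : im P h < normalizerIn S (im P h) :=
    (hh.im_lt_im l le_rfl).trans_le (hh.im_nI_le l.le le_rfl hn)
  obtain ⟨m, m0, m1, m2, -⟩ := r2.exists_inv
  obtain ⟨R, v1, v2⟩ := ih _ r2.im_le (r2.card_im ▸ r3) _ (r2.im_lt_im u le_rfl)
    ((r2.card_im' u.le).trans ((hh.card_im' l.le).trans c))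
    ((r2.im_nI_le u.le le_rfl nI_le_norm).trans nI_le_norm) _
    (m0.comp r5 fun y hy => (m2 y hy).1)
  rw [(r2.mono u.le).im_im, im_congr fun x hx => congrArg g2 (m1 x (u.le hx))] at v2
  exact ⟨R, r1.trans hP v1, r4.trans (hf.im_le' l.le) v2⟩

theorem nl_step {P₀ : Subgroup Ω} (h0 : F.IsFullyNormalized P₀) (c : Nat.card P = n) (l : P < Q)
    (hn : Q ≤ N[P]) (hf : M F Q f) (h : NL F P P₀) : NL F (im P f) P₀ := by
  obtain ⟨_, ⟨g1, r1, rfl⟩, b⟩ := cub hS hs Q hf.le P l c hn f hf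
  obtain ⟨g, r, rfl⟩ := h
  have u : P < normalizerIn S P := l.trans_le (le_inf hf.le hn)
  obtain ⟨m, m0, m1, m2, -⟩ := r.exists_inv
  obtain ⟨R, v1, v2⟩ := cub hS hs _ r.im_le _ (r.im_lt_im u le_rfl) ((r.card_im' u.le).trans c)
    ((r.im_nI_le u.le le_rfl nI_le_norm).trans nI_le_norm) _ (m0.comp r1 fun y hy => (m2 y hy).1)
  rw [(r.mono u.le).im_im, im_congr fun x hx => congrArg g1 (m1 x (u.le hx))] at v2
  exact (b.trans (hf.im_le' l.le) v2).trans (hf.im_le' l.le) (v1.fn h0)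

omit hs in
theorem gen_ind {H : Set (Subgroup Ω)}
    (hgen : ∀ E : FusionSystem S, (∀ P ∈ H, F.Hom P ⊆ E.Hom P) → F ≤ E)
    (X : Subgroup Ω → Prop) (hX : ∀ P, X P → P ∉ H ∧ P ≠ S)
    (hXc : ∀ P f, M F P f → X P → X (im P f)) (Y : Subgroup Ω → (Ω → Ω) → Prop)
    (hcongr : ∀ P f g, Y P f → (∀ x ∈ P, g x = f x) → Y P g)
    (hcomp : ∀ P f g, X P → M F P f → M F (im P f) g → Y P f → Y (im P f) g →
      Y P fun x => g (f x))
    (hinv : ∀ P f g, X P → M F P f → Y P f → (∀ x ∈ P, g (f x) = x) → Y (im P f) g)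
    (hbase : ∀ P Q f, X P → P < Q → Q ≤ N[P] → M F Q f → Y P f) :
    ∀ P f, X P → M F P f → Y P f := by
  have hb : ∀ Q f, M F Q f → ∀ P ≤ Q, P ≠ Q → X P → Y P f := fun Q f hf P l ne x =>
    hbase P _ f x (lt_nI hS hf.le (lt_of_le_of_ne l ne)) inf_le_right (hf.mono inf_le_left)
  obtain ⟨E, hE⟩ := exists_subFS F S (fun P f => M F P f ∧ ∀ R ≤ P, X R → Y R f)
    (fun _ _ h => h.1) (fun _ _ h => ⟨h.1.le, fun _ => h.1.mem⟩)
    (fun P f g h e => ⟨h.1.congr e, fun R l x => hcongr _ _ _ (h.2 R l x) fun y hy => e y (l hy)⟩)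
    (fun P l g hg => ⟨M_conj l hg, fun R l' x => hb S _ (M_conj le_rfl hg) R (l'.trans l) (hX R x).2 x⟩)
    (fun P Q f g a b m => ⟨a.1.comp b.1 m, fun R l x => by
      have l' : im R f ≤ Q := im_le_iff.2 fun y hy => m y (l hy)
      exact hcomp _ _ _ x (a.1.mono l) (b.1.mono l') (a.2 R l x)
        (b.2 _ l' (hXc _ _ (a.1.mono l) x))⟩)
    (fun P f a => by
      obtain ⟨g, b, c, d, e⟩ := a.1.exists_inv
      refine ⟨g, ⟨b, fun R l x => ?_⟩, c⟩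
      have l' : im R g ≤ P := e ▸ im_mono g l
      have x' := hXc _ _ (b.mono l) x
      have := hinv _ _ g x' (a.1.mono l') (a.2 _ l' x') fun y hy => c y (l' hy)
      rwa [(b.mono l).im_im, im_of_eq fun y hy => (d y (l hy)).2] at this)
  have := hgen E fun P hP φ hφ => hom_iff.2 ((hE _ _).2 ⟨M_ex hφ, fun R l x =>
    hb P _ (M_ex hφ) R l (fun e => (hX R x).1 (e ▸ hP)) x⟩)
  exact fun P f x hf => ((hE _ _).1 (le_iff_M.1 this P f hf)).2 P le_rfl x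

end CfsgH2
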