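import Cfsg.Agent.L0.FS3
import Cfsg.Agent.H2.Sa1

/-! Fusion systems over the unitriangular group of degree three. -/

namespace CfsgH2
open Cfsg Subgroup CfsgL0 Function
open Cfsg.FusionSystem hiding inv_mem center

/-- commutation properties of the unitriangular group of degree three -/
structure Hs3 (G : Type*) [Group G] : Prop where
  h1 : ∀ x y z : G, x⁻¹ * (y * x * y⁻¹) * z = z * (x⁻¹ * (y * x * y⁻¹))
  h2 : ∀ x y w : G, (¬ ∀ t, x * t = t * x) → x * y = y * x → x * w = w * x → y * w = w * y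
  h3 : ∀ x z : G, (¬ ∀ t, x * t = t * x) → (∀ t, z * t = t * z) → ∃ s, s * x * s⁻¹ = x * z

theorem Hs3.of_equiv {G H : Type*} [Group G] [Group H] (e : G ≃* H) (h : Hs3 H) : Hs3 G := by
  have c : ∀ x : G, (∀ t, e x * t = t * e x) ↔ ∀ t, x * t = t * x := fun x =>
    ⟨fun a t => e.injective (by rw [map_mul, map_mul, a]), fun a t => by
      obtain ⟨t, rfl⟩ := e.surjective t; rw [← map_mul, a, map_mul]⟩
  refine ⟨fun x y z => e.injective (by simpa using h.h1 (e x) (e y) (e z)), fun x y w a b d =>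
    e.injective (by
      rw [map_mul, map_mul]
      exact h.h2 (e x) (e y) (e w) (mt (c x).1 a) (by simpa using congrArg e b)
        (by simpa using congrArg e d)), fun x z a b => ?_⟩
  obtain ⟨s, hs⟩ := h.h3 (e x) (e z) (mt (c x).1 a) ((c z).2 b)
  obtain ⟨s, rfl⟩ := e.surjective s
  exact ⟨s, e.injective (by simpa using hs)⟩

section
variable {K : Type*} [Field K] [Finite K]
open Matrix CfsgL0.Uni

/-- the general unitriangular matrix -/
def u3 (a b c : K) : UT K (Fin 3) :=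
  ⟨⟨!![1, a, b; 0, 1, c; 0, 0, 1], by simp [det_fin_three]⟩, mem_UT (fun i j h => by
    fin_cases i <;> fin_cases j <;> simp_all) fun i => by fin_cases i <;> rfl⟩

theorem u3_mul (a b c a' b' c' : K) :
    u3 a b c * u3 a' b' c' = u3 (a + a') (b + b' + a * c') (c + c') := by
  refine Subtype.ext (Subtype.ext ?_)
  show (!![1, a, b; 0, 1, c; 0, 0, 1] * !![1, a', b'; 0, 1, c'; 0, 0, 1] : Matrix _ _ K) =
    !![1, a + a', b + b' + a * c'; 0, 1, c + c'; 0, 0, 1]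
  ext i j
  fin_cases i <;> fin_cases j <;> simp [Matrix.mul_apply, Fin.sum_univ_three] <;> ring

theorem u3_inj {a b c a' b' c' : K} (h : u3 a b c = u3 a' b' c') : a = a' ∧ b = b' ∧ c = c' :=
  ⟨congrArg (fun g => g.1.1 0 1) h, congrArg (fun g => g.1.1 0 2) h, congrArg (fun g => g.1.1 1 2) h⟩

theorem u3_sur (g : UT K (Fin 3)) : ∃ a b c, g = u3 a b c := by
  have h := mem_pat.1 g.2
  refine ⟨g.1.1 0 1, g.1.1 0 2, g.1.1 1 2, Subtype.ext (Subtype.ext ?_)⟩
  ext i j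
  have := h i j
  fin_cases i <;> fin_cases j <;> simp_all [u3, sub_eq_zero]

theorem u3_comm {a b c a' b' c' : K} :
    u3 a b c * u3 a' b' c' = u3 a' b' c' * u3 a b c ↔ a * c' = a' * c := by
  rw [u3_mul, u3_mul]
  refine ⟨fun h => by linear_combination (u3_inj h).2.1, fun h => ?_⟩
  rw [h, add_comm a, add_comm b, add_comm c]

theorem hs3_UT : Hs3 (UT K (Fin 3)) := by
  have nc : ∀ a b c : K, (¬ ∀ t, u3 a b c * t = t * u3 a b c) → a ≠ 0 ∨ c ≠ 0 := fun a b c h => by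
    by_contra! e
    refine h fun t => ?_
    obtain ⟨a', b', c', rfl⟩ := u3_sur t
    rw [u3_comm, e.1, e.2]; simp
  have cj : ∀ a b c a' b' c' : K, u3 a' b' c' * u3 a b c * (u3 a' b' c')⁻¹ =
      u3 a b c * u3 0 (a' * c - a * c') 0 := fun a b c a' b' c' => by
    rw [mul_inv_eq_iff_eq_mul, u3_mul, u3_mul, u3_mul]
    congr 1 <;> ring
  refine ⟨fun x y z => ?_, fun x y w h => ?_, fun x z h h' => ?_⟩
  · obtain ⟨a, b, c, rfl⟩ := u3_sur x
    obtain ⟨a', b', c', rfl⟩ := u3_sur y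
    obtain ⟨a'', b'', c'', rfl⟩ := u3_sur z
    rw [cj, inv_mul_cancel_left, u3_comm]; simp
  · obtain ⟨a, b, c, rfl⟩ := u3_sur x
    obtain ⟨a', b', c', rfl⟩ := u3_sur y
    obtain ⟨a'', b'', c'', rfl⟩ := u3_sur w
    rw [u3_comm, u3_comm, u3_comm]
    intro e1 e2
    rcases nc a b c h with d | d
    · exact mul_left_cancel₀ d (by linear_combination a' * e2 - a'' * e1)
    · exact mul_left_cancel₀ d (by linear_combination c' * e2 - c'' * e1)
  obtain ⟨a, b, c, rfl⟩ := u3_sur x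
  obtain ⟨a', b', c', rfl⟩ := u3_sur z
  have e1 := u3_comm.1 (h' (u3 0 0 1))
  have e2 := u3_comm.1 (h' (u3 1 0 0))
  simp only [mul_one, zero_mul, mul_zero, one_mul] at e1 e2
  subst e1 e2
  rcases nc a b c h with d | d
  · exact ⟨u3 0 0 (-b' / a), by rw [cj]; congr 2; field_simp; ring⟩
  · exact ⟨u3 (b' / c) 0 0, by rw [cj]; congr 2; field_simp; ring⟩
end

variable {Ω : Type*} [Group Ω] {S P Q : Subgroup Ω} {F : FusionSystem S} {p : ℕ}
  [Finite S] [hp : Fact p.Prime] (hS : IsPGroup p S) (hF : F.IsSaturated p) (h : Hs3 S)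
include hS hF h

theorem hs3_con (hc : F.core ≠ ⊥) : F.IsConstrained p := by
  have cen : ∀ x : S, (∀ t, x * t = t * x) ↔ (x : Ω) ∈ C[S] := fun x =>
    ⟨fun a => mem_cent_iff.2 fun t ht => congrArg Subtype.val (a ⟨t, ht⟩).symm,
      fun a t => Subtype.ext (mem_cent_iff.1 a t t.2).symm⟩
  have h1 : ∀ x ∈ S, ∀ y ∈ S, x⁻¹ * (y * x * y⁻¹) ∈ S ⊓ C[S] := fun x hx y hy =>
    mem_inf.2 ⟨mul_mem (inv_mem hx) (mul_mem (mul_mem hy hx) (inv_mem hy)),
      (cen _).1 (h.h1 ⟨x, hx⟩ ⟨y, hy⟩)⟩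
  have h2 : ∀ x ∈ S, x ∉ C[S] → ∀ y ∈ S, ∀ w ∈ S, x * y = y * x → x * w = w * x → y * w = w * y :=
    fun x hx a y hy w hw b c => congrArg Subtype.val (h.h2 ⟨x, hx⟩ ⟨y, hy⟩ ⟨w, hw⟩
      (mt (cen _).1 a) (Subtype.ext b) (Subtype.ext c))
  have h3 : ∀ x ∈ S, x ∉ C[S] → ∀ z ∈ S ⊓ C[S], ∃ s ∈ S, s * x * s⁻¹ = x * z :=
    fun x hx a z hz => let ⟨s, hs⟩ := h.h3 ⟨x, hx⟩ ⟨z, hz.1⟩ (mt (cen _).1 a) ((cen _).2 hz.2)
      ⟨s, s.2, congrArg Subtype.val hs⟩
  clear cen h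
  by_cases ne : ∀ P, ¬ F.IsEssential p P
  · exact constrained_of_cI hF (normal_top_of hS hF ne) cI_le
  obtain ⟨E, hE⟩ := not_forall_not.1 ne
  set Z := S ⊓ C[S] with eZ
  have lE := hE.1.1
  haveI := finite_of_le lE
  have cE := centric_cI hE.1
  have lZ : Z ≤ E := (inf_le_inf_left _ (cent_anti lE)).trans cE
  have nE : S ≤ N[E] := fun s hs => mem_norm_of_conj' lE fun x hx => by
    simpa using mul_mem hx (lZ (h1 x (lE hx) s hs))
  have lQ := normal_le_cr hS normal_core hE.1 (ess_radical hS hF hE)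
  have sy := sat_syl hS hF hE.2.1
  have op : ∀ A ≤ F.autGroup E ⊓ stabA lZ, ∀ s (hs : s ∈ S), cA (nE hs) ∈ A →
      cA (nE hs) ∈ piCoreOf {p} A := fun A l s hs a =>
    mem_Op_of_chain (hS.to_le lE) (fun i => match i with | 0 => ⊥ | 1 => Z | _ => E) (n := 2) le_rfl
      (fun α _ _ _ _ x _ c => by rw [mem_bot.1 c, (homOn_af α).one])
      (fun α b i x c d => match i with
        | 0 => by rw [mem_bot.1 d, (homOn_af α).one]; exact one_mem _
        | 1 => stabA_mem (l b).2 d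
        | _ + 2 => af_mem _ c) a fun i x c d => match i with
        | 0 => by rw [af_cA _ c, mem_cent_iff.1 d.2 s hs, mul_inv_cancel_right, inv_mul_cancel]; rfl
        | 1 => by rw [af_cA _ c]; exact h1 x (lE c) s hs
        | _ + 2 => mul_mem (inv_mem c) (af_mem _ c)
  have st : ∀ s (hs : s ∈ S), cA (nE hs) ∈ F.autGroup E ⊓ stabA lZ := fun s hs =>
    ⟨autInd_le_aut lE le_rfl (cA_mem _ hs), (cA_stab _ _).2 (mem_norm_inf (le_normalizer hs)
      (norm_le_norm_cent _ (le_normalizer hs)))⟩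
  have ninv : ¬ F.autGroup E ≤ stabA lZ := fun l => (ess_lt hS hF hE).2 (le_of_cr hS hE.1
    (ess_radical hS hF hE) le_rfl (lE.trans le_normalizer) fun s hs _ =>
      op _ (le_inf le_rfl l) s hs (st s hs).1)
  have ab : ∀ x ∈ E, ∀ y ∈ E, x * y = y * x := by
    by_contra hn
    refine ninv fun α hα => ((mem_aut lE).1 hα).im_eq_of_le lZ fun z hz => ?_
    have k : ∀ x ∈ E, af α z * x = x * af α z := fun x hx => by
      rw [← af_af_inv α hx, ← (homOn_af α).mul (lZ hz) (af_mem _ hx),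
        ← (homOn_af α).mul (af_mem _ hx) (lZ hz), mem_cent_iff.1 hz.2 _ (lE (af_mem _ hx))]
    exact ⟨lE (af_mem _ (lZ hz)), by_contra fun c => hn fun x hx y hy =>
      h2 _ (lE (af_mem _ (lZ hz))) c x (lE hx) y (lE hy) (k x hx) (k y hy)⟩
  have cx : ∀ x ∈ E, x ∉ Z → ∀ s ∈ S, x * s = s * x → s ∈ E := fun x hx a s hs b =>
    cE ⟨hs, mem_cent_iff.2 fun y hy => h2 x (lE hx) (fun c => a ⟨lE hx, c⟩) y (lE hy) s hs
      (ab x hx y hy) b⟩
  have nA : F.autGroup E ⊓ stabA lZ ≤ N[autInducedBy S E] := by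
    have e : piCoreOf {p} (F.autGroup E ⊓ stabA lZ) = autInducedBy S E := le_antisymm
      ((sy.mono (le_inf sy.le fun α a => by
        obtain ⟨s, s1, n, s2⟩ := mem_autInd.1 a
        obtain rfl : α = cA n := af_ext fun y hy => by rw [s2 y hy, af_cA _ hy]
        exact (st s s1).2) inf_le_left).pCoreOf_le) fun α a => by
      obtain ⟨s, s1, n, s2⟩ := mem_autInd.1 a
      obtain rfl : α = cA n := af_ext fun y hy => by rw [s2 y hy, af_cA _ hy]
      exact op _ le_rfl s s1 (st s s1)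
    exact e ▸ le_norm_piCoreOf
  have mA := fun α (a : α ∈ F.autGroup E) => (mem_aut lE).1 a
  have ti : ∀ W ≤ S, ∀ α ∈ F.autGroup E, Z ⊓ im Z (af α) = W → im Z (af α) ≠ Z → W = ⊥ := by
    refine down_ind fun W lW ih α hα e ne => by_contra fun hW => ?_
    obtain ⟨w, w1, w2⟩ := (W.bot_or_exists_ne_one).resolve_left hW
    have m := mA α hα
    obtain ⟨y, y1, y2⟩ := SetLike.not_le_iff_exists.1 fun l : im Z (af α) ≤ Z =>
      ne (eq_of_le_card inf_le_left l (m.card_im' lZ).ge)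
    obtain ⟨z, z1, rfl⟩ := (m.mem_im' lZ).1 y1
    have yE := af_mem α (lZ z1)
    obtain ⟨s, s1, s2⟩ := h3 _ (lE yE) (fun c => y2 ⟨lE yE, c⟩) w (e.ge w1).1
    have b0 : α⁻¹ * cA (nE s1) * α ∈ F.autGroup E := mul_mem (mul_mem (inv_mem hα) (st s s1).1) hα
    have b1 : ∀ x ∈ E, af (α⁻¹ * cA (nE s1) * α) x = af α⁻¹ (s * af α x * s⁻¹) := fun x hx => by
      rw [af_mul _ _ hx, af_mul _ _ (af_mem _ hx), af_cA _ (af_mem _ hx)]
    have m' := mA _ (inv_mem hα)
    have lWE : W ≤ E := e.ge.trans (inf_le_left.trans lZ)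
    have back : ∀ x ∈ im Z (af α), af α⁻¹ x ∈ Z := fun x hx => by
      obtain ⟨u, u1, rfl⟩ := (m.mem_im' lZ).1 hx
      rwa [af_inv_af _ (lZ u1)]
    have lt : im W (af α⁻¹) < Z ⊓ im Z (af (α⁻¹ * cA (nE s1) * α)) := by
      refine lt_of_le_not_ge (im_le_iff.2 fun x hx => ⟨back x (e.ge hx).2, ?_⟩) fun l => y2 ?_
      · have := mem_im_of (af (α⁻¹ * cA (nE s1) * α)) (back x (e.ge hx).2)
        rwa [b1 _ (af_mem _ (lWE hx)), af_af_inv _ (lWE hx), mem_cent_iff.1 (e.ge hx).1.2 s s1,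
          mul_inv_cancel_right] at this
      have u := mem_im_of (af (α⁻¹ * cA (nE s1) * α)) z1
      rw [b1 _ (lZ z1), s2] at u
      have := (m'.mem_im_iff lWE (mul_mem yE (lWE w1))).1 (l ⟨back _ (mul_mem y1 (e.ge w1).2), u⟩)
      have := mul_mem (mem_inf.1 (e.ge this)).1 (inv_mem (mem_inf.1 (e.ge w1)).1)
      rwa [mul_inv_cancel_right] at this
    have c := card_lt_of_lt' (inf_le_left.trans inf_le_left) lt
    rw [m'.card_im' lWE] at c
    have b2 : im Z (af (α⁻¹ * cA (nE s1) * α)) = Z := by_contra fun n =>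
      not_lt_bot (ih _ (inf_le_left.trans inf_le_left) c _ b0 rfl n ▸ lt)
    have b3 : IsPGroup p (zpowers (α⁻¹ * cA (nE s1) * α)) := by
      obtain ⟨k, hk⟩ := isPGroup_autInd (P := E) hS ⟨_, cA_mem (nE s1) s1⟩
      refine isPGroup_zpowers (k := k) ?_
      have := congrArg Subtype.val hk
      rw [show α⁻¹ * cA (nE s1) * α = α⁻¹ * cA (nE s1) * α⁻¹⁻¹ by rw [inv_inv], conj_pow,
        show cA (nE s1) ^ p ^ k = 1 from this, mul_one, mul_inv_cancel]
    obtain ⟨t, t1, t2⟩ := mem_autInd'.1 (sy.le_of_norm' b3 (zpowers_le.2 b0)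
      (zpowers_le.2 (nA ⟨b0, b2⟩)) (mem_zpowers _))
    have := t2 z (lZ z1)
    rw [b1 _ (lZ z1), s2, mem_cent_iff.1 z1.2 t t1, mul_inv_cancel_right] at this
    have := congrArg (af α) this
    rw [af_af_inv _ (mul_mem yE (lWE w1))] at this
    exact w2 (by simpa using this)
  obtain ⟨α, hα, a⟩ := SetLike.not_le_iff_exists.1 ninv
  have t := ti _ (inf_le_left.trans inf_le_left) α hα rfl a
  have m := mA α hα
  have iQ := normal_im normal_core m lQ
  obtain ⟨x, x1, x2⟩ := SetLike.not_le_iff_exists.1 fun l : F.core ≤ Z =>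
    hc (le_bot_iff.1 ((le_inf l (iQ.ge.trans (im_mono _ l))).trans t.le))
  have ZQ : Z ≤ F.core := fun z hz => by
    obtain ⟨s, s1, s2⟩ := h3 x (core_le x1) (fun c => x2 ⟨core_le x1, c⟩) z hz
    have := mul_mem (inv_mem x1) (s2 ▸ conj_mem_of_norm (normal_le_norm normal_core s1) x1)
    rwa [inv_mul_cancel_left] at this
  obtain ⟨s, s1, s2⟩ := SetLike.not_le_iff_exists.1 (ess_lt hS hF hE).2
  have k : ∀ v ∈ E, ∀ v' ∈ E, v⁻¹ * (s * v * s⁻¹) = v'⁻¹ * (s * v' * s⁻¹) → v'⁻¹ * v ∈ Z :=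
    fun v hv v' hv' e => by_contra fun n => s2 (cx _ (mul_mem (inv_mem hv') hv) n s s1 (by
      have e1 := ab _ (conj_mem_of_norm (nE s1) hv') _ (mul_mem hv (inv_mem hv'))
      have e2 : s * v * s⁻¹ = v * v'⁻¹ * (s * v' * s⁻¹) := by rw [mul_assoc v, ← e]; group
      rw [← e1, ab v hv _ (inv_mem hv')] at e2
      calc v'⁻¹ * v * s = (s * v' * s⁻¹)⁻¹ * (s * v' * s⁻¹ * (v'⁻¹ * v)) * s := by group
        _ = _ := by rw [← e2]; group))
  have l' : im Z (af α) ≤ E := im_le_iff.2 fun z hz => af_mem _ (lZ hz)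
  haveI := finite_of_le (lZ.trans lE)
  have bij := (Nat.bijective_iff_injective_and_card fun v : im Z (af α) =>
    (⟨v⁻¹ * (s * v * s⁻¹), h1 _ (lE (l' v.2)) s s1⟩ : Z)).2 ⟨fun v v' e => Subtype.ext
      (inv_mul_eq_one.1 (mem_bot.1 (t.le (mem_inf.2 ⟨k _ (l' v.2) _ (l' v'.2) (congrArg Subtype.val e),
        mul_mem (inv_mem v'.2) v.2⟩)))).symm, m.card_im' lZ⟩
  refine constrained_of_cI hF normal_core fun y hy => ?_
  have yE := cx x (lQ x1) x2 y hy.1 (mem_cent_iff.1 hy.2 x x1)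
  obtain ⟨v, hv⟩ := bij.2 ⟨_, h1 y hy.1 s s1⟩
  simpa using mul_mem (iQ.le (im_mono _ ZQ v.2)) (ZQ (k y yE _ (l' v.2)
    (congrArg Subtype.val hv).symm))

end CfsgH2
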