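import Cfsg.Agent.H2.S4G
import Cfsg.Agent.H2.Trace

/-! Levels of an element acting on an abelian section; Thompson's counting lemma. -/

set_option autoImplicit false
namespace CfsgH2
open Subgroup Function Cfsg CfsgL0 CfsgBG
open scoped commutatorElement

variable {G : Type*} [Group G] {A B D E H K L M P Q S T Y Z : Subgroup G} {a x y : G} {p k : ℕ}

def tau (a y : G) : G := y⁻¹ * (a * y * a⁻¹)

theorem tau_mul (x x' y : G) : tau (x * x') y = tau x y * (x * tau x' y * x⁻¹) := by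
  unfold tau; group

theorem tau_mul' (a y y' : G) : tau a (y * y') = y'⁻¹ * tau a y * y' * tau a y' := by
  unfold tau; group

theorem conj_tau (a y : G) : a * y * a⁻¹ = y * tau a y := by unfold tau; group

theorem cjm (hx : x ∈ N[Z]) (hy : y ∈ Z) : x * y * x⁻¹ ∈ Z := (mem_normalizer_iff.1 hx y).1 hy

theorem cjm' (hx : x ∈ N[Z]) (hy : y ∈ Z) : x⁻¹ * y * x ∈ Z := by
  simpa using cjm (inv_mem hx) hy

theorem tau_mem (ha : a ∈ N[Z]) (hy : y ∈ Z) : tau a y ∈ Z := mul_mem (inv_mem hy) (cjm ha hy)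

theorem tau_eq_one : tau a y = 1 ↔ a * y = y * a := by
  unfold tau; rw [inv_mul_eq_one, eq_comm, mul_inv_eq_iff_eq_mul]

def cz (y : G) (Z : Subgroup G) : Subgroup G where
  carrier := {x | x ∈ N[Z] ∧ tau x y ∈ Z}
  one_mem' := ⟨one_mem _, by simp [tau]⟩
  mul_mem' := fun {x x'} h h' => ⟨mul_mem h.1 h'.1, by
    rw [tau_mul]; exact mul_mem h.2 (cjm h.1 h'.2)⟩
  inv_mem' := fun {x} h => ⟨inv_mem h.1, by
    have e : tau x⁻¹ y = x⁻¹ * (tau x y)⁻¹ * x := by unfold tau; group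
    rw [e]; exact cjm' h.1 (inv_mem h.2)⟩

def upl (a : G) (Z : Subgroup G) : Subgroup G where
  carrier := {y | y ∈ N[Z] ∧ tau a y ∈ Z}
  one_mem' := ⟨one_mem _, by simp [tau]⟩
  mul_mem' := fun {y y'} h h' => ⟨mul_mem h.1 h'.1, by
    rw [tau_mul']; exact mul_mem (cjm' h'.1 h.2) h'.2⟩
  inv_mem' := fun {y} h => ⟨inv_mem h.1, by
    have e : tau a y⁻¹ = y * (tau a y)⁻¹ * y⁻¹ := by unfold tau; group
    rw [e]; exact cjm h.1 (inv_mem h.2)⟩

def lev (D Y : Subgroup G) (a : G) : ℕ → Subgroup G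
  | 0 => Y
  | k + 1 => D ⊓ upl a (lev D Y a k)

structure LH (D Y : Subgroup G) (a : G) : Prop where
  le : Y ≤ D
  ab : ⁅D, D⁆ ≤ Y
  nD : a ∈ N[D]
  nY : a ∈ N[Y]

variable [Finite G]

theorem LH.aux (h : LH D Y a) (k : ℕ) :
    Y ≤ lev D Y a k ∧ lev D Y a k ≤ D ∧ a ∈ N[lev D Y a k] := by
  induction k with
  | zero => exact ⟨le_rfl, h.le, h.nY⟩
  | succ k ih =>
    have n := le_norm_of_commutator_le (h.ab.trans ih.1) ih.2.1
    have m : lev D Y a k ≤ lev D Y a (k + 1) := fun y hy =>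
      ⟨ih.2.1 hy, n (ih.2.1 hy), tau_mem ih.2.2 hy⟩
    exact ⟨ih.1.trans m, inf_le_left, mem_norm_of_conj fun y hy => by
      rw [conj_tau]; exact mul_mem hy (m hy.2.2)⟩

theorem LH.nl (h : LH D Y a) (k : ℕ) : D ≤ N[lev D Y a k] :=
  le_norm_of_commutator_le (h.ab.trans (h.aux k).1) (h.aux k).2.1

theorem LH.mem (h : LH D Y a) (hy : y ∈ D) : y ∈ lev D Y a (k + 1) ↔ tau a y ∈ lev D Y a k :=
  ⟨fun h1 => h1.2.2, fun h1 => ⟨hy, h.nl k hy, h1⟩⟩

theorem LH.mono (h : LH D Y a) (k : ℕ) : lev D Y a k ≤ lev D Y a (k + 1) := fun _ hy =>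
  (h.mem ((h.aux k).2.1 hy)).2 (tau_mem (h.aux k).2.2 hy)

theorem LH.comm (h : LH D Y a) (k : ℕ) : ⁅lev D Y a (k + 1), zpowers a⁆ ≤ lev D Y a k := by
  refine commutator_le.2 fun y hy x hx => ?_
  have h1 : x ∈ cz y (lev D Y a k) := (zpowers_le.2 (⟨(h.aux k).2.2, hy.2.2⟩ : a ∈ cz y _)) hx
  have e : ⁅y, x⁆ = y * (tau x y)⁻¹ * y⁻¹ := by unfold tau; rw [commutatorElement_def]; group
  rw [e]; exact cjm (h.nl k hy.1) (inv_mem h1.2)

theorem LH.iter (h : LH D Y a) (k : ℕ) : iterCommutator (lev D Y a k) (zpowers a) k ≤ Y := by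
  induction k with
  | zero => exact le_rfl
  | succ k ih => rw [iterComm_succ']; exact (iterComm_mono (h.comm k) le_rfl k).trans ih

theorem LH.step [hp : Fact p.Prime] (h : LH D Y a) (pD : PG[p, D]) (pa : PG[p, zpowers a])
    (h1 : ¬ D ≤ lev D Y a k) : ∃ w ∈ lev D Y a (k + 1), w ∉ lev D Y a k := by
  obtain ⟨L, l1, l2, -, l3, l4, -⟩ := exists_step pa pD
    (lt_of_le_of_ne (h.aux k).2.1 fun e => h1 e.ge) (zpowers_le.2 (h.aux k).2.2) (zpowers_le.2 h.nD)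
  have : ¬ L ≤ lev D Y a k := fun e => hp.out.one_lt.ne' (l3.symm.trans (relIndex_eq_one.2 e))
  obtain ⟨w, w1, w2⟩ := SetLike.not_le_iff_exists.1 this
  refine ⟨w, (h.mem (l2 w1)).2 ?_, w2⟩
  have e : tau a w = ⁅w⁻¹, a⁆ := by unfold tau; rw [commutatorElement_def]; group
  rw [e]; exact l4 (commutator_mem_commutator (inv_mem w1) (mem_zpowers a))

theorem LH.pow (hp : p.Prime) (h : LH D Y a) (he : ∀ x ∈ D, x ^ p ∈ Y) (hk : k ≤ p - 1)
    (hy : y ∈ lev D Y a (k + 1)) : tau (a ^ p) y ∈ Y := by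
  obtain ⟨V, _, φ, f1, f2⟩ := exists_quot_fun (h.nl 0) h.ab
  have l := (h.aux k).2.1
  have yD : y ∈ D := hy.1
  have cD : ∀ i, a ^ i * y * (a ^ i)⁻¹ ∈ D := fun i => cjm (pow_mem h.nD i) yD
  have := prod_conj_eq_one (X := lev D Y a k) hp φ (fun x hx y hy => f1 x (l hx) y (l hy))
    (h.aux k).2.2 (fun x hx => by rw [← qf_pow f1 (l hx), f2 _ (pow_mem (l hx) _)]; exact he x (l hx))
    (fun z hz => by
      have := iterComm_le_of_le (zpowers_le.2 h.nY) hk (h.iter k) hz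
      exact (f2 z (h.le this)).2 this) hy.2.2
  have e : ∀ i, φ (a ^ i * tau a y * (a ^ i)⁻¹) =
      φ (a ^ (i + 1) * y * (a ^ (i + 1))⁻¹) / φ (a ^ i * y * (a ^ i)⁻¹) := fun i => by
    rw [eq_div_iff_mul_eq', mul_comm, ← f1 _ (cD i) _ (cjm (pow_mem h.nD i) (tau_mem h.nD yD))]
    congr 1; unfold tau; group
  simp only [e] at this
  rw [Finset.prod_range_div (fun i => φ (a ^ i * y * (a ^ i)⁻¹)), div_eq_one, pow_zero, one_mul,
    inv_one, mul_one, conj_tau, f1 _ yD _ (tau_mem (pow_mem h.nD p) yD), mul_eq_left] at this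
  exact (f2 _ (tau_mem (pow_mem h.nD p) yD)).1 this

/-- Thompson's counting lemma -/
theorem thompson_surj (hA : ME 0 S A) (hx : x ∈ S) (hM : M = closure {g | ∃ b ∈ A, g = tau b x})
    (ab : Ab[M]) {m : G} (hm : m ∈ M) : ∃ b ∈ A, (tau b x)⁻¹ * m ∈ C[A] := by
  have cM : ∀ b ∈ A, tau b x ∈ M := fun b hb => hM ▸ subset_closure ⟨b, hb, rfl⟩
  have MS : M ≤ S := hM ▸ (closure_le _).2 (by
    rintro _ ⟨b, hb, rfl⟩
    exact mul_mem (inv_mem hx) (mul_mem (mul_mem (hA.le hb) hx) (inv_mem (hA.le hb))))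
  have key : ∀ b ∈ A, tau b x ∈ C[A] → b ∈ C[M] := fun b hb h1 => by
    have : M ≤ centralizer {b} := hM ▸ (closure_le _).2 (by
      rintro _ ⟨c, hc, rfl⟩
      have e1 := tau_mul b c x
      rw [(le_cent_self hA.ab hc b hb), tau_mul, h1 c hc, mul_inv_cancel_right,
        le_cent_self ab (cM b hb) _ (cM c hc), mul_right_inj] at e1
      exact mem_centralizer_singleton_iff.2 (eq_mul_inv_iff_mul_eq.1 e1))
    exact mem_cent_iff.2 fun h hh => mem_centralizer_singleton_iff.1 (this hh)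
  let f : A ⧸ C[M].subgroupOf A → M ⧸ C[A].subgroupOf M := fun q =>
    QuotientGroup.mk ⟨tau q.out x, cM _ q.out.2⟩
  have inj : Injective f := fun q q' e => by
    have e1 : (tau (q.out : G) x)⁻¹ * tau (q'.out : G) x ∈ C[A] := mem_subgroupOf.1 (QuotientGroup.eq.1 e)
    have m : ((q.out : G)⁻¹ * q'.out) ∈ A := mul_mem (inv_mem q.out.2) q'.out.2
    rw [← mul_inv_cancel_left (q.out : G) q'.out, tau_mul, inv_mul_cancel_left] at e1
    have e2 := cjm' (le_norm_cent le_normalizer q.out.2) e1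
    rw [← mul_assoc, ← mul_assoc, inv_mul_cancel, one_mul, inv_mul_cancel_right] at e2
    rw [← QuotientGroup.out_eq' q, ← QuotientGroup.out_eq' q']
    exact QuotientGroup.eq.2 (key _ m e2)
  obtain ⟨q, hq⟩ := (inj.bijective_of_nat_card_le (me_off hA MS (el_zero.2 ab))).2
    (QuotientGroup.mk ⟨m, hm⟩)
  exact ⟨q.out, q.out.2, mem_subgroupOf.1 (QuotientGroup.eq.1 hq)⟩

variable [hp : Fact p.Prime]

theorem le_relIndex_pg (hH : PG[p, H]) (h : ¬ H ≤ K) : p ≤ K.relIndex H := by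
  obtain ⟨n, hn⟩ := hH.index (K.subgroupOf H)
  rcases n with _ | n
  · exact absurd (relIndex_eq_one.1 hn) h
  · exact le_of_le_of_eq (Nat.le_self_pow n.succ_ne_zero p) hn.symm

theorem tau_tau (hp3 : 3 ≤ p) (hA : ME 0 T A) (pT : PG[p, T]) (hE : E ≤ T) (ab : Ab[E])
    (he : ∀ x ∈ E, x ^ p = 1) (ha : a ∈ A) (nA : a ∈ N[E]) (hc : A ≤ A ⊓ C[E] ⊔ zpowers a)
    (hy : y ∈ E) : tau a (tau a y) = 1 := by
  have h : LH E ⊥ a := ⟨bot_le, (comm_self_eq_bot_iff.2 ab).le, nA, le_normalizer_of_normal (mem_top a)⟩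
  suffices h1 : E ≤ lev E ⊥ a 2 from mem_bot.1 (h1 hy).2.2.2.2
  by_contra h1
  obtain ⟨w, w1, w2⟩ := h.step (pT.to_le hE) (pT.to_le ((zpowers_le.2 ha).trans hA.le)) h1
  have l := (h.aux 3).2.1
  have i1 := me_off hA (l.trans hE) (el_zero.2 (isMulComm_of_le ab l))
  have i2 : A ⊓ C[lev E ⊥ a 3] ⊔ zpowers a = A := le_antisymm (sup_le inf_le_left (zpowers_le.2 ha))
    (hc.trans (sup_le_sup_right (inf_le_inf_left _ (cent_anti l)) _))
  have i3 := relIndex_sup_zpowers_dvd (H := A ⊓ C[lev E ⊥ a 3]) (n := p)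
    (le_norm_of_le_cent (le_cent_of_comm hA.ab inf_le_left) ha) ⟨pow_mem ha p, mem_cent_iff.2
      fun z hz => (tau_eq_one.1 (mem_bot.1 (h.pow hp.out (fun x hx => he x hx) (by omega) hz))).symm⟩
  rw [i2, inf_relIndex_left] at i3
  have i4 : (lev E ⊥ a 1).relIndex (lev E ⊥ a 3) ≤ C[A].relIndex (lev E ⊥ a 3) := by
    rw [← inf_relIndex_right C[A]]
    exact relIndex_le_of_le_left (fun z hz => (h.mem (l hz.2)).2
      (mem_bot.2 (tau_eq_one.2 (hz.1 a ha)))) index_ne_zero_of_finite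
  have j1 := le_relIndex_pg (pT.to_le (l.trans hE)) fun e => w2 (e w1)
  have j2 := le_relIndex_pg (K := lev E ⊥ a 1) (pT.to_le ((h.aux 2).2.1.trans hE))
    fun e => w2 ((h.mem w1.1).2 (e w1.2.2))
  rw [← relIndex_mul_relIndex _ _ _ (h.mono 1) (h.mono 2)] at i4
  have := (Nat.mul_le_mul j2 j1).trans (i4.trans (i1.trans (Nat.le_of_dvd hp.out.pos i3)))
  nlinarith

omit hp [Finite G] in
theorem comm_bilin (hc : ⁅D, D⁆ ≤ C[D]) {x x' y y' : G} (h1 : x ∈ D) (h2 : x' ∈ D) (h3 : y ∈ D)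
    (h4 : y' ∈ D) : ⁅x * x', y * y'⁆ = ⁅x, y⁆ * (⁅x, y'⁆ * ⁅x', y⁆ * ⁅x', y'⁆) := by
  have c : ∀ {u v z}, u ∈ D → v ∈ D → z ∈ D → z * ⁅u, v⁆ * z⁻¹ = ⁅u, v⁆ := fun hu hv hz => by
    rw [hc (commutator_mem_commutator hu hv) _ hz, mul_inv_cancel_right]
  have r : ∀ {u}, u ∈ D → ⁅u, y * y'⁆ = ⁅u, y⁆ * ⁅u, y'⁆ := fun {u} hu => by
    rw [← c hu h4 h3]; simp only [commutatorElement_def]; group
  have e : ⁅x * x', y * y'⁆ = x * ⁅x', y * y'⁆ * x⁻¹ * ⁅x, y * y'⁆ := by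
    simp only [commutatorElement_def]; group
  rw [e, c h2 (mul_mem h3 h4) h1, ← hc (commutator_mem_commutator h2 (mul_mem h3 h4)) _
    (commutator_self_le (commutator_mem_commutator h1 (mul_mem h3 h4))), r h1, r h2]
  simp only [mul_assoc]

omit hp [Finite G] in
theorem comm_pow_eq (hc : ⁅D, D⁆ ≤ C[D]) (h1 : x ∈ D) (h3 : y ∈ D) (n : ℕ) :
    ⁅x ^ n, y⁆ = ⁅x, y⁆ ^ n := by
  induction n with
  | zero => simp
  | succ n ih =>
    have := comm_bilin hc (pow_mem h1 n) h1 h3 (one_mem D)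
    rw [pow_succ, pow_succ, ← ih]; simpa using this

end CfsgH2
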