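import Cfsg.Agent.H2.PU9

/-! A `p`-minimal group with an offender does not centralize `C_V(T)`. -/

set_option autoImplicit false
namespace CfsgH2
open Subgroup Function Cfsg CfsgL0 CfsgBG Matrix
open scoped commutatorElement MatrixGroups Pointwise

variable {G : Type*} [Group G] {p : ℕ} {V A B C D E H K L M P T X Y : Subgroup G}

theorem sup_indep (ab : Ab[V]) (s : Finset (Subgroup G)) (h : ∀ X ∈ s, X ≤ V ∧ ∃ H : Subgroup G,
    X ⊓ C[H] = ⊥ ∧ Y ≤ C[H] ∧ ∀ X' ∈ s, X' ≠ X → X' ≤ C[H]) : s.sup id ⊓ Y = ⊥ := by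
  classical
  induction s using Finset.induction_on with
  | empty => simp
  | insert X s n ih =>
    obtain ⟨l, H, h1, h2, h3⟩ := h X (Finset.mem_insert_self _ _)
    have k : s.sup id ≤ V ⊓ C[H] := Finset.sup_le fun Z hZ => le_inf (h Z (Finset.mem_insert_of_mem hZ)).1
      (h3 Z (Finset.mem_insert_of_mem hZ) fun e => n (e ▸ hZ))
    rw [Finset.sup_insert, id, ← inf_eq_right.2 h2, ← inf_assoc, sup_inf_of_norm'
      (.inl (ab_norm ab l (k.trans inf_le_left))) (k.trans inf_le_right), h1, bot_sup_eq]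
    exact ih fun Z hZ => (h Z (Finset.mem_insert_of_mem hZ)).imp_right fun ⟨H, a, b, c⟩ =>
      ⟨H, a, b, fun W hW => c W (Finset.mem_insert_of_mem hW)⟩

theorem qt_le_of_disj (n : L ≤ N[Y]) (d : L ⊓ Y = ⊥) (l : A ≤ L) (l' : B ≤ L) (h : qt Y A ≤ qt Y B) :
    A ≤ B := by
  have := le_inf ((qt_le_qt (l.trans n) (l'.trans n)).1 h) l
  rwa [sup_inf_of_norm (.inl (l'.trans n)) l', inf_comm, d, sup_bot_eq] at this

variable [Finite G]

theorem cent_of_card_two' (h : o[X] = 2) (n : K ≤ N[X]) : K ≤ C[X] := fun k hk =>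
  mem_cent_iff.2 fun x hx => by
    classical
    by_cases c : x = 1
    · simp [c]
    have e := conj_mem_of_norm (n hk) hx
    rw [← zpowers_eq_of_prime (h ▸ Nat.prime_two) hx c] at e
    have o : orderOf x = 2 := by
      rw [← Nat.card_zpowers, zpowers_eq_of_prime (h ▸ Nat.prime_two) hx c, h]
    rw [mem_zpowers_iff_mem_range_orderOf, o] at e
    simp only [Finset.mem_image, Finset.mem_range] at e
    obtain ⟨i, hi, e⟩ := e
    interval_cases i
    · exact (c (by simpa using e.symm)).elim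
    · rw [pow_one] at e; exact (mul_inv_eq_iff_eq_mul.1 e.symm).symm

variable [hp : Fact p.Prime]

theorem Syl.of_qt_disj (n : E ≤ N[Y]) (d : E ⊓ Y = ⊥) (l : D ≤ E) (h : Syl p (CfsgH2.qt Y D) (CfsgH2.qt Y E)) :
    Syl p D E := Syl.of_card l (by
  rw [← card_qt_of_disj n d, ← h.card_eq, card_qt_of_disj (l.trans n) (le_bot_iff.1 (d ▸ inf_le_inf_right _ l))])

theorem UM.toQt (u : UM p T M L) (ML : M ≤ L) (n : L ≤ N[Y]) (d : L ⊓ Y = ⊥) :
    UM p (qt Y T) (qt Y M) (qt Y L) := by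
  refine ⟨u.syl.qt n, qt_mono u.le, fun e => u.nle (qt_le_of_disj n d le_rfl ML e), fun K k1 k2 k3 => ?_⟩
  obtain ⟨K, l, -, rfl⟩ := exists_qt_eq_le k2
  exact qt_mono (u.max K (qt_le_of_disj n d u.syl.le l k1) l fun e => k3 (by rw [e]))

theorem S2.syl {F : Type*} [Field F] [Fintype F] [CharP F p] (h : S2 F V E A) (hV : IsElementaryAbelian p V)
    (n : E ≤ N[V]) (fa : E ⊓ C[V] = ⊥) (hO : O[{p}, E] = ⊥) (l : A ≤ E) : Syl p A E := by
  obtain ⟨i⟩ := h.iso hV n fa hO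
  obtain ⟨ρ, ψ, h1, -, -, -, h5⟩ := h
  have b : Bijective ρ := (Nat.bijective_iff_surjective_and_card _).2
    ⟨MonoidHom.range_eq_top.1 h1, Nat.card_congr i.toEquiv⟩
  have := (inj_syl E.subtype_injective).2 ((inj_syl (P := A.subgroupOf E) (M := ⊤) b.1).1 (by
    rw [h5, map_top_of_surjective _ b.2]; exact t1_sl.um.syl))
  rwa [map_subgroupOf_eq_of_le l, map_subtype_top] at this

theorem fix_of_indep (hV : IsElementaryAbelian p V) (n : P ≤ N[V]) (pT : PG[p, T]) (lT : T ≤ P) (lY : Y ≤ V)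
    (cY : Y ≤ C[piRes {p} P]) (l : X ≤ ⁅V, D⁆) (lD : D ≤ T) (lH : H ≤ P) (pH : ¬ p ∣ o[H]) (x0 : X ≠ ⊥)
    (c : X ⊓ C[H] = ⊥) (nX : T ⊓ N[D] ≤ N[X]) (f : ∀ t ∈ T, D:^t ≠ D → ⁅⁅V, D:^t⁆, H⁆ ≤ Y) :
    ¬ V ⊓ C[T] ≤ Y := fun e => by
  classical
  have XV : ∀ t ∈ T, X:^t ≤ ⁅V, D:^t⁆ := fun t ht => by
    rw [← map_cj_eq (n (lT ht)), ← map_commutator]; exact map_mono l
  have XV' : ∀ t ∈ T, X:^t ≤ V := fun t ht =>
    (XV t ht).trans (comm_le_left ((map_cj_le_of_mem lD ht).trans (lT.trans n)))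
  have cH : ∀ t ∈ T, Y ≤ C[H:^t] := fun t ht => cY.trans (cent_anti (le_piRes (map_cj_le_of_mem lH (lT ht))
    ((piN_compl_singleton hp.out).2 (by rwa [card_map_cj]))))
  have c1 := cH 1 T.one_mem
  rw [map_cj_one] at c1
  let s := (Set.toFinite {Z | ∃ t ∈ T, Z = X:^t}).toFinset
  have m : ∀ Z, Z ∈ s ↔ ∃ t ∈ T, Z = X:^t := fun Z => Set.Finite.mem_toFinset _
  have i := sup_indep (Y := Y) hV.1 s fun Z hZ => by
    obtain ⟨t, ht, rfl⟩ := (m Z).1 hZ
    refine ⟨XV' t ht, H:^t, by rw [centralizer_map_cj, ← map_cj_inf, c, Subgroup.map_bot], cH t ht, fun W hW ne => ?_⟩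
    obtain ⟨u, hu, rfl⟩ := (m W).1 hW
    have tu := mul_mem (inv_mem ht) hu
    have k : ⁅X:^(t⁻¹ * u) ⊔ Y, H⁆ ≤ Y := comm_sup_le (ab_norm hV.1 (XV' _ tu) lY) le_normalizer
      ((commutator_mono (XV _ tu) le_rfl).trans (f _ tu fun e => ne (by
        rw [← mul_inv_cancel_left t u, ← map_cj_cj, map_cj_eq (nX ⟨tu, map_cj_eq_iff.1 e⟩)])))
      ((comm_eq_bot_iff.2 c1).le.trans bot_le)
    have pK := (elem_pgroup hV).to_le (sup_le (XV' _ tu) lY)
    rw [centralizer_map_cj, le_map_cj_iff, map_cj_cj]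
    exact le_sup_left.trans (le_centralizer_iff.1 (coprime_le_cent (le_norm_of_comm_le k le_sup_right)
      (coprime_of_not_dvd pH pK) (.inr (isSolvable_of_pgroup pK)) (k.trans c1)))
  have sV : s.sup id ≤ V := Finset.sup_le fun Z hZ => by obtain ⟨t, ht, rfl⟩ := (m Z).1 hZ; exact XV' t ht
  refine inf_cent_ne_bot' pT ((elem_pgroup hV).to_le sV) (fun t ht => mem_norm_of_map_le (map_cj_le_iff.2
    (Finset.sup_le fun Z hZ => ?_))) (fun f => x0 (le_bot_iff.1 (f ▸ ?_)))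
    (le_bot_iff.1 (i ▸ le_inf inf_le_left ((inf_le_inf_right _ sV).trans e)))
  · obtain ⟨u, hu, rfl⟩ := (m Z).1 hZ
    rw [id, ← map_cj_le_iff, map_cj_cj]
    exact Finset.le_sup (f := id) ((m _).2 ⟨_, mul_mem ht hu, rfl⟩)
  · exact Finset.le_sup (f := id) ((m _).2 ⟨1, T.one_mem, (map_cj_one _).symm⟩)

theorem MO.fix (a : MO p V P A) (hV : IsElementaryAbelian p V) (n : P ≤ N[V]) (fa : P ⊓ C[V] = ⊥)
    (u : UM p T M P) (ML : M ≤ P) (nT : ¬ P ≤ N[T]) (hO : O[{p}, P] = ⊥) : ¬ V ⊓ C[T] ≤ C[P] := by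
  wlog lA : A ≤ T generalizing A
  · obtain ⟨g, hg, e⟩ := u.syl.exists_conj_le (elem_pgroup a.el) a.le
    exact this (a.cj n hg) e
  have pV := elem_pgroup hV
  have lT := u.syl.le
  obtain ⟨Y, hY⟩ : ∃ Y, Y = V ⊓ C[piRes {p} P] := ⟨_, rfl⟩
  have lY : Y ≤ V := hY.le.trans inf_le_left
  have cY : Y ≤ C[piRes {p} P] := hY.le.trans inf_le_right
  have nY : P ≤ N[Y] := hY ▸ le_norm_inf n (le_norm_cent le_norm_piRes)
  have vY : V ≤ N[Y] := ab_norm hV.1 le_rfl lY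
  have k0 : ∀ K ≤ P, K ≤ C[V] → K = ⊥ := fun K l c => le_bot_iff.1 (fa ▸ le_inf l c)
  have d : P ⊓ Y = ⊥ := k0 _ inf_le_left (inf_le_right.trans (lY.trans (le_cent_self hV.1)))
  have u' := u.toQt ML nY d
  have n' : qt Y P ≤ N[qt Y V] := qt_le_norm n
  have inj : ∀ {A B : Subgroup G}, A ≤ P → B ≤ P → qt Y A ≤ qt Y B → A ≤ B := qt_le_of_disj nY d
  have fa' : qt Y P ⊓ C[qt Y V] = ⊥ := by
    rw [← qt_stab vY, ← qt_inf (le_stab_self vY), qt_eq_bot (inf_le_left.trans nY)]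
    refine le_trans (le_pCoreOf inf_le_left (le_norm_inf le_normalizer (le_norm_stab n nY))
      (isPGroup_of_piRes ?_)) (hO.le.trans bot_le)
    rw [k0 _ (piRes_le.trans inf_le_left) (piRes_le_cent_of_comm pV (inf_le_left.trans n)
      (comm_le_of_le_stab inf_le_right) ((piRes_mono inf_le_left).trans (le_centralizer_iff.1 cY)))]
    exact IsPGroup.of_bot
  have h : BS p (qt Y V) (qt Y P) (qt Y M) (qt Y T) := by
    refine bs_of (elem_qt hV) n' fa' u' (fun e => nT fun g hg => mem_norm_of_map_le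
      (inj (map_cj_le_of_mem lT hg) lT ?_)) (by
        rw [← qt_piCoreOf nY (d ▸ piN_bot), hO, qt_bot]) (u'.max _ (le_inf u'.syl.le
          (le_centralizer_iff.1 inf_le_right)) inf_le_left fun e => ?_)
    · rw [qt_map_cj (nY hg), map_cj_eq (e (qmk_mem_qt _ hg))]
    refine inf_cent_ne_bot' u'.syl.pg (isPGroup_qt pV) (u'.syl.le.trans n') (fun f => nT ?_) (le_bot_iff.1
      ((le_inf inf_le_left (le_centralizer_iff.1 (e.ge.trans inf_le_right))).trans ?_))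
    · rw [← u.syl.piRes_sup, k0 _ piRes_le (le_centralizer_iff.1 (((qt_eq_bot vY).1 f).trans cY)), bot_sup_eq]
      exact le_normalizer
    · rw [← qt_stab nY, ← qt_inf (le_stab_self nY), le_bot_iff, qt_eq_bot (inf_le_left.trans vY), hY]
      refine le_inf inf_le_left (le_centralizer_iff.1 (piRes_le_cent_of_comm (Y := Y) (pV.to_le inf_le_left)
        (le_norm_inf n (le_norm_stab le_normalizer (hY ▸ nY))) ?_ (le_centralizer_iff.1 cY)))
      rw [commutator_comm]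
      exact (commutator_mono le_rfl inf_le_right).trans (hY ▸ comm_stab_le)
  have cq : ∀ {K : Subgroup G}, K ≤ P → o[qt Y K] = o[K] := fun l =>
    card_qt_of_disj (l.trans nY) (le_bot_iff.1 (d ▸ inf_le_inf_right _ l))
  obtain ⟨D', l', m, -⟩ := exists_mo (V := qt Y V) (qt_mono a.le) (elem_qt a.el)
    (fun e => a.ne (card_eq_one.1 (by rw [← cq a.le, e, card_bot]))) (by
      refine Nat.le_of_mul_le_mul_left ?_ (card_pos' Y)
      rw [card_qt_mul' vY lY, cq a.le, mul_left_comm]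
      refine a.i.trans (Nat.mul_le_mul_left _ ?_)
      rw [← card_qt_mul (inf_le_left.trans vY)]
      exact Nat.mul_le_mul (card_le_of_le inf_le_right) (card_le_of_le qt_inf_cent_le))
  obtain ⟨D, lD, -, rfl⟩ := exists_qt_eq_le l'
  have DT := lD.trans lA
  have DP := DT.trans lT
  obtain ⟨C', b⟩ := h.ex_par m u'.syl Cl.self (qt_mono DT)
  obtain ⟨C, CP, -, rfl⟩ := exists_qt_eq_le (b.b.le m.le)
  have EP : D ⊔ C ≤ P := sup_le DP CP
  have eE := qt_sup (DP.trans nY) (CP.trans nY)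
  have pD := u.syl.pg.to_le DT
  obtain ⟨F, _, _, k, -, hF, hk⟩ := exists_field (isPGroup_qt (K := Y) pD) m.ne
  haveI := charP_of_card' (hF.trans hk)
  have s2 := b.s2 F hF
  have fE := h.fj.fa' (sup_le m.le (b.b.le m.le))
  have nE' := (sup_le m.le (b.b.le m.le)).trans n'
  have s : Syl p D (D ⊔ C) := Syl.of_qt_disj (EP.trans nY) (le_bot_iff.1 (d ▸ inf_le_inf_right _ EP))
    le_sup_left (eE ▸ s2.syl (elem_qt hV) nE' fE b.hO le_sup_left)
  have nE : T ⊓ N[D] ≤ N[D ⊔ C] := fun t ht => by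
    have e : (qt Y D):^(qmk Y ⟨t, nY (lT ht.1)⟩) = qt Y D := by rw [← qt_map_cj, map_cj_eq ht.2]
    have tT := qmk_mem_qt (nY (lT ht.1)) ht.1
    obtain ⟨x, hx, f⟩ := h.par_cj (B' := qt Y C) b (u'.syl.le tT) (fun Y _ l => map_cj_le_of_mem l tT)
      (fun Y _ l => map_cj_le_of_mem l (inv_mem tT)) (by rw [e]; exact b)
    refine mem_norm_of_map_le ?_
    rw [Subgroup.map_sup, map_cj_eq ht.2]
    refine sup_le le_sup_left (inj (map_cj_le_of_mem CP (lT ht.1)) EP ?_)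
    rw [qt_map_cj (nY (lT ht.1)), f, eE]
    exact map_cj_le_of_mem le_sup_right (mem_sup_left (e ▸ hx))
  have far : ∀ t ∈ T, D:^t ≠ D → ⁅⁅V, D:^t⁆, D ⊔ C⁆ ≤ Y := fun t ht ne => by
    have l1 := map_cj_le_of_mem DT ht
    have c1 : Cl (qt Y P) (qt Y D) (qt Y (D:^t)) := ⟨_, qmk_mem_qt (nY (lT ht)) (lT ht), qt_map_cj _⟩
    have m1 := h.mq m c1
    rw [← qt_le_cent_iff ((comm_le_left (l1.trans (lT.trans n))).trans vY) (EP.trans nY), eE, cent_sup,
      qt_commutator vY (l1.trans (lT.trans nY))]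
    exact le_inf (h.fj.quad_of_comm m1 (h.mq m b.d) (h.comm m c1 b.d u'.syl.pg (qt_mono l1) b.le))
      (h.fj.quad_of_comm m1 (h.mq m b.b) (le_centralizer_iff.1 (b.cm _ c1 (qt_mono l1) fun e => ne
        (eq_of_le_of_card_ge (inj (l1.trans lT) DP e.le) (card_map_cj _ _).ge))))
  intro c
  suffices ∃ X H, X ≤ ⁅V, D⁆ ∧ H ≤ D ⊔ C ∧ ¬ p ∣ o[H] ∧ X ≠ ⊥ ∧ X ⊓ C[H] = ⊥ ∧ T ⊓ N[D] ≤ N[X] by
    obtain ⟨X, H, x1, x2, x3, x4, x5, x6⟩ := this
    exact fix_of_indep hV n u.syl.pg lT lY cY x1 DT (x2.trans EP) x3 x4 x5 x6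
      (fun t ht ne => (commutator_mono le_rfl x2).trans (far t ht ne))
      (hY ▸ le_inf inf_le_left (c.trans (cent_anti piRes_le)))
  have nV := inf_le_left.trans (lT.trans n) (a := T ⊓ N[D])
  by_cases q : 2 < Fintype.card F
  · obtain ⟨_, hx, x1, -, x2⟩ := s2.torus (elem_qt hV) nE' fE b.hO le_sup_left q
    obtain ⟨⟨x, xn⟩, hx', rfl⟩ := mem_qt.1 (eE.ge hx)
    have x3 : x ∈ N[D] := mem_norm_of_map_le (inj (map_cj_le_of_mem DP (EP hx')) DP (by
      rw [qt_map_cj xn, map_cj_eq x1]))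
    have s1 := s.mono (le_inf le_sup_left le_normalizer) inf_le_left
    obtain ⟨H, h1, h2, -, h4⟩ := exists_compl s1.le inf_le_right s1.coprime
    have lR : ⁅V, D⁆ ≤ V := comm_le_left (DP.trans n)
    have ab := (elem_of_le hV lR).1
    have nR : (D ⊔ C) ⊓ N[D] ≤ N[⁅V, D⁆] := le_norm_commutator (inf_le_left.trans (EP.trans n)) inf_le_right
    have pH : ¬ p ∣ o[H] := h4 ▸ s1.nd
    refine ⟨⁅⁅V, D⁆, (D ⊔ C) ⊓ N[D]⁆, H, comm_le_left nR, h1.trans inf_le_left, pH, fun e => b.np.neB ?_, ?_,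
      le_norm_commutator (le_norm_commutator nV inf_le_right) (le_norm_inf nE (inf_le_right.trans le_normalizer))⟩
    · rw [b.np.Z_eq]
      refine le_trans (sup_le (fun v hv => x2 v (comm_le_left b.np.nA hv) ?_) inf_le_right) (cent_anti le_sup_right)
      rw [← qt_commutator vY (DP.trans nY)] at hv
      obtain ⟨v, hv', rfl⟩ := mem_qt.1 hv
      rw [← map_commutatorElement, show ⁅(⟨x, xn⟩ : N[Y]), v⁆ = 1 from Subtype.ext
        (commutatorElement_eq_one_iff_mul_comm.2 (comm_eq_bot_iff.1 e hv' x ⟨hx', x3⟩)), map_one]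
      exact one_mem _
    · rw [← h2, comm_sup_right_ab ab (s1.le.trans nR) (h1.trans nR), comm_eq_bot_iff.2 ((commutator_mono le_rfl
        lD).trans ((a.q hV n).trans (cent_anti lD))), bot_sup_eq]
      exact coprime_comm_inf_cent ab (h1.trans nR) (coprime_of_not_dvd pH (pV.to_le lR))
  · have c2 : o[D] = 2 := by
      have := Fintype.one_lt_card (α := F)
      rw [← cq DP, ← hF]; omega
    have e := (s.npc_of_norm_le_cent (cent_of_card_two' c2 inf_le_right)).sup_eq s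
    have lH : O[{p}ᶜ, D ⊔ C] ≤ D ⊔ C := piCoreOf_le
    have nH := lH.trans (EP.trans n)
    have pH := (piN_compl_singleton hp.out).1 (piN_piCoreOf (π := {p}ᶜ) (M := D ⊔ C))
    have nW : D ⊔ C ≤ N[⁅V, O[{p}ᶜ, D ⊔ C]⁆] := le_norm_commutator (EP.trans n) le_norm_piCoreOf
    refine ⟨⁅⁅V, O[{p}ᶜ, D ⊔ C]⁆, D⁆, _, commutator_mono (comm_le_left nH) le_rfl, lH, pH, fun f => h.nT b ?_,
      le_bot_iff.1 ((inf_le_inf_right _ (comm_le_left (le_sup_left.trans nW))).trans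
        (coprime_comm_inf_cent hV.1 nH (coprime_of_not_dvd pH pV)).le),
      le_norm_commutator (le_norm_commutator nV (nE.trans norm_le_norm_piCoreOf)) inf_le_right⟩
    have l1 := le_centralizer_iff.1 (comm_eq_bot_iff.1 f)
    obtain ⟨g, hg, l2⟩ := s.exists_le_conj (isPGroup_of_qt (CP.trans nY) (h.fj.pD (h.mq m b.b))
      (pV.to_le (inf_le_right.trans lY))) le_sup_right
    rw [k0 _ (lH.trans EP) (coprime_le_cent nH (coprime_of_not_dvd pH pV) (.inr (isSolvable_of_pgroup pV))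
      (le_centralizer_iff.1 (lH.trans (sup_le l1 (l2.trans (map_cj_le_of_norm l1
        (le_norm_cent nW hg))))))), bot_sup_eq] at e
    exact qt_mono (le_sup_right.trans (e.ge.trans DT))

end CfsgH2
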