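import Cfsg.Agent.H2.PU7

/-! Pushing up in rank one: the group `Qd`. -/

set_option autoImplicit false
namespace CfsgH2
open Subgroup Function Cfsg CfsgL0 CfsgBG Matrix
open scoped commutatorElement MatrixGroups Pointwise

variable {G : Type*} [Group G] {p : ℕ} {V A B D K L M Q Z S X Y W U R : Subgroup G}

theorem SD.qd {F : Type*} [Field F] {ρ : L →* SL(2, F)} {ψ : Q →* Multiplicative (Fin 2 → F)}
    (h : SD Q ⊥ L S M Q ρ ψ) (k : ∀ g : L, ρ g = 1 ↔ (g : G) ∈ Q) (lW : W ≤ Q) (lX : X ≤ L) (QL : Q ≤ L)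
    (n : X ≤ N[W]) (w0 : W ⊓ C[L] = ⊥) (w1 : Surjective (ψ.comp (inclusion lW))) (x0 : X ⊓ Q = ⊥)
    (x1 : Surjective (ρ.comp (inclusion lX))) : Nonempty ((W ⊔ X : Subgroup G) ≃* qdOver F) := by
  have iw : Injective (ψ.comp (inclusion lW)) := (injective_iff_map_eq_one _).2 fun w e =>
    Subtype.ext (w0.le ⟨w.2, stab_bot.le ((h.k _).1 e)⟩)
  let a := MulEquiv.ofBijective _ ⟨iw, w1⟩
  have ix : Injective (ρ.comp (inclusion lX)) := (injective_iff_map_eq_one _).2 fun x e =>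
    Subtype.ext (x0.le ⟨x.2, (k _).1 e⟩)
  let b := MulEquiv.ofBijective _ ⟨ix, x1⟩
  have l : W ⊔ X ≤ L := sup_le (lW.trans QL) lX
  have q : IsQd ((inclusion (le_sup_left : W ≤ W ⊔ X)).comp a.symm.toMonoidHom)
      ((inclusion (le_sup_right : X ≤ W ⊔ X)).comp b.symm.toMonoidHom) (ρ.comp (inclusion l)) := by
    refine ⟨(inclusion_injective le_sup_left).comp a.symm.injective, b.apply_symm_apply, Subgroup.ext fun g =>
      ⟨fun e => ?_, ?_⟩, fun m v => Subtype.ext ?_⟩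
    · have : (g : G) ∈ W := by
        have := (sup_inf_of_norm (.inr n) lW).le ⟨g.2, (k _).1 e⟩
        rwa [x0, sup_bot_eq] at this
      exact ⟨a ⟨g, this⟩, Subtype.ext (congrArg W.subtype (a.symm_apply_apply ⟨g, this⟩))⟩
    · rintro ⟨v, rfl⟩; exact (k _).2 (lW (a.symm v).2)
    · have e := conj_mem_of_norm (n (b.symm m).2) (a.symm (.ofAdd v)).2
      refine congrArg W.subtype (a.eq_symm_apply.2 ?_ : (⟨_, e⟩ : W) = a.symm (.ofAdd (m.1 *ᵥ v)))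
      have := h.eq ⟨_, lX (b.symm m).2⟩ ⟨_, lW (a.symm (.ofAdd v)).2⟩ ⟨_, lW e⟩ rfl
      rw [show ρ ⟨_, lX (b.symm m).2⟩ = m from b.apply_symm_apply m, show ψ ⟨_, lW (a.symm (.ofAdd v)).2⟩ = _ from
        a.apply_symm_apply _] at this
      exact congrArg Multiplicative.ofAdd this
  exact ⟨q.equiv.symm.trans qdE⟩

variable [Finite G] [hp : Fact p.Prime]

theorem P1.qd {F : Type} [Field F] [Fintype F] [CharP F p] (h : P1 p S M L Q Q B) (p5 : 5 ≤ p)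
    (hF : Fintype.card F = Q.relIndex S) : ∃ G₀ E : Subgroup G, IsInternalDirectProduct G₀ E L ∧
      IsElementaryAbelian p E ∧ Nonempty (G₀ ≃* qdOver F) := by
  obtain ⟨ρ, ψ, s, k⟩ := h.iso hF
  have QL := h.QS.trans h.SL
  have d : ∀ k : ℕ, (k : F) = 0 ↔ p ∣ k := CharP.cast_eq_zero_iff F p
  have h2 : (2 : F) ≠ 0 := fun e => by have := Nat.le_of_dvd two_pos ((d 2).1 e); omega
  have h3 : (3 : F) ≠ 0 := fun e => by have := Nat.le_of_dvd three_pos ((d 3).1 e); omega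
  obtain ⟨m, hm⟩ := hp.out.odd_of_ne_two (by omega)
  obtain ⟨z, ez, z2⟩ : ∃ z : L, ρ z = -1 ∧ (z : G) * z = 1 := by
    obtain ⟨y, e⟩ := s.sr (-1)
    refine ⟨y ^ p, by rw [map_pow, e, hm, pow_succ, pow_mul]; simp, ?_⟩
    rw [coe_pow, ← (Commute.refl _).mul_pow]
    exact h.el.2 _ ((k (y * y)).1 (by simp [e]))
  have zi : (z : G)⁻¹ = z := inv_eq_of_mul_eq_one_left z2
  have nT : zpowers (z : G) ≤ N[Q] := zpowers_le.2 (h.nQ z.2)
  have co : o[zpowers (z : G)].Coprime o[Q] := by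
    obtain ⟨j, e⟩ := (h.syl.pg.to_le h.QS).exists_card_eq
    rw [Nat.card_zpowers, e]
    exact Nat.Coprime.pow_right _ (((Nat.coprime_primes Nat.prime_two hp.out).2 (by omega)).coprime_dvd_left
      (orderOf_dvd_of_pow_eq_one (sq (z : G) ▸ z2)))
  have c1 := coprime_comm_inf_cent h.el.1 nT co
  have c2 := coprime_comm_sup_cent nT co (.inl inferInstance)
  rw [cent_zpowers] at c1 c2
  have eE : Q ⊓ C1[(z : G)] = Q ⊓ C[L] := le_antisymm (fun u hu => ⟨hu.1, stab_bot.le ((s.k ⟨u, hu.1⟩).1 (by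
    have := s.eq z ⟨u, hu.1⟩ ⟨u, hu.1⟩ (eq_mul_inv_iff_mul_eq.2 (mem_centralizer_singleton_iff.1 hu.2))
    rw [ez] at this
    refine Multiplicative.toAdd.injective (funext fun i => mul_left_cancel₀ h2 ?_)
    simpa [two_mul, neg_mulVec, add_eq_zero_iff_eq_neg] using congrFun this i))⟩)
    (inf_le_inf_left _ (cent_le_cent1 z.2))
  generalize eW : ⁅Q, zpowers (z : G)⁆ = W at c1 c2
  have lW : W ≤ Q := le_sup_left.trans c2.le
  rw [eE] at c2
  have fr : Q ⊔ L ⊓ C1[(z : G)] = L := le_antisymm (sup_le QL inf_le_left) fun g hg => by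
    have q : (z : G) * (g * z * g⁻¹) ∈ Q := (k (z * (⟨g, hg⟩ * z * ⟨g, hg⟩⁻¹))).1 (by simp [ez])
    generalize e : (z : G) * (g * z * g⁻¹) = r at q
    have e1 : z * r * (z : G)⁻¹ = r⁻¹ := by
      rw [← e, ← mul_assoc, z2]; simp only [_root_.mul_inv_rev, inv_inv, zi, one_mul, mul_assoc]
    have e2 : z * r ^ (m + 1) * (z : G)⁻¹ = (r ^ (m + 1))⁻¹ := by rw [← conj_pow, e1, inv_pow]
    have e3 : r ^ (m + 1) * r ^ (m + 1) = r := by
      rw [← pow_add, show m + 1 + (m + 1) = p + 1 by omega, pow_succ, h.el.2 r q, one_mul]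
    rw [← inv_mul_cancel_left (r ^ (m + 1)) g]
    refine mul_mem (mem_sup_left (inv_mem (pow_mem q _))) (mem_sup_right ⟨L.mul_mem (QL (pow_mem q _)) hg,
      mem_centralizer_singleton_iff.2 ?_⟩)
    calc _ = r ^ (m + 1) * (z : G)⁻¹ * (z * (g * z * g⁻¹)) * g := by group
      _ = z * ((z : G)⁻¹ * r ^ (m + 1) * (z : G)⁻¹) * (r ^ (m + 1) * r ^ (m + 1)) * g := by rw [e, e3]; group
      _ = _ := by nth_rw 1 [zi]; rw [e2]; group
  have nW : L ≤ N[W] := fr.ge.trans (sup_le (ab_norm h.el.1 le_rfl lW) (eW ▸ le_norm_commutator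
    (inf_le_left.trans h.nQ) (inf_le_right.trans (cent_zpowers (z : G) ▸ cent_le_norm _))))
  generalize eC : L ⊓ C1[(z : G)] = C at fr
  have CL : C ≤ L := eC ▸ inf_le_left
  have Cz : C ≤ C1[(z : G)] := eC ▸ inf_le_right
  have QW : ⁅Q, L⁆ ≤ W := by
    rw [← c2]
    exact comm_sup_le le_normalizer (inf_le_left.trans (QL.trans nW)) (comm_le_left nW)
      ((comm_eq_bot_iff.2 inf_le_right).le.trans bot_le)
  have SW : ⁅S, S⁆ ≤ W := (comm_le_of_sup h.BQ ((commutator_comm _ _).le.trans ((commutator_mono le_rfl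
    (h.p0.BS.trans h.SL)).trans QW)) ((comm_self_eq_bot_iff.2 h.elB.1).le.trans bot_le) (h.SL.trans nW)
    (h.SL.trans h.nQ)).trans (sup_le le_rfl ((comm_self_eq_bot_iff.2 h.el.1).le.trans bot_le))
  obtain ⟨P, hP⟩ := exists_syl (p := p) C
  have ab : Ab[P] := by
    obtain ⟨g, hg, l⟩ := h.syl.exists_le_conj hP.pg (hP.le.trans CL)
    refine comm_self_eq_bot_iff.1 (le_bot_iff.1 (c1 ▸ le_inf ((commutator_mono l l).trans ?_)
      (comm_le_norm (hP.le.trans Cz) (hP.le.trans Cz))))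
    rw [← map_commutator]; exact map_cj_le_of_norm SW (nW hg)
  have lX : ⁅C, C⁆ ≤ C := comm_le_norm le_rfl le_rfl
  have EC : Q ⊓ C[L] ≤ C := eC ▸ le_inf (inf_le_left.trans QL) (eE.ge.trans inf_le_right)
  have x0 : ⁅C, C⁆ ⊓ Q = ⊥ := le_bot_iff.1 ((hall_singleton.2 hP).comm_inf_cent ab ▸ by
    have l : ⁅C, C⁆ ⊓ Q ≤ Q ⊓ C[L] := eE ▸ le_inf inf_le_right (inf_le_left.trans (lX.trans Cz))
    exact le_inf (le_inf (l.trans ((le_pCoreOf EC (CL.trans (le_norm_inf h.nQ (le_norm_cent le_normalizer)))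
      (h.syl.pg.to_le (inf_le_left.trans h.QS))).trans hP.pCoreOf_le)) inf_le_left)
      (l.trans (inf_le_right.trans (cent_anti CL))))
  have x1 : Surjective (ρ.comp (inclusion (lX.trans CL))) := fun y => by
    have e : (C.subgroupOf L).map ρ = ⊤ := eq_top_iff.2 fun y _ => by
      obtain ⟨g, rfl⟩ := s.sr y
      obtain ⟨q, hq, c, hc, e⟩ := (mem_sup_of_norm' (CL.trans h.nQ)).1 (fr.ge g.2)
      refine ⟨⟨c, CL hc⟩, hc, ?_⟩
      rw [show g = ⟨q, QL hq⟩ * ⟨c, CL hc⟩ from Subtype.ext e.symm, map_mul, (k ⟨q, _⟩).2 hq, one_mul]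
    have := (SL2.commutator_eq_top h2 (fun e => h3 (by linear_combination e))).ge (mem_top y)
    rw [commutator_def, ← e, ← map_commutator] at this
    obtain ⟨g, hg, rfl⟩ := this
    have := mem_map_of_mem L.subtype hg
    rw [map_commutator, map_subgroupOf_eq_of_le CL] at this
    exact ⟨⟨g, this⟩, rfl⟩
  have w0 : W ⊓ C[L] = ⊥ := le_bot_iff.1 (c1 ▸ inf_le_inf_left _ (cent_le_cent1 z.2))
  refine ⟨W ⊔ ⁅C, C⁆, Q ⊓ C[L], ⟨sup_le (lW.trans QL) (lX.trans CL), inf_le_left.trans QL,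
    fun a ha b hb => hb.2 a (sup_le (lW.trans QL) (lX.trans CL) ha), le_bot_iff.1 (w0 ▸ ?_),
    le_antisymm (sup_le (sup_le (lW.trans QL) (lX.trans CL)) (inf_le_left.trans QL)) fun g hg => ?_⟩,
    elem_of_le h.el inf_le_left, s.qd k lW (lX.trans CL) QL (lX.trans (CL.trans nW)) w0 (fun v => ?_) x0 x1⟩
  · rw [← inf_assoc, sup_inf_of_norm (.inr (lX.trans (CL.trans nW))) lW, x0, sup_bot_eq]
  · obtain ⟨x, e⟩ := x1 (ρ ⟨g, hg⟩)
    have := c2.ge ((k (⟨g, hg⟩ * (inclusion (lX.trans CL) x)⁻¹)).1 (by rw [map_mul, map_inv, ← e]; simp))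
    rw [← inv_mul_cancel_right g x]
    exact mul_mem ((sup_le_sup_right le_sup_left _ : W ⊔ Q ⊓ C[L] ≤ _) this) (mem_sup_left (mem_sup_right x.2))
  · obtain ⟨u, rfl⟩ := s.sp v
    obtain ⟨w, hw, c, hc, e⟩ := (mem_sup_of_norm' (inf_le_left.trans (QL.trans nW))).1 (c2.ge u.2)
    refine ⟨⟨w, hw⟩, ?_⟩
    rw [show u = ⟨w, lW hw⟩ * ⟨c, hc.1⟩ from Subtype.ext e.symm, map_mul, (s.k ⟨c, _⟩).2 (stab_bot.ge hc.2),
      mul_one]
    rfl

theorem R1.der_eq (h : R1 p S M L Q Z) {M' L' Q' Z' : Subgroup G} (h' : R1 p S M' L' Q' Z') (e : Z ⊔ Q' = S) :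
    ⁅Q, Q⁆ = ⁅Q' ⊓ Q, Q' ⊓ Q⁆ := le_antisymm ((comm_le_of_sup (h'.dec e h.ZQ h.QS)
  (comm_eq_bot_iff.2 (h.ZC.trans (cent_anti inf_le_right))).le (comm_self_eq_bot_iff.2 h.el.1).le
  (norm_bot.ge.trans' le_top) (h.QS.trans (le_norm_inf (h'.SL.trans h'.nQ) (h.SL.trans h.nQ)))).trans
  (sup_le bot_le le_rfl)) (commutator_mono inf_le_right inf_le_right)

end CfsgH2
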