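import Cfsg.Agent.H2.PU8
import Cfsg.Agent.L0.ZJ2
import Cfsg.Agent.L0.Fus2

/-! Baumann's lemma in the rank one pushing-up situation. -/

set_option autoImplicit false
namespace CfsgH2
open Subgroup Function Cfsg CfsgL0 CfsgBG Matrix
open scoped commutatorElement MatrixGroups Pointwise

variable {G : Type*} [Group G] {p e : ℕ} {V A B D K L M Q Z S X Y W U R : Subgroup G}

theorem elem_of_dvd (he : p ∣ e) (h : IsElementaryAbelian p A) : IsElementaryAbelian e A :=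
  ⟨h.1, fun a ha => by obtain ⟨k, rfl⟩ := he; rw [pow_mul, h.2 a ha, one_pow]⟩

theorem norm_of_central (l : X ≤ C[L]) : L ≤ N[X] := le_norm_of_le_cent (le_centralizer_iff.1 l)

variable [Finite G]

theorem _root_.CfsgL0.ME.ff (a : ME e S A) (l : Y ≤ S) (el : IsElementaryAbelian e Y) :
    o[Y] ≤ C[Y].relIndex A * o[Y ⊓ A] := by
  have c : C[Y] ⊓ A ≤ C[Y] := inf_le_left
  have e1 := card_sup_mul_card_inf (le_norm_of_le_cent c)
  have e2 := a.max (sup_le (inf_le_right.trans a.le) l) (elem_sup (elem_of_le a.el inf_le_right) el c)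
  rw [← card_inf_mul_relIndex C[Y] A] at e2
  refine Nat.le_of_mul_le_mul_left ?_ (card_pos' (C[Y] ⊓ A))
  rw [← e1, ← mul_assoc]
  exact Nat.mul_le_mul e2 (card_le_of_le (le_inf inf_le_right (inf_le_left.trans inf_le_right)))

variable [hp : Fact p.Prime]

theorem psl_pow {F : Type*} [Field F] [Fintype F] {n : ℕ} (hF : Fintype.card F = p ^ n) (u : UM p S M ⊤)
    (π : G →* PSL(2, F)) (hπ : Surjective π) : ∀ s ∈ S, s ^ p ∈ O[{p}, (⊤ : Subgroup G)] := by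
  haveI := charP_of_card' hF
  let f := QuotientGroup.mk' (center SL(2, F))
  have h := (t1_sl (F := F) (p := p)).um.syl.map f
  rw [map_top_of_surjective f (QuotientGroup.mk'_surjective _)] at h
  obtain ⟨g, -, e⟩ := h.conj (map_top_of_surjective π hπ ▸ u.syl.map π)
  intro s hs
  refine u.inf_le_core le_top (normalizer_eq_top π.ker).ge (by_contra fun k => ?_)
    ⟨pow_mem hs _, MonoidHom.mem_ker.2 ?_⟩
  · have t := congrArg (Subgroup.map π) (u.sup_eq le_top (normalizer_eq_top π.ker).ge k)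
    rw [Subgroup.map_sup, (Subgroup.map_eq_bot_iff _).2 le_rfl, sup_bot_eq, ← e, map_top_of_surjective π hπ,
      ← top_le_iff, le_map_cj_iff, map_cj_of_mem (mem_top _), top_le_iff] at t
    have := congrArg (comap f) t
    rw [comap_map_eq, QuotientGroup.ker_mk', comap_top] at this
    exact (t1_sl (F := F) (p := p)).nn (this.ge.trans (sup_le le_normalizer (center_le_normalizer _)))
  obtain ⟨_, ⟨_, ⟨a, rfl⟩, rfl⟩, e⟩ := e.ge ⟨s, hs, rfl⟩
  rw [map_pow, ← e, ← map_pow, ← map_pow, ← map_pow, uH_eq_one (by simp), map_one, map_one]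

theorem T1.nleK (h : T1 p S M L) (l : K ≤ L) (n : L ≤ N[K]) (s : S ≤ K) : K = L := by
  rw [← h.um.sup_eq l n fun k => h.nle ((le_inf le_rfl s).trans (h.um.inf_le_core l n k)), sup_eq_right.2 s]

theorem t1_top' {T : Sylow p G} (h : ∃! M : Subgroup G, IsCoatom M ∧ (T : Subgroup G) ≤ M) [K.Normal]
    {F : Type*} [Field F] [Fintype F] {n : ℕ} (hF : Fintype.card F = p ^ n)
    (e : Nonempty (G ⧸ K ≃* PSL(2, F))) :
    ∃ M, T1 p (T : Subgroup G) M ⊤ ∧ ∀ s ∈ (T : Subgroup G), s ^ p ∈ O[{p}, (⊤ : Subgroup G)] := by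
  obtain ⟨M, -, u⟩ := um_top (syl_top T) h
  obtain ⟨e⟩ := e
  have s := e.surjective.comp (QuotientGroup.mk'_surjective K)
  exact ⟨M, (t1_psl hF u (e.toMonoidHom.comp (QuotientGroup.mk' K)) s).1,
    psl_pow hF u (e.toMonoidHom.comp (QuotientGroup.mk' K)) s⟩

/-- a central subgroup of `S` normal in `L` is central -/
theorem T1.central (h : T1 p S M L) (l : X ≤ C[S]) (n : L ≤ N[X]) : X ≤ C[L] :=
  le_centralizer_iff.1 ((h.nleK inf_le_left (le_norm_inf le_normalizer (le_norm_cent n))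
    (le_inf h.um.syl.le (le_centralizer_iff.1 l))).ge.trans inf_le_right)

theorem T1.cM (h : T1 p S M L) (c : L ⊓ C[O[{p}, L]] ≤ O[{p}, L]) (h2 : ¬ L ≤ N[ΩZ[e, S]]) :
    L ⊓ C[ΩZ[p, O[{p}, L]]] ≤ M := by
  have n : L ≤ N[O[{p}, L]] := le_norm_piCoreOf
  have q := h.um.syl.pCoreOf_le
  by_contra k
  have r := piRes_le_cent_of_omega' dvd_rfl ((h.um.syl.pg.to_le q).to_le inf_le_left) (isMulComm_cent_inf _)
    (le_norm_inf n (le_norm_cent n)) ((h.um.res_le inf_le_left (le_norm_inf le_normalizer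
      (le_norm_cent (norm_OZ n))) k).trans inf_le_right)
  refine h2 (h.um.syl.piRes_sup.ge.trans (sup_le (le_norm_of_le_cent (r.trans (cent_anti (le_inf ((le_inf
    (OZ_le.trans h.um.syl.le) (OZ_cent.trans (cent_anti q))).trans c) (OZ_cent.trans (cent_anti q))))))
    (norm_OZ le_normalizer)))

/-- rank one configuration with a large abelian subgroup `A` outside `Q` -/
structure RA (p e : ℕ) (S M L Q Z A : Subgroup G) : Prop extends R1 p S M L Q Z where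
  dvd : p ∣ e
  me : ME e S A
  sup : A ⊔ Q = S

theorem R1.ra (h : R1 p S M L Q Z) (he : p ∣ e) (a : ME e S A) (a0 : ¬ A ≤ Q) : RA p e S M L Q Z A := by
  refine ⟨h, he, a, eq_of_le_of_card_ge (sup_le a.le h.QS) ?_⟩
  have e1 := a.ff (h.ZQ.trans h.QS) (elem_of_dvd he h.el)
  have e2 : o[Z ⊓ A] ≤ o[Z ⊓ C[S]] := card_le_of_le ((inf_le_inf_left _ (le_cent_self a.ab)).trans
    (h.cent_of' a.le a0).le)
  rw [h.nm.cV, h.idx, ← inf_relIndex_left A, show A ⊓ C[Z] = A ⊓ Q by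
    rw [← h.eS, ← inf_assoc, inf_eq_left.2 a.le], inf_relIndex_left] at e1
  rw [← card_mul_relIndex h.QS, ← card_mul_relIndex (le_sup_right : Q ≤ A ⊔ Q),
    relIndex_sup_of_norm (a.le.trans (h.SL.trans h.nQ))]
  exact Nat.mul_le_mul_left _ (Nat.le_of_mul_le_mul_right (e1.trans (Nat.mul_le_mul_left _ e2)) (card_pos' _))

theorem T1.ra (h : T1 p S M L) (c : L ⊓ C[O[{p}, L]] ≤ O[{p}, L]) (he : p ∣ e)
    (pw : ∀ s ∈ S, s ^ e = 1 → s ^ p ∈ O[{p}, L]) (h2 : ¬ L ≤ N[ΩZ[e, S]]) (a : ME e S A)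
    (a0 : ¬ A ≤ O[{p}, L]) : RA p e S M L O[{p}, L] ΩZ[p, O[{p}, L]] A := by
  have n : L ≤ N[ΩZ[p, O[{p}, L]]] := norm_OZ le_norm_piCoreOf
  have k := h.cM c h2
  have k2 := h.um.cent_le n k
  have q : O[{p}, L] ≤ C[ΩZ[p, O[{p}, L]]] := le_centralizer_iff.1 OZ_cent
  refine R1.ra ⟨h, rfl, rfl, c, h.nm elem_OZ n q k (a.le.trans h.um.syl.le)
    (fun f => a0 ((le_inf a.le f).trans k2)) ((comm_self_eq_bot_iff.2 a.ab).le.trans bot_le)
    (fun x hx => q (pw x (a.le hx) (a.exp x hx))) ((a.ff (OZ_le.trans h.um.syl.pCoreOf_le)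
      (elem_of_dvd he elem_OZ)).trans (Nat.mul_le_mul_left _ (card_le_of_le (inf_le_inf_left _
        (le_cent_self a.ab))))), k2⟩ he a a0

theorem R1.Zdec (h : R1 p S M L Q Z) {g : G} (hg : g ∈ L) (g0 : g ∉ M) :
    Z ⊓ C[S] ⊔ Z ⊓ C[S:^g] = Z := by
  refine eq_of_le_of_card_ge (sup_le inf_le_left inf_le_left) ?_
  have e := card_sup_mul_card_inf (H := Z ⊓ C[S]) (K := Z ⊓ C[S:^g]) (le_norm_of_le_cent
    (inf_le_left.trans ((le_cent_self h.el.1).trans (cent_anti inf_le_left))))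
  have e2 : o[Z ⊓ C[S:^g]] = o[Z ⊓ C[S]] := by
    rw [centralizer_map_cj, ← card_map_cj g (Z ⊓ C[S]), map_cj_inf, h.Zg hg]
  rw [← inf_inf_distrib_left, ← cent_sup, h.gen hg g0, e2] at e
  nth_rw 2 [h.nm.cZ] at e
  rw [← mul_assoc] at e
  rw [Nat.eq_of_mul_eq_mul_right (card_pos' _) e, h.nm.cV, mul_comm]

namespace RA
variable (h : RA p e S M L Q Z A)
include h

theorem nle : ¬ A ≤ Q := fun f => h.toT1.nle (h.eQ ▸ h.sup.ge.trans (sup_le f le_rfl))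
theorem elZ : IsElementaryAbelian e Z := elem_of_dvd h.dvd h.el
theorem ZA : Z ⊓ A = Z ⊓ C[S] := le_antisymm ((inf_le_inf_left _ (le_cent_self h.me.ab)).trans
  (h.cent_of' h.me.le h.nle).le) (le_inf inf_le_left (h.me.le_of_cent (inf_le_left.trans (h.ZQ.trans h.QS))
    (elem_of_le h.elZ inf_le_left) (inf_le_right.trans (cent_anti h.me.le))))

theorem cjL {g : G} (hg : g ∈ L) : RA p e (S:^g) (M:^g) L Q Z (A:^g) :=
  ⟨h.toR1.cjL hg, h.dvd, h.me.map_cj g, by rw [← h.Qg hg, ← Subgroup.map_sup, h.sup]⟩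

theorem star : ME e S (Z ⊔ A ⊓ Q) := by
  have c : Z ≤ C[A ⊓ Q] := h.ZC.trans (cent_anti inf_le_right)
  refine h.me.of_card (sup_le (h.ZQ.trans h.QS) (inf_le_left.trans h.me.le))
    (elem_sup h.elZ (elem_of_le h.me.el inf_le_left) c) ?_
  have e1 := card_sup_mul_card_inf (le_norm_of_le_cent c)
  rw [← inf_assoc, inf_eq_left.2 (inf_le_left.trans h.ZQ), h.ZA, h.nm.cV, h.idx, mul_right_comm] at e1
  rw [Nat.eq_of_mul_eq_mul_right (card_pos' _) e1, ← h.sup,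
    relIndex_sup_of_norm (h.me.le.trans (h.SL.trans h.nQ)), mul_comm, inf_comm, card_inf_mul_relIndex]

theorem starQ : ME e Q (Z ⊔ A ⊓ Q) := h.star.mono (sup_le h.ZQ inf_le_right) h.QS
theorem JQ : J[e, Q] ≤ J[e, S] := h.star.J_mono (sup_le h.ZQ inf_le_right) h.QS

theorem dec (l : Z ≤ Y) (l' : Y ≤ ΩZ[e, J[e, Q]]) : Z ⊔ Y ⊓ A = Y := by
  have := sup_inf_of_norm (K := A ⊓ Q) (.inr (inf_le_right.trans (h.QS.trans (h.SL.trans h.nZ)))) l
  rw [inf_eq_right.2 (l'.trans (omega_ZJ_le h.starQ)), inf_right_comm,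
    inf_eq_left.2 (inf_le_right.trans (l'.trans (OZ_le.trans J_le))), inf_comm] at this
  exact this.symm

theorem WY : ΩZ[e, J[e, S]] ≤ ΩZ[e, J[e, Q]] := omega_cent_J (e := e) (P := Q) ▸ le_omegaOne
  (le_inf ((omega_ZJ_le h.star).trans h.starQ.le) (OZ_cent.trans (cent_anti h.JQ))) elem_OZ.2

theorem ZY : Z ≤ ΩZ[e, J[e, Q]] := (le_OZ h.elZ h.ZQ h.ZC).trans omega_center_le

/-- `Z(Q) = Z · Z(S)` -/
theorem decV : Z ⊔ ΩZ[e, S] = ΩZ[e, Q] := by
  have l : ΩZ[e, S] ≤ C[Q] := OZ_cent.trans (cent_anti h.QS)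
  refine le_antisymm (sup_le (le_OZ h.elZ h.ZQ h.ZC) (le_OZ elem_OZ ((le_inf (OZ_le.trans h.SL) l).trans
    h.con) l)) ((h.dec (le_OZ h.elZ h.ZQ h.ZC) omega_center_le).ge.trans (sup_le_sup_left
      (le_OZ (elem_of_le elem_OZ inf_le_left) (inf_le_right.trans h.me.le) ?_) _))
  rw [← h.sup, cent_sup]
  exact le_inf (inf_le_right.trans (le_cent_self h.me.ab)) (inf_le_left.trans OZ_cent)

/-- Baumann's lemma -/
theorem bau : ∃ H ≤ L, L ≤ N[H] ∧ S ⊓ H = S ⊓ C[ΩZ[e, J[e, S]]] ∧ ⁅ΩZ[e, J[e, S]], S⁆ ≤ C[H] ∧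
    S ⊔ H = L := by
  obtain ⟨g, hg, g0⟩ := SetLike.not_le_iff_exists.1 h.um.nle
  have b := h.cjL hg
  set W := ΩZ[e, J[e, S]]
  set B := A:^g
  have nW : S ≤ N[W] := norm_OZ le_norm_J
  have WY : W ≤ ΩZ[e, J[e, Q]] := h.WY
  have ZW : Z ⊓ C[S] ≤ W := (le_OZ (elem_of_le h.elZ inf_le_left) (inf_le_left.trans (h.ZQ.trans h.QS))
    inf_le_right).trans omega_center_le
  have ab : Ab[ΩZ[e, J[e, Q]]] := elem_OZ.1
  have d := b.dec le_sup_left (sup_le h.ZY WY)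
  have BL : B ≤ L := b.me.le.trans b.SL
  have e1 : Z ⊓ C[S] ⊔ W ⊓ B = W := by
    have k : Z ⊓ C[S] ⊔ (Z ⊔ W) ⊓ B = Z ⊔ W := le_antisymm (sup_le (inf_le_left.trans le_sup_left) inf_le_left)
      (d.ge.trans (sup_le ((h.Zdec hg g0).ge.trans (sup_le_sup_left (b.ZA.ge.trans
        (inf_le_inf_right _ le_sup_left)) _)) le_sup_right))
    have := sup_inf_of_norm (K := (Z ⊔ W) ⊓ B) (.inl (le_norm_of_le_cent ((ZW.trans WY).trans
      ((le_cent_self ab).trans (cent_anti (inf_le_left.trans (sup_le h.ZY WY))))))) ZW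
    rw [k, inf_eq_right.2 le_sup_right, inf_right_comm, inf_eq_right.2 (le_sup_right : W ≤ Z ⊔ W)] at this
    exact this.symm
  have gen : S ⊔ B = L := by
    rw [← h.gen hg g0, ← b.sup, sup_comm B, ← sup_assoc, sup_eq_left.2 h.QS]
  have c1 : B ≤ C[W ⊓ B] := (le_cent_self b.me.ab).trans (cent_anti inf_le_right)
  have nU : L ≤ N[Z ⊔ W] := gen.ge.trans (sup_le (le_norm_sup (h.SL.trans h.nZ) nW) (by
    rw [← d]
    exact le_norm_sup (BL.trans h.nZ) (le_norm_of_le_cent ((le_cent_self b.me.ab).trans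
      (cent_anti inf_le_right)))))
  have eD : Q ⊓ C[Z ⊔ W] = Q ⊓ C[W] := by rw [cent_sup, ← inf_assoc, inf_eq_left.2 h.QC]
  have nD : L ≤ N[Q ⊓ C[W]] := eD ▸ le_norm_inf h.nQ (le_norm_cent nU)
  have nT : S ≤ N[S ⊓ C[W]] := le_norm_inf le_normalizer (le_norm_cent nW)
  have cT : ⁅S ⊓ C[W], Q⁆ ≤ Q ⊓ C[W] := le_inf (comm_le_right (inf_le_left.trans (h.SL.trans h.nQ)))
    ((comm_le_left (h.QS.trans nT)).trans inf_le_right)
  have AT : A ≤ S ⊓ C[W] := le_inf h.me.le (h.me.le_J.trans (le_centralizer_iff.1 OZ_cent))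
  have cB : ⁅B, Q⁆ ≤ Q ⊓ C[W] := by
    rw [← map_cj_eq (nD hg), ← h.Qg hg, ← map_commutator, h.Qg hg]
    exact map_mono ((commutator_mono AT le_rfl).trans cT)
  have HL : S ⊓ C[W] ⊔ B ≤ L := sup_le (inf_le_left.trans h.SL) BL
  have nH : L ≤ N[S ⊓ C[W] ⊔ B] := by
    have : L ≤ (S ⊓ C[W] ⊔ B) ⊔ Q := gen.ge.trans (sup_le (h.sup.ge.trans (sup_le_sup_right
      (AT.trans le_sup_left) _)) (le_sup_right.trans le_sup_left))
    refine this.trans (sup_le le_normalizer (le_norm_of_comm_le ((comm_sup_le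
      (inf_le_left.trans (h.SL.trans nD)) (BL.trans nD) cT cB).trans
      ((inf_le_inf_right _ h.QS).trans le_sup_left)) le_rfl))
  have cH : W ⊓ B ≤ C[S ⊓ C[W] ⊔ B] := le_centralizer_iff.1
    (sup_le (inf_le_right.trans (cent_anti inf_le_left)) c1)
  refine ⟨_, HL, nH, le_antisymm (le_inf inf_le_left ?_) (le_inf inf_le_left le_sup_left), ?_,
    le_antisymm (sup_le h.SL HL) (gen.ge.trans (sup_le_sup_left le_sup_right _))⟩
  · nth_rw 2 [← e1]
    rw [cent_sup]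
    exact inf_le_inf (le_centralizer_iff.1 inf_le_right) (le_centralizer_iff.1 cH)
  · have n := le_norm_cent nH
    nth_rw 1 [← e1]
    exact comm_sup_le (inf_le_left.trans (h.ZQ.trans (h.QS.trans (h.SL.trans n)))) (inf_le_right.trans
      (BL.trans n)) ((comm_eq_bot_iff.2 inf_le_right).le.trans bot_le)
      ((commutator_mono cH le_rfl).trans (comm_le_left (h.SL.trans n)))

end RA

theorem T1.bau (h : T1 p S M L) (c : L ⊓ C[O[{p}, L]] ≤ O[{p}, L]) (he : p ∣ e)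
    (pw : ∀ s ∈ S, s ^ e = 1 → s ^ p ∈ O[{p}, L]) (h2 : ¬ L ≤ N[ΩZ[e, S]]) :
    (S ⊓ C[ΩZ[e, J[e, S]]] ≤ O[{p}, L] ∧ L ≤ N[S ⊓ C[ΩZ[e, J[e, S]]]]) ∨
      ∃ A, RA p e S M L O[{p}, L] ΩZ[p, O[{p}, L]] A := by
  by_cases k : J[e, S] ≤ O[{p}, L]
  · have q := h.um.syl.pCoreOf_le
    have l : S ⊓ C[ΩZ[e, J[e, S]]] ≤ O[{p}, L] := (inf_le_inf_left _ (cent_anti (J_eq_of_le k q ▸
      (le_OZ (elem_of_dvd he elem_OZ) OZ_le OZ_cent).trans omega_center_le))).trans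
      (h.um.cent_le (norm_OZ le_norm_piCoreOf) (h.cM c h2))
    refine .inl ⟨l, ?_⟩
    rw [le_antisymm (le_inf l inf_le_right) (inf_le_inf_right _ q), ← J_eq_of_le k q]
    exact le_norm_inf le_norm_piCoreOf (le_norm_cent (norm_OZ (le_norm_piCoreOf.trans norm_le_norm_J)))
  · simp only [J_le_iff, not_forall] at k
    obtain ⟨A, a, a0⟩ := k
    exact .inr ⟨A, h.ra c he pw h2 a a0⟩

theorem T1.bau' (h : T1 p S M L) (c : L ⊓ C[O[{p}, L]] ≤ O[{p}, L]) (he : p ∣ e)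
    (pw : ∀ s ∈ S, s ^ e = 1 → s ^ p ∈ O[{p}, L]) (h2 : ¬ L ≤ N[ΩZ[e, S]]) :
    ∃ H ≤ L, L ≤ N[H] ∧ S ⊓ H = S ⊓ C[ΩZ[e, J[e, S]]] := by
  rcases h.bau c he pw h2 with k | ⟨A, a⟩
  · exact ⟨_, inf_le_left.trans h.um.syl.le, k.2, inf_eq_right.2 inf_le_left⟩
  · obtain ⟨H, h1, h2, h3, -⟩ := a.bau
    exact ⟨H, h1, h2, h3⟩

end CfsgH2
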