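import Cfsg.Agent.H2.Pq0

/-! The extraspecial group of order 32 and 2-rank 2. -/

namespace CfsgH2
open Subgroup Function Cfsg
open scoped commutatorElement

variable {P : Type*} [Group P] [Finite P]

local instance : Fact (Nat.Prime 2) := ⟨Nat.prime_two⟩

theorem Wx.inner {p : ℕ} [Fact p.Prime] (h : Wx p (⊤ : Subgroup P)) {φ : MulAut P} (h1 : ∀ g, φ g * g⁻¹ ∈ center P)
    (h2 : ∀ g ∈ center P, φ g = g) : ∃ u, MulAut.conj u = φ := by
  obtain ⟨H, _, _, i, j, hi, -, e, -⟩ := exists_hol P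
  have w := (inj_wx hi).2 h
  have hZ : Z[(⊤ : Subgroup P).map i] = (center P).map i := by rw [inj_inf_cent hi, center_top]
  let L : Subgroup H :=
    { carrier := {x | x ∈ C[Z[(⊤ : Subgroup P).map i]] ∧ ∀ y ∈ (⊤ : Subgroup P).map i, ⁅x, y⁆ ∈ Z[(⊤ : Subgroup P).map i]}
      mul_mem' := fun {a b} ha hb => ⟨mul_mem ha.1 hb.1, fun y hy => by
        rw [commutator_mul_left', (commute_of_mem_cent ha.1 (hb.2 y hy)).eq, mul_inv_cancel_right]
        exact mul_mem (hb.2 y hy) (ha.2 y hy)⟩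
      one_mem' := ⟨one_mem _, fun y _ => by simp⟩
      inv_mem' := fun {a} ha => ⟨inv_mem ha.1, fun y hy => by
        have := commutator_mul_left' a⁻¹ a y
        rw [inv_mul_cancel, commutatorElement_one_left, (commute_of_mem_cent (inv_mem ha.1) (ha.2 y hy)).eq,
          mul_inv_cancel_right, eq_comm, mul_eq_one_iff_inv_eq] at this
        exact this ▸ inv_mem (ha.2 y hy)⟩ }
  have e1 := w.sup_cent (L := L) (fun x hx => ⟨le_cent_center hx, fun y hy => w.der (commutator_mem_commutator hx hy)⟩)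
    (commutator_le.2 fun x hx y hy => hx.2 y hy) fun x hx => hx.1
  have : j φ ∈ L := by
    refine ⟨hZ ▸ (hol_cent hi e).2 h2, ?_⟩
    rintro _ ⟨y, -, rfl⟩
    rw [commutatorElement_def, e, ← map_inv, ← map_mul, hZ]; exact mem_map_of_mem _ (h1 y)
  obtain ⟨_, ⟨u, -, rfl⟩, c, hc, e2⟩ := (mem_sup_of_norm' (inf_le_right.trans (cent_le_norm _))).1 (e1.ge this)
  refine ⟨u, MulEquiv.ext fun g => hi ?_⟩
  rw [← e φ, ← e2, mul_assoc (i u), (commute_of_mem_cent hc.2 (mem_map_of_mem i (mem_top g))).eq, MulAut.conj_apply,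
    map_mul, map_mul, map_inv]
  group

/-- reflection in an element of order four -/
theorem Wx.exists_refl (h : Wx 2 (⊤ : Subgroup P)) {u : P} (hu : u ^ 2 ≠ 1) :
    ∃ φ : MulAut P, ∀ x, (Commute x u → φ x = x) ∧ (¬ Commute x u → φ x = x * u) := by
  classical
  have k : ∀ x, ¬ Commute x u → u * x * u = x := fun x hx => by
    have := h.eq_of_two (h.der (commutator_mem_commutator (mem_top x⁻¹) (mem_top u))) (h.pow_mem (mem_top u))
      (fun e => hx (by simpa using commutatorElement_eq_one_iff_commute.1 e)) hu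
    rw [commutatorElement_def, inv_inv, mul_inv_eq_iff_eq_mul, mul_assoc, inv_mul_eq_iff_eq_mul] at this
    rw [this, mul_assoc, ← pow_succ, ← pow_succ, show 2 + 1 + 1 = 2 * 2 by rfl, pow_mul, h.zexp _ (h.pow_mem (mem_top u)),
      mul_one]
  have b : ∀ x y, ¬ Commute x u → ¬ Commute y u → Commute (x * y) u := fun x y hx hy =>
    sgn_comm.1 (by rw [h.sg.left (mem_top x) (mem_top y) (mem_top u), sgn_of_ne (mt commutatorElement_eq_one_iff_commute.1 hx),
      sgn_of_ne (mt commutatorElement_eq_one_iff_commute.1 hy)]; rfl)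
  let f : P →* P := MonoidHom.mk' (fun x => if Commute x u then x else x * u) fun x y => by
    by_cases hx : Commute x u <;> by_cases hy : Commute y u
    · simp [hx, hy, hx.mul_left hy]
    · have : ¬ Commute (x * y) u := fun e => hy (by simpa using hx.inv_left.mul_left e)
      simp [hx, hy, this, mul_assoc]
    · have : ¬ Commute (x * y) u := fun e => hx (by simpa using e.mul_left hy.inv_left)
      simp [hx, hy, this, mul_assoc, hy.eq]
    · simp only [hx, hy, b x y hx hy, if_true, if_false]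
      rw [mul_assoc, ← mul_assoc u, k y hy]
  have hf : Injective f := (injective_iff_map_eq_one f).2 fun x hx => by
    by_cases h1 : Commute x u
    · simpa [f, h1] using hx
    · simp only [f, MonoidHom.mk'_apply, h1, if_false] at hx
      exact (h1 (by rw [eq_inv_of_mul_eq_one_left hx]; exact (Commute.refl u).inv_left)).elim
  exact ⟨MulEquiv.ofBijective f (Finite.injective_iff_bijective.1 hf), fun x => ⟨fun hx => if_pos hx, fun hx => if_neg hx⟩⟩

/-- classes of non-central involutions -/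
def IX (P : Type*) [Group P] : Type _ := {c : P ⧸ center P // c ≠ 1 ∧ ∀ t : P, (t : P ⧸ center P) = c → t ^ 2 = 1}

instance : Finite (IX P) := Subtype.finite

/-- action on the central quotient -/
def autQ (φ : MulAut P) : P ⧸ center P ≃* P ⧸ center P :=
  QuotientGroup.congr _ _ φ (characteristic_iff_map_eq.1 inferInstance φ)

omit [Finite P] in
theorem autQ_mk (φ : MulAut P) (t : P) : autQ φ (t : P ⧸ center P) = (φ t : P ⧸ center P) := rfl

/-- action on the classes of involutions -/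
def autX : MulAut P →* Equiv.Perm (IX P) :=
  MonoidHom.mk' (fun φ => (autQ φ).toEquiv.subtypeEquiv fun c => by
    obtain ⟨x, rfl⟩ := QuotientGroup.mk_surjective c
    refine and_congr (by simp) ⟨fun h t e => ?_, fun h t e => ?_⟩
    · obtain ⟨t, rfl⟩ := φ.surjective t
      rw [← map_pow, h t ((autQ φ).injective e), map_one]
    · exact φ.injective (by rw [map_pow, h (φ t) (congrArg (autQ φ) e), map_one]))
    fun φ ψ => Equiv.ext fun c => Subtype.ext (by
      obtain ⟨c, hc⟩ := c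
      obtain ⟨x, rfl⟩ := QuotientGroup.mk_surjective c
      rfl)

omit [Finite P] in
theorem autX_val (φ : MulAut P) (c : IX P) : (autX φ c).1 = autQ φ c.1 := rfl

omit [Finite P] in
theorem IX.rep (c : IX P) : ∃ t : P, (t : P ⧸ center P) = c.1 ∧ t ^ 2 = 1 :=
  let ⟨t, h⟩ := QuotientGroup.mk_surjective c.1; ⟨t, h, c.2.2 t h⟩

theorem Wx.sq_of_mk (h : Wx 2 (⊤ : Subgroup P)) {s t : P} (e : (s : P ⧸ center P) = t) : t ^ 2 = s ^ 2 := by
  have := QuotientGroup.eq.1 e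
  rw [show t = s * (s⁻¹ * t) by group, (Commute.mul_pow (mem_center_iff.1 this s)), h.zexp (s⁻¹ * t) (center_top (G := P) ▸ this), mul_one]

theorem Wx.sgn_of_mk (h : Wx 2 (⊤ : Subgroup P)) {s t : P} (e : (s : P ⧸ center P) = t) (g : P) :
    sgn ⁅g, t⁆ = sgn ⁅g, s⁆ := by
  have := QuotientGroup.eq.1 e
  rw [show t = s * (s⁻¹ * t) by group, h.sg.right (mem_top _) (mem_top _) (mem_top _),
    sgn_comm.2 (mem_center_iff.1 this g), mul_one]

/-- minus type of order 32 -/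
structure Mn (P : Type*) [Group P] : Prop where
  wx : Wx 2 (⊤ : Subgroup P)
  card : Nat.card P = 32
  rk : ∀ A : Subgroup P, IsElementaryAbelian 2 A → Nat.card A ≤ 4

namespace Mn
theorem cardZ (h : Mn P) : Nat.card (center P) = 2 := center_top (G := P) ▸ h.wx.cardZ

theorem cardX (h : Mn P) : Nat.card (IX P) = 5 := by
  have h1 : Nat.card {x : P // x ^ 2 = 1} = 12 := by
    have h2 := DD_top (G := P)
    have h3 : prk 2 (⊤ : Subgroup P) ≤ 2 := prk_le_of fun E _ a => h.rk E a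
    rcases h.wx.prk_cases (n := 2) (by rw [card_top, h.card]; rfl) with ⟨-, b⟩ | ⟨a, -⟩
    · omega
    · rw [a, h.card] at h2; omega
  let Y : Set (P ⧸ center P) := {c | ∀ t : P, (t : P ⧸ center P) = c → t ^ 2 = 1}
  have h2 := Nat.card_congr (QuotientGroup.preimageMkEquivSubgroupProdSet (center P) Y)
  rw [Nat.card_prod, h.cardZ, Nat.card_congr (Equiv.subtypeEquivRight (q := fun x : P => x ^ 2 = 1) fun x =>
    ⟨fun a => a x rfl, fun a t e => (h.wx.sq_of_mk e).symm.trans a⟩), h1] at h2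
  have h3 : (1 : P ⧸ center P) ∈ Y := fun t e => (h.wx.sq_of_mk e).symm.trans (one_pow 2)
  have h4 := Set.ncard_diff_singleton_add_one h3 (Set.toFinite Y)
  have h5 : Nat.card (IX P) = (Y \ {1}).ncard :=
    Nat.card_congr (Equiv.subtypeEquivRight fun c => and_comm)
  have : Y.ncard = Nat.card Y := rfl
  omega

theorem anti (h : Mn P) {c d : IX P} (hn : c ≠ d) {s t : P} (hs : (s : P ⧸ center P) = c.1) (ht : (t : P ⧸ center P) = d.1) :
    sgn ⁅s, t⁆ = -1 := by
  refine sgn_of_ne fun e => ?_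
  have e := commutatorElement_eq_one_iff_commute.1 e
  have h1 : El 2 1 (center P) := El.of_card_prime Nat.prime_two h.cardZ
  have n1 : s ∉ center P := fun a => c.2.1 (hs ▸ (QuotientGroup.eq_one_iff s).2 a)
  have k : ∀ x : P, center P ≤ C1[x] := fun x z hz => mem_centralizer_singleton_iff.2 (mem_center_iff.1 hz x).symm
  have h2 := h1.sup_invol (c.2.2 s hs) n1 (k s)
  have h3 := h2.sup_invol (d.2.2 t ht) (fun a => by
    obtain ⟨z, hz, k, rfl⟩ := (mem_sup_zpowers (cent_le_norm _ (le_cent1_iff.1 (k s)))).1 a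
    rw [QuotientGroup.mk_mul, (QuotientGroup.eq_one_iff z).2 hz, one_mul, zpow_eq_zpow_emod' k (c.2.2 s hs)] at ht
    rcases Int.emod_two_eq_zero_or_one k with e | e
    · rw [show ((2 : ℕ) : ℤ) = 2 from rfl, e, zpow_zero] at ht; exact d.2.1 ht.symm
    · rw [show ((2 : ℕ) : ℤ) = 2 from rfl, e, zpow_one] at ht; exact hn (Subtype.ext (hs.symm.trans ht)))
    (sup_le (k t) (zpowers_le.2 (mem_centralizer_singleton_iff.2 e)))
  have := h.rk _ h3.el
  rw [h3.card] at this; omega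

theorem cent4 (h : Mn P) {a b c d : P} (h1 : sgn ⁅a, b⁆ = -1) (h2 : sgn ⁅a, c⁆ = -1) (h3 : sgn ⁅a, d⁆ = -1)
    (h4 : sgn ⁅b, c⁆ = -1) (h5 : sgn ⁅b, d⁆ = -1) (h6 : sgn ⁅c, d⁆ = -1) {g : P} (e1 : sgn ⁅g, a⁆ = 1) (e2 : sgn ⁅g, b⁆ = 1)
    (e3 : sgn ⁅g, c⁆ = 1) (e4 : sgn ⁅g, d⁆ = 1) : g ∈ center P := by
  have m : ∀ x y : P, x ∈ C1[y] ↔ sgn ⁅x, y⁆ = 1 := fun x y => by rw [mem_centralizer_singleton_iff, sgn_comm]
  have l : ∀ x y z : P, sgn ⁅x * y, z⁆ = sgn ⁅x, z⁆ * sgn ⁅y, z⁆ := fun x y z => h.wx.sg.left (mem_top _) (mem_top _) (mem_top _)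
  have s : ∀ x y : P, sgn ⁅x, y⁆ = sgn ⁅y, x⁆ := fun x y => h.wx.sg.symm (mem_top _) (mem_top _)
  have o : ∀ x : P, sgn ⁅x, x⁆ = 1 := fun x => sgn_comm.2 rfl
  have pg : ∀ K : Subgroup P, IsPGroup 2 K := fun K => h.wx.pg.to_le le_top
  have k : ∀ (K : Subgroup P) (y x : P), x ∈ K → x ∉ C1[y] → Nat.card (K ⊓ C1[y] : Subgroup P) * 2 ≤ Nat.card K :=
    fun K y x a b => Nat.le_of_dvd (card_pos' _) (mul_card_dvd_of_lt (pg K) (lt_of_le_of_ne inf_le_left fun e => b (e.ge a).2))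
  have k1 := k ⊤ a b (mem_top _) (by rw [m, s, h1]; decide)
  have k2 := k (⊤ ⊓ C1[a]) b a ⟨mem_top _, self_mem_cent1 a⟩ (by rw [m, h1]; decide)
  have k3 := k (⊤ ⊓ C1[a] ⊓ C1[b]) c (a * b * d) ⟨⟨mem_top _, (m _ _).2 (by rw [l, l, o, s b, s d, h1, h3]; rfl)⟩,
    (m _ _).2 (by rw [l, l, o, s d, h1, h5]; rfl)⟩ (by rw [m, l, l, s d, h2, h4, h6]; decide)
  have k4 := k (⊤ ⊓ C1[a] ⊓ C1[b] ⊓ C1[c]) d (a * b * c) ⟨⟨⟨mem_top _, (m _ _).2 (by rw [l, l, o, s b, s c, h1, h2]; rfl)⟩,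
    (m _ _).2 (by rw [l, l, o, s c, h1, h4]; rfl)⟩, (m _ _).2 (by rw [l, l, o, h2, h4]; rfl)⟩
    (by rw [m, l, l, h3, h5, h6]; decide)
  rw [card_top, h.card] at k1
  have kz : ∀ x : P, center P ≤ C1[x] := fun x z hz => mem_centralizer_singleton_iff.2 (mem_center_iff.1 hz x).symm
  exact (eq_of_le_of_card_le (le_inf (le_inf (le_inf (le_inf le_top (kz a)) (kz b)) (kz c)) (kz d))
    (by rw [h.cardZ]; omega)).ge ⟨⟨⟨⟨mem_top _, (m _ _).2 e1⟩, (m _ _).2 e2⟩, (m _ _).2 e3⟩, (m _ _).2 e4⟩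

theorem fixZ (h : Mn P) (φ : MulAut P) : ∀ g ∈ center P, φ g = g := fun g hg => by
  by_cases h1 : g = 1
  · rw [h1, map_one]
  · exact h.wx.eq_of_two (center_top (G := P) ▸ (characteristic_iff_map_le.1 inferInstance φ (mem_map_of_mem _ hg)))
      (center_top (G := P) ▸ hg) (by simpa using h1) h1

omit [Finite P] in
theorem sgn_aut (φ : MulAut P) (x y : P) : sgn ⁅φ x, φ y⁆ = sgn ⁅x, y⁆ := by
  rw [← map_commutatorElement]
  by_cases h : ⁅x, y⁆ = 1
  · rw [h, map_one]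
  · rw [sgn_of_ne h, sgn_of_ne (mt (map_eq_one_iff φ φ.injective).1 h)]

theorem ker (h : Mn P) : (autX : MulAut P →* _).ker = (MulAut.conj : P →* MulAut P).range := by
  refine le_antisymm (fun φ hφ => ?_) ?_
  · refine h.wx.inner (fun g => ?_) (h.fixZ φ)
    let e := Finite.equivFinOfCardEq h.cardX
    choose t ht _ using fun i => IX.rep (e.symm i)
    have a : ∀ i j, i ≠ j → sgn ⁅t i, t j⁆ = -1 := fun i j hij => h.anti (e.symm.injective.ne hij) (ht i) (ht j)
    have b : ∀ i, sgn ⁅φ g * g⁻¹, t i⁆ = 1 := fun i => by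
      have : (φ (t i) : P ⧸ center P) = t i := by
        rw [← autQ_mk, ht, ← autX_val, MonoidHom.mem_ker.1 hφ]; rfl
      rw [h.wx.sg.left (mem_top _) (mem_top _) (mem_top _), h.wx.sgn_of_mk this, sgn_aut,
        ← h.wx.sg.left (mem_top _) (mem_top _) (mem_top _), mul_inv_cancel, commutatorElement_one_left, sgn_eq_one]
    exact h.cent4 (a 0 1 (by decide)) (a 0 2 (by decide)) (a 0 3 (by decide)) (a 1 2 (by decide)) (a 1 3 (by decide))
      (a 2 3 (by decide)) (b 0) (b 1) (b 2) (b 3)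
  · rintro _ ⟨u, rfl⟩
    refine Equiv.ext fun c => Subtype.ext ?_
    obtain ⟨t, ht, -⟩ := c.rep
    rw [autX_val, Equiv.Perm.one_apply, ← ht, autQ_mk, eq_comm, QuotientGroup.eq, ← center_top]
    simpa [commutatorElement_def, mul_assoc] using h.wx.der (commutator_mem_commutator (mem_top t⁻¹) (mem_top u))

theorem surj (h : Mn P) : Surjective (autX : MulAut P →* _) := by
  classical
  rw [← MonoidHom.range_eq_top, eq_top_iff, ← Equiv.Perm.closure_isSwap, closure_le]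
  rintro _ ⟨c, d, hn, rfl⟩
  obtain ⟨s, hs, s2⟩ := c.rep
  obtain ⟨t, ht, t2⟩ := d.rep
  have a := h.anti hn hs ht
  have r : ∀ x y z : P, sgn ⁅x, y * z⁆ = sgn ⁅x, y⁆ * sgn ⁅x, z⁆ := fun x y z => h.wx.sg.right (mem_top _) (mem_top _) (mem_top _)
  have o : ∀ x : P, sgn ⁅x, x⁆ = 1 := fun x => sgn_comm.2 rfl
  obtain ⟨φ, hφ⟩ := h.wx.exists_refl (u := s * t) (fun e => by
    have := h.wx.sg.mul_sq (mem_top s) (mem_top t)
    rw [e, s2, t2, a, sgn_eq_one.2 rfl] at this; omega)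
  refine ⟨φ, Equiv.ext fun x => Subtype.ext ?_⟩
  rw [autX_val]
  by_cases h1 : x = c
  · rw [h1, Equiv.swap_apply_left, ← hs, ← ht, autQ_mk, (hφ s).2 fun e => by
      have := sgn_comm.2 e; rw [r, o, a] at this; omega, ← mul_assoc, ← sq, s2, one_mul]
  by_cases h2 : x = d
  · rw [h2, Equiv.swap_apply_right, ← hs, ← ht, autQ_mk, (hφ t).2 fun e => by
      have := sgn_comm.2 e; rw [r, o, h.anti hn.symm ht hs] at this; omega, eq_comm, QuotientGroup.eq, ← center_top]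
    have := h.wx.der (commutator_mem_commutator (mem_top s⁻¹) (mem_top t))
    rwa [commutatorElement_def, inv_inv, inv_eq_of_mul_eq_one_right ((sq t).symm.trans t2), mul_assoc, mul_assoc] at this
  obtain ⟨u, hu, -⟩ := x.rep
  rw [Equiv.swap_apply_of_ne_of_ne h1 h2, ← hu, autQ_mk, (hφ u).1 (sgn_comm.1 (by
    rw [r, h.anti h1 hu hs, h.anti h2 hu ht]; rfl))]

theorem card_fix (h : Mn P) {φ : MulAut P} (h1 : φ * φ = 1) {c d : IX P} (n1 : c ≠ autX φ c) (n2 : c ≠ d) (n3 : autX φ c ≠ d)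
    (n4 : d ≠ autX φ d) {F : Subgroup P} (hF : ∀ g ∈ F, φ g = g) : Nat.card F ≤ 4 := by
  obtain ⟨s, hs, s2⟩ := c.rep
  obtain ⟨t, ht, t2⟩ := d.rep
  have hs' : (φ s : P ⧸ center P) = (autX φ c).1 := by rw [autX_val, ← hs, autQ_mk]
  have ht' : (φ t : P ⧸ center P) = (autX φ d).1 := by rw [autX_val, ← ht, autQ_mk]
  have i : ∀ x, φ (φ x) = x := fun x => DFunLike.congr_fun h1 x
  have l : ∀ x y z : P, sgn ⁅x * y, z⁆ = sgn ⁅x, z⁆ * sgn ⁅y, z⁆ := fun x y z => h.wx.sg.left (mem_top _) (mem_top _) (mem_top _)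
  have sy : ∀ x y : P, sgn ⁅x, y⁆ = sgn ⁅y, x⁆ := fun x y => h.wx.sg.symm (mem_top _) (mem_top _)
  have o : ∀ x : P, sgn ⁅x, x⁆ = 1 := fun x => sgn_comm.2 rfl
  have a1 := h.anti n1 hs hs'
  have a2 := h.anti n2 hs ht
  have a4 := h.anti n3 hs' ht
  have a6 := h.anti n4 ht ht'
  have a3 : sgn ⁅s, φ t⁆ = -1 := by rw [← sgn_aut φ, i, a4]
  have a5 : sgn ⁅φ s, φ t⁆ = -1 := by rw [sgn_aut, a2]
  have f : ∀ g ∈ F, ∀ x, sgn ⁅g, φ x⁆ = sgn ⁅g, x⁆ := fun g hg x => by rw [← sgn_aut φ g x, hF g hg]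
  have k : F ⊓ C1[s] ≤ center P := fun g hg => by
    have b1 := sgn_comm.2 (mem_centralizer_singleton_iff.1 hg.2)
    rcases h.wx.sg.pm (h.wx.sg.der g (mem_top _) t (mem_top _)) with b2 | b2
    · exact h.cent4 a1 a2 a3 a4 a5 a6 b1 (by rw [f g hg.1, b1]) b2 (by rw [f g hg.1, b2])
    · have := h.fixZ φ _ (h.cent4 (g := g * (t * φ t)) a1 a2 a3 a4 a5 a6 (by rw [l, l, b1, sy t, sy (φ t), a2, a3]; rfl)
        (by rw [l, l, f g hg.1, b1, sy t, sy (φ t), a4, a5]; rfl) (by rw [l, l, b2, o, sy (φ t), a6]; rfl)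
        (by rw [l, l, f g hg.1, b2, o, a6]; rfl))
      rw [map_mul, map_mul, hF g hg.1, i, mul_right_inj] at this
      rw [sgn_comm.2 this.symm] at a6; omega
  have h2 := relIndex_cent1_le (H := F) (K := Z[(⊤ : Subgroup P)]) (a := s) fun x _ => h.wx.sg.der x (mem_top _) s (mem_top _)
  have h3 := card_le_of_le k
  rw [← card_inf_mul_relIndex C1[s] F, inf_comm]
  rw [h.wx.cardZ] at h2
  rw [h.cardZ] at h3
  exact Nat.mul_le_mul h3 h2
end Mn

end CfsgH2
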