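import Cfsg.Agent.H2.Pq4

/-! Nilpotent minimal covers. -/

namespace CfsgH2
open Subgroup Function Cfsg
open scoped commutatorElement

variable {G : Type*} [Group G] [Finite G] {P Q A B M : Subgroup G} {p : ℕ} [hp : Fact p.Prime] {𝓐 : Finset (Subgroup G)}

structure NCov (𝓐 : Finset (Subgroup G)) : Prop where
  z : center G = ⊥
  cov : ∀ g : G, ∃ A ∈ 𝓐, g ∈ A
  nil : ∀ A ∈ 𝓐, Nil[A]
  sup : ∀ A ∈ 𝓐, ∀ B ∈ 𝓐, A ≠ B → A ⊔ B = ⊤

omit [Finite G] in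
theorem ncov_of (hZ : center G = ⊥) (h : ((∀ A ∈ 𝓐, A ≠ ⊤) ∧ (∀ g : G, ∃ A ∈ 𝓐, g ∈ A)) ∧
    (∀ 𝓑 : Finset (Subgroup G), (∀ A ∈ 𝓑, A ≠ ⊤) ∧ (∀ g : G, ∃ A ∈ 𝓑, g ∈ A) → 𝓐.card ≤ 𝓑.card) ∧ (∀ A ∈ 𝓐, Nil[A])) :
    NCov 𝓐 := by
  classical
  refine ⟨hZ, h.1.2, h.2.2, fun A a B b n => ?_⟩
  by_contra c
  have := h.2.1 (insert (A ⊔ B) ((𝓐.erase A).erase B)) ⟨fun X hX => ?_, fun g => ?_⟩
  · have e1 := Finset.card_insert_le (A ⊔ B) ((𝓐.erase A).erase B)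
    have e2 := Finset.card_erase_add_one (Finset.mem_erase.2 ⟨n.symm, b⟩)
    have e3 := Finset.card_erase_add_one a
    omega
  · rcases Finset.mem_insert.1 hX with rfl | hX
    · exact c
    · exact h.1.1 X (Finset.mem_of_mem_erase (Finset.mem_of_mem_erase hX))
  · obtain ⟨X, x1, x2⟩ := h.1.2 g
    by_cases e : X = A ∨ X = B
    · exact ⟨_, Finset.mem_insert_self _ _, e.elim (fun e => mem_sup_left (e ▸ x2)) fun e => mem_sup_right (e ▸ x2)⟩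
    · push Not at e
      exact ⟨X, Finset.mem_insert_of_mem (Finset.mem_erase.2 ⟨e.2, Finset.mem_erase.2 ⟨e.1, x1⟩⟩), x2⟩

theorem nil_le_cent_of_ab (hP : Syl p P ⊤) (ab : Ab[P]) (hA : Nil[A]) (hQ : PG[p, Q]) (l : Q ≤ A) : A ≤ C[Q] := by
  obtain ⟨g, -, e⟩ := hP.exists_le_conj (isPGroup_piCoreOf (p := p) (M := A)) le_top
  have l1 := nil_le_core hA l (isPGroup_iff_piN.1 hQ)
  rw [← nil_sup_core (π := {p}) hA]
  exact sup_le (le_cent_of_comm (isMulComm_of_le ((inj_isMulComm (cj_injective g)).2 ab) e) l1)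
    (le_centralizer_iff.1 (nil_le_cent' hA l piCoreOf_le (isPGroup_iff_piN.1 hQ) piN_piCoreOf))

theorem NCov.uniq (h : NCov 𝓐) (hP : Syl p P ⊤) (ab : Ab[P]) (a : A ∈ 𝓐) (b : B ∈ 𝓐) {w : G} (hw : PG[p, zpowers w])
    (w1 : w ≠ 1) (h1 : w ∈ A) (h2 : w ∈ B) : A = B := by
  by_contra c
  have := sup_le (nil_le_cent_of_ab hP ab (h.nil A a) hw (zpowers_le.2 h1)) (nil_le_cent_of_ab hP ab (h.nil B b) hw (zpowers_le.2 h2))
  rw [h.sup A a B b c, le_centralizer_iff, cent_top, h.z] at this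
  exact w1 (this (mem_zpowers w))

theorem NCov.cent (h : NCov 𝓐) (hP : Syl p P ⊤) (h0 : P ≠ ⊥) (hc : Cyc[P] ∨ (Ab[P] ∧ ¬ IsElementaryAbelian p P)) :
    C[P] ∈ 𝓐 := by
  have ab : Ab[P] := hc.elim isMulComm_of_cyclic And.left
  have u := fun A B a b w (hw : w ∈ P) => h.uniq (A := A) (B := B) hP ab a b (hP.pg.to_le (zpowers_le.2 hw))
  obtain ⟨A, a, l⟩ : ∃ A ∈ 𝓐, P ≤ A := by
    rcases hc with c | ⟨-, c⟩
    · obtain ⟨x, rfl⟩ := isCyclic_iff_zpowers.1 c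
      obtain ⟨A, a, b⟩ := h.cov x
      exact ⟨A, a, zpowers_le.2 b⟩
    obtain ⟨x, hx, x1⟩ : ∃ x ∈ P, x ^ p ≠ 1 := by
      by_contra d; push Not at d; exact c ⟨ab, d⟩
    obtain ⟨A, a, b⟩ := h.cov x
    have k : ∀ v ∈ P, v ^ p = 1 → v ∈ A := fun v hv e => by
      obtain ⟨B, c, d⟩ := h.cov (x * v)
      have e1 : (x * v) ^ p = x ^ p := by rw [Commute.mul_pow (comm_of_isMulComm ab hx hv), e, mul_one]
      exact (mul_mem_cancel_left b).1 (u A B a c _ (pow_mem hx p) x1 (pow_mem b p) (e1 ▸ pow_mem d p) ▸ d)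
    refine ⟨A, a, fun v hv => ?_⟩
    by_cases v1 : v = 1
    · exact v1 ▸ one_mem A
    obtain ⟨B, c, d⟩ := h.cov v
    obtain ⟨w, hw, e⟩ := exists_prime_order_mem hp.out (dvd_card_of_pgroup (hP.pg.to_le (zpowers_le.2 hv)) (zpowers_ne_bot.2 v1))
    have w1 := zpowers_le.2 hv hw
    exact u A B a c w w1 (fun f => hp.out.ne_one (by rw [← e, f, orderOf_one])) (k w w1 (e ▸ pow_orderOf_eq_one w))
      (zpowers_le.2 d hw) ▸ d
  refine (le_antisymm (nil_le_cent_of_ab hP ab (h.nil A a) hP.pg l) ?_) ▸ a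
  rw [← (hP.mono (le_cent_self ab) le_top).piRes_sup]
  refine sup_le (piRes_le_iff'.2 fun c hc o => ?_) l
  obtain ⟨w, hw, w1⟩ := exists_ne_one h0
  obtain ⟨B, b, d⟩ := h.cov (w * c)
  obtain ⟨k, hk⟩ := pgroup_mem_order hP.pg hw
  have co : (orderOf w).Coprime (orderOf c) := hk ▸ ((piN_compl_singleton' hp.out).1 o).symm.pow_left k
  have cm : Commute w c := mem_cent_iff.1 hc w hw
  have e : w ∈ B := mem_of_pow_mem_coprime (by simpa [cm.mul_pow] using pow_mem d (orderOf c)) co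
  exact u A B a b w hw w1 (l hw) e ▸ (mul_mem_cancel_left e).1 d

theorem NCov.le_norm (h : NCov 𝓐) (hP : Syl p P ⊤) (h0 : P ≠ ⊥) (hc : Cyc[P] ∨ (Ab[P] ∧ ¬ IsElementaryAbelian p P)) :
    (∀ g, C[P].map (cj g) ∈ 𝓐 ∧ (C[P].map (cj g) = C[P] → g ∈ N[P])) ∧ ∀ M, M ≠ ⊤ → C[P] ≤ M → M ≤ N[P] := by
  have ab : Ab[P] := hc.elim isMulComm_of_cyclic And.left
  have a := h.cent hP h0 hc
  have k : ∀ g, C[P].map (cj g) ∈ 𝓐 ∧ (C[P].map (cj g) = C[P] → g ∈ N[P]) := fun g => ⟨by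
    rw [← centralizer_map_cj]
    exact h.cent (hP.map_cj_mem trivial) (mt map_cj_eq_bot.1 h0) (hc.imp (inj_isCyclic (cj_injective g)).2 fun c =>
      ⟨(inj_isMulComm (cj_injective g)).2 c.1, fun e => c.2 (map_cj_inv_cj g P ▸ elem_map _ e)⟩), fun e =>
    (hP.mono (le_cent_self ab) le_top).norm_le_of_nil (h.nil _ a) (map_cj_eq_iff.1 e)⟩
  refine ⟨k, fun M m1 m2 g hg => (k g).2 ?_⟩
  by_contra c
  exact m1 (top_le_iff.1 (h.sup _ (k g).1 _ a c ▸ sup_le (map_cj_le_of_mem m2 hg) m2))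

end CfsgH2
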