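import Cfsg.Agent.H2.S4H
import Cfsg.Agent.L0.PCon

/-! `S₄`-free groups of characteristic two with Sylow `2`-subgroups of class at most two. -/

set_option autoImplicit false
namespace CfsgH2
open Subgroup Function Cfsg CfsgL0 CfsgBG
open CfsgH1 (nc cj_le_nc le_nc nc_le_iff nc_le nc_le_self le_norm_nc nc_mono)
open scoped commutatorElement

variable {G : Type*} [Group G] [Finite G] {A B D E H J K L M P Q R S T U V W X Y Z : Subgroup G}

theorem coprime_cent_omega {p : ℕ} [hp : Fact p.Prime] (ab : Ab[V]) (pV : PG[p, V]) (n : A ≤ N[V])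
    (c : o[A].Coprime o[V]) (h : A ≤ C[omegaOne p V]) : A ≤ C[V] := by
  rw [le_centralizer_iff, ← comm_eq_bot_iff]
  by_contra f
  refine omegaOne_ne_bot hp.out (dvd_card_of_pgroup (pV.to_le (comm_le_left n)) f) (le_bot_iff.1 ?_)
  rw [← coprime_comm_inf_cent ab n c]
  exact le_inf omegaOne_le ((omegaOne_mono (comm_le_left n)).trans (le_centralizer_iff.1 h))

theorem pg_of_odd (h : ∀ x ∈ L, (orderOf x).Coprime 2 → x = 1) : PG[2, L] :=
  isPGroup_iff_piN.2 fun q hq d => by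
    by_contra f
    obtain ⟨x, hx, o⟩ := exists_prime_order_mem hq d
    rw [h x hx (o ▸ (Nat.coprime_primes hq Nat.prime_two).2 f), orderOf_one] at o
    exact hq.one_lt.ne o

theorem le_sup_of_relIndex (n : U ≤ N[Y]) (l : H ≤ U) (i : Y.relIndex U ≤ Y.relIndex H) :
    U ≤ H ⊔ Y := by
  refine le_sup_left.trans (eq_of_le_of_card_le (sup_le_sup_right l Y) ?_).ge
  rw [← card_mul_relIndex (le_sup_right : Y ≤ U ⊔ Y), ← card_mul_relIndex (le_sup_right : Y ≤ H ⊔ Y),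
    relIndex_sup_of_norm n, relIndex_sup_of_norm (l.trans n)]
  exact Nat.mul_le_mul_left _ i

structure C2 (M : Subgroup G) : Prop where
  con : Con 2 M
  cl : ∀ S, Syl 2 S M → ⁅S, S⁆ ≤ C[S]

namespace C2
variable (h : C2 M)
include h

theorem f0 (l : R ≤ M) (p : PG[2, R]) : ⁅O2[M], R⁆ ≤ Z[O2[M]] ⊓ C[R] := by
  obtain ⟨S, s, l2⟩ := exists_syl_ge p l
  have := (commutator_mono s.pCoreOf_le l2).trans (h.cl S s)
  exact le_inf (le_inf (comm_le_left (l.trans le_norm_piCoreOf)) (this.trans (cent_anti s.pCoreOf_le)))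
    (this.trans (cent_anti l2))
theorem f1 (l : R ≤ M) (p : PG[2, R]) : ⁅ΩZ[O2[M]], R⁆ ≤ ΩZ[O2[M]] ⊓ C[R] :=
  le_inf (comm_le_left (l.trans (le_normalizer.trans norm_le_norm_OZ)))
    (((commutator_mono OZ_le le_rfl).trans (h.f0 l p)).trans inf_le_right)
theorem st (l : R ≤ M) (p : PG[2, R]) : R ≤ stab O2[M] Z[O2[M]] :=
  le_stab' inf_le_left ((h.f0 l p).trans inf_le_left)
theorem f2 (l : L ≤ M) (s1 : L ≤ stab O2[M] Z[O2[M]]) (s2 : L ≤ stab ΩZ[O2[M]] Y) (c : L ≤ C[Y]) :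
    PG[2, L] := pg_of_odd fun x hx o => by
  have n := le_norm_piCoreOf (π := {2}) (l hx)
  have p : PG[2, O2[M]] := isPGroup_piCoreOf
  have h1 := mem_cent_of_stab o (p.to_le OZ_le) (norm_le_norm_OZ (le_normalizer (l hx))) (s2 hx) (c hx)
  have h2 := coprime_cent_omega (isMulComm_cent_inf _) (p.to_le inf_le_left) (zpowers_le.2
    (mem_norm_inf n (norm_le_norm_cent _ n))) (cop_zpowers o (p.to_le inf_le_left)) (zpowers_le.2 h1)
  exact eq_one_of_coprime_order p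
    (h.con ⟨l hx, mem_cent_of_stab o p n (s1 hx) (zpowers_le.1 h2)⟩) o

theorem key (a : ME 2 M A) (b : ME 2 M B) (e : Y = ΩZ[O2[M]] ⊓ C[A] ⊓ C[B])
    (mx : ∀ A B, ME 2 M A → ME 2 M B → ¬ PG[2, A ⊔ B] → o[ΩZ[O2[M]] ⊓ C[A] ⊓ C[B]] ≤ o[Y])
    {w : G} (hw : w ∈ ΩZ[O2[M]] ⊓ C[B]) (n : w ∉ Y) : ∃ H ≤ ⁅ΩZ[O2[M]], A⁆,
      (∀ u ∈ H, ∃ x ∈ A, ⁅x, w⁆ = u) ∧ Y.relIndex ⁅ΩZ[O2[M]], B⁆ ≤ Y.relIndex H := by
  set V := ΩZ[O2[M]]
  have nV : M ≤ N[V] := le_normalizer.trans norm_le_norm_OZ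
  have m : ∀ x ∈ A, ⁅x, w⁆ ∈ ⁅V, A⁆ := fun x hx =>
    commutator_comm V A ▸ commutator_mem_commutator hx hw.1
  have u1 := h.f1 a.le (elem_pgroup a.el)
  have u2 := h.f1 b.le (elem_pgroup b.el)
  let φ : A →* G := MonoidHom.mk' (fun x => ⁅(x : G), w⁆) fun x y => by
    rw [coe_mul, commutator_mul_left', mem_cent_iff.1 (u1 (m _ y.2)).2 _ x.2, mul_inv_cancel_right,
      comm_of_isMulComm (elem_OZ (X := O2[M])).1 (u1 (m _ y.2)).1 (u1 (m _ x.2)).1]
  refine ⟨φ.range, by rintro _ ⟨x, rfl⟩; exact m _ x.2, by rintro _ ⟨x, rfl⟩; exact ⟨x, x.2, rfl⟩, ?_⟩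
  have k : Y.comap φ ≤ C[⁅V, B⁆].subgroupOf A := fun x hx => by
    have x2 : (x : G) * x = 1 := by rw [← pow_two, a.exp _ x.2]
    by_cases c : PG[2, B ⊔ B.map (cj (x : G))]
    · have nx : (x : G) ∈ N[B ⊔ B.map (cj (x : G))] := by
        rw [← map_cj_eq_iff, Subgroup.map_sup, map_cj_cj, x2, map_cj_one, sup_comm]
      have := h.f1 (R := zpowers (x : G) ⊔ (B ⊔ B.map (cj (x : G)))) (sup_le (zpowers_le.2 (a.le x.2))
        (sup_le b.le (map_cj_le_of_mem b.le (a.le x.2))))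
        (isPGroup_sup ((elem_pgroup a.el).to_le (zpowers_le.2 x.2)) c (.inl (zpowers_le.2 nx)))
      exact le_centralizer_iff.1 (((commutator_mono le_rfl (le_sup_left.trans le_sup_right)).trans
        this).trans inf_le_right) (mem_sup_left (mem_zpowers _))
    · have cx : (x : G) ∈ C[Y] := le_centralizer_iff.1 (e.le.trans (inf_le_left.trans inf_le_right)) x.2
      have l : Y ≤ V ⊓ C[B] ⊓ C[B.map (cj (x : G))] := le_inf (e.le.trans (inf_le_inf_right _ inf_le_left))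
        ((map_cj_eq (cent_le_norm _ cx)).ge.trans (map_le_cent_map _ (e.le.trans inf_le_right)))
      have e2 := eq_of_le_of_card_le l (mx _ _ b (b.map_cj_norm (le_normalizer (a.le x.2))) c)
      have : (x : G) * w * (x : G)⁻¹ ∈ Y := e2.ge ⟨by
        simpa [φ, commutatorElement_def] using mul_mem ((l.trans inf_le_left) hx) hw,
        mem_cent_map (cj (x : G)) hw.2⟩
      exact absurd (by simpa [mul_assoc] using conj_mem_of_norm' (cent_le_norm _ cx) this) n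
  rw [← index_comap]
  refine le_trans ?_ (Nat.le_of_dvd (index_pos _) (index_dvd_of_le k))
  refine le_trans ?_ (me_off a ((u2.trans inf_le_left).trans (OZ_le.trans piCoreOf_le))
    (elem_of_le elem_OZ (u2.trans inf_le_left)))
  rw [← inf_relIndex_left _ C[A]]
  exact relIndex_le_of_le_left (e ▸ le_inf (inf_le_inf_right _ (u2.trans inf_le_left))
    (inf_le_left.trans (u2.trans inf_le_right))) (relIndex_pos _ _).ne'

theorem main (a : ME 2 M A) (b : ME 2 M B) (e : Y = ΩZ[O2[M]] ⊓ C[A] ⊓ C[B])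
    (mx : ∀ A B, ME 2 M A → ME 2 M B → ¬ PG[2, A ⊔ B] → o[ΩZ[O2[M]] ⊓ C[A] ⊓ C[B]] ≤ o[Y])
    (n : ¬ ⁅ΩZ[O2[M]], B⁆ ≤ Y) : I4 M := by
  have u1 := h.f1 a.le (elem_pgroup a.el)
  have u2 := h.f1 b.le (elem_pgroup b.el)
  obtain ⟨w, hw, nw⟩ := SetLike.not_le_iff_exists.1 n
  obtain ⟨H1, l1, r1, i1⟩ := h.key a b e mx (u2 hw) nw
  obtain ⟨z, hz, nz⟩ := SetLike.not_le_iff_exists.1 (fun f : H1 ≤ Y => n (relIndex_eq_one.1
    (le_antisymm (i1.trans (relIndex_eq_one.2 f).le) (relIndex_pos _ _))))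
  obtain ⟨H2, l2, r2, i2⟩ := h.key b a (e.trans (inf_right_comm _ _ _)) mx (u1 (l1 hz)) nz
  set V := ΩZ[O2[M]]
  have eV : IsElementaryAbelian 2 V := elem_OZ
  have YV : Y ≤ V := e.le.trans (inf_le_left.trans inf_le_left)
  have nX : ∀ {X}, X ≤ V → V ≤ N[X] := fun l => le_norm_of_le_cent (le_cent_of_comm eV.1 l)
  obtain ⟨u, hu, y, hy, e1⟩ := (mem_sup_of_norm (((l2.trans u2).trans inf_le_left).trans (nX YV))).1
    (le_sup_of_relIndex ((u2.trans inf_le_left).trans (nX YV)) l2 (i1.trans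
      ((relIndex_le_of_le_right l1 (relIndex_pos _ _).ne').trans i2)) hw)
  obtain ⟨s, hs, rfl⟩ := r1 z hz
  obtain ⟨t, ht, rfl⟩ := r2 u hu
  set z := ⁅s, w⁆ with hz'
  have wV := (u2 hw).1
  have zV := (u1 (l1 hz)).1
  have uV := (u2 (l2 hu)).1
  have cs : A ≤ C[Y] := le_centralizer_iff.1 (e.le.trans (inf_le_left.trans inf_le_right))
  have ct : B ≤ C[Y] := le_centralizer_iff.1 (e.le.trans inf_le_right)
  have l3 : Y ⊔ zpowers w ≤ V := sup_le YV (zpowers_le.2 wV)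
  have l4 : Y ⊔ zpowers w ⊔ zpowers z ≤ V := sup_le l3 (zpowers_le.2 zV)
  set X := Y ⊔ zpowers w ⊔ zpowers z
  have YX : Y ≤ X := le_sup_left.trans le_sup_left
  have wX : w ∈ X := mem_sup_left (mem_sup_right (mem_zpowers w))
  have zX : z ∈ X := mem_sup_right (mem_zpowers z)
  have nm : ∀ g ∈ C[Y], g * w * g⁻¹ ∈ X → g * z * g⁻¹ ∈ X → g ∈ N[X] := fun g c h1 h2 =>
    mem_norm_of_map_le (by
      rw [Subgroup.map_sup, Subgroup.map_sup, map_cj_eq (cent_le_norm _ c), MonoidHom.map_zpowers,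
        MonoidHom.map_zpowers]
      exact sup_le (sup_le YX (zpowers_le.2 h1)) (zpowers_le.2 h2))
  have s1 : s * w * s⁻¹ = z * w := by rw [hz', commutatorElement_def, inv_mul_cancel_right]
  have s2 : s * z * s⁻¹ = z := by rw [mem_cent_iff.1 (u1 (l1 hz)).2 s hs, mul_inv_cancel_right]
  have t1 : t * w * t⁻¹ = w := by rw [mem_cent_iff.1 (u2 hw).2 t ht, mul_inv_cancel_right]
  have t2 : t * z * t⁻¹ = ⁅t, z⁆ * z := by rw [commutatorElement_def t z, inv_mul_cancel_right]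
  have uX : ⁅t, z⁆ ∈ X := by
    have := mul_mem wX (inv_mem (YX hy))
    rwa [← e1, mul_inv_cancel_right] at this
  have ns := nm s (cs hs) (s1 ▸ mul_mem zX wX) (s2.symm ▸ zX)
  have nt := nm t (ct ht) (t1.symm ▸ wX) (t2 ▸ mul_mem uX zX)
  refine (i4_sec (L := M ⊓ (N[X] ⊓ N[Y])) YX ?_ (l4.trans (nX YV)) (inf_le_right.trans inf_le_left)
    (inf_le_right.trans inf_le_right) fun f => nw ?_).mono
    (sup_le (l4.trans (OZ_le.trans piCoreOf_le)) inf_le_left)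
  · rw [← relIndex_mul_relIndex _ _ _ (le_sup_left : Y ≤ Y ⊔ zpowers w) le_sup_left,
      relIndex_sup_zpowers_prime Nat.prime_two (nX YV wV) (by rw [eV.2 _ wV]; exact one_mem _) nw,
      relIndex_sup_zpowers_prime Nat.prime_two (nX l3 zV) (by rw [eV.2 _ zV]; exact one_mem _)
        fun f => nz (e ▸ ⟨u1 (l1 hz), sup_le (e.le.trans inf_le_right) (zpowers_le.2 (u2 hw).2) f⟩)]
  · have := f (commutator_mem_commutator (commutator_mem_commutator
      (⟨a.le hs, ns, cent_le_norm _ (cs hs)⟩ : s ∈ M ⊓ (N[X] ⊓ N[Y]))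
      (⟨b.le ht, nt, cent_le_norm _ (ct ht)⟩ : t ∈ M ⊓ (N[X] ⊓ N[Y])))
      (conj_mem_of_norm (mul_mem nt ns) wX))
    rw [show ⁅⁅s, t⁆, t * s * w * (t * s)⁻¹⁆ = s * (t * w * t⁻¹) * s⁻¹ * (t * (s * w * s⁻¹) * t⁻¹)⁻¹ by
      simp only [commutatorElement_def]; group, t1, s1,
      show t * (z * w) * t⁻¹ = t * z * t⁻¹ * (t * w * t⁻¹) by group, t1, t2,
      show z * w * (⁅t, z⁆ * z * w)⁻¹ = ⁅t, z⁆⁻¹ by group, inv_mem_iff] at this
    exact e1 ▸ mul_mem this hy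

theorem me_le (f : ¬ I4 M) (a : ME 2 M A) : A ≤ O2[M] := by
  by_contra c
  have nV : M ≤ N[ΩZ[O2[M]]] := le_normalizer.trans norm_le_norm_OZ
  obtain ⟨g, hg, h1⟩ : ∃ g ∈ M, ¬ PG[2, A ⊔ A.map (cj g)] := by
    by_contra! k
    have l := nc_le_self a.le
    refine c (le_nc.trans (le_pCoreOf l le_norm_nc (h.f2 (Y := ΩZ[O2[M]] ⊓ C[nc M A]) l
      (nc_le (h.st a.le (elem_pgroup a.el)) (le_norm_stab le_norm_piCoreOf
        (le_norm_inf le_norm_piCoreOf (le_norm_cent le_norm_piCoreOf))))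
      (nc_le (le_stab' inf_le_left (le_inf (comm_le_left (a.le.trans nV)) (le_centralizer_iff.1
        (nc_le_iff.2 fun g hg => le_centralizer_iff.1 ?_))))
        (le_norm_stab nV (le_norm_inf nV (le_norm_cent le_norm_nc))))
      (le_centralizer_iff.1 inf_le_right))))
    exact ((commutator_mono le_rfl le_sup_left).trans (h.f1 (sup_le a.le (map_cj_le_of_mem a.le hg))
      (k g hg))).trans (inf_le_right.trans (cent_anti le_sup_right))
  obtain ⟨Y, ⟨A, B, a, b, n, e⟩, mx⟩ := exists_max_card (fun Y : Subgroup G => ∃ A B, ME 2 M A ∧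
    ME 2 M B ∧ ¬ PG[2, A ⊔ B] ∧ Y = ΩZ[O2[M]] ⊓ C[A] ⊓ C[B])
    ⟨_, _, a, a.map_cj_norm (le_normalizer hg), h1, rfl⟩
  have mx' := fun A B a b n => mx _ ⟨A, B, a, b, n, rfl⟩
  have l : Y ≤ ΩZ[O2[M]] := e.le.trans (inf_le_left.trans inf_le_left)
  refine n (h.f2 (Y := Y) (sup_le a.le b.le) (sup_le (h.st a.le (elem_pgroup a.el))
    (h.st b.le (elem_pgroup b.el))) (sup_le (le_stab' l ?_) (le_stab' l ?_)) ?_)
  · exact not_not.1 (mt (h.main b a (e.trans (inf_right_comm _ _ _)) mx') f)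
  · exact not_not.1 (mt (h.main a b e mx') f)
  · rw [le_centralizer_iff, cent_sup, e, inf_assoc]; exact inf_le_right

theorem norm_J (f : ¬ I4 M) (s : Syl 2 S M) : M ≤ N[J[2, S]] := by
  rw [← J_eq_of_le (J_le_iff.2 fun A a => h.me_le f (a.syl s)) s.pCoreOf_le]
  exact le_norm_piCoreOf.trans norm_le_norm_J
end C2

theorem c2_of (c : Con 2 M) (s : Syl 2 S M) (h : ⁅⁅S, S⁆, S⁆ = ⊥) : C2 M := ⟨c, fun T t => by
  obtain ⟨g, -, rfl⟩ := s.conj t
  rw [← map_commutator]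
  exact map_le_cent_map _ (comm_eq_bot_iff.1 h)⟩

theorem norm_J_sup (c : IsPConstrained 2 G) (f : ¬ Involves (Equiv.Perm (Fin 4)) G) (s : Syl 2 S ⊤)
    (h : ⁅⁅S, S⁆, S⁆ = ⊥) : N[J[2, S]] ⊔ pPrimeCore 2 G = ⊤ := by
  let π := QuotientGroup.mk' (pPrimeCore 2 G)
  have s' := s.map π
  rw [map_mk_top] at s'
  have := (c2_of (pcon_iff.1 c) s' (by
    rw [← map_commutator, ← map_commutator, h, Subgroup.map_bot])).norm_J
    (fun e => f (i4_top.2 (I4.of_map (f := π) (by rwa [map_mk_top])))) s'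
  have e := iw_map (wJ_char (e := 2) dvd_rfl) s.pg π (inf_ker_eq_bot π nd_ker_mk s.pg)
  rw [iw_J, iw_J] at e
  rw [← e, ← map_norm_of_coprime (QuotientGroup.mk'_surjective _) nd_ker_mk (s.pg.to_le J_le),
    ← map_mk_top (pPrimeCore 2 G), map_mk_le_map_mk] at this
  exact top_le_iff.1 this

end CfsgH2
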