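import Cfsg.Agent.H2.S4F

/-! Solvable `S₄`-free groups acting on abelian `2`-groups. -/

set_option autoImplicit false
namespace CfsgH2
open Subgroup Function Cfsg CfsgL0 CfsgBG
open CfsgH1 (nc cj_le_nc le_nc nc_le_iff nc_le nc_le_self le_norm_nc nc_mono)
open scoped commutatorElement

variable {G : Type*} [Group G] [Finite G] {A B D E H J K L M P Q R S T U V W X Y Z : Subgroup G}

theorem core_nc {p : ℕ} [Fact p.Prime] (t : Syl p T M) (c : Z ≤ C[T]) :
    O[{p}, qt (M ⊓ C[nc M Z]) M] = ⊥ := by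
  have n : M ≤ N[M ⊓ C[nc M Z]] := le_norm_inf le_normalizer (le_norm_cent le_norm_nc)
  rw [← qc_eq_self]
  set D := qc (M ⊓ C[nc M Z]) O[{p}, qt (M ⊓ C[nc M Z]) M]
  have l : D ≤ M := qc_le n inf_le_left piCoreOf_le
  have nD : M ≤ N[D] := le_norm_qc n le_norm_piCoreOf
  have e := (t.inf_norm l (t.le.trans nD)).sup_eq_of_index (K := M ⊓ C[nc M Z]) le_qc
    (by rw [relIndex_qc]; exact piN_piCoreOf)
  exact le_antisymm (le_inf l (le_centralizer_iff.1 (nc_le (le_centralizer_iff.1 (e.ge.trans (sup_le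
    (inf_le_right.trans (cent_anti le_nc)) (inf_le_left.trans (le_centralizer_iff.1 c)))))
    (le_norm_cent nD)))) le_qc

/-- `V` is a reduced abelian normal `2`-subgroup of the solvable `S₄`-free group `M`. -/
structure RV (M V : Subgroup G) : Prop where
  sol : Sol[M]
  ab : Ab[V]
  pg : PG[2, V]
  le : V ≤ M
  nm : M ≤ N[V]
  core : O2[qt (M ⊓ C[V]) M] = ⊥
  free : ¬ I4 M

theorem four_le {n k : ℕ} (e : n = 2 ^ k) (h : ¬ n ≤ 2) : 4 ≤ n := by
  rcases k with _ | _ | k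
  · omega
  · omega
  · rw [e, pow_succ, pow_succ]; have := Nat.two_pow_pos k; omega

theorem RV.sq_le (h : RV M V) (A : Subgroup G) : A ≤ M → PG[2, A] → (∀ a ∈ A, a * a ∈ C[V]) →
    C[V].relIndex A ^ 2 ≤ C[A].relIndex V := by
  induction A using WellFoundedLT.induction with
  | _ A ih =>
  intro lA pA e
  by_cases c : A ≤ C[V]
  · rw [relIndex_eq_one.2 c]; exact relIndex_pos _ _
  obtain ⟨B, a, x, d⟩ := exists_dh h.sol (le_norm_inf le_normalizer (le_norm_cent h.nm)) inf_le_left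
    h.core lA (fun a ha => ⟨lA (mul_mem ha ha), e a ha⟩) fun f => c (f.trans inf_le_right)
  have lt : B < A := d.le.lt_of_ne fun f => by have := d.idx; rw [f, relIndex_self] at this; omega
  have i := ih B lt (d.le.trans lA) (pA.to_le d.le) fun a ha => e a (d.le ha)
  have nx := h.nm d.xM
  have zx : zpowers x ≤ N[V] := zpowers_le.2 nx
  have cp := cop_zpowers d.odd h.pg
  have sc : ⁅B, zpowers x⁆ ≤ C[V] := comm_le_of_le_stab (zpowers_le.2 ⟨norm_le_norm_cent _ nx,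
    fun b hb => (d.cm b hb).2⟩)
  have nB : B ≤ N[V] := (d.le.trans lA).trans h.nm
  have nW : x ∈ N[V ⊓ C[B]] := mem_norm_of_conj fun v hv => ⟨conj_mem_of_norm nx hv.1,
    mem_cent_iff.2 fun b hb => by
      have e1 := mem_cent_iff.1 (d.cm b hb).2 _ (conj_mem_of_norm (nB hb) (conj_mem_of_norm nx hv.1))
      have e2 := mem_cent_iff.1 hv.2 b hb
      have e3 := mem_cent_iff.1 (d.cm b hb).2 _ (conj_mem_of_norm nx hv.1)
      calc _ = ⁅b, x⁆ * (x * (b * v * b⁻¹) * x⁻¹) * ⁅b, x⁆⁻¹ * b := by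
            simp only [commutatorElement_def]; group
        _ = _ := by rw [e2, mul_inv_cancel_right, ← e3, mul_inv_cancel_right]⟩
  have h1 : x ∉ C[V ⊓ C[B]] := fun f => by
    have n1 : B ≤ N[⁅V, zpowers x⁆] := by
      have : ⁅V, zpowers x⁆ = ⁅V, zpowers x ⊔ (M ⊓ C[V])⁆ := by
        rw [comm_sup_right_ab h.ab zx (inf_le_left.trans h.nm),
          comm_eq_bot_iff.2 (le_centralizer_iff.1 inf_le_right), sup_bot_eq]
      rw [this]
      refine le_norm_commutator nB (le_norm_of_comm_le (K := M ⊓ C[V]) ?_ le_sup_right)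
      have n : M ≤ N[M ⊓ C[V]] := le_norm_inf le_normalizer (le_norm_cent h.nm)
      refine comm_sup_le ((zpowers_le.2 d.xM).trans n) le_normalizer (le_inf (comm_le_norm
        (zpowers_le.2 d.xM) (d.le.trans lA)) ?_) (comm_le_left ((d.le.trans lA).trans n))
      rwa [commutator_comm]
    refine inf_cent_ne_bot' (pA.to_le d.le) (h.pg.to_le (comm_le_left zx)) n1 (fun g => d.nx
      ⟨d.xM, zpowers_le.1 (le_centralizer_iff.1 (comm_eq_bot_iff.1 g))⟩) (le_bot_iff.1 ?_)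
    rw [← coprime_comm_inf_cent h.ab zx cp]
    exact le_inf inf_le_left ((inf_le_inf_right _ (comm_le_left zx)).trans
      (le_centralizer_iff.1 (zpowers_le.2 f)))
  have nA : A ≤ N[B] := le_norm_of_relIndex_two d.le d.idx
  have h2 := mt (i4_dih (isMulComm_of_le h.ab inf_le_left) (h.pg.to_le inf_le_left)
    (inf_le_left.trans h.le) ⟨lA d.aA, mem_norm_inf (h.nm (lA d.aA)) (le_norm_cent nA d.aA)⟩
    ⟨d.xM, nW⟩ d.odd (cent_anti inf_le_left d.inv.2) h1) h.free
  obtain ⟨k, e1⟩ := exists_relIndex_eq_pow (h.pg.to_le (inf_le_left : V ⊓ C[B] ≤ V)) C1[a]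
  have h3 := four_le e1 h2
  have h4 : C[A].relIndex V = C1[a].relIndex (V ⊓ C[B]) * C[B].relIndex V := by
    rw [← d.sup, cent_sup, cent_zpowers, ← inf_relIndex_left V, ← inf_assoc, ← inf_relIndex_left V C[B],
      ← inf_relIndex_left _ C1[a], relIndex_mul_relIndex _ _ _ inf_le_left inf_le_left]
  have h5 : C[V].relIndex A = C[V].relIndex B * 2 := by
    have : A ⊓ C[V] = B ⊓ C[V] := le_antisymm (le_inf ((le_inf inf_le_left (inf_le_inf_right _ lA)).trans
      d.ge) inf_le_right) (inf_le_inf_right _ d.le)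
    rw [← d.idx, ← inf_relIndex_left A, this, ← inf_relIndex_left B,
      relIndex_mul_relIndex _ _ _ inf_le_left d.le]
  rw [h4, h5, mul_pow, mul_comm]
  exact Nat.mul_le_mul h3 i

def SQ (M V : Subgroup G) : Prop := ∀ A ≤ M, PG[2, A] → (∀ a ∈ A, a * a ∈ C[V]) →
  C[V].relIndex A ^ 2 ≤ C[A].relIndex V

omit [Finite G] in
theorem SQ.map_cj (h : SQ M V) (g : G) : SQ (M.map (cj g)) (V.map (cj g)) := fun A l pA e => by
  have := h (A.map (cj g⁻¹)) (le_map_cj_iff.1 l) (pA.map _) (by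
    rintro _ ⟨a, ha, rfl⟩
    have := e a ha
    rw [centralizer_map_cj, mem_map_cj] at this
    simpa [cj_apply, mul_assoc] using this)
  rwa [← relIndex_map_cj g, ← relIndex_map_cj g C[A.map (cj g⁻¹)], ← centralizer_map_cj,
    ← centralizer_map_cj, map_cj_cj_inv] at this

omit [Finite G] in
theorem SQ.el (h : SQ M V) (l : A ≤ M) (e : IsElementaryAbelian 2 A) :
    C[V].relIndex A ^ 2 ≤ C[A].relIndex V :=
  h A l (elem_pgroup e) fun a ha => by rw [← pow_two, e.2 a ha]; exact one_mem _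

theorem me_aux {e : ℕ} (a : ME e P A) (eB : IsElementaryAbelian e B) :
    IsElementaryAbelian e (A ⊓ C[B] ⊔ B : Subgroup G) ∧
      o[A ⊓ C[B]] * C[A].relIndex B ≤ o[A ⊓ C[B] ⊔ B] := by
  refine ⟨elem_sup (elem_of_le a.el inf_le_left) eB inf_le_right, ?_⟩
  have e1 := card_sup_mul_card_inf (H := A ⊓ C[B]) (K := B) (le_norm_of_le_cent inf_le_right)
  have e2 : o[A ⊓ C[B] ⊓ B] ≤ o[C[A] ⊓ B] := card_le_of_le (inf_le_inf_right _
    (inf_le_left.trans (le_cent_self a.ab)))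
  rw [← card_inf_mul_relIndex C[A] B, mul_comm o[C[A] ⊓ B], ← mul_assoc] at e1
  exact Nat.le_of_mul_le_mul_right (e1.ge.trans (Nat.mul_le_mul_left _ e2)) (card_pos' _)

theorem me_off {e : ℕ} (a : ME e P A) (l : B ≤ P) (eB : IsElementaryAbelian e B) :
    C[A].relIndex B ≤ C[B].relIndex A := by
  obtain ⟨h1, h2⟩ := me_aux a eB
  have := h2.trans (a.max (sup_le (inf_le_left.trans a.le) l) h1)
  rw [← card_inf_mul_relIndex C[B] A, inf_comm C[B]] at this
  exact Nat.le_of_mul_le_mul_left this (card_pos' _)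

theorem me_repl {e : ℕ} (a : ME e P A) (l : B ≤ P) (eB : IsElementaryAbelian e B)
    (h : C[B].relIndex A ≤ C[A].relIndex B) : ME e P (A ⊓ C[B] ⊔ B) := by
  obtain ⟨h1, h2⟩ := me_aux a eB
  refine a.of_card (sup_le (inf_le_left.trans a.le) l) h1 (le_trans ?_ h2)
  rw [← card_inf_mul_relIndex C[B] A, inf_comm C[B]]
  exact Nat.mul_le_mul_left _ h

theorem SQ.me (h : SQ M V) (a : ME 2 P A) (l : P ≤ M) (lV : V ≤ P) (e : IsElementaryAbelian 2 V) :
    A ≤ C[V] := by
  have := (h.el (a.le.trans l) a.el).trans (me_off a lV e)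
  have := relIndex_pos C[V] A
  exact relIndex_eq_one.1 (by nlinarith)

theorem i4_pair' {a x : G} (pX : PG[2, X]) (l : Y ≤ X) (c : Y.relIndex X ≤ 4) (n0 : X ≤ N[Y])
    (lX : X ≤ H) (ha : a ∈ H ⊓ (N[X] ⊓ N[Y])) (hx : x ∈ H ⊓ (N[X] ⊓ N[Y]))
    (o : (orderOf x).Coprime 2) (i : a * x * a⁻¹ * x ∈ stab X Y) (h : x ∉ stab X Y) : I4 H := by
  refine i4_pair l ?_ n0 lX ha hx o i h
  have c4 : Y.relIndex X ≠ 2 := fun e => h (zpowers_le.1 (le_stab' l (comm_le_of_relIndex_two e l n0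
    (zpowers_le.2 hx.2.2) (zpowers_le.2 hx.2.1))))
  have c5 := dvd_relIndex_of_not_le pX (K := Y) fun e => h (zpowers_le.1 (le_stab' l
    ((comm_le_left (zpowers_le.2 hx.2.1)).trans e)))
  have := relIndex_pos Y X
  omega

omit [Finite G] in
theorem comm_invol {a : G} (e : IsElementaryAbelian 2 V) (n : a ∈ N[V]) (h : a * a = 1) :
    ⁅V, zpowers a⁆ ≤ V ⊓ C1[a] := by
  refine comm_le_of_le_stab (zpowers_le.2 ⟨mem_norm_inf n (le_normalizer (self_mem_cent1 a)),
    fun v hv => ?_⟩)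
  have h1 := conj_mem_of_norm n (inv_mem hv)
  refine ⟨by simpa [commutatorElement_def, mul_assoc] using mul_mem hv h1,
    mem_centralizer_singleton_iff.2 ?_⟩
  have h2 := comm_of_isMulComm e.1 hv h1
  have h3 : v⁻¹ = v := inv_eq_of_mul_eq_one_right (by rw [← pow_two, e.2 v hv])
  rw [h3, inv_eq_of_mul_eq_one_right h] at h2
  rw [commutatorElement_def, h3, inv_eq_of_mul_eq_one_right h]
  calc _ = v * (a * v * a) * a := by group
    _ = a * v * a * v * a := by rw [h2]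
    _ = _ := by group

namespace DH
variable {a x : G} (d : DH Q P A B a x)
include d

theorem mem (h : a * a = 1) (h1 : a ∈ K) (h2 : x * a * x⁻¹ ∈ K) : x ∈ K := by
  refine mem_of_sq_mem d.odd ?_
  have := mul_mem h2 (inv_mem h1)
  rwa [show x * a * x⁻¹ * a⁻¹ = x * (a * x * a⁻¹)⁻¹ by group, d.inv' h, inv_inv] at this
omit [Finite G] in
theorem sw (h : a * a = 1) : x * a * x = a := by
  rw [mul_inv_eq_iff_eq_mul.1 (d.inv' h) |> fun e => (by rw [mul_assoc, e]; group : x * a * x = a)]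
theorem not_mem (pK : PG[2, K]) : x ∉ K := fun h =>
  d.nx (eq_one_of_coprime_order pK h d.odd ▸ one_mem _)
theorem norm (n : P ≤ N[Q]) : x ∈ N[B ⊔ Q] := mem_norm_of_map_le (by
  rw [Subgroup.map_sup, map_cj_eq (n d.xM)]
  refine sup_le (map_cj_le_iff'.2 fun b hb => ?_) le_sup_right
  rw [show x * b * x⁻¹ = ⁅b, x⁆⁻¹ * b by group]
  exact mul_mem (mem_sup_right (inv_mem (d.cm b hb))) (mem_sup_left hb))
omit [Finite G] in
theorem inf_le (n : B ≤ N[Q]) : A ⊓ (B ⊔ Q) ≤ B := by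
  rw [inf_comm, sup_inf_of_norm (.inl n) d.le, inf_comm Q]
  exact sup_le le_rfl d.ge
theorem inf_le' (h1 : B ≤ K) (h2 : a ∉ K) : A ⊓ K ≤ B :=
  ((eq_or_eq_of_relIndex_prime (d.idx ▸ Nat.prime_two) (le_inf d.le h1) inf_le_left).resolve_right
    fun e => h2 (e.ge d.aA).2).le
omit [Finite G] in
theorem rel : (B ⊓ K).relIndex A = K.relIndex B * 2 := by
  rw [← d.idx, ← inf_relIndex_left B, relIndex_mul_relIndex _ _ _ inf_le_left d.le]
end DH

end CfsgH2
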