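import Cfsg.Agent.H2.S4G

/-! Primitive pairs of solvable `S₄`-free groups of characteristic two. -/

set_option autoImplicit false
namespace CfsgH2
open Subgroup Function Cfsg CfsgL0 CfsgBG
open CfsgH1 (nc cj_le_nc le_nc nc_le_iff nc_le nc_le_self le_norm_nc nc_mono)
open scoped commutatorElement

variable {G : Type*} [Group G] [Finite G] {A B D E H J K L M P Q R S T U V W X Y Z : Subgroup G}

theorem le_two_of_sq {m : ℕ} (h : m ^ 2 ≤ m * 2) (h0 : 0 < m) : m = 1 ∨ m = 2 := by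
  have : m ≤ 2 := by nlinarith
  omega

structure ML (M T : Subgroup G) : Prop where
  sol : Sol[M]
  con : Con 2 M
  free : ¬ I4 M
  prim : ∀ A : Subgroup G, A ≠ ⊥ → PG[2, A] → M ≤ N[A] → N[A] ≤ M
  syl : Syl 2 T M
  ne : T ≠ ⊥

namespace ML
variable (h : ML M T)
include h

theorem V_le : nc M ΩZ[T] ≤ ΩZ[O2[M]] :=
  have c : ΩZ[T] ≤ C[O2[M]] := OZ_le_cent.trans (cent_anti h.syl.pCoreOf_le)
  nc_le (le_OZ elem_OZ ((le_inf (OZ_le.trans h.syl.le) c).trans h.con) c)
    (le_normalizer.trans norm_le_norm_OZ)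
theorem V_el : IsElementaryAbelian 2 (nc M ΩZ[T]) := elem_of_le elem_OZ h.V_le
theorem V_leT : nc M ΩZ[T] ≤ T := (h.V_le.trans OZ_le).trans h.syl.pCoreOf_le
theorem V_ne : nc M ΩZ[T] ≠ ⊥ := fun e =>
  omega_center_ne_bot dvd_rfl h.syl.pg h.ne (le_bot_iff.1 (e ▸ le_nc))
theorem V_norm : N[nc M ΩZ[T]] ≤ M := h.prim _ h.V_ne (elem_pgroup h.V_el) le_norm_nc
theorem sq : SQ M (nc M ΩZ[T]) := RV.sq_le ⟨h.sol, h.V_el.1, elem_pgroup h.V_el,
  h.V_leT.trans h.syl.le, le_norm_nc, core_nc h.syl OZ_le_cent, h.free⟩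
theorem dh (l : A ≤ M) (e : IsElementaryAbelian 2 A) (n : ¬ A ≤ O2[M]) :
    ∃ B a x, DH O2[M] M A B a x ∧ a * a = 1 := by
  obtain ⟨B, a, x, d⟩ := exists_dh h.sol le_norm_piCoreOf piCoreOf_le piCoreOf_qt_self l
    (fun a ha => by rw [← pow_two, e.2 a ha]; exact one_mem _) n
  exact ⟨B, a, x, d, by rw [← pow_two, e.2 a d.aA]⟩
end ML

theorem ml_e (h : ML P T) (lT : T ≤ M) (lV : V ≤ T) (el : IsElementaryAbelian 2 V) (nV : M ≤ N[V])
    (sq : SQ M V) : V ≤ O2[P] := by
  by_contra c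
  have VP := lV.trans h.syl.le
  obtain ⟨B, a, x, d, a2⟩ := h.dh VP el c
  have QT : O2[P] ≤ T := h.syl.pCoreOf_le
  have nQ : P ≤ N[O2[P]] := le_norm_piCoreOf
  have RT : B ⊔ O2[P] ≤ T := sup_le (d.le.trans lV) QT
  have WR : B.map (cj x) ≤ B ⊔ O2[P] := map_cj_le_of_norm le_sup_left (d.norm nQ)
  have VR : V ⊓ (B ⊔ O2[P]) ≤ B := d.inf_le ((d.le.trans VP).trans nQ)
  have cB : V ≤ C[B] := le_cent_of_comm el.1 d.le
  have g1 : V.map (cj (x * a)) = V.map (cj x) := by rw [← map_cj_cj, map_cj_of_mem d.aA]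
  have g2 : B.map (cj (x * a)) = B.map (cj x) := by
    rw [← map_cj_cj, map_cj_eq (cent_le_norm _ (cB d.aA))]
  have g3 : (V.map (cj x)).map (cj (x * a)) = V := by rw [map_cj_cj, d.sw a2, map_cj_of_mem d.aA]
  have g4 : (B.map (cj x)).map (cj (x * a)) = B := by
    rw [map_cj_cj, d.sw a2, map_cj_eq (cent_le_norm _ (cB d.aA))]
  have nW : B.map (cj x) ≤ N[V] := (WR.trans (RT.trans lT)).trans nV
  have nB : B ≤ N[V.map (cj x)] := by
    have := map_le_norm_map (cj (x * a)) nW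
    rwa [g4, g1] at this
  have k := sq.el (WR.trans (RT.trans lT)) (elem_map _ (elem_of_le el d.le))
  rw [← relIndex_map_cj (x * a), ← centralizer_map_cj, g1, g4] at k
  have k2 := k.trans (relIndex_le_of_le_left (H := B ⊓ C[V.map (cj x)])
    (inf_le_right.trans (cent_anti (map_mono d.le))) (relIndex_pos _ _).ne')
  rw [d.rel] at k2
  have Yx : x ∈ C[B ⊓ C[V.map (cj x)]] := d.mem a2 (cent_anti inf_le_left (cB d.aA))
    (le_centralizer_iff.1 inf_le_right (conj_mem_map_cj d.aA))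
  have ne1 : ¬ B ≤ C[V.map (cj x)] := fun e => by
    rw [inf_eq_left.2 e] at Yx
    have nx : x ∈ N[O2[P] ⊓ B] := mem_norm_inf (nQ d.xM) (cent_le_norm _ Yx)
    have s1 : a ∈ stab O2[P] (O2[P] ⊓ B) := le_stab' inf_le_left (le_inf (comm_le_left (VP.trans nQ))
      ((le_inf (comm_le_right ((QT.trans lT).trans nV)) (comm_le_left (VP.trans nQ))).trans d.ge)) d.aA
    have s2 := d.mem a2 s1 (conj_mem_of_norm (le_norm_stab (zpowers_le.2 (nQ d.xM)) (zpowers_le.2 nx)
      (mem_zpowers x)) s1)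
    exact d.nx (h.con ⟨d.xM, mem_cent_of_stab d.odd isPGroup_piCoreOf (nQ d.xM) s2
      (cent_anti inf_le_right Yx)⟩)
  have m2 := (le_two_of_sq k2 (relIndex_pos _ _)).resolve_left fun e => ne1 (relIndex_eq_one.1 e)
  have cW : B.map (cj x) ≤ C[V.map (cj x)] :=
    (map_mono d.le).trans (le_cent_self (elem_map _ el).1)
  set Y := B ⊓ C[V.map (cj x)]
  have YW : Y ≤ B.map (cj x) := (map_cj_eq (cent_le_norm _ Yx)).ge.trans (map_mono inf_le_left)
  have cm : ⁅B.map (cj x), B⁆ ≤ B := (le_inf ((commutator_mono le_rfl d.le).trans (comm_le_right nW))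
    (comm_le_norm WR le_sup_left)).trans VR
  have n1 : B.map (cj x) ≤ N[B] := le_norm_of_comm_le (by rwa [commutator_comm]) le_rfl
  have cY : B.map (cj x) ⊔ B ≤ C[Y] := sup_le ((map_mono d.le).trans (le_centralizer_iff.1
    inf_le_right)) (d.le.trans (cB.trans (cent_anti inf_le_left)))
  have na : a ∈ N[B.map (cj x) ⊔ B] := zpowers_le.1 (le_norm_of_comm_le (K := B) (comm_sup_le n1
    le_normalizer ((le_inf ((commutator_mono le_rfl (zpowers_le.2 d.aA)).trans (comm_le_right nW))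
      ((commutator_mono WR le_rfl).trans (comm_le_left (le_norm_sup ((zpowers_le.2 d.aA).trans
        (le_norm_of_le_cent cB)) ((zpowers_le.2 (VP d.aA)).trans nQ))))).trans VR)
    (comm_le_left ((zpowers_le.2 d.aA).trans (le_norm_of_le_cent cB)))) le_sup_right)
  have ng : x * a ∈ N[B.map (cj x) ⊔ B] := by
    rw [← map_cj_eq_iff, Subgroup.map_sup, g4, g2, sup_comm]
  refine h.free (i4_pair (X := B.map (cj x) ⊔ B) (Y := Y) (inf_le_left.trans le_sup_right) ?_
    (le_norm_of_le_cent cY) (sup_le (WR.trans (RT.trans h.syl.le)) (d.le.trans VP))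
    ⟨VP d.aA, na, cent_le_norm _ (cent_anti inf_le_left (cB d.aA))⟩
    ⟨d.xM, by simpa using mul_mem ng (inv_mem na), cent_le_norm _ Yx⟩ d.odd
    (by rw [d.inv' a2, inv_mul_cancel]; exact one_mem _) fun e => ne1 ?_)
  · rw [← relIndex_mul_relIndex _ _ _ inf_le_left le_sup_right, inf_relIndex_left, m2,
      relIndex_sup_of_norm n1, ← inf_relIndex_left,
      show B.map (cj x) ⊓ B = Y from le_antisymm (le_inf inf_le_right (inf_le_left.trans cW))
        (le_inf YW inf_le_left), ← map_cj_eq (cent_le_norm _ Yx), relIndex_map_cj, inf_relIndex_left, m2]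
  · have : x ∈ N[B] := zpowers_le.1 (le_norm_of_comm_le (((commutator_mono le_sup_right le_rfl).trans
      (comm_le_of_le_stab (zpowers_le.2 e))).trans inf_le_left) le_rfl)
    exact (map_cj_eq this).ge.trans cW

omit [Finite G] in
theorem elem_nc {p : ℕ} (e : IsElementaryAbelian p V) (c : ∀ g ∈ L, V.map (cj g) ≤ C[V]) :
    IsElementaryAbelian p (nc L V) := by
  have c1 : V ≤ C[nc L V] := le_centralizer_iff.1 (nc_le_iff.2 c)
  have ab : Ab[nc L V] := le_centralizer_iff_isMulCommutative.1 (nc_le c1 (le_norm_cent le_norm_nc))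
  exact elem_of_le (elem_omegaOne ab) (nc_le_iff.2 fun g hg =>
    elem_le_omegaOne (elem_map _ e) (cj_le_nc hg))

theorem ml_f (h : ML P T) (lT : T ≤ M) (lV : V ≤ O2[P]) (el : IsElementaryAbelian 2 V)
    (nV : M ≤ N[V]) (Vn : N[V] ≤ M) (sq : SQ M V) (l0 : O2[P] ≤ S) (lS : S ≤ T)
    (nS : M ⊓ P ≤ N[S]) (mA : ME 2 S A) : A ≤ O2[P] := by
  by_contra c
  have AP : A ≤ P := (mA.le.trans lS).trans h.syl.le
  have AM : A ≤ M := (mA.le.trans lS).trans lT
  obtain ⟨B, a, x, d, a2⟩ := h.dh AP mA.el c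
  have nQ : P ≤ N[O2[P]] := le_norm_piCoreOf
  have RS : B ⊔ O2[P] ≤ S := sup_le (d.le.trans mA.le) l0
  have RM : B ⊔ O2[P] ≤ M := (RS.trans lS).trans lT
  have cB : A ≤ C[B] := le_cent_of_comm mA.ab d.le
  have zx : zpowers x ≤ P := zpowers_le.2 d.xM
  set L := A ⊔ zpowers x with hL
  have LP : L ≤ P := sup_le AP zx
  have AL : A ≤ L := le_sup_left
  have xL : x ∈ L := mem_sup_right (mem_zpowers x)
  have nR : L ≤ N[B ⊔ O2[P]] := sup_le (le_norm_sup (le_norm_of_le_cent cB) (AP.trans nQ))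
    (zpowers_le.2 (d.norm nQ))
  have xM : x ∉ M := fun e => d.not_mem (h.syl.pg.to_le lS) (d.mem a2 (mA.le d.aA)
    (conj_mem_of_norm (nS ⟨e, d.xM⟩) (mA.le d.aA)))
  have F1 : ∀ {E}, ME 2 S E → E ≤ C[V] := fun m => sq.me m (lS.trans lT) (lV.trans l0) el
  have lQ : ∀ g ∈ P, V.map (cj g) ≤ O2[P] := fun g hg => map_cj_le_of_norm lV (nQ hg)
  have F2 : ∀ g ∈ L, V.map (cj g) ≤ C[V] := fun g hg => by
    have k1 := sq.el ((lQ g (LP hg)).trans (le_sup_right.trans RM)) (elem_map _ el)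
    have k2 := (sq.map_cj g).el (lV.trans ((map_cj_eq (nQ (LP hg))).ge.trans
      (map_mono (le_sup_right.trans RM)))) el
    have := relIndex_pos C[V] (V.map (cj g))
    refine relIndex_eq_one.1 ?_
    generalize C[V].relIndex (V.map (cj g)) = u at *
    generalize C[V.map (cj g)].relIndex V = w at *
    have := (Nat.pow_le_pow_left k1 2).trans k2
    by_contra f
    have : u ^ 1 < (u ^ 2) ^ 2 := by rw [← pow_mul]; exact Nat.pow_lt_pow_right (by omega) (by omega)
    rw [pow_one] at this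
    omega
  have eU := elem_nc el F2
  set U := nc L V
  have UQ : U ≤ O2[P] := nc_le lV (LP.trans nQ)
  have nU : L ≤ N[U] := le_norm_nc
  set W := V.map (cj x) with hW
  have WU : W ≤ U := cj_le_nc xL
  have VU : V ≤ U := le_nc
  have eW : IsElementaryAbelian 2 W := elem_map _ el
  have RM' : B ⊔ O2[P] ≤ M.map (cj x) := (map_cj_eq (nR xL)).ge.trans (map_mono RM)
  have nW : B ≤ N[W] := (le_sup_left.trans RM').trans (map_le_norm_map _ nV)
  have aW : a ∉ N[W] := fun e => xM (by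
    rw [normalizer_map_cj, mem_map_cj] at e
    refine mem_of_sq_mem d.odd ?_
    have := mul_mem (Vn e) (inv_mem (AM d.aA))
    rwa [show x⁻¹ * a * x * a⁻¹ = x⁻¹ * (a * x * a⁻¹) by group, d.inv' a2, ← mul_inv_rev,
      inv_mem_iff] at this)
  have D0 : A ⊓ C[W] = B ⊓ C[W] := le_antisymm (le_inf ((inf_le_inf_left _ (cent_le_norm _)).trans
    (d.inf_le' nW aW)) inf_le_right) (inf_le_inf_right _ d.le)
  have i1 : C[W].relIndex A = C[W].relIndex B * 2 := by rw [← inf_relIndex_left A, D0, d.rel]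
  have i2 : C[W].relIndex B ^ 2 ≤ C[B].relIndex W :=
    (sq.map_cj x).el (le_sup_left.trans RM') (elem_of_le mA.el d.le)
  have i3 : C[B].relIndex W ≤ C[A].relIndex W := relIndex_le_of_le_left (cent_anti d.le) (relIndex_pos _ _).ne'
  have WS : W ≤ S := (WU.trans UQ).trans l0
  have i4 := me_off mA WS eW
  have i5 : C[A].relIndex W ≠ 1 := fun e =>
    aW (cent_le_norm _ (le_centralizer_iff.1 (relIndex_eq_one.1 e) d.aA))
  have i6 := relIndex_pos C[A] W
  rw [i1] at i4
  have m2 := le_two_of_sq ((i2.trans i3).trans i4) (relIndex_pos _ _)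
  have i7 : C[W].relIndex A ≤ C[A].relIndex W := by
    rw [i1]
    rcases m2 with e | e <;> rw [e] at i2 ⊢ <;> omega
  have mE := me_repl mA WS eW i7
  have ER : A ⊓ C[W] ⊔ W ≤ B ⊔ O2[P] :=
    sup_le_sup (D0.le.trans inf_le_left) (WU.trans UQ)
  have cE : U ≤ C[A ⊓ C[W] ⊔ W] := nc_le_iff.2 fun g hg => by
    have := F1 (mE.of_card ((map_cj_le_of_norm ER (nR (inv_mem hg))).trans RS) (elem_map _ mE.el)
      (card_map_cj _ _).ge)
    rw [← le_map_cj_iff, ← centralizer_map_cj] at this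
    exact le_centralizer_iff.1 this
  have UE : U ≤ A ⊓ C[W] ⊔ W := mE.le_of_cent (UQ.trans l0) eU cE
  have j1 : C[A].relIndex U ≤ C[A].relIndex W := by
    refine (relIndex_le_of_le_right UE (relIndex_pos _ _).ne').trans (le_of_eq ?_)
    have l : A ⊓ C[W] ≤ (A ⊓ C[W] ⊔ W) ⊓ C[A] :=
      le_inf le_sup_left (inf_le_left.trans (le_cent_self mA.ab))
    have := relIndex_sup_of_norm (H := W) (K := (A ⊓ C[W] ⊔ W) ⊓ C[A]) (le_norm_of_le_cent
      (le_sup_right.trans (le_cent_of_comm mE.ab inf_le_left)))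
    rw [show W ⊔ (A ⊓ C[W] ⊔ W) ⊓ C[A] = A ⊓ C[W] ⊔ W from le_antisymm (sup_le le_sup_right
      inf_le_left) (sup_le (l.trans le_sup_right) le_sup_left), inf_relIndex_left] at this
    rw [this, ← inf_relIndex_left W, ← inf_assoc, inf_eq_left.2 (le_sup_right : W ≤ A ⊓ C[W] ⊔ W),
      inf_relIndex_left]
  have xU : x ∉ C[U] := fun e => xM (Vn (cent_le_norm _ (cent_anti VU e)))
  have j2 := mt (i4_dih eU.1 (elem_pgroup eU) (UQ.trans piCoreOf_le) ⟨AP d.aA, nU (AL d.aA)⟩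
    ⟨d.xM, nU xL⟩ d.odd (by rw [d.inv' a2, inv_mul_cancel]; exact one_mem _) xU) h.free
  obtain ⟨k, e1⟩ := exists_relIndex_eq_pow (elem_pgroup eU) C1[a]
  have j3 := four_le e1 j2
  have j4 : C1[a].relIndex U ≤ C[A].relIndex U :=
    relIndex_le_of_le_left (cent_le_cent1 d.aA) (relIndex_pos _ _).ne'
  have m2 : C[W].relIndex B = 2 := m2.resolve_left fun e => by rw [e] at i4; omega
  rw [m2] at i2 i4
  have n4 : C[A].relIndex W = 4 := by omega
  have eqc : ∀ {X K K' : Subgroup G}, K ≤ K' → K.relIndex X ≤ K'.relIndex X → X ⊓ K' ≤ K :=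
    fun {X K K'} l i => by
    refine (eq_of_le_of_card_le (inf_le_inf_left X l) (Nat.le_of_mul_le_mul_right ?_
      (relIndex_pos K' X))).ge.trans inf_le_right
    rw [inf_comm X, inf_comm X, card_inf_mul_relIndex]
    exact (card_inf_mul_relIndex K X).ge.trans (Nat.mul_le_mul_left _ i)
  have j5 : U ⊓ C1[a] ≤ C[A] := eqc (cent_le_cent1 d.aA) (by omega)
  have j6 : W ⊓ C[B] ≤ C[A] := eqc (cent_anti d.le) (by omega)
  have cL : ∀ {X}, X ≤ C[A] → X ≤ C[A.map (cj x)] → X ≤ C[L] := fun h1 h2 =>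
    le_centralizer_iff.1 (sup_le (le_centralizer_iff.1 h1) (zpowers_le.2 (d.mem a2
      (le_centralizer_iff.1 h1 d.aA) (le_centralizer_iff.1 h2 (conj_mem_map_cj d.aA)))))
  have cV : V ≤ C[A] := le_centralizer_iff.1 (F1 mA)
  have cW : W ≤ C[A.map (cj x)] := map_le_cent_map _ cV
  have nBW : ¬ B ≤ C[W] := fun e => by rw [relIndex_eq_one.2 e] at m2; omega
  have q1 : ⁅W, B⁆ ≤ W ⊓ C[L] := by
    refine le_inf (comm_le_left nW) (cL (le_trans (le_inf (comm_le_left nW) ?_) j6)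
      ((comm_le_left nW).trans cW))
    obtain ⟨b, hb, h1⟩ := SetLike.not_le_iff_exists.1 nBW
    have e : B ⊓ C[W] ⊔ zpowers b = B := (eq_or_eq_of_relIndex_prime
      (by rw [inf_relIndex_left, m2]; exact Nat.prime_two) le_sup_left
      (sup_le inf_le_left (zpowers_le.2 hb))).resolve_left fun e =>
        h1 (e.le (mem_sup_right (mem_zpowers b))).2
    have := comm_invol eW (nW hb) (by rw [← pow_two, mA.exp b (d.le hb)])
    rw [← e, comm_sup_right_ab eW.1 (inf_le_left.trans nW) (zpowers_le.2 (nW hb)),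
      comm_eq_bot_iff.2 (le_centralizer_iff.1 inf_le_right), bot_sup_eq, cent_sup, cent_zpowers]
    exact this.trans (inf_le_inf_right _ (le_centralizer_iff.1 inf_le_right))
  set Y := U ⊓ C[L]
  have nY : L ≤ N[Y] := le_norm_of_le_cent (le_centralizer_iff.1 inf_le_right)
  have q2 : ⁅U, B⁆ ≤ Y := le_inf (comm_le_left ((d.le.trans AL).trans nU))
    (((commutator_mono UE le_rfl).trans (comm_sup_le (Y := W ⊓ C[L]) (le_norm_of_le_cent
      (inf_le_right.trans (cent_anti inf_le_left))) (le_norm_of_le_cent (le_cent_of_comm eW.1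
        inf_le_left)) ((comm_eq_bot_iff.2 (inf_le_left.trans cB)).le.trans bot_le) q1)).trans
          inf_le_right)
  set E := nc L B
  have EL : E ≤ L := nc_le_self (d.le.trans AL)
  have nE : L ≤ N[E] := le_norm_nc
  have ER' : E ≤ B ⊔ O2[P] := nc_le le_sup_left nR
  have pE : PG[2, E] := h.syl.pg.to_le ((ER'.trans RS).trans lS)
  have q3 : E ≤ stab U Y := nc_le (le_stab' inf_le_left q2) (le_norm_stab nU nY)
  have g1 : V.map (cj (x * a)) = W := by rw [← map_cj_cj, map_cj_eq (nV (AM d.aA))]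
  have g2 : A.map (cj (x * a)) = A.map (cj x) := by rw [← map_cj_cj, map_cj_of_mem d.aA]
  have g3 : W.map (cj (x * a)) = V := by rw [map_cj_cj, d.sw a2, map_cj_eq (nV (AM d.aA))]
  have gL : x * a ∈ L := mul_mem xL (AL d.aA)
  have r1 : C[A.map (cj x)].relIndex V = 4 := by
    rw [← n4, ← relIndex_map_cj (x * a) C[A], ← centralizer_map_cj, g2, g3]
  have r2 : Y.relIndex V = 4 := by
    rw [← r1, ← inf_relIndex_left V, ← inf_relIndex_left V C[A.map (cj x)]]
    congr 1
    exact le_antisymm (inf_le_inf_left _ (inf_le_right.trans (cent_anti (map_cj_le_of_mem AL xL))))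
      (le_inf inf_le_left (le_inf (inf_le_left.trans VU) (cL (inf_le_left.trans cV) inf_le_right)))
  have q4 : C[V].relIndex E ≤ 2 := by
    have := (sq E (ER'.trans RM) pE fun e he => cent_anti VU (mem_cent_iff.2 fun u hu => ?_)).trans
      ((relIndex_le_of_le_left (inf_le_right.trans (cent_anti EL) : Y ≤ _)
        (relIndex_pos _ _).ne').trans r2.le)
    · nlinarith
    have e1 := (q3 he).2 u hu
    have e2 := mem_cent_iff.1 e1.2 e (EL he)
    have e3 := eU.2 _ e1.1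
    rw [← commutatorElement_eq_one_iff_mul_comm, commutator_mul_right', e2, mul_inv_cancel_right,
      ← pow_two, e3]
  have q5 : C[W].relIndex E ≤ 2 := by
    rwa [← g1, centralizer_map_cj, ← map_cj_eq (nE gL), relIndex_map_cj]
  have cU : ∀ {X}, X ≤ U → U ≤ N[X] := fun l => le_norm_of_le_cent (le_cent_of_comm eU.1 l)
  have r3 : U ⊓ C[A] ≤ V ⊔ Y := by
    have l : V ⊔ Y ≤ U ⊓ C[A] := sup_le (le_inf VU cV) (inf_le_inf_left _ (cent_anti AL))
    refine (eq_of_le_of_card_le l ?_).ge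
    rw [← card_mul_relIndex (le_sup_right : Y ≤ V ⊔ Y), ← card_mul_relIndex (le_sup_right.trans l),
      relIndex_sup_of_norm (VU.trans (cU inf_le_left)), r2]
    refine Nat.mul_le_mul_left _ ?_
    refine (relIndex_le_of_le_left (H := (U ⊓ C[A]) ⊓ C[A.map (cj x)]) (le_inf (inf_le_left.trans
      inf_le_left) (cL (inf_le_left.trans inf_le_right) inf_le_right)) (relIndex_pos _ _).ne').trans ?_
    rw [inf_relIndex_left]
    refine (relIndex_le_of_le_right inf_le_left (relIndex_pos _ _).ne').trans ?_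
    rw [← g2, centralizer_map_cj, ← map_cj_eq (nU gL), relIndex_map_cj]
    omega
  have lU : V ⊔ Y ⊔ W ≤ U := sup_le (sup_le VU inf_le_left) WU
  have r4 : U ≤ V ⊔ Y ⊔ W := by
    have na : a ∈ N[V ⊔ Y ⊔ W] := zpowers_le.1 (le_norm_of_comm_le ((commutator_mono lU le_rfl).trans
      ((comm_invol eU (nU (AL d.aA)) a2).trans ((le_inf inf_le_left j5).trans r3))) le_sup_left)
    have ng : x * a ∈ N[V ⊔ Y ⊔ W] := by
      rw [← map_cj_eq_iff, Subgroup.map_sup, Subgroup.map_sup, g1, g3, map_cj_eq (nY gL)]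
      ac_rfl
    refine nc_le (le_sup_left.trans le_sup_left) (sup_le (d.sup.ge.trans (sup_le (le_norm_of_comm_le
      ((commutator_mono lU le_rfl).trans q2) (le_sup_right.trans le_sup_left)) (zpowers_le.2 na)))
      (zpowers_le.2 (by simpa using mul_mem ng (inv_mem na))))
  have nC : L ≤ N[E ⊓ C[U]] := le_norm_inf nE (le_norm_cent nU)
  refine h.free (i4_pair' (Y := E ⊓ C[U]) pE inf_le_left ?_ (EL.trans nC) (EL.trans LP)
    ⟨AP d.aA, nE (AL d.aA), nC (AL d.aA)⟩ ⟨d.xM, nE xL, nC xL⟩ d.odd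
    (by rw [d.inv' a2, inv_mul_cancel]; exact one_mem _) fun e => nBW fun b hb => ?_)
  · refine (relIndex_le_of_le_left (H := E ⊓ (C[V] ⊓ C[W])) (le_inf inf_le_left (le_trans ?_
      (cent_anti r4))) (relIndex_pos _ _).ne').trans ?_
    · rw [cent_sup, cent_sup]
      exact le_inf (le_inf (inf_le_right.trans inf_le_left) (inf_le_left.trans (EL.trans
        (le_centralizer_iff.1 inf_le_right)))) (inf_le_right.trans inf_le_right)
    · rw [inf_relIndex_left]; exact relIndex_inf_le.trans (Nat.mul_le_mul q4 q5)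
  · have := mul_mem (cent_anti WU (e.2 b (le_nc hb)).2)
      (le_centralizer_iff.1 cW (conj_mem_map_cj (d.le hb)))
    simpa [commutatorElement_def, mul_assoc] using this

theorem ML.eq (h : ML M T) (k : ML P T) : M = P := by
  have n : ∀ M P : Subgroup G, M ⊓ P ≤ N[O2[M] ⊔ O2[P]] := fun _ _ =>
    le_norm_sup (inf_le_left.trans le_norm_piCoreOf) (inf_le_right.trans le_norm_piCoreOf)
  have key : ∀ {M P : Subgroup G}, ML M T → ML P T → P ≤ N[J[2, O2[M] ⊔ O2[P]]] := fun h k => by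
    rw [← J_eq_of_le (J_le_iff.2 fun A a => ml_f k h.syl.le (ml_e k h.syl.le h.V_leT h.V_el
      le_norm_nc h.sq) h.V_el le_norm_nc h.V_norm h.sq le_sup_right
      (sup_le h.syl.pCoreOf_le k.syl.pCoreOf_le) (n _ _) a) le_sup_right]
    exact le_norm_piCoreOf.trans norm_le_norm_J
  have p := h.syl.pg.to_le (sup_le h.syl.pCoreOf_le k.syl.pCoreOf_le)
  have b := J_ne_bot dvd_rfl p fun e =>
    h.V_ne (le_bot_iff.1 (e ▸ (h.V_le.trans OZ_le).trans le_sup_left))
  have k1 := key h k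
  have k2 := key k h
  rw [sup_comm] at k2
  exact le_antisymm (k2.trans (k.prim _ b (p.to_le J_le) k1)) (k1.trans (h.prim _ b (p.to_le J_le) k2))

end CfsgH2
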