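import Cfsg.Agent.H2.Sa9

/-! Normality of centralizer subsystems; the core centralizes components. -/

namespace CfsgH2
open Cfsg Subgroup CfsgL0 Function
open Cfsg.FusionSystem hiding inv_mem center

variable {Ω : Type*} [Group Ω] {S T U W X Y A : Subgroup Ω} {F : FusionSystem S}
  {P Q R : Subgroup Ω} {f g : Ω → Ω} {p : ℕ} {E : FusionSystem T}

variable [Finite S] [hp : Fact p.Prime] (hS : IsPGroup p S) (hF : F.IsSaturated p)
include hS hF

theorem ext_T (hT : F.StronglyClosed T) (hf : M F P f) (h1 : T ≤ C[P]) (h2 : T ≤ C[im P f]) :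
    ∃ g, M F (P ⊔ T) g ∧ ∀ x ∈ P, g x = f x := by
  obtain ⟨k, hk, a⟩ := sat_nmap_fn hS hF hf.im_le
  have l : im P f ⊔ T ≤ normalizerIn S (im P f) := sup_le (le_nI hf.im_le)
    ((le_inf hT.1 h2).trans cI_le_nI)
  have u := hf.comp hk fun x hx => le_nI hf.im_le (mem_im_of _ hx)
  obtain ⟨g, g0, g1⟩ := sat_ext hS hF u (by rw [← hf.im_im]; exact sat_fn_fc hS hF a)
  replace g0 := g0.mono (sup_le u.le_Ext ((le_inf hT.1 h1).trans cI_le_Ext))
  obtain ⟨j, j0, j1, -⟩ := (hk.mono l).exists_inv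
  refine ⟨_, g0.comp j0 (im_le_iff.1 ?_), fun x hx => by
    rw [g1 x hx, j1 _ (mem_sup_left (mem_im_of _ hx))]⟩
  rw [g0.homOn.im_sup, (hk.mono l).homOn.im_sup, im_congr g1, hf.im_im, sc_im hT g0 le_sup_right,
    sc_im hT (hk.mono l) le_sup_right]

omit hF in
theorem xt_of_pp {D : FusionSystem Y} (hY : F.StronglyClosed Y) (hD : D.IsSaturated p)
    (h : ∀ f, M D Y f → PPo p Y f → XT F Y (centralizerIn S Y) f) (hf : M D Y f) :
    XT F Y (centralizerIn S Y) f := by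
  haveI := finite_of_le hY.1
  obtain ⟨α, hα, e⟩ := hf.exists_aut hf.im_top
  obtain ⟨a, ha, b, hb, rfl, oa, ob⟩ := exists_pi_parts {p} α
  have z := zpowers_le.2 hα
  obtain ⟨i, hi'⟩ := (piN_singleton hp.out (orderOf_pos a).ne').1 oa
  obtain ⟨t, ht, e'⟩ := mem_autInd'.1 ((sat_syl (hS.to_le hY.1) hD fn_top).mem_of_norm
    (inn_eq Y ▸ aut_le_norm_inn) (z ha) (k := i) (hi' ▸ pow_orderOf_eq_one a))
  refine ((h _ ((mem_aut le_rfl).1 (z hb)) (ppo_af ((piN_compl_singleton' hp.out).1 ob))).comp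
    (g := af a) ⟨_, M_conj (sup_le hY.1 cI_le) (hY.1 ht), fun x hx => (e' x hx).symm, fun y hy => ?_⟩
    (cI_le_cent.trans (cent_le_norm _)) (fun _ => af_mem _) fun _ => af_mem _).congr
    fun x hx => by rw [← e x hx, af_mul _ _ hx]
  rw [mem_cent_iff.1 hy.2 t ht]; simp

theorem ppi_C_normal (hT : F.StronglyClosed T) {C : FusionSystem (centralizerIn S T)}
    (hC : F.IsCentralizerSystem T C) (hY : F.StronglyClosed Y) {D : FusionSystem Y}
    (hD : D.IsSaturated p) (h : D.HasPPowerIndexIn C p) : D.IsNormalIn F p := by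
  haveI := finite_of_le hY.1
  haveI : Finite (centralizerIn S T) := finite_cI
  have hC' := isC_iff.1 hC
  have hs := NK_sub hC'
  have l := sub_le h.1
  have cs := sat_C hS hF (sat_fn_fc hS hF (fn_of_normal hT.1 (sc_le_norm hT))) hC
  have nD := ppi_normal (hS.to_le cI_le) cs (cI_le.trans (sc_le_norm hY)) hD h
  have ct : ∀ P ≤ Y, T ≤ C[P] := fun P hP t ht => mem_cent_iff.2 fun x hx =>
    (mem_cent_iff.1 (l (hP hx)).2 t ht).symm
  obtain ⟨E, hE⟩ := exists_subFS C Y (fun P f => M C P f ∧ P ≤ Y) (fun _ _ h => h.1)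
    (fun _ _ h => ⟨h.2, fun x hx => sc_mem hY (h.1.sub hs) hx (h.2 hx)⟩)
    (fun _ _ _ h e => ⟨h.1.congr e, h.2⟩) (fun P a g b => ⟨M_conj (a.trans l) (l b), a⟩)
    (fun _ _ _ _ a b m => ⟨a.1.comp b.1 m, a.2⟩) fun P f a => let ⟨g, b, c, _⟩ := a.1.exists_inv
      ⟨g, ⟨b, im_le_iff.2 fun x hx => sc_mem hY (a.1.sub hs) hx (a.2 hx)⟩, c⟩
  have eC : E.IsSubsystemOf C := sub_iff_M.2 fun P f a => ((hE P f).1 a).1
  have dE : D.IsSubsystemOf E := sub_iff_M.2 fun P f a => (hE P f).2 ⟨a.sub h.1, a.le⟩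
  have ea : ∀ P ≤ Y, E.autGroup P = C.autGroup P := fun P hP => le_antisymm (aut_mono eC)
    fun α a => M.af_mem_aut ((hE _ _).2 ⟨(mem_aut (hP.trans l)).1 a, hP⟩)
  have iE : E.IsInvariantIn F := inv_of_si hS hF hY (sub_trans eC hs) fun P R f k g hf hk h1 h2 e => by
    obtain ⟨-, f', b, c, d⟩ := NKM_bot_iff.1 ((hC' _ _).1 (hf.sub eC))
    have r : R ⊓ Y ≤ Y := inf_le_right
    have r' : im (R ⊓ Y) k ≤ Y := im_le_iff.2 fun x hx => sc_mem hY hk hx.1 hx.2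
    obtain ⟨k', k1, k2⟩ := ext_T hS hF hT (hk.mono inf_le_left) (ct _ r) (ct _ r')
    have p1 := le_inf h1 hf.le
    have hle : P ⊔ T ≤ R ⊓ Y ⊔ T := sup_le_sup_right p1 T
    obtain ⟨j, l1, l2, l3, -⟩ := (k1.mono hle).exists_inv
    have hf' : ∀ x ∈ P ⊔ T, f' x ∈ R ⊓ Y ⊔ T := im_le_iff.1 (by
      rw [b.homOn.im_sup, im_of_eq d]
      exact sup_le_sup_right (im_le_iff.2 fun x hx => c x hx ▸ ⟨h2 x hx, hf.mem hx⟩) T)
    have m := (l1.comp b fun y hy => (l3 y hy).1).comp k1 fun y hy => hf' _ (l3 y hy).1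
    have k3 := sc_im hT k1 le_sup_right
    rw [(k1.mono hle).homOn.im_sup, k3, im_congr fun x hx => k2 x (p1 hx)] at m
    have r2 := (im_mono k p1).trans r'
    refine (hE _ _).2 ⟨(hC' _ _).2 (NKM_bot_iff.2 ⟨r2.trans l, _, m, fun y hy => ?_,
      fun y hy => ?_⟩), r2⟩
    · obtain ⟨x, hx, rfl⟩ := (hk.mem_im' h1).1 hy
      rw [e x hx, ← k2 x (p1 hx), l2 x (mem_sup_left hx), c x hx, k2 _ ⟨h2 x hx, hf.mem hx⟩]
    · obtain ⟨x, hx, rfl⟩ := (k1.mem_im' le_sup_right).1 (k3.ge hy)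
      rw [l2 x (mem_sup_right hx), d x hx]
  have hA := ppi_ai hS iE hD (ppi_iff.2 ⟨dE, hyp_le, fun P hP => ea P hP ▸ (ppi_iff.1 h).2.2 P hP⟩)
  refine normalIn_iff'.2 ⟨⟨hD, hF, inv_trans (inv_iff.2 ⟨dE, sc_top, AI.sub hA iE.1, fun P hP f hf => ?_⟩)
    iE hY hA⟩, fun f => xt_of_pp hS hY hD fun f hf o => ?_⟩
  · rw [ea Y le_rfl]; exact (inv_iff.1 nD.1.2.2).2.2.2 P hP f (hf.sub eC)
  obtain ⟨-, g, b, c, d⟩ := NKM_bot_iff.1 ((hC' _ _).1 (hf.sub h.1))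
  have hV := sc_sup hS hF hT hY
  obtain ⟨k, k0, k1⟩ := sat_ext hS hF b (by
    rw [sc_im hV b le_rfl]; exact sat_fn_fc hS hF (fn_of_normal hV.1 (sc_le_norm hV)))
  have key : ∀ s ∈ centralizerIn S Y, ∀ x ∈ Y ⊔ T, g (s * x * s⁻¹) = s * g x * s⁻¹ := fun s a =>
    ((M_conj hV.1 a.1).comp b fun x => conj_mem_of_norm (sc_le_norm hV a.1)).homOn.eq_of_sup
      (b.conj_comp a.1).homOn (fun x hx => by
        rw [← mem_cent_iff.1 a.2 x hx, ← mem_cent_iff.1 a.2 _ (c x hx ▸ hf.mem hx)]; simp)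
      fun x hx => by rw [d x hx, d _ (conj_mem_of_norm (sc_le_norm hT a.1) hx)]
  have l1 : centralizerIn S Y ≤ Ext S (Y ⊔ T) g := fun s a =>
    mem_Ext.2 ⟨a.1, sc_le_norm hV a.1, s, a.1, key s a⟩
  have l2 := le_sup_left.trans b.le_Ext
  have l3 : T ≤ centralizerIn S Y := le_inf hT.1 (ct Y le_rfl)
  have k2 := k0.mono (sup_le l2 l1)
  have km : ∀ x ∈ Y ⊔ centralizerIn S Y, k x ∈ Y ⊔ centralizerIn S Y :=
    fun x hx => sc_mem (sc_sup_cI hS hF hY) k2 hx hx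
  have e1 : ∀ x ∈ Y, k x = f x := fun x hx => (k1 x (mem_sup_left hx)).trans (c x hx)
  obtain ⟨n, o', k3⟩ := pp_part k2 km (o.congr (fun _ => hf.mem) e1)
  have k4 := M.iter k2 km n
  have l4 : Y ⊔ centralizerIn S (Y ⊔ T) ≤ Y ⊔ centralizerIn S Y :=
    sup_le_sup_left (inf_le_inf_left _ (cent_anti le_sup_left)) _
  have t : ∀ x ∈ Y ⊔ centralizerIn S Y, x⁻¹ * k^[n] x ∈ Y ⊔ centralizerIn S (Y ⊔ T) :=
    iter_triv km (fun x hx => by
      rw [sup_comm] at hx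
      obtain ⟨s, a, y, hy, rfl⟩ := (mem_sup_of_norm (cI_le_cent.trans (cent_le_norm _))).1 hx
      have : s⁻¹ * k s ∈ centralizerIn S (Y ⊔ T) := mem_cI.2 ⟨mul_mem (inv_mem a.1) (k0.mem (l1 a)),
        mem_cent_iff.2 fun v hv => by
          obtain ⟨u, hu, rfl⟩ := b.mem_im.1 ((sc_im hV b le_rfl).ge hv)
          have := key s a u hu
          rw [← k1 _ (conj_mem_of_norm (sc_le_norm hV a.1) hu), k0.conj (l1 a) (b.le_Ext hu),
            k1 u hu] at this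
          rw [show g u * (s⁻¹ * k s) = s⁻¹ * (s * g u * s⁻¹) * k s by group, ← this]; group⟩
      rw [k0.mul (l1 a) (l2 hy)]
      have := mul_mem (mul_mem (inv_mem (mem_sup_left hy)) (mem_sup_right this))
        (mem_sup_left (e1 y hy ▸ hf.mem hy))
      simpa [mul_assoc] using this) n
  refine ⟨_, k4, fun x hx => (k3 x hx).trans (e1 x hx), fun s a =>
    cop2 hS k4 l4 le_sup_left ?_ o' (mem_sup_right a) (t s (mem_sup_right a))⟩
  have l5 : Y ⊔ centralizerIn S (Y ⊔ T) ≤ centralizerIn S T :=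
    sup_le l (inf_le_inf_left _ (cent_anti le_sup_right))
  have w : M C (Y ⊔ centralizerIn S (Y ⊔ T)) k^[n] := (hC' _ _).2 (NKM_bot_iff.2 ⟨l5, _,
    k4.mono (sup_le l4 (l3.trans le_sup_right)), fun _ _ => rfl, fun x hx =>
      iter_fix ((k1 x (mem_sup_right hx)).trans (d x hx)) n⟩)
  have wm : ∀ x ∈ Y ⊔ centralizerIn S (Y ⊔ T), k^[n] x ∈ Y ⊔ centralizerIn S (Y ⊔ T) :=
    fun x hx => by simpa using mul_mem hx (t x (l4 hx))
  obtain ⟨α, a1, a2⟩ := w.exists_aut (w.im_eq_of_le le_rfl wm)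
  exact fun x hx => a2 x hx ▸ hyp_le_iff'.1 h.2.1 _ l5 α a1
    ((o'.mono l4).congr wm a2).cop x hx

theorem C_normal (hQ : F.IsNormal Q) {C : FusionSystem (centralizerIn S Q)}
    (hC : F.IsCentralizerSystem Q C) : C.IsNormalIn F p :=
  haveI : Finite (centralizerIn S Q) := finite_cI
  ppi_C_normal hS hF (normal_sc hQ) hC (sc_iff.2 ⟨cI_le, fun P f hf x a b => by
    obtain ⟨g, c, d, e⟩ := normal_ext hQ hf
    exact ⟨hf.mem a, d x a ▸ e ▸ c.mem_cent le_sup_right (mem_sup_left a) b.2⟩⟩)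
    (sat_C hS hF (sat_fn_fc hS hF (fn_of_normal hQ.1 (normal_le_norm hQ))) hC) ppi_refl

theorem normal_inf (hE : E.IsWeaklyNormalIn F p) (hQ : F.IsNormal Q) : E.IsNormal (Q ⊓ T) := by
  have hT := hE.2.2.2.1
  haveI := finite_of_le hT.1
  obtain ⟨n, hn⟩ := exists_ucs hS hQ.1
  refine normal_of_chain (hS.to_le hT.1) hE.1 (fun i => ucs Q i ⊓ T) (n := n)
    (by rw [ucs_zero, bot_inf_eq]) (by rw [hn]) (fun i _ => sc_iff.2 ⟨inf_le_right,
      fun P f hf x a b => ⟨sc_mem (normal_sc (normal_char hQ (ucs_le i) (ucs_char i)))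
        (hf.sub hE.2.2.1) a b.1, hf.mem a⟩⟩) fun i _ y hy x hx => ⟨ucs_step hy.1 hx.1,
          T.mul_mem (T.inv_mem hx.2) (T.mul_mem (T.mul_mem hy.2 hx.2) (T.inv_mem hy.2))⟩

theorem lemM (h : E.IsNormalIn F p) (hQ : F.IsNormal Q) (hf : M E P f) :
    ∃ g, M F (P ⊔ Q) g ∧ (∀ x ∈ P, g x = f x) ∧ ∀ q ∈ Q, q⁻¹ * g q ∈ T := by
  have hi := h.1.2.2
  have hT := hi.2.1
  haveI := finite_of_le hT.1
  have hT' := hS.to_le hT.1
  have sQ := normal_sc hQ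
  refine alperin_pp hT' h.1.1 (fun P f => ∃ g, M F (P ⊔ Q) g ∧ (∀ x ∈ P, g x = f x) ∧
    ∀ q ∈ Q, q⁻¹ * g q ∈ T) ?_ ?_ ?_ ?_ ?_ P f hf
  · rintro P f g ⟨k, a, b, c⟩ e
    exact ⟨k, a, fun x hx => (b x hx).trans (e x hx).symm, c⟩
  · exact fun P hP g hg => ⟨_, M_conj (sup_le (hP.trans hT.1) hQ.1) (hT.1 hg), fun _ _ => rfl,
      fun x hx => by
        simpa [mul_assoc] using mul_mem (conj_mem_of_norm' (sc_le_norm hT (hQ.1 hx)) hg) (inv_mem hg)⟩
  · rintro P R f g - - ⟨k, a, b, c⟩ ⟨k', a', b', c'⟩ m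
    refine ⟨_, a.comp a' (im_le_iff.1 ?_), fun x hx => by rw [b x hx, b' _ (m x hx)],
      fun x hx => by simpa [mul_assoc] using mul_mem (c x hx) (c' _ (sc_mem sQ a (mem_sup_right hx) hx))⟩
    rw [a.homOn.im_sup, sc_im sQ a le_sup_right, im_congr b]
    exact sup_le_sup_right (im_le_iff.2 m) _
  · rintro P f g hf ⟨k, a, b, c⟩ e
    obtain ⟨j, j0, j1, -⟩ := a.exists_inv
    rw [a.homOn.im_sup, sc_im sQ a le_sup_right, im_congr b] at j0
    refine ⟨j, j0, fun y hy => ?_, fun y hy => ?_⟩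
    · obtain ⟨x, hx, rfl⟩ := hf.mem_im.1 hy
      rw [e x hx, ← b x hx, j1 x (mem_sup_left hx)]
    · obtain ⟨x, hx, rfl⟩ := (a.mem_im' le_sup_right).1 ((sc_im sQ a le_sup_right).ge hy)
      rw [j1 x (mem_sup_right hx)]; simpa using inv_mem (c x hx)
  intro P _ c r f hf m o
  have hP := c.1.trans hT.1
  haveI := finite_of_le hP
  have l := normal_le_cr hT' (normal_inf hS hF h.1 hQ) c r
  have n : Q ≤ N[P] := fun q hq => mem_norm_of_conj' hP fun x hx => by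
    have := mul_mem (l ⟨mul_mem hq (conj_mem_of_norm (normal_le_norm hQ (hP hx)) (inv_mem hq)),
      mul_mem (conj_mem_of_norm (sc_le_norm hT (hQ.1 hq)) (c.1 hx)) (inv_mem (c.1 hx)) |>
        fun h => by simpa [mul_assoc] using h⟩) hx
    simpa [mul_assoc] using this
  obtain ⟨k, k0, k1, k2⟩ := lemL hS hF h c hf m
  have nc : centralizerIn S P ≤ N[P] := cI_le_cent.trans (cent_le_norm _)
  have t := xt_triv k0.homOn nc (fun x hx => k1 x hx ▸ m x hx) k2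
  set X := (P ⊔ Q) ⊓ (P ⊔ centralizerIn S P)
  have pl : P ≤ X := le_inf le_sup_left le_sup_left
  obtain ⟨g, g0, g1, -⟩ := normal_ext hQ (k0.mono (inf_le_right : X ≤ _))
  replace g0 := g0.mono (sup_le_sup_right pl Q)
  have e : ∀ x ∈ P, g x = f x := fun x hx => (g1 x (pl hx)).trans (k1 x hx)
  have gm : ∀ x ∈ P ⊔ Q, g x ∈ P ⊔ Q := im_le_iff.1 (by
    rw [g0.homOn.im_sup, sc_im sQ g0 le_sup_right]
    exact sup_le_sup_right (im_le_iff.2 fun x hx => e x hx ▸ m x hx) _)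
  obtain ⟨i, o', g2⟩ := pp_part g0 gm (o.congr m e)
  have g3 := M.iter g0 gm i
  have t1 : ∀ x ∈ X, x⁻¹ * g x ∈ P := fun x hx => g1 x hx ▸ t x hx.2
  refine ⟨_, g3, fun x hx => (g2 x hx).trans (e x hx), fun q hq => c.1 (cop2 hS g3 inf_le_left pl
    (iter_triv (fun x hx => by simpa using mul_mem hx (pl (t1 x hx))) t1 i) o' (mem_sup_right hq)
    (iter_triv (R := X) gm (fun x hx => mem_inf.2 ⟨mul_mem (inv_mem hx) (gm x hx), ?_⟩) i q (mem_sup_right hq)))⟩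
  rw [sup_comm] at hx
  obtain ⟨q, hq, y, hy, rfl⟩ := (mem_sup_of_norm n).1 hx
  have q1 := sc_mem sQ g0 (mem_sup_right hq) hq
  have q2 := mul_mem (inv_mem hq) q1
  obtain ⟨α, a1, a2⟩ := hf.exists_aut (hf.im_eq_of_le le_rfl m)
  have u : cA (n q2) ∈ E.autGroup P := by
    rw [cA_mul (inv_mem (n hq)) (n q1), cA_inv (n hq), ← conj_cA α (n hq) (n q1) fun z hz => by
      rw [a2 _ (conj_mem_of_norm (n hq) hz), a2 z hz, ← e z hz, ← e _ (conj_mem_of_norm (n hq) hz),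
        g0.conj (mem_sup_right hq) (mem_sup_left hz)]]
    have := mul_mem ((si_of_inv hi).aut_conj c.1 hT.1 (inv_mem (autInd_le_aut hP hQ.1
      (cA_mem (n hq) hq))) a1) (inv_mem a1)
    simpa [mul_assoc] using this
  have v : cA (n q2) ∈ Inn P := by
    rw [← (radical_iff.1 r).2]
    exact le_piCoreOf (K := E.autGroup P ⊓ piCoreOf {p} (F.autGroup P)) inf_le_left
      (le_norm_inf le_normalizer ((aut_mono hi.1).trans le_norm_piCoreOf))
      (piN_of_le piN_piCoreOf inf_le_right) ⟨u, normal_cA_mem hS hQ hP q2 (n q2)⟩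
  obtain ⟨z, z1, z2⟩ := mem_inn.1 v
  have w : z⁻¹ * (q⁻¹ * g q) ∈ centralizerIn S P := mem_cI.2 ⟨mul_mem (inv_mem (hP z1)) (hQ.1 q2),
    mem_cent_iff.2 fun x hx => by
      have := z2 x hx
      rw [af_cA _ hx] at this
      rw [show x * (z⁻¹ * (q⁻¹ * g q)) = z⁻¹ * (z * x * z⁻¹) * (q⁻¹ * g q) by group, ← this]; group⟩
  rw [g0.mul (mem_sup_right hq) (mem_sup_left hy)]
  have := mul_mem (mul_mem (mul_mem (inv_mem (mem_sup_left hy)) (mem_sup_left z1)) (mem_sup_right w))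
    (mem_sup_left (e y hy ▸ m y hy))
  simpa [mul_assoc] using this

end CfsgH2
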