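import Cfsg.Agent.H2.Sa10
import Cfsg.Agent.L0.Fus14

/-! Quasisimple systems and components. -/

namespace CfsgH2
open Cfsg Subgroup CfsgL0 Function
open Cfsg.FusionSystem hiding inv_mem center

variable {Ω : Type*} [Group Ω] {S T U W X Y A : Subgroup Ω} {F : FusionSystem S}
  {P Q R : Subgroup Ω} {f g : Ω → Ω} {p : ℕ} {E : FusionSystem T}

theorem center_pre : F.center = preimageAlong (QuotientGroup.mk' (F.center.subgroupOf S)) ⊥ := by
  rw [FusionSystem.preimageAlong, MonoidHom.comap_bot, QuotientGroup.ker_mk',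
    Subgroup.subgroupOf_map_subtype, inf_eq_left.2 center_le]

theorem center_im : im S (ex (QuotientGroup.mk' (F.center.subgroupOf S))) = ⊤ :=
  (range_ex _).symm.trans (MonoidHom.range_eq_top.2 (QuotientGroup.mk'_surjective _))

theorem subn_le (h : E.IsSubnormalIn F p) : E.IsSubsystemOf F := by
  induction h with
  | refl => exact fun _ _ h => h
  | step _ h ih => exact fun P _ a => h.1.2.2.1 P (ih P a)

variable [Finite S] [hp : Fact p.Prime] (hS : IsPGroup p S)
include hS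

theorem hyp_inner : (innerFusionSystem S).hyperfocalSubgroup p = ⊥ :=
  eq_bot_iff.2 (hyp_le_iff'.2 fun P hP α hα o x hx => by
    obtain ⟨-, k, a, b⟩ := M_inner.1 ((mem_aut hP).1 hα)
    rw [eq_one_of_coprime_order (isPGroup_autInd hS) (mem_autInd'.2 ⟨k, a, b⟩) o, af_one hx]
    simp)

theorem qs_quot (h : F.Quasisimple p) : ∃ E : FusionSystem (⊤ : Subgroup (S ⧸ F.center.subgroupOf S)),
    SMor F (QuotientGroup.mk' _) E ∧ E.IsSimple p := by
  have hsc := normal_sc (central_normal (central_center (F := F)))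
  obtain ⟨E, hE⟩ := exists_factor (F := F) (center_pre (F := F) ▸ hsc) center_im
  rw [← center_pre] at hE
  exact ⟨E, factor_smor hS h.1 hsc hE, h.2.2 E hE⟩

theorem simple_normal (h : F.IsSimple p) (h1 : F.hyperfocalSubgroup p = S) (hQ : F.IsNormal Q) :
    Q = ⊥ := (h.2.2 _ _ (inner_normal hS h.1 hQ)).resolve_right fun ⟨a, b⟩ => by
  subst a
  rw [← fs_ext b, hyp_inner hS] at h1
  exact h.2.1 h1.symm

theorem qs_normal (h : F.Quasisimple p) (hQ : F.IsNormal Q) : F.IsCentral Q := by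
  obtain ⟨E, a, b⟩ := qs_quot hS h
  haveI := a.finite
  have := simple_normal (a.pgroup hS) b (by rw [a.hyp, h.2.1, center_im]) (a.normal_im hQ)
  exact central_mono central_center (center_pre (F := F) ▸ (le_pre hQ.1).2 this.le)

theorem qs_not_le (h : F.Quasisimple p) : ¬ S ≤ F.center := fun l => by
  obtain ⟨E, a, b⟩ := qs_quot hS h
  exact b.2.1 (center_im.symm.trans (le_bot_iff.1 ((le_pre le_rfl).1 (center_pre (F := F) ▸ l))))

theorem qs_not_con (h : F.Quasisimple p) : ¬ F.IsConstrained p := fun ⟨_, Q, a, b⟩ =>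
  qs_not_le hS h (((le_inf le_rfl (central_le_cent (qs_normal hS h a))).trans (centric_cI b)).trans
    (le_center (qs_normal hS h a)))

omit hS hp [Finite S] in
theorem subn_con (hE : E.IsSubnormalIn F p) : ∀ [Finite S] [Fact p.Prime], IsPGroup p S →
    F.IsConstrained p → E.IsConstrained p := by
  induction hE with
  | refl => exact fun _ h => h
  | step _ h ih =>
    intro _ _ hS hF
    have a := h.1.2.2
    haveI := finite_of_le a.2.1.1
    exact ih (hS.to_le a.2.1.1) (constrained_sub hS hF h.1.1 a.1 a.2.1)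

theorem no_comp (hF : F.IsConstrained p) : ¬ E.IsComponentIn F p := fun h =>
  haveI := finite_of_le (sub_le (subn_le h.1))
  qs_not_con (hS.to_le (sub_le (subn_le h.1))) h.2 (subn_con h.1 hS hF)

theorem comp_step {C : FusionSystem U} (hF : F.IsSaturated p) (h : E.IsNormalIn F p)
    (hQ : F.IsNormal Q) (l : C.IsSubsystemOf E) (hC : C.IsSaturated p)
    (h1 : C.hyperfocalSubgroup p = U)
    (ih : ∀ P f, M C P f → NKM E (⊥ : Subgroup (MulAut ↥(Q ⊓ T))) P f) (hf : M C P f) :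
    NKM F (⊥ : Subgroup (MulAut Q)) P f := by
  have l1 := (sub_le l).trans h.1.2.2.2.1.1
  haveI := finite_of_le l1
  have key : ∀ P ≤ U, ∀ α ∈ C.autGroup P, (orderOf α).Coprime p → ∃ g, M F (P ⊔ Q) g ∧
      (∀ x ∈ P, g x = af α x) ∧ ∀ x ∈ Q, g x = x := fun P hP α hα o => by
    obtain ⟨-, k, a, b, c⟩ := NKM_bot_iff.1 (ih P _ ((mem_aut hP).1 hα))
    obtain ⟨g, a', b', c'⟩ := lemM hS hF h hQ a
    replace a' := a'.mono (sup_le_sup_right le_sup_left Q)
    have e : ∀ x ∈ P, g x = af α x := fun x hx => (b' x (mem_sup_left hx)).trans (b x hx)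
    have qm : ∀ x ∈ Q, g x ∈ Q := fun x hx => sc_mem (normal_sc hQ) a' (mem_sup_right hx) hx
    have gm : ∀ x ∈ P ⊔ Q, g x ∈ P ⊔ Q := im_le_iff.1 (by
      rw [a'.homOn.im_sup]
      exact sup_le_sup (im_le_iff.2 fun x hx => e x hx ▸ af_mem _ hx) (im_le_iff.2 qm))
    obtain ⟨n, o', e'⟩ := pp_part a' gm ((ppo_af o).congr (fun _ => af_mem _) e)
    refine ⟨_, M.iter a' gm n, fun x hx => (e' x hx).trans (e x hx), fun x hx => ?_⟩
    have := cop2 hS (M.iter a' gm n) (inf_le_left.trans le_sup_right : Q ⊓ T ≤ _) bot_le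
      (fun y hy => by rw [iter_fix ((b' y (mem_sup_right hy)).trans (c y hy))]; simp) o'
      (mem_sup_right hx) (iter_triv qm (fun x hx => mem_inf.2 ⟨mul_mem (inv_mem hx) (qm x hx),
        c' x hx⟩) n x hx)
    exact (inv_mul_eq_one.1 (mem_bot.1 this)).symm
  have l2 : U ≤ centralizerIn S Q := h1.ge.trans (hyp_le_iff'.2 fun P hP α hα o x hx => by
    obtain ⟨g, a, b, c⟩ := key P hP α hα o
    refine mem_cI.2 ⟨l1 (hP (mul_mem (inv_mem hx) (af_mem _ hx))), mem_cent_iff.2 fun q hq => ?_⟩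
    have := c _ (conj_mem_of_norm (normal_le_norm hQ (l1 (hP hx))) hq)
    rw [a.conj (mem_sup_left hx) (mem_sup_right hq), c q hq, b x hx] at this
    rw [show q * (x⁻¹ * af α x) = x⁻¹ * (x * q * x⁻¹) * af α x by group, ← this]; group)
  obtain ⟨D, hD⟩ := exists_C F hQ.1
  refine (isC_iff.1 hD P f).1 (hf.sub (le_of_piRes hS hC l1 l2 fun P hP => (closure_le _).2
    fun α a => M.af_mem_aut ((isC_iff.1 hD _ _).2 (NKM_bot_iff.2 ⟨hP.trans l2, ?_⟩))))
  exact key P hP α a.1 ((piN_compl_singleton' hp.out).1 a.2)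

omit hS hp [Finite S] in
theorem comp_le_C (h : E.IsSubnormalIn F p) : ∀ [Finite S] [Fact p.Prime], IsPGroup p S →
    E.Quasisimple p → F.IsSaturated p →
    ∀ Q, F.IsNormal Q → ∀ P f, M E P f → NKM F (⊥ : Subgroup (MulAut Q)) P f := by
  induction h with
  | refl =>
    intro _ _ hS hE _ Q hQ P f hf
    have := qs_normal hS hE hQ
    exact NKM_bot_iff.2 ⟨le_inf hf.le (hf.le.trans (central_le_cent this)), central_ext this hf⟩
  | step a h ih =>
    intro _ _ hS hE hF Q hQ P f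
    haveI := finite_of_le h.1.2.2.2.1.1
    exact comp_step hS hF h hQ (subn_le a) hE.1 hE.2.1
      (ih (hS.to_le h.1.2.2.2.1.1) hE h.1.1 _ (normal_inf hS hF h.1 hQ))

theorem layer_le_C (hF : F.IsSaturated p) (hE : E.IsLayerOf F p) (hQ : F.IsNormal Q)
    (hf : M E P f) : NKM F (⊥ : Subgroup (MulAut Q)) P f := by
  obtain ⟨D, hD⟩ := exists_C F hQ.1
  exact (isC_iff.1 hD P f).1 (hf.sub (hE.2.2 _ D (C_normal hS hF hQ hD) fun U C hC =>
    sub_iff_M.2 fun P f a => (isC_iff.1 hD P f).2 (comp_le_C hC.1 hS hC.2 hF Q hQ P f a)))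

theorem exists_CFE (hF : F.IsSaturated p) (h : E.IsNormalIn F p) :
    ∃ D : FusionSystem (CE F E p), D.IsNormalIn F p ∧
      ∀ P f, M D P f → NKM F (⊥ : Subgroup (MulAut T)) P f := by
  have hT := h.1.2.2.2.1
  obtain ⟨C, hC⟩ := exists_C F hT.1
  haveI : Finite (centralizerIn S T) := finite_cI
  obtain ⟨D, a, b⟩ := exists_ppi (hS.to_le cI_le) (sat_C hS hF (sat_fn_fc hS hF
    (fn_of_normal hT.1 (sc_le_norm hT))) hC) (hyp_le_foc.trans (foc_le_CE hS hF h hC)) CE_le
  exact ⟨D, ppi_C_normal hS hF hT hC (sc_CE hS hF h) a b,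
    fun P f c => (isC_iff.1 hC P f).1 (c.sub b.1)⟩

end CfsgH2
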