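import Cfsg.Agent.H2.Sa11

/-! Lifting a normal subsystem through a central quotient, part 1. -/

namespace CfsgH2
open Cfsg Subgroup CfsgL0 Function
open Cfsg.FusionSystem hiding inv_mem center

variable {Ω : Type*} [Group Ω] {S T U W X Y : Subgroup Ω} {F : FusionSystem S}
  {P Q R : Subgroup Ω} {f g : Ω → Ω} {p : ℕ} {B D E : FusionSystem T}
  {Ω' : Type*} [Group Ω'] {S' T' P' V' : Subgroup Ω'} {G : FusionSystem S'} {θ : S →* Ω'}
  {D' : FusionSystem T'} {f' : Ω' → Ω'}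

/-- the full preimage `B` of the normal subsystem `D'` of the central quotient `G` -/
structure LB (F : FusionSystem S) (θ : S →* Ω') (G : FusionSystem S') (D' : FusionSystem T') (p : ℕ)
    (B : FusionSystem T) : Prop where
  sm : SMor F θ G
  cen : F.IsCentral (preimageAlong θ ⊥)
  nor : D'.IsNormalIn G p
  eT : T = preimageAlong θ T'
  hB : ∀ P f, M B P f ↔ M F P f ∧ P ≤ T ∧
    ∃ f', M D' (im P (ex θ)) f' ∧ ∀ x ∈ P, f' (ex θ x) = ex θ (f x)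

/-- the family of subgroups with centric image -/
def HH (θ : S →* Ω') (D' : FusionSystem T') (P : Subgroup Ω) : Prop :=
  preimageAlong θ ⊥ ≤ P ∧ P ≤ S ∧ D'.IsCentric (im P (ex θ))

/-- the automorphism groups of the lifted system -/
def AA (F : FusionSystem S) (B : FusionSystem T) (p : ℕ) (P : Subgroup Ω) : Subgroup (MulAut P) :=
  closure {α | M B P (af α) ∧ ((orderOf α).Coprime p ∨
    ∃ χ, M F P χ ∧ ∃ s ∈ T, ∀ x ∈ P, χ (af α x) = s * χ x * s⁻¹)}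

theorem AA_le (hP : P ≤ T) : AA F B p P ≤ B.autGroup P :=
  (closure_le _).2 fun _ a => a.1.af_mem_aut

theorem autInd_le_AA (hP : P ≤ T) (hT : T ≤ S) : autInducedBy T P ≤ AA F B p P := fun α a =>
  subset_closure ⟨(mem_aut hP).1 (autInd_le_aut hP le_rfl a), .inr ⟨_, M_id (hP.trans hT),
    mem_autInd'.1 a⟩⟩

theorem piRes_le_AA [hp : Fact p.Prime] (hP : P ≤ T) : piRes {p} (B.autGroup P) ≤ AA F B p P :=
  (closure_le _).2 fun _ a =>
    subset_closure ⟨(mem_aut hP).1 a.1, .inl ((piN_compl_singleton' hp.out).1 a.2)⟩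

theorem pp_part' [Finite S] [hp : Fact p.Prime] (h : M F X g) (m : ∀ x ∈ X, g x ∈ X) {k : ℕ}
    (a : k.Coprime p) : ∃ u, PPo p X g^[1 + k * u] := by
  haveI := finite_of_le h.le
  obtain ⟨α, -, e⟩ := h.exists_aut (h.im_eq_of_le le_rfl m)
  obtain ⟨i, j, hj, e1⟩ := Nat.exists_eq_pow_mul_and_not_dvd (orderOf_pos α).ne' p hp.out.ne_one
  have k0 : k ≠ 0 := by rintro rfl; exact hp.out.ne_one (by simpa using a)
  obtain ⟨t, ht⟩ := Nat.exists_eq_succ_of_ne_zero (Nat.totient_pos.2 (Nat.pos_of_ne_zero k0)).ne'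
  have := Nat.ModEq.pow_totient (a.symm.pow_left i)
  obtain ⟨u, hu⟩ := (Nat.modEq_iff_dvd' (Nat.pos_of_ne_zero (pow_ne_zero _
      (pow_ne_zero _ hp.out.ne_zero)))).1 this.symm
  refine ⟨u, j, (coprime_iff_not_dvd hp.out).2 hj, fun x hx => ?_⟩
  rw [← show (p ^ i) ^ k.totient = 1 + k * u by
      have := Nat.pos_of_ne_zero (pow_ne_zero k.totient (pow_ne_zero i hp.out.ne_zero)); omega,
    ← iterate_mul, ← iter_congr m e _ x hx, af_iter α _ x hx, ht, pow_succ, mul_assoc, ← e1,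
    pow_mul', pow_orderOf_eq_one, one_pow, af_one hx]

theorem scA [Finite S] [hp : Fact p.Prime] (hS : IsPGroup p S) (hF : F.IsSaturated p)
    (hT : F.StronglyClosed T) (hP : F.IsFullyNormalized P) {χ : Ω → Ω} (hχ : M F P χ) {s : Ω}
    (hs : s ∈ T) {α : MulAut P} (hα : α ∈ autInducedBy S P)
    (e : ∀ x ∈ P, χ (af α x) = s * χ x * s⁻¹) : α ∈ autInducedBy T P := by
  obtain ⟨u, hu, e1⟩ := mem_autInd'.1 hα
  obtain ⟨j, j0, j1, j2, j3⟩ := hχ.exists_inv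
  obtain ⟨k, k0, k1⟩ := sat_ext hS hF j0 (j3.symm ▸ sat_fn_fc hS hF hP)
  have n : s ∈ N[im P χ] := mem_norm_of_conj' hχ.im_le fun y hy => by
    obtain ⟨x, hx, rfl⟩ := hχ.mem_im.1 hy
    rw [← e x hx]; exact mem_im_of _ (af_mem _ hx)
  have l : s ∈ Ext S (im P χ) j := mem_Ext.2 ⟨hT.1 hs, n, u, hu, fun y hy => by
    obtain ⟨x, hx, rfl⟩ := hχ.mem_im.1 hy
    rw [← e x hx, j1 _ (af_mem _ hx), j1 x hx, e1 x hx]⟩
  refine mem_autInd'.2 ⟨k s, sc_mem hT k0 l hs, fun x hx => ?_⟩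
  have := k0.conj l (j0.le_Ext (mem_im_of χ hx))
  rwa [← e x hx, k1 _ (mem_im_of _ (af_mem _ hx)), k1 _ (mem_im_of _ hx), j1 _ (af_mem _ hx),
    j1 x hx] at this

namespace LB
variable (h : LB F θ G D' p B)
include h

theorem T'_le : T' ≤ S' := h.nor.1.2.2.2.1.1
theorem T_le : T ≤ S := h.eT ▸ pre_le
theorem memT {x : Ω} : x ∈ T ↔ x ∈ S ∧ ex θ x ∈ T' := h.eT ▸ mem_pre
theorem sc : F.StronglyClosed T := h.eT ▸ h.sm.toMor.sc_pre h.nor.1.2.2.2.1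
theorem Z_le : preimageAlong θ ⊥ ≤ T := h.eT ▸ ker_le_pre
theorem sub : B.IsSubsystemOf F := sub_iff_M.2 fun P f a => ((h.hB P f).1 a).1
theorem pre_le_T (l : P' ≤ T') : preimageAlong θ P' ≤ T := h.eT ▸ pre_mono l
theorem im_le (l : P ≤ T) : im P (ex θ) ≤ T' := im_le_iff.2 fun _ hx => (h.memT.1 (l hx)).2
theorem HH_le (a : HH θ D' P) : P ≤ T := h.eT ▸ (le_pre a.2.1).2 a.2.2.1
theorem comm {x z : Ω} (hx : x ∈ S) (hz : z ∈ preimageAlong θ ⊥) : x * z = z * x :=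
  (mem_cent_iff.1 (central_le_cent h.cen hx) z hz).symm

theorem mem_of_eq (hf : M F P f) (l : preimageAlong θ ⊥ ≤ P) {x y : Ω} (hx : x ∈ P) (hy : y ∈ S)
    (e : ex θ (f x) = ex θ y) : y ∈ im P f := by
  have z := (ex_eq_iff (hf.mem hx) hy).1 e
  have := mem_im_of f (mul_mem hx (l z))
  rwa [hf.mul hx (l z), central_fix h.cen hf (l z) z, mul_inv_cancel_left] at this

theorem im_lift (hf : M F (preimageAlong θ P') f) (hf' : M G P' f')
    (e : ∀ x ∈ preimageAlong θ P', f' (ex θ x) = ex θ (f x)) :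
    im (preimageAlong θ P') f = preimageAlong θ (im P' f') := le_antisymm
  (im_le_iff.2 fun x hx => mem_pre.2 ⟨hf.mem hx, e x hx ▸ mem_im_of _ (mem_pre.1 hx).2⟩)
  fun y hy => by
    obtain ⟨x', hx', e1⟩ := hf'.mem_im.1 (mem_pre.1 hy).2
    obtain ⟨x, hx, rfl⟩ := h.sm.sur hf'.le hx'
    exact h.mem_of_eq hf ker_le_pre hx (pre_le hy) ((e x hx).symm.trans e1)

theorem of_lift (hf : M F (preimageAlong θ P') f) (hf' : M D' P' f')
    (e : ∀ x ∈ preimageAlong θ P', f' (ex θ x) = ex θ (f x)) : M B (preimageAlong θ P') f :=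
  (h.hB _ _).2 ⟨hf, h.pre_le_T hf'.le, f', by rwa [h.sm.im_pre' (hf'.le.trans h.T'_le)], e⟩

theorem HH_pre (c : D'.IsCentric P') : HH θ D' (preimageAlong θ P') :=
  ⟨ker_le_pre, pre_le, by rwa [h.sm.im_pre' (c.1.trans h.T'_le)]⟩

theorem HH_mono (a : HH θ D' P) (l : P ≤ Q) (l' : Q ≤ T) : HH θ D' Q :=
  ⟨a.1.trans l, l'.trans h.T_le, centric_mono a.2.2 (im_mono _ l) (h.im_le l')⟩

variable [Finite S]

theorem si : SI B F := fun P Q f k g hf hk l m e => by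
  haveI := h.sm.finite
  obtain ⟨a, b, f', c, d⟩ := (h.hB P f).1 hf
  obtain ⟨k', k1, k2⟩ := h.sm.mor Q k hk
  have hθ := homOn_ex θ
  obtain ⟨j, j0, j1, j2, -⟩ := (hk.mono l).exists_inv
  obtain ⟨j', -, j1', -, -⟩ := (k1.mono (im_mono _ l)).exists_inv
  have := si_of_inv h.nor.1.2.2 _ _ _ _ (fun y => k' (f' (j' y))) c k1 (im_mono _ l)
    (fun y hy => by obtain ⟨x, hx, rfl⟩ := (mem_imθ a.le).1 hy; rw [d x hx]; exact mem_im_of _ (m x hx))
    fun y hy => by rw [j1' y hy]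
  rw [im_ind (hk.mono l) fun x hx => k2 x (l hx)] at this
  refine (h.hB _ _).2 ⟨((j0.comp a fun y hy => (j2 y hy).1).comp hk
    fun y hy => m _ (j2 y hy).1).congr fun y hy => ?_, im_le_iff.2 fun x hx =>
      sc_mem h.sc hk (l hx) (b hx), _, this, fun y hy => ?_⟩
  · rw [← e _ (j2 y hy).1, (j2 y hy).2]
  · obtain ⟨x, hx, rfl⟩ := (hk.mono l).mem_im.1 hy
    rw [← k2 x (l hx), j1' _ (mem_im_of _ hx), d x hx, e x hx, k2 _ (m x hx)]

theorem HH_im (a : HH θ D' P) (hf : M F P f) : HH θ D' (im P f) := by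
  haveI := h.sm.finite
  obtain ⟨f', b, c⟩ := h.sm.mor P f hf
  exact ⟨fun z hz => central_fix h.cen hf (a.1 hz) hz ▸ mem_im_of f (a.1 hz), hf.im_le,
    im_ind hf c ▸ inv_centric h.nor.1.2.2 a.2.2 b⟩

theorem AA_tr (hP : P ≤ T) (hk : M F P g) (e : im P g = Q) {α : MulAut P} (a : α ∈ AA F B p P) :
    hk.tr e α ∈ AA F B p Q := by
  subst e
  refine (closure_le (K := (AA F B p _).comap (hk.tr rfl).toMonoidHom)).2 (fun β b =>
    subset_closure ⟨h.si _ _ _ _ _ b.1 hk le_rfl (fun _ => af_mem _) fun x hx => hk.af_tr rfl β hx,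
      b.2.imp (fun c => by simpa using c) fun c => ?_⟩) a
  obtain ⟨χ, c1, s, c2, c3⟩ := c
  obtain ⟨j, j0, j1, j2, -⟩ := hk.exists_inv
  refine ⟨_, j0.comp c1 fun y hy => (j2 y hy).1, s, c2, fun y hy => ?_⟩
  obtain ⟨x, hx, rfl⟩ := hk.mem_im.1 hy
  have := hk.af_tr rfl β hx
  simp only [MulEquiv.toMonoidHom_eq_coe, MonoidHom.coe_coe]
  rw [this, j1 _ (af_mem _ hx), j1 x hx, c3 x hx]

theorem Kf_tr (hP : P ≤ T) {k : Ω → Ω} (hk : M F P k) (e : im P k = Q) (a : Kf (AA F B p P) f)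
    (e' : ∀ x ∈ P, g (k x) = k (f x)) : Kf (AA F B p Q) g := by
  obtain ⟨α, a, b⟩ := a
  refine ⟨_, h.AA_tr hP hk e a, fun y hy => ?_⟩
  obtain ⟨x, hx, rfl⟩ := hk.mem_im.1 (e.ge hy)
  rw [hk.af_tr e α hx, b x hx, e' x hx]

variable [hp : Fact p.Prime] (hS : IsPGroup p S) (hF : F.IsSaturated p)
include hS hF

theorem fnD (l : preimageAlong θ ⊥ ≤ P) (l' : P ≤ T) (hP : F.IsFullyNormalized P) :
    D'.IsFullyNormalized (im P (ex θ)) :=
  haveI := h.sm.finite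
  fn_sub (h.sm.pgroup hS) h.nor.1.2.1 h.nor.1.2.2.2.1 h.nor.1.2.2.1 (h.im_le l')
    ((h.sm.fn_iff ((h.im_le l').trans h.T'_le)).1 (by rwa [pre_im' hP.1 l]))

theorem ker_S (hP : F.IsFullyNormalized P) (hf : M F P f) (m : ∀ x ∈ P, f x ∈ P)
    (e : ∀ x ∈ P, ex θ (f x) = ex θ x) : ∃ s ∈ S, ∀ x ∈ P, f x = s * x * s⁻¹ :=
  exists_S_of_fix hS hF (normal_sc (central_normal h.cen)) hP hf
    (fun _ hx hz => central_fix h.cen hf hx hz)
    (fun x hx => (ex_eq_iff (hP.1 hx) (hf.mem hx)).1 (e x hx).symm) m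

theorem sylB (l : P ≤ T) (hP : F.IsFullyNormalized P) :
    Syl p (autInducedBy S P ⊓ B.autGroup P) (B.autGroup P) :=
  haveI := finite_of_le hP.1
  (sat_syl hS hF hP).inf_norm (aut_mono h.sub)
    ((autInd_le_aut hP.1 le_rfl).trans (h.si.le_norm l h.T_le))

theorem AA_le_sup (l : P ≤ T) (hP : F.IsFullyNormalized P) :
    AA F B p P ≤ autInducedBy T P ⊔ piRes {p} (B.autGroup P) := by
  haveI := finite_of_le hP.1
  refine (closure_le _).2 fun α ⟨a, b⟩ => ?_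
  rcases b with b | ⟨χ, b, s, c, d⟩
  · exact mem_sup_right (mem_piRes a.af_mem_aut ((piN_compl_singleton' hp.out).2 b))
  have s0 := h.sylB hS hF l hP
  obtain ⟨i, hi⟩ := pgroup_pow_eq_one hS (h.T_le c)
  have o : α ^ p ^ i = 1 := af_ext fun x hx => b.inj (af_mem _ hx) (af_mem _ hx) (by
    have : ∀ n, χ (af (α ^ n) x) = s ^ n * χ x * (s ^ n)⁻¹ := fun n => by
      induction n with
      | zero => simp [af_one hx]
      | succ n ih => rw [af_pow_succ _ _ hx, d _ (af_mem _ hx), ih, pow_succ']; group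
    rw [this, hi, af_one hx]; simp)
  obtain ⟨g, g0, g1⟩ := s0.exists_conj_le (isPGroup_zpowers o) (zpowers_le.2 a.af_mem_aut)
  obtain ⟨σ, hσ, κ, hκ, rfl⟩ := (mem_sup_of_norm (s0.le.trans (le_norm_piRes (π := {p})))).1
    (show g ∈ _ from by rw [sup_comm, s0.piRes_sup]; exact g0)
  have k0 : κ ∈ B.autGroup P := piRes_le (π := {p}) (M := B.autGroup P) hκ
  have u : κ * α * κ⁻¹ ∈ autInducedBy S P := by
    have := mul_mem (mul_mem (inv_mem (mem_inf.1 hσ).1)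
      (mem_inf.1 (g1 (mem_map_of_mem _ (mem_zpowers α)))).1) (mem_inf.1 hσ).1
    simpa [mul_assoc] using this
  have v := scA hS hF h.sc hP ((((mem_aut l).1 (inv_mem k0)).sub h.sub).comp b fun _ => af_mem _)
    c u fun x hx => by
      rw [af_mul _ _ hx, af_mul _ _ (af_mem _ hx), af_inv_af _ (af_mem _ (af_mem _ hx)),
        d _ (af_mem _ hx)]
  have := mul_mem (mul_mem (inv_mem (mem_sup_right hκ)) (mem_sup_left v)) (mem_sup_right hκ)
  simpa [mul_assoc] using this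

theorem foc_step (a : HH θ D' P) (hP : F.IsFullyNormalized P) {x u : MulAut P}
    (hx : x ∈ autInducedBy S P ⊓ B.autGroup P) (hu : u ∈ B.autGroup P)
    (h1 : u * x * u⁻¹ ∈ autInducedBy S P) : x * (u * x * u⁻¹)⁻¹ ∈ autInducedBy T P := by
  haveI := h.sm.finite
  haveI := finite_of_le h.T'_le
  have l := h.HH_le a
  have hθ := homOn_ex θ
  have l' := h.im_le l
  haveI := finite_of_le l'
  have hS' := h.sm.pgroup hS
  have fn := h.fnD hS hF a.1 l hP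
  obtain ⟨s, s1, s2, s3⟩ := mem_autInd.1 hx.1
  have n' : ex θ s ∈ N[im P (ex θ)] := hθ.mem_norm' hP.1 s1 s2
  obtain ⟨-, -, x', x1, x2⟩ := (h.hB _ _).1 ((mem_aut l).1 hx.2)
  have c1 : cA n' ∈ D'.autGroup _ := M.af_mem_aut (x1.congr fun y hy => by
    obtain ⟨z, hz, rfl⟩ := (mem_imθ hP.1).1 hy
    rw [af_cA _ hy, x2 z hz, s3 z hz, hθ.conj s1 (hP.1 hz)])
  have s' := sat_syl (hS'.to_le h.T'_le) h.nor.1.1 fn
  have c2 := s'.le_of_norm' (Q := autInducedBy S' _ ⊓ D'.autGroup _)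
    ((isPGroup_autInd hS').to_le inf_le_left) inf_le_right (fun β b => by
      obtain ⟨y, y1, y2, y3⟩ := mem_autInd.1 b.1
      refine mem_norm_of_conj fun γ c => ?_
      obtain ⟨w, w1, w2, w3⟩ := mem_autInd.1 c
      refine mem_autInd'.2 ⟨y * w * y⁻¹, conj_mem_of_norm (sc_le_norm h.nor.1.2.2.2.1 y1) w1,
        fun v' hv' => ?_⟩
      obtain ⟨v, hv, rfl⟩ := (homOn_af β).mem_im.1 ((im_af β).ge hv')
      rw [af_conj _ _ hv, y3 _ (af_mem _ hv), w3 v hv, y3 v hv]; group)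
    ⟨cA_mem n' (h.sm.mem s s1), c1⟩
  obtain ⟨t', t1, t2, t3⟩ := mem_autInd.1 c2
  obtain ⟨t, ht, rfl⟩ := h.sm.sur h.T'_le t1
  rw [← h.eT] at ht
  have tS := h.T_le ht
  have nt : t ∈ N[P] := pre_im' hP.1 a.1 ▸ mem_norm_pre tS t2
  have vS := mul_mem (inv_mem tS) s1
  have nv := mul_mem (inv_mem nt) s2
  have cv : ex θ (t⁻¹ * s) ∈ centralizerIn S' (im P (ex θ)) := mem_cI.2 ⟨h.sm.mem _ vS,
    mem_cent_iff.2 fun y hy => by
      have := t3 y hy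
      rw [af_cA _ hy] at this
      rw [hθ.mul (inv_mem tS) s1, hθ.inv tS, show y * ((ex θ t)⁻¹ * ex θ s) =
        (ex θ t)⁻¹ * (ex θ t * y * (ex θ t)⁻¹) * ex θ s by group, ← this]; group⟩
  obtain ⟨u0, -, u', u1, u2⟩ := (h.hB _ _).1 ((mem_aut l).1 hu)
  obtain ⟨w', w1, w2, w3⟩ := lemL hS' h.nor.1.2.1 h.nor a.2.2 u1 fun y hy => by
    obtain ⟨z, hz, rfl⟩ := (mem_imθ hP.1).1 hy
    rw [u2 z hz]; exact mem_im_of _ (af_mem _ hz)
  obtain ⟨w, w4, w5⟩ := h.sm.lift _ _ w1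
  have p1 : P ≤ preimageAlong θ (im P (ex θ) ⊔ centralizerIn S' (im P (ex θ))) :=
    (le_pre hP.1).2 le_sup_left
  have p2 : t⁻¹ * s ∈ preimageAlong θ (im P (ex θ) ⊔ centralizerIn S' (im P (ex θ))) :=
    mem_pre.2 ⟨vS, mem_sup_right cv⟩
  set v := t⁻¹ * s with ev
  have a1 : v⁻¹ * w v ∈ P := by
    rw [← pre_im' (θ := θ) hP.1 a.1]
    refine mem_pre.2 ⟨mul_mem (inv_mem vS) (w4.mem p2), ?_⟩
    rw [hθ.mul (inv_mem vS) (w4.mem p2), hθ.inv vS, ← w5 v p2]; exact w3 _ cv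
  have nw : w v ∈ N[P] := by simpa using mul_mem nv (le_normalizer a1)
  have e1 : u * cA nv * u⁻¹ = cA nw := conj_cA u nv nw fun z hz => by
    have z1 : z⁻¹ * (v * z * v⁻¹) ∈ preimageAlong θ ⊥ := (ex_eq_iff (hP.1 hz)
      (hP.1 (conj_mem_of_norm nv hz))).1 (by
        rw [hθ.conj vS (hP.1 hz), ← mem_cent_iff.1 cv.2 _ (mem_im_of _ hz)]; simp)
    have z2 : (w z)⁻¹ * af u z ∈ preimageAlong θ ⊥ := (ex_eq_iff (w4.mem (p1 hz))
      (u0.mem hz)).1 (by rw [← w5 z (p1 hz), w2 _ (mem_im_of _ hz), u2 z hz])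
    have e2 := w4.conj p2 (p1 hz)
    rw [show v * z * v⁻¹ = z * (z⁻¹ * (v * z * v⁻¹)) by group] at e2 ⊢
    rw [w4.mul (p1 hz) (ker_le_pre z1), central_fix h.cen w4 (ker_le_pre z1) z1] at e2
    rw [u0.mul hz (a.1 z1), central_fix h.cen u0 (a.1 z1) z1,
      show af u z = w z * ((w z)⁻¹ * af u z) by group, mul_assoc (w z), h.comm (pre_le z2) z1,
      ← mul_assoc, e2, mul_assoc _ (w v)⁻¹, h.comm (inv_mem (w4.mem p2)) z2]; group
  have e2 : x = cA nt * cA nv := af_ext fun z hz => by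
    rw [← cA_mul, af_cA _ hz, s3 z hz, ev]; group
  have b1 : u * cA nt * u⁻¹ ∈ autInducedBy T P := scA hS hF h.sc hP
    (((mem_aut l).1 (inv_mem hu)).sub h.sub) ht (by
      have := mul_mem h1 (inv_mem (cA_mem nw (w4.mem p2)))
      rwa [e2, ← e1, show u * (cA nt * cA nv) * u⁻¹ * (u * cA nv * u⁻¹)⁻¹ = u * cA nt * u⁻¹ by
        group] at this) fun z hz => by
      rw [af_mul _ _ hz, af_mul _ _ (af_mem _ hz), af_inv_af _ (af_mem _ (af_mem _ hz)),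
        af_cA _ (af_mem _ hz)]
  have b2 : cA nv * (cA nw)⁻¹ ∈ autInducedBy T P := by
    rw [← cA_inv, ← cA_mul]
    refine cA_mem _ (l ?_)
    simpa [mul_assoc] using conj_mem_of_norm nv (inv_mem a1)
  have := mul_mem (mul_mem (cA_mem nt ht) b2) (inv_mem b1)
  rw [← e1] at this
  rw [e2]; convert this using 1; group

theorem AA_ker_fn (a : HH θ D' P) (hP : F.IsFullyNormalized P) (hf : Kf (AA F B p P) f)
    (e : ∀ x ∈ P, ex θ (f x) = ex θ x) : ∃ z ∈ P, ∀ x ∈ P, f x = z * x * z⁻¹ := by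
  haveI := finite_of_le hP.1
  have l := h.HH_le a
  have s0 := h.sylB hS hF l hP
  obtain ⟨γ, g0, g1⟩ := hf
  obtain ⟨s, s1, s2⟩ := h.ker_S hS hF hP (((mem_aut l).1 (AA_le l g0)).sub h.sub) (fun _ => af_mem _)
    fun x hx => by rw [g1 x hx, e x hx]
  obtain ⟨σ, hσ, κ, hκ, rfl⟩ := (mem_sup_of_norm ((autInd_le_aut l le_rfl).trans
    (le_norm_piRes (π := {p})))).1 (h.AA_le_sup hS hF l hP g0)
  have k0 : κ ∈ B.autGroup P := piRes_le (π := {p}) (M := B.autGroup P) hκ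
  have k1 : κ ∈ autInducedBy S P := (Subgroup.mul_mem_cancel_left _ (autInd_mono h.T_le hσ)).1
    (mem_autInd'.2 ⟨s, s1, s2⟩)
  have k2 := s0.focal_le (K := autInducedBy T P) (fun x hx u hu h1 => h.foc_step hS hF a hP hx hu h1.1)
    ⟨commutator_mono piRes_le piRes_le ((s0.inf_norm piRes_le (s0.le.trans le_norm_piRes)
      ).le_commutator_of_piRes piRes_piRes ⟨⟨k1, k0⟩, hκ⟩), k1, k0⟩
  obtain ⟨t, t1, t2⟩ := mem_autInd'.1 (mul_mem hσ k2)
  refine ⟨t, ?_, fun x hx => (g1 x hx).symm.trans (t2 x hx)⟩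
  rw [← pre_im' (θ := θ) hP.1 a.1]
  refine mem_pre.2 ⟨h.T_le t1, centric_cI a.2.2 (mem_cI.2 ⟨(h.memT.1 t1).2,
    mem_cent_iff.2 fun y hy => ?_⟩)⟩
  obtain ⟨x, hx, rfl⟩ := (mem_imθ hP.1).1 hy
  have := e x hx
  rw [← g1 x hx, t2 x hx, (homOn_ex θ).conj (h.T_le t1) (hP.1 hx)] at this
  exact (mul_inv_eq_iff_eq_mul.1 this).symm

theorem AA_ker (a : HH θ D' P) (hf : Kf (AA F B p P) f) (e : ∀ x ∈ P, ex θ (f x) = ex θ x) :
    ∃ z ∈ P, ∀ x ∈ P, f x = z * x * z⁻¹ := by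
  obtain ⟨Q, c1, c2⟩ := exists_fn F a.2.1
  obtain ⟨k, hk, rfl⟩ := isConj_iff'.1 c1
  obtain ⟨j, -, j1, j2, -⟩ := hk.exists_inv
  obtain ⟨k', -, k2⟩ := h.sm.mor P k hk
  obtain ⟨z, z1, z2⟩ := h.AA_ker_fn hS hF (h.HH_im a hk) c2 (h.Kf_tr (g := fun y => k (f (j y)))
    (h.HH_le a) hk rfl hf fun x hx => by rw [j1 x hx]) fun y hy => by
      rw [← k2 _ (hf.mem (j2 y hy).1), e _ (j2 y hy).1, k2 _ (j2 y hy).1, (j2 y hy).2]
  obtain ⟨z, hz, rfl⟩ := hk.mem_im.1 z1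
  refine ⟨z, hz, fun x hx => hk.inj (hf.mem hx) (mul_mem (mul_mem hz hx) (inv_mem hz)) ?_⟩
  rw [hk.conj hz hx, ← z2 _ (mem_im_of _ hx), j1 x hx]

end LB
end CfsgH2
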