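import Cfsg.Agent.H2.Sa12

/-! Lifting a normal subsystem through a central quotient, part 2. -/

namespace CfsgH2
open Cfsg Subgroup CfsgL0 Function
open Cfsg.FusionSystem hiding inv_mem center

variable {Ω : Type*} [Group Ω] {S T U W X Y : Subgroup Ω} {F : FusionSystem S}
  {P Q R : Subgroup Ω} {f g : Ω → Ω} {p : ℕ} {B D E : FusionSystem T}
  {Ω' : Type*} [Group Ω'] {S' T' P' V' U' : Subgroup Ω'} {G : FusionSystem S'} {θ : S →* Ω'}
  {D' : FusionSystem T'} {f' : Ω' → Ω'}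

/-- `E` contains the generators -/
def GenD (B : FusionSystem T) (θ : S →* Ω') (D' : FusionSystem T') (p : ℕ) (E : FusionSystem T) :
    Prop := ∀ P f, HH θ D' P → M B P f → (∀ x ∈ P, f x ∈ P) → PPo p P f → M E P f

/-- the lifted system -/
structure LD (F : FusionSystem S) (θ : S →* Ω') (G : FusionSystem S') (D' : FusionSystem T') (p : ℕ)
    (B D : FusionSystem T) : Prop extends LB F θ G D' p B where
  hD : ∀ P f, M D P f ↔ M B P f ∧ ∀ E, GenD B θ D' p E → M E P f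

/-- automorphisms trivial modulo the kernel are inner -/
def JJ (D : FusionSystem T) (θ : S →* Ω') (P : Subgroup Ω) : Prop :=
  ∀ f, M D P f → (∀ x ∈ P, f x ∈ P) → (∀ x ∈ P, ex θ (f x) = ex θ x) →
    ∃ z ∈ P, ∀ x ∈ P, f x = z * x * z⁻¹

theorem iter_semi' {k : Ω → Ω'} (m : ∀ x ∈ P, f x ∈ P) (e : ∀ x ∈ P, f' (k x) = k (f x)) (n : ℕ) :
    ∀ x ∈ P, f'^[n] (k x) = k (f^[n] x) := fun x hx => by
  induction n with
  | zero => rfl
  | succ n ih => rw [iterate_succ_apply', iterate_succ_apply', ih, e _ (iter_mem m n x hx)]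

theorem frat_ind2 [Finite S] [hp : Fact p.Prime] (hS : IsPGroup p S) (hF : F.IsSaturated p)
    (hT : F.StronglyClosed T) (hE : E.IsSubsystemOf F) (hA : AI E F)
    (h : ∀ P < T, F.IsFullyNormalized P → (∃ y ∈ T, y ∉ P ∧ ∀ f, M F P f → im P f = P →
      y ∈ Ext S P f) ∨ ∃ K ≤ E.autGroup P, F.autGroup P ≤ N[K] ∧ autInducedBy T P ≤ K) :
    Fr E F := by
  intro P hP f hf
  refine (fn_ind' hS hF hT (fun P f => P ≤ T ∧ ∃ α ∈ F.autGroup T, WD E α P f)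
    (fun P f g ⟨a, α, b, c⟩ e => ⟨a, α, b, c.congr e⟩)
    (fun P Q f g _ _ ⟨a, α, b, c⟩ ⟨_, β, b', c'⟩ m => ⟨a, _, mul_mem b' b, c.comp' hA b c' m⟩)
    (fun P Q f _ ⟨a, α, b, d, c1, c2⟩ l => ⟨l.trans a, α, b, d, c1.mono l, fun x hx => c2 x (l hx)⟩)
    (fun P f g hf ⟨a, α, b, c⟩ e => ⟨im_le_iff.2 fun x hx => sc_mem hT hf hx (a hx), _, inv_mem b,
      c.inv hA b e⟩) (fun P hP hfn ih f hf e => ⟨hP, ?_⟩) P f hP hf).2
  rcases hP.eq_or_lt with rfl | hlt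
  · obtain ⟨α, a, b⟩ := hf.exists_aut e
    exact ⟨α, a, _, M_id le_rfl, fun x hx => (b x hx).symm⟩
  have key : ∀ f, M F P f → im P f = P → (∃ y ∈ T, y ∈ Ext S P f ∧ y ∉ P) →
      ∃ α ∈ F.autGroup T, WD E α P f := by
    rintro f hf e ⟨y, h1, h2, h3⟩
    obtain ⟨g, hg, eg⟩ := sat_ext hS hF hf (e.symm ▸ sat_fn_fc hS hF hfn)
    have hl : P ≤ T ⊓ Ext S P f := le_inf hP hf.le_Ext
    have hg' := hg.mono (inf_le_right : T ⊓ Ext S P f ≤ _)
    obtain ⟨-, α, a, d, b, c⟩ := ih _ g inf_le_left (card_lt_of_lt' hg'.le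
      (lt_of_le_of_ne hl fun e => h3 (e ▸ ⟨h1, h2⟩))) hg'
    exact ⟨α, a, d, b.mono hl, fun x hx => (eg x hx).symm.trans (c x (hl hx))⟩
  rcases h P hlt hfn with ⟨y, h1, h2, h3⟩ | ⟨K, h1, h2, h3⟩
  · exact key f hf e ⟨y, h1, h3 f hf e, h2⟩
  haveI := finite_of_le hfn.1
  obtain ⟨α, hα, eα⟩ := hf.exists_aut e
  have h1' := h1.trans (aut_mono hE)
  have hsyl := (sat_syl hS hF hfn).inf_norm h1' ((autInd_le_aut hfn.1 le_rfl).trans h2)
  obtain ⟨β, hβ, κ, hκ, e1⟩ := hsyl.frattini' (h2 hα)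
  have hβF : β ∈ F.autGroup P := by
    have := mul_mem hα (inv_mem (h1' hκ))
    rwa [e1, mul_inv_cancel_right] at this
  obtain ⟨y, hy1, hy2⟩ := SetLike.exists_of_lt (lt_nI hS hT.1 hlt)
  obtain ⟨γ, a, d, b, c⟩ := key _ ((mem_aut hfn.1).1 hβF) (im_af β) ⟨y, hy1.1, mem_Ext_of_norm
    inf_le_left hβ (hT.1 hy1.1) hy1.2 ⟨cA_mem _ (hT.1 hy1.1), h3 (cA_mem _ hy1.1)⟩, hy2⟩
  exact ⟨γ, a, _, ((mem_aut hP).1 (h1 hκ)).comp b fun _ => af_mem _, fun x hx => by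
    rw [← eα x hx, e1, af_mul _ _ hx, c _ (af_mem _ hx)]⟩

namespace LD
variable (h : LD F θ G D' p B D)
include h

theorem subB : D.IsSubsystemOf B := sub_iff_M.2 fun P f a => ((h.hD P f).1 a).1
theorem subF (a : M D P f) : M F P f := (a.sub h.subB).sub h.sub
theorem gen : GenD B θ D' p D := fun P f a b c d => (h.hD P f).2 ⟨b, fun _ e => e P f a b c d⟩
theorem ind (a : M D P f) : ∃ f', M D' (im P (ex θ)) f' ∧ ∀ x ∈ P, f' (ex θ x) = ex θ (f x) :=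
  ((h.hB P f).1 (a.sub h.subB)).2.2
theorem conj' (a : D.IsConj P Q) : D'.IsConj (im P (ex θ)) (im Q (ex θ)) := by
  obtain ⟨f, b, rfl⟩ := isConj_iff'.1 a
  obtain ⟨f', c, d⟩ := h.ind b
  exact im_ind (h.subF b) d ▸ c.isConj

theorem diff_inn (a : HH θ D' P) (j : JJ D θ P) (hf : M D P f) (hg : M D P g)
    (e : ∀ x ∈ P, ex θ (f x) = ex θ (g x)) : ∃ z ∈ P, ∀ x ∈ P, f x = g (z * x * z⁻¹) := by
  obtain ⟨k, k0, -, k2, -⟩ := hg.exists_inv
  have m : ∀ x ∈ P, f x ∈ im P g := fun x hx =>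
    h.mem_of_eq (h.subF hg) a.1 hx (h.T_le (hf.mem hx)) (e x hx).symm
  obtain ⟨g', b, c⟩ := h.ind hg
  obtain ⟨z, z1, z2⟩ := j _ (hf.comp k0 m) (fun x hx => (k2 _ (m x hx)).1) fun x hx =>
    b.inj (mem_im_of _ (k2 _ (m x hx)).1) (mem_im_of _ hx) (by
      rw [c _ (k2 _ (m x hx)).1, (k2 _ (m x hx)).2, c x hx, e x hx])
  exact ⟨z, z1, fun x hx => by rw [← z2 x hx, (k2 _ (m x hx)).2]⟩

variable [Finite S] [hp : Fact p.Prime] (hS : IsPGroup p S)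
include hS

theorem liftK {N : FusionSystem V'} (hN : N.IsSaturated p) (l : N.IsSubsystemOf D')
    (n : N.IsNormal U') (hc : ∀ P', N.IsCentric P' → U' ≤ P' → D'.IsCentric P')
    (e : preimageAlong θ U' = U) {K : Subgroup (MulAut U)} (k1 : autInducedBy T U ≤ K)
    (k2 : piRes {p} (B.autGroup U) ≤ K) (hf : M N P' f') :
    ∃ g, M D (preimageAlong θ P' ⊔ U) g ∧ (∀ x ∈ preimageAlong θ P', f' (ex θ x) = ex θ (g x)) ∧
      Kf K g := by
  haveI := h.sm.finite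
  have l1 := sub_le l
  have l2 := l1.trans h.T'_le
  haveI := finite_of_le l2
  have hS' := (h.sm.pgroup hS).to_le l2
  have hθ := homOn_ex θ
  have uT : U ≤ T := e ▸ h.pre_le_T (n.1.trans l1)
  refine alperin_pp hS' hN (fun P' f' => ∃ g, M D (preimageAlong θ P' ⊔ U) g ∧
    (∀ x ∈ preimageAlong θ P', f' (ex θ x) = ex θ (g x)) ∧ Kf K g) ?_ ?_ ?_ ?_ ?_ P' f' hf
  · rintro P' f' g' ⟨g, a, b, c⟩ e
    exact ⟨g, a, fun x hx => (e _ (mem_pre.1 hx).2).trans (b x hx), c⟩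
  · intro P' a s' b
    obtain ⟨s, c, rfl⟩ := h.sm.sur l2 b
    have c' := h.pre_le_T l1 c
    have d : s ∈ N[U] := e ▸ mem_norm_pre (pre_le c) (normal_le_norm n b)
    exact ⟨_, M_conj (sup_le (h.pre_le_T (a.trans l1)) uT) c', fun x hx =>
      (hθ.conj (pre_le c) (pre_le hx)).symm, (Kf_cA d).2 (k1 (cA_mem d c'))⟩
  · rintro P' Q' f' g' - - ⟨f, a, b, c⟩ ⟨g, a', b', c'⟩ m
    have m' : ∀ x ∈ preimageAlong θ P', f x ∈ preimageAlong θ Q' := fun x hx =>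
      mem_pre.2 ⟨h.T_le (a.mem (mem_sup_left hx)), b x hx ▸ m _ (mem_pre.1 hx).2⟩
    refine ⟨_, a.comp a' (im_le_iff.1 ?_), fun x hx => by
      beta_reduce; rw [b x hx, b' _ (m' x hx)], c.comp c'⟩
    rw [a.homOn.im_sup, c.im_eq]
    exact sup_le_sup_right (im_le_iff.2 m') _
  · rintro P' f' g' hf ⟨f, a, b, c⟩ e'
    obtain ⟨j, j0, j1, -⟩ := a.exists_inv
    have e1 := h.im_lift (h.subF (a.mono le_sup_left)) ((hf.sub l).sub h.nor.1.2.2.1) b
    rw [a.homOn.im_sup, c.im_eq, e1] at j0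
    refine ⟨j, j0, fun y hy => ?_, c.inv fun x hx => j1 x (mem_sup_right hx)⟩
    obtain ⟨x, hx, rfl⟩ := (a.mem_im' le_sup_left).1 (e1.ge hy)
    rw [← b x hx, e' _ (mem_pre.1 hx).2, j1 x (mem_sup_left hx)]
  intro P' _ c r f' hf m ⟨k, o1, o2⟩
  have u := normal_le_cr hS' n c r
  have u' : U ≤ preimageAlong θ P' := e ▸ pre_mono u
  obtain ⟨f, a, b⟩ := h.sm.lift _ _ ((hf.sub l).sub h.nor.1.2.2.1)
  have m' : ∀ x ∈ preimageAlong θ P', f x ∈ preimageAlong θ P' := fun x hx =>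
    mem_pre.2 ⟨a.mem hx, b x hx ▸ m _ (mem_pre.1 hx).2⟩
  obtain ⟨i, o⟩ := pp_part' a m' o1
  have b' : ∀ x ∈ preimageAlong θ P', f' (ex θ x) = ex θ (f^[1 + k * i] x) := fun x hx => by
    rw [← iter_semi' m' b _ x hx, iterate_add_apply, iterate_mul,
      iterate_fixed (o2 _ (mem_pre.1 hx).2)]; rfl
  have a' := h.of_lift (M.iter a m' _) (hf.sub l) b'
  have mU : ∀ x ∈ U, f^[1 + k * i] x ∈ U := fun x hx => e ▸ mem_pre.2
    ⟨h.T_le (a'.mem (u' hx)), b' x (u' hx) ▸ sc_mem (normal_sc n) hf (mem_pre.1 (u' hx)).2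
      (mem_pre.1 (e.ge hx)).2⟩
  haveI := finite_of_le h.T_le
  obtain ⟨α, a1, a2⟩ := (a'.mono u').exists_aut (a'.im_eq_of_le u' mU)
  exact ⟨_, (h.gen _ _ (h.HH_pre (hc _ c u)) a' (iter_mem m' _) o).mono (sup_le le_rfl u'), b', α,
    k2 (mem_piRes a1 ((piN_compl_singleton' hp.out).2 ((o.mono u').congr mU a2).cop)), a2⟩

theorem lift (hf : M D' P' f') : ∃ g, M D (preimageAlong θ P') g ∧
    (∀ x ∈ preimageAlong θ P', f' (ex θ x) = ex θ (g x)) ∧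
    ∀ Q' ≤ P', im (preimageAlong θ Q') g = preimageAlong θ (im Q' f') := by
  obtain ⟨g, a, b, -⟩ := h.liftK hS h.nor.1.1 (fun _ _ a => a) normal_bot (fun _ a _ => a) rfl
    (K := ⊤) le_top le_top hf
  exact ⟨g, a.mono le_sup_left, b, fun Q' l => h.im_lift (h.subF (a.mono ((pre_mono l).trans
    le_sup_left))) ((hf.mono l).sub h.nor.1.2.2.1) fun x hx => b x (pre_mono l hx)⟩

theorem nmap (a : HH θ D' R) (b : HH θ D' U) (fn : D'.IsFullyNormalized (im U (ex θ)))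
    (c : D.IsConj R U) : ∃ k, M D (normalizerIn T R) k ∧ im R k = U := by
  haveI := h.sm.finite
  haveI := finite_of_le h.T'_le
  obtain ⟨k', k0, k1⟩ := sat_nmap ((h.sm.pgroup hS).to_le h.T'_le) h.nor.1.1 fn (h.conj' c)
  obtain ⟨k, k2, -, k3⟩ := h.lift hS k0
  have := k3 _ (le_nI a.2.2.1)
  rw [k1, pre_im' a.2.1 a.1, pre_im' b.2.1 b.1] at this
  exact ⟨k, k2.mono fun x hx => mem_pre.2 ⟨h.T_le hx.1, (h.memT.1 hx.1).2,
    (homOn_ex θ).mem_norm' a.2.1 (h.T_le hx.1) hx.2⟩, this⟩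

theorem exists_fn' (a : HH θ D' P) : ∃ U, HH θ D' U ∧ D'.IsFullyNormalized (im U (ex θ)) ∧
    D.IsConj P U := by
  haveI := h.sm.finite
  haveI := finite_of_le h.T'_le
  obtain ⟨U', c1, c2⟩ := exists_fn D' a.2.2.1
  obtain ⟨k', k0, rfl⟩ := isConj_iff'.1 c1
  obtain ⟨k, k2, -, k3⟩ := h.lift hS k0
  have := k3 _ le_rfl
  rw [pre_im' a.2.1 a.1] at this k2
  exact ⟨_, h.HH_pre (centric_conj a.2.2 c1), by rwa [h.sm.im_pre' (c2.1.trans h.T'_le)],
    this ▸ k2.isConj⟩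

theorem dlem2 (a : HH θ D' U) (fn : D'.IsFullyNormalized (im U (ex θ))) (j : JJ D θ W)
    (l : U ≤ W) (n : W ≤ N[U]) (hf : M D W f) (e : im U f = U) : Kf (AA F B p U) f := by
  haveI := h.sm.finite
  haveI := finite_of_le h.T'_le
  have hS' := (h.sm.pgroup hS).to_le h.T'_le
  have b := h.HH_mono a l hf.le
  obtain ⟨N, hN⟩ := exists_N D' fn.1
  obtain ⟨f', c, d⟩ := h.ind hf
  obtain ⟨g, g0, g1, g2⟩ := h.liftK hS (sat_N hS' h.nor.1.1 fn hN) (N_sub hN) (N_normal hN fn.1)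
    (fun P' u v => centric_mono a.2.2 v (u.1.trans nI_le)) (pre_im' a.2.1 a.1)
    (autInd_le_AA (h.HH_le a) h.T_le) (piRes_le_AA (h.HH_le a))
    (N_of hN c le_rfl (im_mono _ l) (im_le_iff.2 fun x hx => (homOn_ex θ).mem_norm' a.2.1 (b.2.1 hx)
      (n hx)) (by rw [im_ind ((h.subF hf).mono l) fun x hx => d x (l hx), e]))
  rw [pre_im' b.2.1 b.1] at g0 g1
  obtain ⟨z, z1, z2⟩ := h.diff_inn b j hf (g0.mono le_sup_left) fun x hx => by
    rw [← d x hx, g1 x hx]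
  exact (((Kf_cA (n z1)).2 (autInd_le_AA (h.HH_le a) h.T_le (cA_mem _ (hf.le z1)))).comp g2).congr
    fun x hx => z2 x (l hx)

theorem gen_ind2 (X : Subgroup Ω → Prop) (hXc : ∀ P f, M D P f → X P → X (im P f))
    (Y : Subgroup Ω → (Ω → Ω) → Prop)
    (hcongr : ∀ P f g, Y P f → (∀ x ∈ P, g x = f x) → Y P g)
    (hcomp : ∀ P f g, X P → M D P f → M D (im P f) g → Y P f → Y (im P f) g →
      Y P fun x => g (f x))
    (hinv : ∀ P f g, X P → M D P f → Y P f → (∀ x ∈ P, g (f x) = x) → Y (im P f) g)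
    (hbase : ∀ P Q f, X P → P < Q → Q ≤ N[P] → M D Q f → Y P f)
    (hgen : ∀ P f, X P → M B P f → (∀ x ∈ P, f x ∈ P) → PPo p P f → Y P f)
    (htop : X T → ∀ s ∈ T, Y T fun x => s * x * s⁻¹) : ∀ P f, X P → M D P f → Y P f := by
  haveI := finite_of_le h.T_le
  have hb : ∀ Q f, M D Q f → ∀ P ≤ Q, P ≠ Q → X P → Y P f := fun Q f hf P l ne x =>
    hbase P _ f x (lt_nI (hS.to_le h.T_le) hf.le (lt_of_le_of_ne l ne)) inf_le_right
      (hf.mono inf_le_left)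
  obtain ⟨E, hE⟩ := exists_subFS D T (fun P f => M D P f ∧ ∀ R ≤ P, X R → Y R f)
    (fun _ _ h => h.1) (fun _ _ h => ⟨h.1.le, fun _ => h.1.mem⟩)
    (fun P f g h e => ⟨h.1.congr e, fun R l x => hcongr _ _ _ (h.2 R l x) fun y hy => e y (l hy)⟩)
    (fun P l g hg => ⟨M_conj l hg, fun R l' x => by
      by_cases e : R = T
      · subst e; exact htop x g hg
      · exact hb T _ (M_conj le_rfl hg) R (l'.trans l) e x⟩)
    (fun P Q f g a b m => ⟨a.1.comp b.1 m, fun R l x => by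
      have l' : im R f ≤ Q := im_le_iff.2 fun y hy => m y (l hy)
      exact hcomp _ _ _ x (a.1.mono l) (b.1.mono l') (a.2 R l x)
        (b.2 _ l' (hXc _ _ (a.1.mono l) x))⟩)
    (fun P f a => by
      obtain ⟨g, b, c, d, e⟩ := a.1.exists_inv
      refine ⟨g, ⟨b, fun R l x => ?_⟩, c⟩
      have l' : im R g ≤ P := e ▸ im_mono g l
      have x' := hXc _ _ (b.mono l) x
      have := hinv _ _ g x' (a.1.mono l') (a.2 _ l' x') fun y hy => c y (l' hy)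
      rwa [(b.mono l).im_im, im_of_eq fun y hy => (d y (l hy)).2] at this)
  refine fun P f x hf => ((hE _ _).1 (((h.hD P f).1 hf).2 E fun Q g a b c d =>
    (hE _ _).2 ⟨h.gen Q g a b c d, fun R l x => ?_⟩)).2 P le_rfl x
  by_cases e : R = Q
  · subst e; exact hgen _ _ x b c d
  · exact hb Q _ (h.gen Q g a b c d) R l e x

omit hS in
theorem gen_AA (b : M B P f) (m : ∀ x ∈ P, f x ∈ P) (o : PPo p P f) : Kf (AA F B p P) f := by
  haveI := finite_of_le h.T_le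
  obtain ⟨α, a1, a2⟩ := b.exists_aut (b.im_eq_of_le le_rfl m)
  exact ⟨α, piRes_le_AA b.le (mem_piRes a1 ((piN_compl_singleton' hp.out).2 (o.congr m a2).cop)), a2⟩

theorem aut_step (a : HH θ D' P)
    (ih : ∀ W : Subgroup Ω, HH θ D' W → Nat.card P < Nat.card W → JJ D θ W)
    (hf : M D P f) (m : ∀ x ∈ P, f x ∈ P) : Kf (AA F B p P) f := by
  haveI := finite_of_le h.T_le
  have hT := hS.to_le h.T_le
  rcases (h.HH_le a).eq_or_lt with rfl | hlt
  · exact h.gen_ind2 hS (· = P) (fun _ _ b c => by subst c; exact b.im_top)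
      (fun R f => R = P → Kf (AA F B p P) f) (fun _ _ _ b c e => (b e).congr (e ▸ c))
      (fun _ _ _ _ b _ c d e => by subst e; exact (c rfl).comp (d b.im_top))
      (fun _ _ _ e _ b c _ => (b e).inv (e ▸ c))
      (fun _ _ _ e b _ c => absurd c.le (e ▸ b).2) (fun _ _ e b c d _ => by
        subst e; exact h.gen_AA b c d) (fun _ s b _ => (Kf_cA (le_normalizer b)).2
          (autInd_le_AA le_rfl h.T_le (cA_mem _ b))) P f rfl hf rfl
  let Y : Subgroup Ω → (Ω → Ω) → Prop := fun R f => ∀ U k k', HH θ D' U →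
    D'.IsFullyNormalized (im U (ex θ)) → M D (normalizerIn T R) k → im R k = U →
    M D (normalizerIn T (im R f)) k' → im (im R f) k' = U →
    ∃ α ∈ AA F B p U, ∀ x ∈ R, af α (k x) = k' (f x)
  have hbase : ∀ R Q f, HH θ D' R ∧ Nat.card R = Nat.card P → R < Q → Q ≤ N[R] → M D Q f →
      Y R f := fun R Q f x l n hf U k k' b fn c d c' d' => by
    have l1 : Q ≤ normalizerIn T R := le_inf hf.le n
    obtain ⟨j, j0, j1, j2, -⟩ := (c.mono l1).exists_inv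
    have l2 : U < im Q k := d ▸ c.im_lt_im l l1
    obtain ⟨α, a1, a2⟩ := h.dlem2 hS b fn (ih _ (h.HH_mono b l2.le j0.le) (by
      rw [(c.mono l1).card_im, ← x.2]; exact card_lt_of_lt' hf.le l)) l2.le
      (d ▸ im_le_iff.2 fun y hy => c.mem_norm (l.le.trans l1) (l1 hy) (n hy))
      ((j0.comp hf fun y hy => (j2 y hy).1).comp c' fun y hy =>
        ⟨hf.mem (j2 y hy).1, hf.mem_norm l.le (j2 y hy).1 (n (j2 y hy).1)⟩) (by
        rw [← d, (c.mono (l.le.trans l1)).im_im, im_congr (g := fun x => k' (f x))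
          fun y hy => by beta_reduce; rw [j1 y (l.le hy)], ← (hf.mono l.le).im_im, d', d])
    exact ⟨α, a1, fun y hy => by
      rw [a2 _ (d ▸ mem_im_of _ hy)]; beta_reduce; rw [j1 y (l.le hy)]⟩
  have := h.gen_ind2 hS (fun R => HH θ D' R ∧ Nat.card R = Nat.card P)
    (fun R f b c => ⟨h.HH_im c.1 (h.subF b), b.card_im.trans c.2⟩) Y
    (fun R f g b e U k k' c fn d1 d2 d3 d4 => by
      rw [im_congr e] at d3 d4
      obtain ⟨α, a1, a2⟩ := b U k k' c fn d1 d2 d3 d4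
      exact ⟨α, a1, fun x hx => by rw [a2 x hx, e x hx]⟩)
    (fun R f g x b b' c c' U k k' d fn d1 d2 d3 d4 => by
      rw [← b.im_im] at d3 d4
      obtain ⟨j, j0, j1⟩ := h.nmap hS (h.HH_im x.1 (h.subF b)) d fn (fconj_trans (fconj_symm
        b.isConj) (d2 ▸ (d1.mono (le_nI b.le)).isConj))
      obtain ⟨α, a1, a2⟩ := c U k j d fn d1 d2 j0 j1
      obtain ⟨β, b1, b2⟩ := c' U j k' d fn j0 j1 d3 d4
      exact ⟨β * α, mul_mem b1 a1, fun y hy => by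
        rw [af_mul _ _ (d2 ▸ mem_im_of _ hy), a2 y hy, b2 _ (mem_im_of _ hy)]⟩)
    (fun R f g _ b c e U k k' d fn d1 d2 d3 d4 => by
      rw [b.im_im, im_of_eq e] at d3 d4
      obtain ⟨α, a1, a2⟩ := c U k' k d fn d3 d4 d1 d2
      refine ⟨α⁻¹, inv_mem a1, fun y hy => ?_⟩
      obtain ⟨x, hx, rfl⟩ := b.mem_im.1 hy
      rw [← a2 x hx, af_inv_af _ (d4 ▸ mem_im_of _ hx), e x hx]) hbase
    (fun R f x b c o U k k' d fn d1 d2 d3 d4 => by
      rw [b.im_eq_of_le le_rfl c] at d3 d4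
      have l : R < T := lt_of_le_of_ne b.le fun e => (card_lt_of_lt' le_rfl hlt).ne' (e ▸ x.2)
      obtain ⟨α, a1, a2⟩ := hbase R _ _ x (lt_nI hT le_rfl l) inf_le_right (M_id inf_le_left) U k k' d
        fn d1 d2 (by rwa [im_id]) (by rwa [im_id])
      have k0 := h.subF (d1.mono (le_nI b.le))
      obtain ⟨β, b1, b2⟩ := h.gen_AA b c o
      refine ⟨α * k0.tr d2 β, mul_mem a1 (h.AA_tr b.le k0 d2 b1), fun y hy => ?_⟩
      rw [af_mul _ _ (d2 ▸ mem_im_of _ hy), k0.af_tr d2 β hy, b2 y hy, a2 _ (c y hy)])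
    (fun x => absurd x.2 (card_lt_of_lt' le_rfl hlt).ne') P f ⟨a, rfl⟩ hf
  obtain ⟨U, b, fn, c⟩ := h.exists_fn' hS a
  obtain ⟨k, k0, k1⟩ := h.nmap hS a b fn c
  have e := hf.im_eq_of_le le_rfl m
  obtain ⟨α, a1, a2⟩ := this U k k b fn k0 k1 (by rwa [e]) (by rwa [e])
  obtain ⟨j, j0, j1, j2, j3⟩ := (k0.mono (le_nI hf.le)).exists_inv' k1
  exact h.Kf_tr (h.HH_le b) (h.subF j0) j3 (Kf.af a1) fun y hy => by
    conv_rhs => rw [← (j2 y hy).2, a2 _ (j2 y hy).1, j1 _ (m _ (j2 y hy).1)]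

variable (hF : F.IsSaturated p)
include hF

theorem jj (a : HH θ D' P) : JJ D θ P :=
  down_ind (S := S) (p := fun P => HH θ D' P → JJ D θ P) (fun _ _ ih a f b c d => h.AA_ker hS hF a
    (h.aut_step hS a (fun W a' e => ih W a'.2.1 e a') b c) d) P a.2.1 a

end LD
end CfsgH2
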