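import Cfsg.Agent.H2.Sa6
import Cfsg.Agent.L0.Fus14
import Cfsg.Agent.H1.Sep

/-! Terminating residual series and `p`-solvable models. -/

namespace CfsgH2
open Cfsg Subgroup CfsgL0 Function CfsgH1
open Cfsg.FusionSystem hiding inv_mem center

variable {Ω : Type*} [Group Ω] {S T U V : Subgroup Ω} {F : FusionSystem S} {P Q R : Subgroup Ω}
  {f g : Ω → Ω} {p : ℕ} {E : FusionSystem T} {D : FusionSystem U}

theorem sep_up {G : Type*} [Group G] [Finite G] {A B : Subgroup G} {𝒮 : Set (Set ℕ)} {π : Set ℕ}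
    (hπ : π ∈ 𝒮) (l : B ≤ A) (n : A ≤ N[B]) (h : piRes π A ≤ B) (hB : CfsgH1.Sep 𝒮 B) :
    CfsgH1.Sep 𝒮 A := by
  haveI := normal_subgroupOf_of_le_normalizer n
  exact Sep.extension (N := B.subgroupOf A) (hB.of_mulEquiv (subgroupOfEquivOfLe l).symm)
    (Sep.of_piNum hπ (piN_relIndex_piRes.of_dvd (relIndex_dvd_of_le_left _ h)))

/-- constrained with `p`-solvable automizers -/
def FPS (F : FusionSystem S) (p : ℕ) : Prop :=
  F.IsConstrained p ∧ ∀ P ≤ S, CfsgH1.Sep {{p}, {p}ᶜ} (F.autGroup P)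

variable [Finite S] [hp : Fact p.Prime] (hS : IsPGroup p S)
include hS

theorem FPS.sub (h : FPS F p) (hE : E.IsWeaklyNormalIn F p) : FPS E p :=
  ⟨constrained_sub hS h.1 hE.1 hE.2.2.1 hE.2.2.2.1, fun P hP =>
    (h.2 P (hP.trans hE.2.2.2.1.1)).of_le (aut_mono hE.2.2.1)⟩

theorem FPS.up {E : FusionSystem S} (h : FPS E p) (hE : E.IsWeaklyNormalIn F p) : FPS F p :=
  ⟨constrained_of_cI hE.2.1 (inv_core_normal hS hE.2.1 hE.2.2) (centric_cI (constrained_core h.1)),
    fun P hP => haveI := finite_of_le hP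
      sep_up (π := {p}ᶜ) (by simp) (aut_mono hE.2.2.1) ((si_of_inv hE.2.2).le_norm hP le_rfl)
        ((si_of_inv hE.2.2).ptp hS hE.2.1 hP) (h.2 P hP)⟩

theorem pgroup_of_hyp (hP : P ≤ S) (l : Q ≤ P) {K : Subgroup (MulAut P)} (h1 : K ≤ F.autGroup P)
    (h2 : ∀ α ∈ K, ∀ x ∈ Q, af α x = x)
    (h3 : ∀ α ∈ K, ∀ x ∈ P, x⁻¹ * af α x ∈ F.hyperfocalSubgroup p → x⁻¹ * af α x ∈ Q) :
    IsPGroup p K := by
  haveI := finite_of_le hP
  exact isPGroup_of_coprime fun α a k b c => eq_one_of_coprime_order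
    (pgroup_of_fix hS hP l (h2 α a) fun x hx => h3 α a x hx (mem_hyp' hP (h1 a) b c hx))
    (mem_zpowers α) (c.coprime_dvd_left (orderOf_dvd_of_pow_eq_one b))

theorem FPS.up' {D : FusionSystem (F.hyperfocalSubgroup p)} (h : FPS D p) (hF : F.IsSaturated p)
    (hD : F.IsPResidual p D) : FPS F p := by
  have w := pres_wn hS (self_normal hS hF).1 hD
  have hU := w.2.2.2.1
  haveI := finite_of_le hU.1
  constructor
  · have n := inv_core_normal hS hF w.2.2
    have c := centric_cI (constrained_core h.1)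
    refine constrained_of_cI hF (normal_of_sc hS hF (sc_sup_cI hS hF (normal_sc n)) fun P e => ?_)
      ((inf_le_inf_left _ (cent_anti le_sup_left)).trans le_sup_right)
    have r := ess_radical hS hF e
    have l := normal_le_cr hS n e.1 r
    haveI := finite_of_le e.1.1
    refine sup_le l (le_of_cr hS e.1 r cI_le (le_norm_inf (le_norm_of_le e.1.1)
      (le_norm_cent (e.1.1.trans (normal_le_norm n)))) fun x hx hn => ?_)
    refine le_pCoreOf (K := F.autGroup P ⊓ KS P l ⊥) inf_le_left (le_norm_inf le_normalizer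
      fun β b => mem_norm_of_conj fun α a => Kf_conj (F := F) (by rw [norm_bot]; exact le_top)
        (((mem_aut e.1.1).1 b).mono l) (normal_im n ((mem_aut e.1.1).1 b) l) a
        fun x hx => af_conj _ _ (l hx))
      (pgroup_of_hyp hS e.1.1 l inf_le_left (fun α a => Kf_bot.1 a.2) fun α a x hx u =>
        c ⟨u, mem_cent_iff.2 fun y hy => ?_⟩)
      ⟨autInd_le_aut e.1.1 le_rfl (cA_mem _ hx.1), Kf_bot.2 fun y hy => ?_⟩
    · have v := (homOn_af α).conj hx (l hy)
      rw [Kf_bot.1 a.2 _ (conj_mem_of_norm (normal_le_norm n (e.1.1 hx)) hy),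
        Kf_bot.1 a.2 y hy] at v
      calc y * (x⁻¹ * af α x) = x⁻¹ * (x * y * x⁻¹) * af α x := by group
        _ = _ := by rw [v]; group
    · rw [af_cA _ (l hy), ← mem_cent_iff.1 hx.2 y hy]; group
  · intro P hP
    haveI := finite_of_le hP
    have l : P ⊓ F.hyperfocalSubgroup p ≤ P := inf_le_left
    haveI := finite_of_le (l.trans hP)
    have st : F.autGroup P ≤ stabA l := fun α a =>
      (((mem_aut hP).1 a).im_inf_sc hU).trans (by rw [im_af])
    let φ := (resA l).comp (inclusion st)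
    have e : ∀ α : F.autGroup P, ∀ x ∈ P ⊓ F.hyperfocalSubgroup p, af (φ α) x = af α.1 x :=
      fun α x hx => af_resA _ hx
    refine Sep.of_quotient_piNum (N := φ.ker) (σ := {p}) (by simp) (piNum_singleton_card_iff.2 ?_)
      (Sep.of_mulEquiv (QuotientGroup.quotientKerEquivRange φ).symm (Sep.of_le (sep_up (π := {p})
        (by simp) (aut_mono w.2.2.1) ((si_of_inv w.2.2).le_norm inf_le_right hU.1)
        ((ppi_iff.1 hD.2).2.2 _ inf_le_right) (h.2 _ inf_le_right)) ?_))
    · refine (pgroup_of_hyp hS hP l (map_subtype_le φ.ker) ?_ fun α _ x hx u =>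
        ⟨P.mul_mem (P.inv_mem hx) (af_mem _ hx), u⟩).of_equiv (equivMapOfInjective _ _
          (subtype_injective _)).symm
      rintro _ ⟨α, a, rfl⟩ x hx
      exact (e α x hx).symm.trans (by rw [show φ α = 1 from a, af_one hx])
    · rintro _ ⟨α, rfl⟩
      exact ((((mem_aut hP).1 α.2).mono l).congr (e α)).af_mem_aut

theorem FPS.eq_bot (h : FPS F p) (s : Stb p F) : S = ⊥ := by
  have hF := h.1.1
  have n := normal_core (F := F)
  have w := (inner_normal hS hF n).1
  haveI := finite_of_le n.1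
  haveI := normal_subgroupOf_of_le_normalizer ((si_of_inv w.2.2).le_norm le_rfl n.1)
  obtain ⟨U, D, e, a, -, c, d⟩ := st_bot hS w ((isPSolvable_iff hp.out).2 ((h.2 _ n.1).quotient _))
  have l := d S F s (self_normal hS hF).1
  rw [NSK_aut hS w, sup_eq_left.2 (centric_cI (constrained_core h.1))] at e
  have e1 : S ≤ F.core := e ▸ sub_le l
  rw [← s.1, eq_bot_iff]
  refine hyp_le_iff'.2 fun P hP α hα co x hx => ?_
  haveI := finite_of_le hP
  obtain ⟨g, u, v, z⟩ := normal_ext n ((mem_aut hP).1 hα)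
  obtain ⟨β, i, j⟩ := (u.mono le_sup_right).exists_aut z
  obtain ⟨-, k, t, q⟩ := M_inner.1 ((mem_aut le_rfl).1 (c ▸ aut_mono l i))
  rw [eq_one_of_coprime_order (isPGroup_autInd hS) (mem_autInd'.2 ⟨k, n.1 t, fun y hy => by
    rw [← v y hy, ← j y (e1 (hP hy)), q y (e1 (hP hy))]⟩) co, af_one hx]
  simp

omit hS [Finite S] in
theorem FPS.term (n : ℕ) : ∀ {S : Subgroup Ω} [Finite S] {F : FusionSystem S}, IsPGroup p S →
    Nat.card S < n → FPS F p → F.HasTerminatingResidualSeries p := by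
  induction n with
  | zero => exact fun _ h => absurd h (Nat.not_lt_zero _)
  | succ n ih =>
    intro S _ F hS c h
    by_cases e : S = ⊥
    · exact .trivial _ _ e
    have hF := h.1.1
    obtain ⟨E, a, -⟩ := exists_ppr hS hF
    have w := (ppr_normal hS hF (self_normal hS hF).1 a).1
    obtain ⟨D, b⟩ := exists_ppi hS a.1 le_rfl hyp_le
    haveI := finite_of_le (hyp_le (F := E) (p := p))
    refine .step F E p D a b (ih (hS.to_le hyp_le) ?_
      ((h.sub hS w).sub hS (pres_wn hS (self_normal hS a.1).1 b)))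
    refine (card_lt_of_lt' le_rfl (lt_of_le_of_ne hyp_le fun e1 => e ((h.sub hS w).eq_bot hS
      ⟨e1, ?_⟩))).trans_le (Nat.lt_succ_iff.1 c)
    obtain ⟨L, d, -⟩ := exists_ppr hS a.1
    have w' := (ppr_normal hS hF w d).1
    rwa [fs_le_antisymm d.2.1.1 (a.2.2 L d.1 (ptp_iff.2 ⟨w'.2.2.1, fun P =>
      (si_of_inv w'.2.2).ptp hS hF⟩))] at d

omit hS [Finite S] hp in
theorem ps_of_term (h : F.HasTerminatingResidualSeries p) : ∀ [Fact p.Prime] [Finite S],
    IsPGroup p S → F.IsSaturated p → FPS F p := by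
  induction h with
  | trivial F p e =>
    intro _ _ _ hF
    refine ⟨constrained_of_cI hF normal_bot (cI_le.trans e.le), fun P hP => ?_⟩
    haveI : Subsingleton (F.autGroup P) := ⟨fun a b => Subtype.ext (af_ext fun x hx => by
      rw [mem_bot.1 (e.le (hP hx)), (homOn_af _).one, (homOn_af _).one])⟩
    exact Sep.of_subsingleton
  | step F E p D a b _ ih =>
    intro _ _ hS hF
    haveI := finite_of_le (hyp_le (F := E) (p := p))
    exact ((ih (hS.to_le hyp_le) b.1).up' hS a.1 b).up hS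
      (ppr_normal hS hF (self_normal hS hF).1 a).1

omit hS in
theorem FPS.model (h : FPS F p) {G : Type*} [Group G] {ι : S →* G} (hL : F.IsModel p G ι) :
    IsPSolvable p G := by
  haveI := hL.1
  obtain ⟨ρ, hρ⟩ := model_prem hL normal_core (centric_cI (model_centric hL))
  refine (isPSolvable_iff Fact.out).2 (Sep.of_quotient_piNum (N := ρ.ker) (σ := {p})
    (by simp) (piNum_singleton_card_iff.2 ((model_syl hL).pg.to_le fun x hx => ?_))
    ((h.2 _ core_le).of_mulEquiv (QuotientGroup.quotientKerEquivOfSurjective ρ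
      (hρ.surj core_le)).symm))
  obtain ⟨z, a, rfl⟩ := hρ.ker x hx
  exact ⟨_, (ex_apply ι (core_le a)).symm⟩

omit hS in
theorem ps_of_model {G : Type*} [Group G] {ι : S →* G} (hL : F.IsModel p G ι)
    (h : IsPSolvable p G) : FPS F p := by
  haveI := hL.1
  refine ⟨model_constrained hL, fun P hP =>
    Sep.of_mulEquiv ((model_smor hL).autEquiv hL.2.1.1 hP rfl).symm ?_⟩
  rw [group_eq_sub, sub_aut ((model_smor hL).toMor.im_le hP), autInd_eq]
  exact ((((isPSolvable_iff hp.out).1 h).subgroup _).subgroup _).map _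

end CfsgH2
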