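import Cfsg.Agent.H2.Sa13
import Cfsg.Agent.H2.Sa7

/-! Lifting a normal subsystem through a central quotient, part 3; constrained systems. -/

namespace CfsgH2
open Cfsg Subgroup CfsgL0 Function
open Cfsg.FusionSystem hiding inv_mem center

variable {Ω : Type*} [Group Ω] {S T U W X Y : Subgroup Ω} {F : FusionSystem S}
  {P Q R : Subgroup Ω} {f g : Ω → Ω} {p : ℕ} {B D E : FusionSystem T}
  {Ω' : Type*} [Group Ω'] {S' T' P' V' U' : Subgroup Ω'} {G : FusionSystem S'} {θ : S →* Ω'}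
  {D' : FusionSystem T'} {f' : Ω' → Ω'}

namespace LD
variable (h : LD F θ G D' p B D) [Finite S] [hp : Fact p.Prime] (hS : IsPGroup p S)
  (hF : F.IsSaturated p)
include h hS hF

theorem fa (a : HH θ D' U) (fn : D'.IsFullyNormalized (im U (ex θ))) : D.IsFullyAutomized p U := by
  haveI := h.sm.finite
  haveI := finite_of_le h.T'_le
  haveI := finite_of_le a.2.1
  haveI := finite_of_le fn.1
  haveI := finite_of_le h.T_le
  have l := h.HH_le a
  have hθ := homOn_ex θ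
  have lf : ∀ t' ∈ T', t' ∈ N[im U (ex θ)] → ∃ t ∈ T, t ∈ N[U] ∧ ex θ t = t' := fun t' b c => by
    obtain ⟨t, ht, rfl⟩ := h.sm.sur h.T'_le b
    exact ⟨t, h.eT ▸ ht, pre_im' a.2.1 a.1 ▸ mem_norm_pre (pre_le ht) c, rfl⟩
  refine fa_iff.2 ⟨l, Syl.of_max (autInd_le_aut l le_rfl) (isPGroup_autInd (hS.to_le h.T_le))
    fun Q q1 q2 q3 => le_antisymm (fun α hα => ?_) q2⟩
  have q4 := q3.trans (aut_mono (sub_trans h.subB h.sub))
  have := (sat_syl ((h.sm.pgroup hS).to_le h.T'_le) h.nor.1.1 fn).eq_of_le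
    (Q := h.sm.toMor.indS a.2.1 rfl Q) (q1.comap_subtype.map _) (fun δ b => by
      obtain ⟨t', b1, b2, b3⟩ := mem_autInd.1 b
      obtain ⟨t, c1, c2, rfl⟩ := lf t' b1 b2
      exact (h.sm.toMor.mem_indS _ _).2 ⟨cA c2, q2 (cA_mem _ c1), q4 (q2 (cA_mem _ c1)),
        fun x hx => by rw [b3 _ (mem_im_of _ hx), af_cA _ hx, hθ.conj (h.T_le c1) (a.2.1 hx)]⟩)
    fun δ b => by
      obtain ⟨β, b1, -, b2⟩ := (h.sm.toMor.mem_indS _ _).1 b
      obtain ⟨f', c, d⟩ := h.ind ((mem_aut l).1 (q3 b1))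
      refine M.af_mem_aut (c.congr fun y hy => ?_)
      obtain ⟨x, hx, rfl⟩ := (mem_imθ a.2.1).1 hy
      rw [b2 x hx, d x hx]
  obtain ⟨t', b1, b2, b3⟩ := mem_autInd.1 (this.le ((h.sm.toMor.mem_indS _ _).2 ⟨α, hα, q4 hα,
    fun x hx => h.sm.toMor.af_ind a.2.1 rfl ⟨α, q4 hα⟩ hx⟩))
  obtain ⟨t, c1, c2, rfl⟩ := lf t' b1 b2
  obtain ⟨z, z1, z2⟩ := h.diff_inn a (h.jj hS hF a) ((mem_aut l).1 (q3 hα)) (M_conj l c1)
    fun x hx => by
      rw [hθ.conj (h.T_le c1) (a.2.1 hx), ← b3 _ (mem_im_of _ hx),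
        h.sm.toMor.af_ind a.2.1 rfl ⟨α, q4 hα⟩ hx]
  exact mem_autInd'.2 ⟨t * z, mul_mem c1 (l z1), fun x hx => by rw [z2 x hx]; group⟩

theorem rec' (a : HH θ D' U) (fn : D'.IsFullyNormalized (im U (ex θ))) : D.IsReceptive U := by
  haveI := h.sm.finite
  haveI := finite_of_le h.T'_le
  have hθ := homOn_ex θ
  refine rec_iff.2 ⟨h.HH_le a, fun P f hf e => ?_⟩
  obtain ⟨j, j0, -, -, j1⟩ := hf.exists_inv' e
  have b : HH θ D' P := j1 ▸ h.HH_im a (h.subF j0)
  obtain ⟨f', c, d⟩ := h.ind hf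
  obtain ⟨g', c', d'⟩ := (rec_iff.1 (sat_fn_rec ((h.sm.pgroup hS).to_le h.T'_le) h.nor.1.1 fn)).2
    _ f' c (by rw [im_ind (h.subF hf) d, e])
  obtain ⟨g, g0, g1, -⟩ := h.lift hS c'
  have l : Ext T P f ≤ preimageAlong θ (Ext T' (im P (ex θ)) f') := fun x hx => by
    obtain ⟨x1, x2, k, x3, x4⟩ := mem_Ext.1 hx
    refine mem_pre.2 ⟨h.T_le x1, mem_Ext.2 ⟨(h.memT.1 x1).2, hθ.mem_norm' b.2.1 (h.T_le x1) x2, _,
      (h.memT.1 x3).2, fun y hy => ?_⟩⟩
    obtain ⟨y, hy', rfl⟩ := (mem_imθ b.2.1).1 hy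
    rw [← hθ.conj (h.T_le x1) (b.2.1 hy'), d _ (conj_mem_of_norm x2 hy'), x4 y hy', d y hy',
      hθ.conj (h.T_le x3) (h.T_le (hf.mem hy'))]
  obtain ⟨z, z1, z2⟩ := h.diff_inn b (h.jj hS hF b) hf (g0.mono (hf.le_Ext.trans l)) fun x hx => by
    rw [← g1 x (l (hf.le_Ext hx)), d' _ (mem_im_of _ hx), d x hx]
  exact ⟨_, (M_conj Ext_le (hf.le z1)).comp (g0.mono l) fun x hx =>
    mul_mem (mul_mem (hf.le_Ext z1) hx) (inv_mem (hf.le_Ext z1)), fun x hx => (z2 x hx).symm⟩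

omit hS hF hp [Finite S] in
theorem exists_out (l : Q ≤ S) (l1 : preimageAlong θ ⊥ ≤ Q)
    (c : ¬ centralizerIn T' (im Q (ex θ)) ≤ im Q (ex θ)) :
    ∃ y ∈ T, y ∉ Q ∧ y ∈ N[Q] ∧ ∀ x ∈ Q, ex θ (y * x * y⁻¹) = ex θ x := by
  obtain ⟨y', a, b⟩ := SetLike.not_le_iff_exists.1 c
  obtain ⟨y, hy, rfl⟩ := h.sm.sur h.T'_le a.1
  exact ⟨y, h.eT ▸ hy, fun e => b (mem_im_of _ e), pre_im' l l1 ▸ mem_norm_pre (pre_le hy)
    (cent_le_norm _ a.2), fun x hx => by
      rw [(homOn_ex θ).conj (pre_le hy) (l hx), ← mem_cent_iff.1 a.2 _ (mem_im_of _ hx)]; simp⟩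

theorem sat : D.IsSaturated p := by
  haveI := finite_of_le h.T_le
  haveI := h.sm.finite
  haveI := finite_of_le h.T'_le
  refine sat_of_family (hS.to_le h.T_le) (H := {P | HH θ D' P}) (fun P a Q c => ?_) (fun P a => ?_)
    (fun E a => le_iff_M.2 fun P f b => ((h.hD P f).1 b).2 E fun Q g c d e o => ?_)
    (fun P c a => ?_) ?_
  · obtain ⟨f, b, rfl⟩ := isConj_iff'.1 c
    exact h.HH_im a (h.subF b)
  · obtain ⟨U, b, c, d⟩ := h.exists_fn' hS a
    exact ⟨U, d, h.fa hS hF b c, h.rec' hS hF b c⟩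
  · have := h.gen Q g c d e o
    exact (hom_iff' fun _ => rfl).1 (a Q c this.hom_mem)
  · have l := c.1.trans h.T_le
    have z : preimageAlong θ ⊥ ≤ P := fun z hz => centric_cI c (mem_cI.2 ⟨h.Z_le hz,
      mem_cent_iff.2 fun x hx => h.comm (l hx) hz⟩)
    obtain ⟨Q', b, d⟩ : ∃ Q', D'.IsConj (im P (ex θ)) Q' ∧ ¬ centralizerIn T' Q' ≤ Q' := by
      by_contra! e
      exact a ⟨z, l, h.im_le c.1, e⟩
    obtain ⟨k', k0, rfl⟩ := isConj_iff'.1 b
    obtain ⟨k, k1, -, k2⟩ := h.lift hS k0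
    have := k2 _ le_rfl
    rw [pre_im' l z] at this k1
    obtain ⟨y, y1, y2, y3, y4⟩ := h.exists_out (Q := im P k) (k1.im_le.trans h.T_le)
      (this ▸ ker_le_pre) (by rwa [this, h.sm.im_pre' (k0.im_le.trans h.T'_le)])
    have l' := k1.im_le.trans h.T_le
    haveI := finite_of_le l'
    refine ⟨_, k1.isConj, fun e => y2 (e ((mem_hat y3).2 ⟨y1, mem_Op_of_chain (hS.to_le l')
      (fun i => match i with | 0 => ⊥ | 1 => preimageAlong θ ⊥ | _ => im P k) (n := 2) le_rfl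
      (fun β _ _ _ _ x hx h => by rw [mem_bot.1 h, (homOn_af β).one])
      (fun β hβ i x hx u => match i with
        | 0 => by rw [mem_bot.1 u, (homOn_af β).one]; exact one_mem _
        | 1 => by rwa [central_fix h.cen (h.subF ((mem_aut k1.im_le).1 hβ)) hx u]
        | _ + 2 => af_mem _ hx) (autInd_le_aut k1.im_le le_rfl (cA_mem _ y1))
      fun i x hx u => match i with
        | 0 => by rw [af_cA _ hx, h.comm (h.T_le y1) u]; simp
        | 1 => by
          rw [af_cA _ hx]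
          exact (ex_eq_iff (l' hx) (l' (conj_mem_of_norm y3 hx))).1 (y4 x hx).symm
        | _ + 2 => mul_mem (inv_mem hx) (af_mem _ hx)⟩))⟩
  · exact ⟨h.Z_le, h.T_le, by rw [h.eT, h.sm.im_pre' h.T'_le]; exact centric_top⟩

omit hS hF in
theorem ai : AI D F := by
  obtain ⟨E, a, b, c⟩ := exists_aicore F D
  refine fs_le_antisymm b (le_iff_M.2 fun P f d => ((h.hD P f).1 d).2 E fun Q g u v m o =>
    (c _ _).2 ⟨h.gen Q g u v m o, fun α hα => ?_⟩) ▸ a
  have k := ((mem_aut h.T_le).1 hα).mono v.le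
  have e : ∀ x ∈ Q, (fun y => af α (g (af α⁻¹ y))) (af α x) = af α (g x) := fun x hx => by
    beta_reduce; rw [af_inv_af _ (v.le hx)]
  refine h.gen _ _ (h.HH_im u k) (h.si _ _ _ _ _ v k le_rfl m e) (fun y hy => ?_) (o.tr k.homOn m e)
  obtain ⟨x, hx, rfl⟩ := k.mem_im.1 hy
  rw [af_inv_af _ (v.le hx)]; exact mem_im_of _ (m x hx)

theorem wn : D.IsWeaklyNormalIn F p := by
  haveI := h.sm.finite
  have l := sub_trans h.subB h.sub
  refine ⟨h.sat hS hF, hF, inv_iff.2 ⟨l, h.sc, h.ai, frat_ind2 hS hF h.sc l h.ai fun P a b => ?_⟩⟩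
  haveI := finite_of_le b.1
  by_cases z : preimageAlong θ ⊥ ≤ P
  swap
  · obtain ⟨y, y1, y2⟩ := SetLike.not_le_iff_exists.1 z
    exact .inl ⟨y, h.Z_le y1, y2, fun f _ _ => cI_le_Ext (mem_cI.2 ⟨pre_le y1,
      mem_cent_iff.2 fun x hx => h.comm (b.1 hx) y1⟩)⟩
  by_cases c : centralizerIn T' (im P (ex θ)) ≤ im P (ex θ)
  · haveI := finite_of_le h.T'_le
    have u : HH θ D' P := ⟨z, b.1, centric_of_fc
      (sat_fn_fc ((h.sm.pgroup hS).to_le h.T'_le) h.nor.1.1 (h.fnD hS hF z a.le b)) c⟩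
    refine .inr ⟨AA F B p P, (h.AA_le_sup hS hF a.le b).trans (sup_le (autInd_le_aut a.le le_rfl)
      ((closure_le _).2 fun α d => (h.gen _ _ u ((mem_aut a.le).1 d.1) (fun _ => af_mem _)
        (ppo_af ((piN_compl_singleton' hp.out).1 d.2))).af_mem_aut)),
      fun χ d => mem_norm_of_conj fun β e => ?_, autInd_le_AA a.le h.T_le⟩
    obtain ⟨γ, e1, e2⟩ := h.Kf_tr (g := af (χ * β * χ⁻¹)) a.le ((mem_aut b.1).1 d) (im_af χ)
      (Kf.af e) fun x => af_conj _ _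
    exact af_ext e2 ▸ e1
  obtain ⟨y, y1, y2, y3, y4⟩ := h.exists_out b.1 z c
  refine .inl ⟨y, y1, y2, fun f hf e => ?_⟩
  obtain ⟨j, j0, j1, j2, -⟩ := hf.exists_inv' e
  obtain ⟨f', -, d⟩ := h.sm.mor P f hf
  have m : ∀ x ∈ P, y * j x * y⁻¹ ∈ P := fun x hx => conj_mem_of_norm y3 (j2 x hx).1
  obtain ⟨s, s1, s2⟩ := h.ker_S hS hF b ((j0.conj_comp (h.T_le y1)).comp hf m)
    (fun x hx => e ▸ mem_im_of _ (m x hx)) fun x hx => by
      rw [← d _ (m x hx), y4 _ (j2 x hx).1, d _ (j2 x hx).1, (j2 x hx).2]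
  exact mem_Ext.2 ⟨h.T_le y1, y3, s, s1, fun x hx => by
    rw [← s2 _ (e ▸ mem_im_of _ hx), j1 x hx]⟩

end LD

variable [Finite S] [hp : Fact p.Prime] (hS : IsPGroup p S) (hF : F.IsSaturated p)
include hS hF

theorem exists_lift (h : SMor F θ G) (hZ : F.IsCentral (preimageAlong θ ⊥))
    (hD : D'.IsNormalIn G p) : ∃ B D : FusionSystem (preimageAlong θ T'), LD F θ G D' p B D := by
  have l := hD.1.2.2.2.1.1
  obtain ⟨B, hB⟩ := exists_subFS F (preimageAlong θ T') (fun P f => M F P f ∧ P ≤ preimageAlong θ T' ∧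
      ∃ f', M D' (im P (ex θ)) f' ∧ ∀ x ∈ P, f' (ex θ x) = ex θ (f x)) (fun _ _ a => a.1)
    (fun P f ⟨a, b, f', c, d⟩ => ⟨b, fun x hx => mem_pre.2 ⟨a.mem hx, d x hx ▸ c.mem (mem_im_of _ hx)⟩⟩)
    (fun P f g ⟨a, b, f', c, d⟩ e => ⟨a.congr e, b, f', c, fun x hx => e x hx ▸ d x hx⟩)
    (fun P a s b => ⟨M_conj (a.trans pre_le) (pre_le b), a, _, M_conj ((le_pre (a.trans pre_le)).1 a)
      (mem_pre.1 b).2, fun x hx => ((homOn_ex θ).conj (pre_le b) (pre_le (a hx))).symm⟩)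
    (fun P Q f g ⟨a, b, f', c, d⟩ ⟨a', b', g', c', d'⟩ m => ⟨a.comp a' m, b, _, c.comp c' fun y hy => by
      obtain ⟨x, hx, rfl⟩ := (mem_imθ a.le).1 hy
      rw [d x hx]; exact mem_im_of _ (m x hx), fun x hx => by rw [d x hx, d' _ (m x hx)]⟩)
    fun P f ⟨a, b, f', c, d⟩ => by
      obtain ⟨j, j0, j1, -⟩ := a.exists_inv
      obtain ⟨j', j0', j1', -⟩ := c.exists_inv
      rw [im_ind a d] at j0'
      refine ⟨j, ⟨j0, (le_pre a.im_le).2 j0'.le, j', j0', fun y hy => ?_⟩, j1⟩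
      obtain ⟨x, hx, rfl⟩ := a.mem_im.1 hy
      rw [← d x hx, j1' _ (mem_im_of _ hx), j1 x hx]
  obtain ⟨D, hD'⟩ := exists_infFS B (GenD B θ D' p)
  exact ⟨B, D, ⟨h, hZ, hD, rfl, hB⟩, hD'⟩

theorem con_up' {D : FusionSystem (F.hyperfocalSubgroup p)} (h : D.IsConstrained p)
    (hD : F.IsPResidual p D) : F.IsConstrained p := by
  have w := pres_wn hS (self_normal hS hF).1 hD
  have hU := w.2.2.2.1
  haveI := finite_of_le hU.1
  have n := inv_core_normal hS hF w.2.2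
  have c := centric_cI (constrained_core h)
  refine constrained_of_cI hF (normal_of_sc hS hF (sc_sup_cI hS hF (normal_sc n)) fun P e => ?_)
    ((inf_le_inf_left _ (cent_anti le_sup_left)).trans le_sup_right)
  have r := ess_radical hS hF e
  have l := normal_le_cr hS n e.1 r
  haveI := finite_of_le e.1.1
  refine sup_le l (le_of_cr hS e.1 r cI_le (le_norm_inf (le_norm_of_le e.1.1)
    (le_norm_cent (e.1.1.trans (normal_le_norm n)))) fun x hx hn => ?_)
  refine le_pCoreOf (K := F.autGroup P ⊓ KS P l ⊥) inf_le_left (le_norm_inf le_normalizer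
    fun β b => mem_norm_of_conj fun α a => Kf_conj (F := F) (by rw [norm_bot]; exact le_top)
      (((mem_aut e.1.1).1 b).mono l) (normal_im n ((mem_aut e.1.1).1 b) l) a
      fun x hx => af_conj _ _ (l hx))
    (pgroup_of_hyp hS e.1.1 l inf_le_left (fun α a => Kf_bot.1 a.2) fun α a x hx u =>
      c ⟨u, mem_cent_iff.2 fun y hy => ?_⟩)
    ⟨autInd_le_aut e.1.1 le_rfl (cA_mem _ hx.1), Kf_bot.2 fun y hy => ?_⟩
  · have v := (homOn_af α).conj hx (l hy)
    rw [Kf_bot.1 a.2 _ (conj_mem_of_norm (normal_le_norm n (e.1.1 hx)) hy),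
      Kf_bot.1 a.2 y hy] at v
    calc y * (x⁻¹ * af α x) = x⁻¹ * (x * y * x⁻¹) * af α x := by group
      _ = _ := by rw [v]; group
  · rw [af_cA _ (l hy), ← mem_cent_iff.1 hx.2 y hy]; group

theorem cI_core_le (h : E.IsInvariantIn F) (c : E.IsConstrained p) :
    centralizerIn T F.core ≤ F.core :=
  haveI := finite_of_le h.2.1.1
  have l := le_core (inv_core_normal hS hF h)
  (inf_le_inf_left _ (cent_anti l)).trans ((centric_cI (constrained_core c)).trans l)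

theorem con_stable (h1 : F.hyperfocalSubgroup p = S)
    (h2 : ∀ T (D : FusionSystem T), D.IsWeaklyNormalIn F p → T = S → F.IsSubsystemOf D)
    (h3 : ¬ F.Quasisimple p)
    (ih : ∀ T < S, ∀ D : FusionSystem T, D.IsNormalIn F p → D.IsConstrained p) :
    F.IsConstrained p := by
  obtain ⟨C, hC⟩ := exists_C F (core_le (F := F))
  have n := C_normal hS hF normal_core hC
  rcases (cI_le : centralizerIn S F.core ≤ S).eq_or_lt with e | l
  swap
  · exact constrained_of_cI hF normal_core ((le_inf le_rfl inf_le_right).trans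
      (cI_core_le hS hF n.1.2.2 (ih _ l C n)))
  have z := le_center (central_of_C hC core_le (sub_iff_M.1 (h2 _ C n.1 e)))
  by_contra hc
  refine h3 ⟨hF, h1, fun E hE => ?_⟩
  have sm := factor_smor hS hF (normal_sc (central_normal central_center)) hE
  have t : ∀ T', T' ≤ ⊤ → preimageAlong (QuotientGroup.mk' (F.center.subgroupOf S)) T' ≤ F.core →
      T' = ⊥ := fun T' a b => (sm.im_pre' a).symm.trans (le_bot_iff.1 ((le_pre pre_le).1
        (center_pre (F := F) ▸ b.trans z)))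
  refine ⟨sm.sat hS hF, fun e => hc (constrained_of_cI hF normal_core (cI_le.trans ?_)),
    fun T' D' hD => ?_⟩
  · exact ((le_pre le_rfl).2 (center_im.trans e).le).trans (center_pre (F := F) ▸
      le_core (central_normal central_center))
  obtain ⟨B, D, h⟩ := exists_lift hS hF sm (center_pre (F := F) ▸ central_center) hD
  have w := h.wn hS hF
  rcases h.T_le.eq_or_lt with e' | l
  · have e1 : T' = ⊤ := (sm.im_pre' le_top).symm.trans (by rw [e', center_im])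
    refine .inr ⟨e1, hom_eq_iff_M.2 fun P' f' => ⟨fun a => a.sub hD.1.2.2.1, fun a => ?_⟩⟩
    obtain ⟨f, b, c⟩ := sm.lift _ _ a
    obtain ⟨g', d, u⟩ := h.ind (b.sub (h2 _ D w e'))
    rw [sm.im_pre' le_top] at d
    refine d.congr fun y hy => ?_
    obtain ⟨x, hx, rfl⟩ := sm.sur le_top hy
    rw [c x hx, u x hx]
  haveI := finite_of_le l.le
  obtain ⟨D1, d, -⟩ := exists_ppr (hS.to_le l.le) w.1
  have n1 := ppr_normal hS hF w d
  exact .inl (t _ le_top ((le_inf le_rfl (l.le.trans (e.ge.trans inf_le_right))).trans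
    (cI_core_le hS hF n1.1.2.2 (ih _ l D1 n1))))

omit hS hF [Finite S] in
theorem con_of_no_comp (n : ℕ) : ∀ {S : Subgroup Ω} [Finite S] {F : FusionSystem S}, IsPGroup p S →
    Nat.card S < n → F.IsSaturated p →
    (∀ T (C : FusionSystem T), ¬ C.IsComponentIn F p) → F.IsConstrained p := by
  induction n with
  | zero => exact fun _ h => absurd h (Nat.not_lt_zero _)
  | succ n ih =>
    intro S _ F hS hn hF hc
    obtain ⟨E, e, -⟩ := exists_ppr hS hF
    have n1 := ppr_normal hS hF (self_normal hS hF).1 e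
    have ih' : ∀ T < S, ∀ D : FusionSystem T, D.IsNormalIn E p → D.IsConstrained p :=
      fun T l D a => haveI := finite_of_le l.le
        ih (hS.to_le l.le) (by have := card_lt_of_lt' le_rfl l; omega) a.1.1
          fun U C b => hc U C ⟨.step (.step b.1 a) n1, b.2⟩
    refine constrained_of_cI hF normal_core (cI_core_le hS hF n1.1.2.2 ?_)
    rcases (hyp_le : E.hyperfocalSubgroup p ≤ S).eq_or_lt with e1 | l
    · refine con_stable hS e.1 e1 (fun T D a b => ?_) (fun a => hc S E ⟨.step (.refl E p) n1, a⟩) ih'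
      subst b
      obtain ⟨E', e', -⟩ := exists_ppr hS e.1
      exact fun P _ u => ppr_le_wn hS (self_normal hS e.1).1 e' a P (ppr_le_wn hS
        (self_normal hS hF).1 e (ppr_normal hS hF n1.1 e').1 P u)
    obtain ⟨D, a, b⟩ := exists_ppi hS e.1 le_rfl l.le
    exact con_up' hS e.1 (ih' _ l D (ppi_normal hS e.1 (sc_le_norm (pres_wn hS
      (self_normal hS e.1).1 ⟨a, b⟩).2.2.2.1) a b)) ⟨a, b⟩

theorem con_iff : F.IsConstrained p ↔ ∀ T (C : FusionSystem T), ¬ C.IsComponentIn F p :=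
  ⟨fun h _ _ => no_comp hS h, con_of_no_comp _ hS (Nat.lt_succ_self _) hF⟩

end CfsgH2
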