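import Cfsg.Agent.H2.Sa14
import Cfsg.Agent.H2.PG1
import Cfsg.Prelude.Def_FusionFitting

/-! Central products and the generalized Fitting subsystem. -/

namespace CfsgH2
open Cfsg Subgroup CfsgL0 Function
open Cfsg.FusionSystem hiding inv_mem center

variable {Ω : Type*} [Group Ω] {S T U W X Y T₁ T₂ : Subgroup Ω} {F : FusionSystem S}
  {P Q R : Subgroup Ω} {f g : Ω → Ω} {p : ℕ} {D E : FusionSystem T}
  {E₁ : FusionSystem T₁} {E₂ : FusionSystem T₂}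

theorem factor_smor_central {Ω' : Type*} [Group Ω'] {S' : Subgroup Ω'} {G : FusionSystem S'}
    {θ : S →* Ω'} (hZ : F.IsCentral T) (h : F.IsFactorSystem T θ G) : SMor F θ G := by
  obtain ⟨rfl, h1, h2⟩ := factor_iff.1 h
  refine ⟨⟨fun x hx => h1 ▸ mem_im_of _ hx, fun P f hf => ?_⟩, h1, fun P' f' a => ((h2 _ _).1 a).2.2⟩
  obtain ⟨g, a, b, c⟩ := central_ext hZ hf
  obtain ⟨g', d, e⟩ := exists_induced (θ := θ) a fun x hx u => by
    rwa [central_fix hZ a hx (mem_ker_pre.2 ⟨a.le hx, u⟩)]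
  refine ⟨g', (h2 _ _).2 ⟨h1 ▸ im_mono _ hf.le, d.mono (im_mono _ le_sup_left), g, ?_, ?_⟩,
    fun x hx => by rw [e x (mem_sup_left hx), b x hx]⟩ <;> rwa [pre_im hf.le]

/-- function form of central products -/
structure CP (E₁ : FusionSystem T₁) (E₂ : FusionSystem T₂) (D : FusionSystem T) : Prop where
  comm : ∀ x ∈ T₁, ∀ y ∈ T₂, x * y = y * x
  sup : T₁ ⊔ T₂ = T
  of : ∀ P₁ P₂ f₁ f₂, M E₁ P₁ f₁ → M E₂ P₂ f₂ →
    ∃ f, M D (P₁ ⊔ P₂) f ∧ ∀ x ∈ P₁, ∀ y ∈ P₂, f (x * y) = f₁ x * f₂ y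
  dec : ∀ P f, M D P f → ∃ P₁ P₂ f₁ f₂, M E₁ P₁ f₁ ∧ M E₂ P₂ f₂ ∧
    ∀ x ∈ T₁, ∀ y ∈ T₂, x * y ∈ P → x ∈ P₁ ∧ y ∈ P₂ ∧ f (x * y) = f₁ x * f₂ y

theorem sup_of_comm (h : ∀ x ∈ T₁, ∀ y ∈ T₂, x * y = y * x) (h1 : P ≤ T₁) (h2 : Q ≤ T₂) {z : Ω} :
    z ∈ P ⊔ Q ↔ ∃ x ∈ P, ∃ y ∈ Q, x * y = z :=
  mem_sup_of_norm (le_norm_of_le_cent fun x hx => mem_cent_iff.2 fun y hy =>
    (h x (h1 hx) y (h2 hy)).symm)

theorem cp_of_smor {D₀ : FusionSystem (T₁.prod T₂)} (h0 : IsProductSystem E₁ E₂ D₀)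
    {θ : T₁.prod T₂ →* Ω} (h : SMor D₀ θ D) (h2 : ∀ x ∈ T₁, ex θ (x, 1) = x)
    (h3 : ∀ y ∈ T₂, ex θ (1, y) = y) : CP E₁ E₂ D := by
  have hθ := homOn_ex θ
  have m : ∀ {x y}, x ∈ T₁ → y ∈ T₂ → (x, y) ∈ T₁.prod T₂ := fun a b => ⟨a, b⟩
  have e : ∀ x ∈ T₁, ∀ y ∈ T₂, ex θ (x, y) = x * y := fun x a y b => by
    rw [← h2 x a, ← h3 y b, ← hθ.mul (m a (one_mem _)) (m (one_mem _) b), h2 x a, h3 y b]; simp
  have c : ∀ x ∈ T₁, ∀ y ∈ T₂, x * y = y * x := fun x a y b => by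
    rw [← e x a y b, ← h2 x a, ← h3 y b, ← hθ.mul (m (one_mem _) b) (m a (one_mem _)), h2 x a,
      h3 y b]; simp
  have i : ∀ P₁ ≤ T₁, ∀ P₂ ≤ T₂, im (P₁.prod P₂) (ex θ) = P₁ ⊔ P₂ := fun P₁ a P₂ b =>
    le_antisymm (im_le_iff.2 fun x hx => by
      rw [show x = (x.1, x.2) from rfl, e _ (a hx.1) _ (b hx.2)]
      exact mul_mem (mem_sup_left hx.1) (mem_sup_right hx.2))
      (sup_le (fun x hx => h2 x (a hx) ▸ mem_im_of _ (⟨hx, one_mem _⟩ : (x, 1) ∈ P₁.prod P₂))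
        fun x hx => h3 x (b hx) ▸ mem_im_of _ (⟨one_mem _, hx⟩ : (1, x) ∈ P₁.prod P₂))
  refine ⟨c, (i _ le_rfl _ le_rfl).symm.trans h.range, fun P₁ P₂ f₁ f₂ a b => ?_, fun P f a => ?_⟩
  · obtain ⟨f, u, v⟩ := h.mor _ _ ((prod_iff.1 h0 _ _).2 (PM.of a b le_rfl fun _ _ => rfl))
    rw [i _ a.le _ b.le] at u
    exact ⟨f, u, fun x hx y hy => by
      rw [← e x (a.le hx) y (b.le hy), v (x, y) ⟨hx, hy⟩, e _ (a.mem hx) _ (b.mem hy)]⟩
  obtain ⟨g, u, v⟩ := h.lift _ _ a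
  obtain ⟨f₁, f₂, a1, a2, w⟩ := (prod_iff.1 h0 _ _).1 u
  refine ⟨_, _, f₁, f₂, a1, a2, fun x hx y hy z => ?_⟩
  have t : (x, y) ∈ preimageAlong θ P := mem_pre.2 ⟨m hx hy, (e x hx y hy).symm ▸ z⟩
  exact ⟨fst_mem t, snd_mem t, by
    rw [← e x hx y hy, v _ t, w _ t, e _ (a1.mem (fst_mem t)) _ (a2.mem (snd_mem t))]⟩

theorem cp_of [Finite T₁] [Finite T₂] (h : IsCentralProductOf E₁ E₂ D) : CP E₁ E₂ D := by
  obtain ⟨D₀, h0, Z, θ, h1, -, -, h2, h3, h4⟩ := h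
  haveI := finite_prod' (S₁ := T₁) (S₂ := T₂)
  exact cp_of_smor h0 (factor_smor_central (central_mono central_center h1) h4)
    (fun x hx => (ex_apply _ _).trans (h2 x ⟨hx, one_mem _⟩))
    fun x hx => (ex_apply _ _).trans (h3 x ⟨one_mem _, hx⟩)

theorem exists_cp [Finite T₁] [Finite T₂] (c : ∀ x ∈ T₁, ∀ y ∈ T₂, x * y = y * x)
    (h1 : E₁.IsCentral (T₁ ⊓ T₂)) (h2 : E₂.IsCentral (T₁ ⊓ T₂)) (e : T₁ ⊔ T₂ = T) :
    ∃ D : FusionSystem T, IsCentralProductOf E₁ E₂ D := by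
  obtain ⟨D₀, h0⟩ := exists_prod E₁ E₂
  haveI := finite_prod' (S₁ := T₁) (S₂ := T₂)
  let θ : T₁.prod T₂ →* Ω := MonoidHom.mk' (fun x => x.1.1 * x.1.2) fun x y => by
    have := c _ y.2.1 _ x.2.2
    simp only [coe_mul, Prod.fst_mul, Prod.snd_mul]
    rw [mul_assoc, ← mul_assoc y.1.1, this]; group
  have et : ∀ x ∈ T₁.prod T₂, ex θ x = x.1 * x.2 := fun x hx => ex_apply θ hx
  have k : ∀ x ∈ preimageAlong θ ⊥, x ∈ T₁.prod T₂ ∧ x.1 * x.2 = 1 := fun x hx =>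
    ⟨pre_le hx, (et x (pre_le hx)).symm.trans (mem_ker_pre.1 hx).2⟩
  have hZ : D₀.IsCentral (preimageAlong θ ⊥) := central_mono (Q := (T₁ ⊓ T₂).prod (T₁ ⊓ T₂))
    (isCentral_iff.2 ⟨prod_mono inf_le_left inf_le_right, fun P f a => by
      obtain ⟨f₁, f₂, a1, a2, w⟩ := (prod_iff.1 h0 _ _).1 a
      obtain ⟨g₁, b1, b2, b3⟩ := central_ext h1 a1
      obtain ⟨g₂, c1, c2, c3⟩ := central_ext h2 a2
      exact ⟨_, (prod_iff.1 h0 _ _).2 (PM.of b1 c1 (sup_le (le_prod_proj.trans (prod_mono le_sup_left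
        le_sup_left)) (prod_mono le_sup_right le_sup_right)) fun _ _ => rfl), fun x hx => by
          rw [w x hx, b2 _ (fst_mem hx), c2 _ (snd_mem hx)], fun x hx => by
          rw [b3 _ hx.1, c3 _ hx.2]⟩⟩) fun x hx => by
      obtain ⟨a, b⟩ := k x hx
      exact ⟨⟨a.1, eq_inv_of_mul_eq_one_left b ▸ T₂.inv_mem a.2⟩,
        eq_inv_of_mul_eq_one_right b ▸ T₁.inv_mem a.1, a.2⟩
  obtain ⟨D, hD⟩ := exists_factor (S' := T) (normal_sc (central_normal hZ)) (by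
    rw [← e]
    refine le_antisymm (im_le_iff.2 fun x hx => ?_) (sup_le (fun x hx => ?_) fun x hx => ?_)
    · rw [et x hx]; exact mul_mem (mem_sup_left hx.1) (mem_sup_right hx.2)
    · simpa [et (x, 1) ⟨hx, one_mem _⟩] using
        mem_im_of (P := T₁.prod T₂) (x := (x, 1)) (ex θ) ⟨hx, one_mem _⟩
    · simpa [et (1, x) ⟨one_mem _, hx⟩] using
        mem_im_of (P := T₁.prod T₂) (x := (1, x)) (ex θ) ⟨one_mem _, hx⟩)
  refine ⟨D, D₀, h0, _, θ, le_center hZ, eq_bot_iff.2 fun x hx => ?_, eq_bot_iff.2 fun x hx => ?_,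
    fun x _ => mul_one x, fun x _ => one_mul x, hD⟩
  · have a : x.2 = 1 := hx.2.2
    exact Prod.ext (by simpa [a] using (k x hx.1).2) a
  · have a : x.1 = 1 := hx.2.1
    exact Prod.ext a (by simpa [a] using (k x hx.1).2)

namespace CP
variable (h : CP E₁ E₂ D)
include h

theorem sub₁ : E₁.IsSubsystemOf D := sub_iff_M.2 fun P f a => by
  obtain ⟨g, b, c⟩ := h.of _ _ _ _ a (M_id (F := E₂) bot_le)
  exact (b.mono le_sup_left).congr fun x hx => by simpa using (c x hx 1 (one_mem _)).symm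

theorem sub₂ : E₂.IsSubsystemOf D := sub_iff_M.2 fun P f a => by
  obtain ⟨g, b, c⟩ := h.of _ _ _ _ (M_id (F := E₁) bot_le) a
  exact (b.mono le_sup_right).congr fun x hx => by simpa using (c 1 (one_mem _) x hx).symm

theorem dec' (a : M D P f) : ∃ P₁ P₂ f₁ f₂, M E₁ P₁ f₁ ∧ M E₂ P₂ f₂ ∧ P ≤ P₁ ⊔ P₂ ∧
    ∀ z ∈ P, ∃ x ∈ P₁, ∃ y ∈ P₂, z = x * y ∧ f z = f₁ x * f₂ y := by
  obtain ⟨P₁, P₂, f₁, f₂, b, c, d⟩ := h.dec P f a
  have : ∀ z ∈ P, ∃ x ∈ P₁, ∃ y ∈ P₂, z = x * y ∧ f z = f₁ x * f₂ y := fun z hz => by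
    obtain ⟨x, hx, y, hy, rfl⟩ := (sup_of_comm h.comm le_rfl le_rfl).1 (h.sup.ge (a.le hz))
    obtain ⟨u, v, w⟩ := d x hx y hy hz
    exact ⟨x, u, y, v, rfl, w⟩
  refine ⟨P₁, P₂, f₁, f₂, b, c, fun z hz => ?_, this⟩
  obtain ⟨x, u, y, v, rfl, -⟩ := this z hz
  exact mul_mem (mem_sup_left u) (mem_sup_right v)

end CP

variable [Finite S] [hp : Fact p.Prime] (hS : IsPGroup p S) (hF : F.IsSaturated p)
include hS hF

omit hF in
theorem not_comp_of_hyp (h : E.IsComponentIn F p) : E.hyperfocalSubgroup p ≠ ⊥ := fun e =>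
  haveI := finite_of_le (sub_le (subn_le h.1))
  qs_not_le (hS.to_le (sub_le (subn_le h.1))) h.2 ((h.2.2.1.symm.trans e).le.trans bot_le)

theorem fit_iff : F.IsConstrained p ↔ (innerFusionSystem F.core).IsGeneralizedFittingOf F p := by
  haveI := finite_of_le (core_le (F := F))
  constructor
  · intro h
    obtain ⟨D, hD⟩ := exists_cp (E₁ := innerFusionSystem F.core) (E₂ := innerFusionSystem ⊥)
      (fun x _ y hy => by simp [mem_bot.1 hy]) (central_mono central_bot inf_le_right)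
      (central_mono central_bot inf_le_right) (sup_bot_eq _)
    refine ⟨⊥, innerFusionSystem ⊥, ⟨inner_normal hS hF normal_bot,
      fun _ _ a => (no_comp hS h a).elim, fun _ _ _ _ => inner_sub bot_le⟩, ?_⟩
    suffices e : D = innerFusionSystem F.core from e ▸ hD
    refine eq_inner_iff.2 fun P f a => ?_
    obtain ⟨P₁, P₂, f₁, f₂, b, c, -, d⟩ := (cp_of hD).dec' a
    obtain ⟨-, k, k1, k2⟩ := M_inner.1 b
    refine ⟨k, k1, fun z hz => ?_⟩
    obtain ⟨x, u, y, v, rfl, w⟩ := d z hz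
    rw [w, k2 x u, mem_bot.1 (c.mem v), mem_bot.1 (c.le v)]; simp
  · rintro ⟨T, E, a, b⟩
    haveI := finite_of_le a.1.1.2.2.2.1.1
    refine (con_iff hS hF).2 fun U C c => not_comp_of_hyp hS c (le_bot_iff.1 ?_)
    exact (hyp_mono (sub_trans (a.2.1 U C c) (cp_of b).sub₂)).trans
      (hyp_inner (hS.to_le core_le)).le

theorem fit_sub {D : FusionSystem U} (hE : E.IsLayerOf F p) (h : CP (innerFusionSystem F.core) E D) :
    D.IsSubsystemOf F := sub_iff_M.2 fun P f a => by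
  obtain ⟨P₁, P₂, f₁, f₂, b, c, l, d⟩ := h.dec' a
  obtain ⟨-, k, k1, k2⟩ := M_inner.1 b
  obtain ⟨-, g, g0, g1, g2⟩ := NKM_bot_iff.1 (layer_le_C hS hF hE normal_core c)
  refine ((g0.conj_comp (core_le k1)).mono (l.trans (sup_le (b.le.trans le_sup_right)
    le_sup_left))).congr fun z hz => ?_
  obtain ⟨x, u, y, v, rfl, w⟩ := d z hz
  rw [w, k2 x u, g0.mul (mem_sup_right (b.le u)) (mem_sup_left v), g2 x (b.le u), g1 y v, mul_assoc,
    h.comm _ (inv_mem k1) _ (c.mem v)]; group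

theorem CE_cent_le (hE : E.IsLayerOf F p) : centralizerIn (CE F E p) F.core ≤ F.core := by
  obtain ⟨C, a, b⟩ := exists_CFE hS hF hE.1
  haveI := finite_of_le a.1.2.2.2.1.1
  refine cI_core_le hS hF a.1.2.2 ((con_iff (hS.to_le a.1.2.2.2.1.1) a.1.1).2 fun V K c => ?_)
  have c' : K.IsComponentIn F p := ⟨.step c.1 a, c.2⟩
  haveI := finite_of_le (sub_le (subn_le c'.1))
  refine not_comp_of_hyp hS c' (le_bot_iff.1 (hyp_le_foc.trans (foc_le_iff.2 fun P f u x hx => ?_)))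
  obtain ⟨-, g, -, g1, g2⟩ := NKM_bot_iff.1 (b _ _ (u.sub (subn_le c.1)))
  rw [← g1 x hx, g2 x (sub_le (hE.2.1 V K c') (u.le hx))]; simp

theorem fit_cent {D : FusionSystem U} (hE : E.IsLayerOf F p) (h : CP (innerFusionSystem F.core) E D)
    (hY : Y ≤ centralizerIn S U) (e : ∀ P f, M D P f → NKM F (⊥ : Subgroup (MulAut Y)) P f) :
    D.IsCentral Y := by
  have l1 : Y ≤ C[F.core] := hY.trans (cI_le_cent.trans (cent_anti (le_sup_left.trans h.sup.le)))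
  have l : Y ≤ F.core := (le_inf (le_CE hS hF hE.1 (hY.trans (inf_le_inf_left _ (cent_anti
    (le_sup_right.trans h.sup.le)))) fun P f a => e P f (a.sub h.sub₂)) l1).trans
      (CE_cent_le hS hF hE)
  refine isCentral_iff.2 ⟨l.trans (le_sup_left.trans h.sup.le), fun P f a => ?_⟩
  obtain ⟨P₁, P₂, f₁, f₂, b, c, l', d⟩ := h.dec' a
  obtain ⟨-, k, k1, k2⟩ := M_inner.1 b
  obtain ⟨g, g0, g1⟩ := h.of _ _ _ _ (M_conj le_rfl k1) c
  refine ⟨g, g0.mono (sup_le (l'.trans (sup_le_sup_right b.le _)) (l.trans le_sup_left)),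
    fun z hz => ?_, fun y hy => ?_⟩
  · obtain ⟨x, u, y, v, rfl, w⟩ := d z hz
    rw [w, g1 x (b.le u) y v, k2 x u]
  · have := g1 y (l hy) 1 (one_mem _)
    rw [mul_one, c.one, mem_cent_iff.1 (l1 hy) k k1] at this
    simpa using this

omit hS hF hp [Finite S] in
theorem N_tr {k : Ω → Ω} (hk : M F (normalizerIn S U) k) (hU : U ≤ S)
    {N : FusionSystem (normalizerIn S U)} (hN : F.IsNormalizerSystem U N)
    (e0 : im U k = W) {N' : FusionSystem (normalizerIn S W)} (hN' : F.IsNormalizerSystem W N')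
    (hf : M N P f) (e : ∀ x ∈ P, g (k x) = k (f x)) : M N' (im P k) g := by
  subst e0
  obtain ⟨a, f', b, c, d⟩ := (N_M hN).1 hf
  have l : P ⊔ U ≤ normalizerIn S U := sup_le a (le_nI hU)
  obtain ⟨j, j0, j1, j2, -⟩ := (hk.mono l).exists_inv
  have m := (j0.comp b fun y hy => (j2 y hy).1).comp hk fun y hy =>
    ⟨b.mem (j2 y hy).1, d ▸ b.mem_norm le_sup_right (j2 y hy).1 (l (j2 y hy).1).2⟩
  refine (N_of hN' m (im_mono _ le_sup_left) (im_mono _ le_sup_right)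
    ((hk.im_nI_le (le_nI hU) a (a.trans nI_le_norm)).trans nI_le_norm) ?_).congr fun y hy => ?_
  · rw [(hk.mono (le_nI hU)).im_im, im_congr (g := fun x => k (f' x)) fun x hx => by
      beta_reduce; rw [j1 x (mem_sup_right hx)], ← (b.mono le_sup_right).im_im, d]
  · obtain ⟨x, hx, rfl⟩ := (hk.mem_im' a).1 hy
    rw [e x hx, j1 x (mem_sup_left hx), c x hx]

omit hS in
theorem N_con_tr {k : Ω → Ω} (hk : M F (normalizerIn S U) k) (hU : F.IsFullyNormalized U)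
    {N : FusionSystem (normalizerIn S U)} (hN : F.IsNormalizerSystem U N) (s : N.IsSaturated p)
    {N' : FusionSystem (normalizerIn S (im U k))} (hN' : F.IsNormalizerSystem _ N')
    (h : N'.IsConstrained p) : N.IsConstrained p := by
  haveI : Finite (normalizerIn S U) := finite_nI
  obtain ⟨-, R, a, b⟩ := h
  obtain ⟨j, j0, j1, j2, j3⟩ := hk.exists_inv' (hk.im_nI_eq hU le_rfl)
  have e0 : im (im U k) j = U := by
    rw [(hk.mono (le_nI hU.1)).im_im]; exact im_of_eq fun x hx => j1 x (le_nI hU.1 hx)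
  refine constrained_of_cI s (Q := im R j) (isNormal_iff.2 ⟨j3 ▸ im_mono _ a.1, fun P f c => ?_⟩)
    fun x hx => ?_
  · have e1 : im (im P k) j = P := by
      rw [(hk.mono c.le).im_im]; exact im_of_eq fun x hx => j1 x (c.le hx)
    obtain ⟨g, g0, g1, g2⟩ := normal_ext a (N_tr (g := fun y => k (f (j y))) hk hU.1 hN rfl hN' c
      fun x hx => by rw [j1 x (c.le hx)])
    have := N_tr (g := fun y => j (g (k y))) j0 (hk.im_le' (le_nI hU.1)) hN' e0 hN g0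
      fun x hx => by rw [(j2 x (g0.le hx)).2]
    rw [(j0.mono g0.le).homOn.im_sup, e1] at this
    refine ⟨_, this, fun x hx => by rw [g1 _ (mem_im_of _ hx), j1 x (c.le hx), j1 _ (c.mem hx)], ?_⟩
    rw [(j0.mono a.1).im_im, im_congr (g := fun x => j (g x)) fun x hx => by
      beta_reduce; rw [(j2 x (a.1 hx)).2], ← (g0.mono le_sup_right).im_im, g2]
  · have y := (hk.im_nI_eq hU le_rfl).le (mem_im_of k hx.1)
    rw [← j1 x hx.1]
    exact mem_im_of _ (centric_cI b ⟨y, (j0.mem_cent_iff a.1 y).1 ((j1 x hx.1).symm ▸ hx.2)⟩)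

omit hF hp in
theorem axb [Fact p.Prime] (hg : M F W g) (o : PPo p W g) (h1 : Q ≤ W) (h2 : U ≤ W) (n : U ≤ N[Q])
    (m : ∀ x ∈ Q, g x ∈ Q) (f1 : ∀ x ∈ U, g x = x) (f2 : ∀ x ∈ Q, x ∈ C[U] → g x = x) :
    ∀ x ∈ Q, g x = x := by
  let V : Subgroup Ω :=
    { carrier := {x | x ∈ Q ⊔ U ∧ g x = x}
      mul_mem' := fun {a b} ha hb => ⟨mul_mem ha.1 hb.1, by
        rw [hg.mul (sup_le h1 h2 ha.1) (sup_le h1 h2 hb.1), ha.2, hb.2]⟩
      one_mem' := ⟨one_mem _, hg.one⟩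
      inv_mem' := fun {a} ha => ⟨inv_mem ha.1, by rw [hg.inv (sup_le h1 h2 ha.1), ha.2]⟩ }
  have l : V ≤ Q ⊔ U := fun _ a => a.1
  have uV : U ≤ V := fun x hx => ⟨mem_sup_right hx, f1 x hx⟩
  rcases l.eq_or_lt with e | lt
  · exact fun x hx => (e.ge (mem_sup_left hx)).2
  obtain ⟨y, y1, y2⟩ := SetLike.exists_of_lt (lt_nI hS ((sup_le h1 h2).trans hg.le) lt)
  obtain ⟨x, hx, u, hu, rfl⟩ := (mem_sup_of_norm' n).1 y1.1
  have x1 : x ∈ N[V] := (Subgroup.mul_mem_cancel_right _ (le_normalizer (uV hu))).1 y1.2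
  have x2 : x⁻¹ * g x ∈ Q := mul_mem (inv_mem hx) (m x hx)
  have := cop2 hS hg (l.trans (sup_le h1 h2)) bot_le (fun y hy => by rw [hy.2]; simp) o (h1 hx)
    ⟨mem_sup_left x2, f2 _ x2 (mem_cent_iff.2 fun v hv => by
      have := (conj_mem_of_norm x1 (uV hv)).2
      rw [hg.conj (h1 hx) (h2 hv), f1 v hv] at this
      rw [show v * (x⁻¹ * g x) = x⁻¹ * (x * v * x⁻¹) * g x by group, ← this]; group)⟩
  exact (y2 (mul_mem (show x ∈ V from ⟨mem_sup_left hx, (inv_mul_eq_one.1 (mem_bot.1 this)).symm⟩)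
    (uV hu))).elim

theorem N_con_of (hX : X ≤ U) (hX' : normalizerIn S U ≤ C[X]) (hU : F.IsFullyNormalized U)
    {C : FusionSystem (centralizerIn S X)} (hC : F.IsCentralizerSystem X C) (c : C.IsConstrained p)
    {N : FusionSystem (normalizerIn S U)} (hN : F.IsNormalizerSystem U N) : N.IsConstrained p := by
  haveI : Finite (normalizerIn S U) := finite_nI
  haveI : Finite (centralizerIn S X) := finite_cI
  have hS' := hS.to_le (nI_le : normalizerIn S U ≤ S)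
  have s := sat_N hS hF hU hN
  have nU := N_normal hN hU.1
  obtain ⟨D, hD⟩ := exists_C N nU.1
  have nD := C_normal hS' s nU hD
  haveI : Finite (centralizerIn (normalizerIn S U) U) := finite_cI
  have hS2 := hS'.to_le (cI_le : centralizerIn (normalizerIn S U) U ≤ _)
  suffices h : D.IsConstrained p by
    have n := inv_core_normal hS' s nD.1.2.2
    exact constrained_of_cI s (normal_sup nU n) fun x hx => mem_sup_right (centric_cI
      (constrained_core h) ⟨⟨hx.1, cent_anti le_sup_left hx.2⟩, cent_anti le_sup_right hx.2⟩)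
  have l : normalizerIn S U ≤ centralizerIn S X := le_inf nI_le hX'
  have toC : ∀ P g, M N P g → X ≤ P → (∀ x ∈ X, g x = x) → M C P g := fun P g a b e =>
    (M_C_iff hC b (a.le.trans hX') (a.sub (N_sub hN))).2 e
  have sQ := normal_sc (normal_core (F := C))
  have rl : C.core ⊓ C[U] ≤ centralizerIn (normalizerIn S U) U := fun x hx =>
    ⟨⟨(core_le hx.1).1, cent_le_norm _ hx.2⟩, hx.2⟩
  have nR : D.IsNormal (C.core ⊓ C[U]) := isNormal_iff.2 ⟨rl, fun P f a => by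
    obtain ⟨a1, g, g0, g1, g2⟩ := NKM_bot_iff.1 ((isC_iff.1 hD P f).1 a)
    obtain ⟨k, k0, k1, -⟩ := normal_ext (normal_core (F := C)) (toC _ g g0 (hX.trans le_sup_right)
      fun x hx => g2 x (hX hx))
    have k2 : ∀ x ∈ U, k x = x := fun x hx => (k1 x (mem_sup_right hx)).trans (g2 x hx)
    have l1 : P ⊔ C.core ⊓ C[U] ⊔ U ≤ P ⊔ U ⊔ C.core := sup_le (sup_le_sup le_sup_left inf_le_left)
      (le_sup_right.trans le_sup_left)
    have k3 := (k0.mono l1).sub (NK_sub (isC_iff.1 hC))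
    refine ⟨k, (isC_iff.1 hD _ _).2 (NKM_bot_iff.2 ⟨sup_le a1 rl, k, N_of hN k3 le_rfl le_sup_right
      (sup_le (sup_le (a1.trans (cI_le.trans nI_le_norm)) (inf_le_right.trans (cent_le_norm _)))
        le_normalizer) (im_of_eq k2), fun _ _ => rfl, k2⟩),
      fun x hx => (k1 x (mem_sup_left hx)).trans (g1 x hx), k3.im_eq_of_le
        (le_sup_right.trans le_sup_left) fun x hx => ⟨sc_mem sQ k0 (mem_sup_right hx.1) hx.1, ?_⟩⟩
    exact im_of_eq k2 ▸ k3.mem_cent le_sup_right (mem_sup_left (mem_sup_right hx)) hx.2⟩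
  refine (con_iff hS2 nD.1.1).2 fun V K a => ?_
  haveI := finite_of_le (sub_le (subn_le a.1))
  refine not_comp_of_hyp hS2 a (le_bot_iff.1 (hyp_le_iff'.2 fun P hP α b o x hx => ?_))
  obtain ⟨-, g, g0, g1, g2⟩ := NKM_bot_iff.1 (comp_le_C a.1 hS2 a.2 nD.1.1 _ nR _ _ ((mem_aut hP).1 b))
  obtain ⟨-, j, j0, j1, j2⟩ := NKM_bot_iff.1 ((isC_iff.1 hD _ _).1 g0)
  obtain ⟨k, k0, k1, -⟩ := normal_ext (normal_core (F := C)) (toC _ j j0 (hX.trans le_sup_right)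
    fun x hx => j2 x (hX hx))
  have p1 : P ≤ P ⊔ U ⊔ C.core := le_sup_left.trans le_sup_left
  have u1 : U ≤ P ⊔ U ⊔ C.core := le_sup_right.trans le_sup_left
  replace k0 := k0.mono (sup_le_sup_right (sup_le_sup_right le_sup_left U) _)
  have e1 : ∀ x ∈ P, k x = af α x := fun x hx => by
    rw [k1 x (mem_sup_left (mem_sup_left hx)), j1 x (mem_sup_left hx), g1 x hx]
  have e2 : ∀ x ∈ U, k x = x := fun x hx => by rw [k1 x (mem_sup_right hx), j2 x hx]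
  have qm : ∀ x ∈ C.core, k x ∈ C.core := fun x hx => sc_mem sQ k0 (mem_sup_right hx) hx
  have km : ∀ x ∈ P ⊔ U ⊔ C.core, k x ∈ P ⊔ U ⊔ C.core := im_le_iff.1 (by
    rw [k0.homOn.im_sup, (k0.mono le_sup_left).homOn.im_sup, im_congr e1, im_af, im_of_eq e2]
    exact sup_le_sup_left (im_le_iff.2 qm) _)
  obtain ⟨n, o', e3⟩ := pp_part k0 km ((ppo_af o).congr (fun _ => af_mem _) e1)
  have k4 := M.iter k0 km n
  have := axb (hS.to_le cI_le) k4 o' le_sup_right u1 ((le_nI hU.1).trans (l.trans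
    (sc_le_norm sQ))) (iter_mem qm n) (fun x hx => iter_fix (e2 x hx) n) fun x hx hx' => iter_fix (by
      rw [k1 x (mem_sup_left (mem_sup_right ⟨hx, hx'⟩)), j1 x (mem_sup_right ⟨hx, hx'⟩),
        g2 x ⟨hx, hx'⟩]) n
  obtain ⟨z, z1, -, z2⟩ := ext_unique (hS.to_le cI_le) c.1 (M_id k0.le) _ le_sup_right
    (constrained_core c) _ k4 fun x hx => (this x hx).symm
  rw [eq_one_of_coprime_order (isPGroup_autInd hS) (mem_autInd'.2 ⟨z, (core_le z1).1, fun x hx => by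
    rw [← e1 x hx, ← e3 x hx, z2 x (p1 hx)]⟩) o, af_one hx]
  simp

theorem dichotomy : F.IsOfCharacteristicPType p ∨ F.IsOfComponentType p := by
  refine or_iff_not_imp_right.2 fun h U h1 hU N hN => ?_
  haveI : Finite (normalizerIn S U) := finite_nI
  have hS' := hS.to_le (nI_le : normalizerIn S U ≤ S)
  haveI := normal_subgroupOf_of_le_normalizer (nI_le_norm : normalizerIn S U ≤ _)
  obtain ⟨x, x1, x2⟩ := exists_prime_order_mem hp.out (dvd_card_of_pgroup (hS'.to_subgroup _)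
    (inf_cent_ne_bot' (P := ⊤) (H := U.subgroupOf (normalizerIn S U)) (hS'.to_subgroup _)
      (hS'.to_subgroup _) le_normalizer_of_normal (by
        rwa [Ne, subgroupOf_eq_bot, disjoint_iff, inf_eq_left.2 (le_nI hU.1)])))
  have l1 : zpowers (x : Ω) ≤ U := zpowers_le.2 x1.1
  have l2 : normalizerIn S U ≤ C[zpowers (x : Ω)] := le_centralizer_iff.1 (zpowers_le.2
    (mem_cent_iff.2 fun y hy => congrArg Subtype.val (mem_cent_iff.1 x1.2 ⟨y, hy⟩ trivial)))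
  obtain ⟨k, k0, k1⟩ := sat_nmap_fn hS hF (l1.trans hU.1)
  replace k0 := k0.mono (le_inf nI_le (l2.trans (cent_le_norm _)))
  have u := le_nI hU.1
  obtain ⟨C, hC⟩ := exists_C F k1.1
  obtain ⟨N', hN'⟩ := exists_N F (k0.im_le' u)
  haveI : Finite (centralizerIn S (im (zpowers (x : Ω)) k)) := finite_cI
  refine N_con_tr hF k0 hU hN (sat_N hS hF hU hN) hN' (N_con_of hS hF (im_mono _ l1) ?_
    (k0.fn_im hU le_rfl) hC ((con_iff (hS.to_le cI_le) (sat_C hS hF (sat_fn_fc hS hF k1) hC)).2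
      fun T D a => h ⟨_, ?_, k1, C, hC, T, D, a⟩) hN')
  · rw [← k0.im_nI_eq hU le_rfl]
    exact im_le_iff.2 fun y hy => k0.mem_cent (l1.trans u) hy (l2 hy)
  · rw [k0.card_im' (l1.trans u), Nat.card_zpowers, orderOf_coe, x2]

end CfsgH2
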