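import Cfsg.Agent.H2.Sa15

/-! Weakly normal subsystems from local data. -/

namespace CfsgH2
open Cfsg Subgroup CfsgL0 Function
open Cfsg.FusionSystem hiding inv_mem center

variable {Ω : Type*} [Group Ω] {S T U W X Y : Subgroup Ω} {F : FusionSystem S}
  {P Q R : Subgroup Ω} {f g : Ω → Ω} {p : ℕ} {E : FusionSystem T}

/-- `T`-centric classes -/
def UU (F : FusionSystem S) (T P : Subgroup Ω) : Prop :=
  P ≤ T ∧ ∀ f, M F P f → centralizerIn T (im P f) ≤ im P f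

theorem UU.cI (h : UU F T P) (l : T ≤ S) : centralizerIn T P ≤ P := by
  have := h.2 _ (M_id (h.1.trans l)); rwa [im_id] at this

theorem UU.im (h : UU F T P) (hT : F.StronglyClosed T) (hf : M F P f) : UU F T (im P f) :=
  ⟨im_le_iff.2 fun x hx => sc_mem hT hf hx (h.1 hx), fun g hg => by
    rw [hf.im_im]; exact h.2 _ (hf.comp_im hg)⟩

theorem UU.mono (h : UU F T P) (l : P ≤ Q) (l' : Q ≤ T) : UU F T Q := ⟨l', fun f hf =>
  ((inf_le_inf_left _ (cent_anti (im_mono f l))).trans (h.2 f (hf.mono l))).trans (im_mono f l)⟩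

/-- local data for a weakly normal subsystem -/
structure WM (F : FusionSystem S) (T : Subgroup Ω) (p : ℕ)
    (K : ∀ P : Subgroup Ω, Subgroup (MulAut P)) : Prop where
  sc : F.StronglyClosed T
  le : ∀ P, K P ≤ F.autGroup P
  tr : ∀ P Q k f g, M F P k → im P k = Q → Kf (K P) f → (∀ x ∈ P, g (k x) = k (f x)) → Kf (K Q) g
  ind : ∀ P, UU F T P → autInducedBy T P ≤ K P
  res : ∀ P Q f, UU F T P → F.IsFullyNormalized P → P ≤ Q → Q ≤ T → Q ≤ N[P] → Kf (K Q) f →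
    PPo p Q f → (∀ x ∈ P, f x ∈ P) → Kf (K P) f
  loc : ∀ P, UU F T P → F.IsFullyNormalized P → ∃ D : FusionSystem (normalizerIn T P),
    D.IsSaturated p ∧ D.IsNormal P ∧ (∀ f, Kf (K P) f → PPo p P f → M D P f) ∧
    ∀ R f, P ≤ R → M D R f → (∀ x ∈ R, f x ∈ R) → PPo p R f → Kf (K R) f

/-- contains the generators -/
def GenK (F : FusionSystem S) (p : ℕ) (K : ∀ P : Subgroup Ω, Subgroup (MulAut P))
    (D : FusionSystem T) : Prop := ∀ P f, UU F T P → Kf (K P) f → PPo p P f → M D P f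

variable [Finite S] [hp : Fact p.Prime] (hS : IsPGroup p S)
include hS

theorem dlem' {n : ℕ} (hs : ∀ Q ≤ S, n < Nat.card Q → SatC F p Q) (c : Nat.card P = n)
    (hnl : ∀ R, F.IsConj P R → NL F R P) {K : Subgroup (MulAut P)}
    (main : ∀ Q, P < Q → Q ≤ N[P] → ∀ f, M F Q f → im Q f = Q → im P f = P → Kf K f) :
    ∀ Q ≤ S, P < Q → Q ≤ N[P] → ∀ f, M F Q f → im P f = P → Kf K f := by
  refine down_ind fun Q hQ ih l hn f hf e => ?_
  have b0 : im Q f ≤ normalizerIn S P := e ▸ hf.im_nI_le l.le le_rfl hn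
  rcases (le_inf hQ hn : Q ≤ normalizerIn S P).eq_or_lt with a | a
  · exact main Q l hn f hf (hf.im_eq_of_le le_rfl (im_le_iff.1 (b0.trans a.ge))) e
  have b : im Q f < normalizerIn S P := lt_of_le_of_ne b0 fun e => by
    have := card_lt_of_lt' nI_le a
    rw [← e, hf.card_im] at this
    exact this.false
  have sQ := hs Q hQ (c ▸ card_lt_of_lt' hQ l)
  obtain ⟨h, mh, e1, gp⟩ : ∃ h, M F Q h ∧ im P h = P ∧ GP F p P (im Q h) := by
    obtain ⟨h, mh, gp⟩ := gp_exists l.le sQ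
    obtain ⟨g, a0, e0⟩ := hnl _ (mh.mono l.le).isConj
    have u := mh.im_nI_le l.le le_rfl hn
    have := gp_move hS gp (u.trans nI_le_norm) (sQ.conj mh.isConj) a0
    rw [e0, mh.im_im] at this
    exact ⟨_, mh.comp a0 (im_le_iff.1 u), by rw [← (mh.mono l.le).im_im, e0], this⟩
  have u : im Q h ≤ normalizerIn S P := e1 ▸ mh.im_nI_le l.le le_rfl hn
  have l1 : P < im Q h := e1 ▸ mh.im_lt_im l le_rfl
  have key : ∀ Q' : Subgroup Ω, Nat.card Q' = Nat.card Q → P < Q' → Q' < normalizerIn S P → ∀ k, M F Q' k →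
      im P k = P → im Q' k = im Q h → ∃ g, M F Q' g ∧ Kf K g ∧ im Q' g = im Q h := by
    intro Q' h1 h2 h3 k hk h4 h5
    obtain ⟨g, a, b, d⟩ := gp_nmap hS h2.le hk (h4.symm ▸ h5.symm ▸ gp)
    have t := inf_lt_of hS h3
    exact ⟨g, a.mono t.le, ih _ a.le (h1 ▸ card_lt_of_lt' a.le t) (h2.trans t) inf_le_right g a
      (b.trans h4), d.trans h5⟩
  obtain ⟨g1, a1, b1, c1⟩ := key Q rfl l a h mh e1 rfl
  obtain ⟨k, hk, k1, k2, k3⟩ := hf.exists_inv
  have l' : P < im Q f := e ▸ hf.im_lt_im l le_rfl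
  have k4 : im P k = P := by
    conv_lhs => rw [← e]
    rw [(hf.mono l.le).im_im, im_of_eq fun x hx => k1 x (l.le hx)]
  obtain ⟨g2, a2, b2, c2⟩ := key _ hf.card_im l' b _ (hk.comp mh fun y hy => (k2 y hy).1)
    (by rw [← (hk.mono l'.le).im_im, k4, e1]) (by rw [← hk.im_im, k3])
  generalize im Q h = Q1 at u l1 c1 c2
  obtain ⟨m, m0, m1, m2, m3⟩ := a1.exists_inv' c1
  obtain ⟨m', -, m1', -, -⟩ := a2.exists_inv' c2
  have t := (m0.comp hf fun y hy => (m2 y hy).1).comp a2 fun y hy => mem_im_of f (m2 y hy).1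
  have b3 := b1.inv fun x hx => m1 x (l.le hx)
  have v3 := main Q1 l1 (u.trans nI_le_norm) _ t (by
    rw [← m0.im_im (fun x => g2 (f x)), m3, ← hf.im_im, c2]) (by
    rw [← (m0.mono l1.le).im_im (fun x => g2 (f x)), b3.im_eq, ← (hf.mono l.le).im_im, e, b2.im_eq])
  refine ((b1.comp v3).comp (b2.inv fun x hx => m1' x (l'.le hx))).congr fun x hx => ?_
  rw [m1 x (l.le hx), m1' _ (mem_im_of f (l.le hx))]

omit hS in
theorem satC_af (hA : AI E F) (hT : T ≤ S) (h1 : E.IsFullyAutomized p P) (h2 : E.IsReceptive P)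
    {χ : MulAut T} (hχ : χ ∈ F.autGroup T) :
    E.IsFullyAutomized p (im P (af χ)) ∧ E.IsReceptive (im P (af χ)) := by
  have k0 := (mem_aut hT).1 hχ
  have k := k0.mono h1.1
  have l : im P (af χ) ≤ T := im_le_iff.2 fun x hx => af_mem _ (h1.1 hx)
  have ii : ∀ R ≤ T, im (im R (af χ⁻¹)) (af χ) = R := fun R hR => by
    rw [((homOn_af _).mono hR).im_im, im_of_eq fun x hx => af_af_inv _ (hR hx)]
  have i2 : im (im P (af χ)) (af χ⁻¹) = P := by
    rw [k.im_im, im_of_eq fun x hx => af_inv_af _ (h1.1 hx)]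
  haveI := finite_of_le k.le
  haveI := finite_of_le k.im_le
  haveI := finite_of_le hT
  constructor
  · have s := (fa_iff.1 h1).2.map (k.tr rfl).toMonoidHom
    refine fa_iff.2 ⟨l, ?_⟩
    convert s using 1 <;> ext β <;> obtain ⟨α, rfl⟩ := (k.tr rfl).surjective β <;>
      refine Iff.trans ?_ (mem_map_iff_mem (f := (k.tr rfl).toMonoidHom) (k.tr rfl).injective).symm
    · rw [mem_autInd', mem_autInd']
      refine ⟨fun ⟨t, a, b⟩ => ⟨_, af_mem χ⁻¹ a, fun x hx => af_inj χ (h1.1 (af_mem _ hx))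
        (T.mul_mem (T.mul_mem (af_mem _ a) (h1.1 hx)) (T.inv_mem (af_mem _ a))) ?_⟩,
        fun ⟨t, a, b⟩ => ⟨_, af_mem χ a, fun y hy => ?_⟩⟩
      · rw [← k.af_tr rfl α hx, b _ (mem_im_of _ hx), k0.conj (af_mem _ a) (h1.1 hx), af_af_inv _ a]
      · obtain ⟨x, hx, rfl⟩ := k.mem_im.1 hy
        rw [k.af_tr rfl α hx, b x hx, k0.conj a (h1.1 hx)]
    · rw [mem_aut l, mem_aut h1.1]
      refine ⟨fun a => ?_, fun a => hA _ _ χ hχ _ a fun x hx => k.af_tr rfl α hx⟩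
      have := hA _ _ χ⁻¹ (inv_mem hχ) (af α) a fun y hy => by
        obtain ⟨x, hx, rfl⟩ := k.mem_im.1 hy
        rw [k.af_tr rfl α hx, af_inv_af _ (h1.1 hx), af_inv_af _ (h1.1 (af_mem _ hx))]
      rwa [i2] at this
  refine rec_iff.2 ⟨l, fun R f hf e => ?_⟩
  have j0 := (mem_aut hT).1 (inv_mem hχ)
  have a := hA _ _ χ⁻¹ (inv_mem hχ) (fun y => af χ⁻¹ (f (af χ y))) hf fun x hx => by
    rw [af_af_inv _ (hf.le hx)]
  obtain ⟨g, g0, g1⟩ := (rec_iff.1 h2).2 _ _ a (by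
    rw [(j0.mono hf.le).im_im, im_congr (g := fun x => af χ⁻¹ (f x)) fun x hx => by
      beta_reduce; rw [af_af_inv _ (hf.le hx)], ← hf.im_im, e, i2])
  have b := hA _ _ χ hχ (fun y => af χ (g (af χ⁻¹ y))) g0 fun x hx => by
    rw [af_inv_af _ (g0.le hx)]
  refine ⟨_, b.mono fun x hx => ?_, fun x hx => by
    rw [g1 _ (mem_im_of _ hx), af_af_inv _ (hf.le hx), af_af_inv _ (hf.mem hx)]⟩
  obtain ⟨x1, x2, t, t1, t2⟩ := mem_Ext.1 hx
  rw [← af_af_inv χ x1]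
  refine mem_im_of _ (mem_Ext.2 ⟨af_mem _ x1, j0.mem_norm hf.le x1 x2, _, af_mem χ⁻¹ t1, fun y hy => ?_⟩)
  obtain ⟨z, hz, rfl⟩ := (j0.mem_im' hf.le).1 hy
  rw [← j0.conj x1 (hf.le hz), af_af_inv _ (hf.le (conj_mem_of_norm x2 hz)), af_af_inv _ (hf.le hz),
    t2 z hz, j0.conj t1 (hf.mem hz)]

variable (hF : F.IsSaturated p)
include hF

theorem uu_of_fc (hT : F.StronglyClosed T) (l : P ≤ T) (hP : F.IsFullyCentralized P)
    (h : centralizerIn T P ≤ P) : UU F T P := ⟨l, fun f hf x hx => by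
  obtain ⟨j, j0, -, -, j3⟩ := hf.exists_inv
  obtain ⟨k, k0, k1⟩ := sat_ext hS hF j0 (j3.symm ▸ hP)
  have a : x ∈ Ext S (im P f) j := cI_le_Ext (mem_cI.2 ⟨hT.1 hx.1, hx.2⟩)
  have b := k0.mem_cent j0.le_Ext a hx.2
  rw [im_congr k1, j3] at b
  rw [← k0.mem_im_iff j0.le_Ext a, im_congr k1, j3]
  exact h (mem_cI.2 ⟨sc_mem hT k0 a hx.1, b⟩)⟩

theorem pel_le {K : Subgroup (MulAut P)} (hT : F.StronglyClosed T) (hP : F.IsFullyNormalized P)
    (h1 : K ≤ F.autGroup P) (h2 : F.autGroup P ≤ N[K]) {α : MulAut P} (a : α ∈ K) {χ : Ω → Ω}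
    (b : M F P χ) {s : Ω} (c : s ∈ T) (d : ∀ x ∈ P, χ (af α x) = s * χ x * s⁻¹) :
    α ∈ autInducedBy T P ⊔ piRes {p} K := by
  haveI := finite_of_le hP.1
  have s0 := (sat_syl hS hF hP).inf_norm h1 ((sat_syl hS hF hP).le.trans h2)
  obtain ⟨i, hi⟩ := pgroup_pow_eq_one hS (hT.1 c)
  have o : α ^ p ^ i = 1 := af_ext fun x hx => b.inj (af_mem _ hx) (af_mem _ hx) (by
    have : ∀ n, χ (af (α ^ n) x) = s ^ n * χ x * (s ^ n)⁻¹ := fun n => by
      induction n with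
      | zero => simp [af_one hx]
      | succ n ih => rw [af_pow_succ _ _ hx, d _ (af_mem _ hx), ih, pow_succ']; group
    rw [this, hi, af_one hx]; simp)
  obtain ⟨g, g0, g1⟩ := s0.exists_conj_le (isPGroup_zpowers o) (zpowers_le.2 a)
  obtain ⟨σ, hσ, κ, hκ, rfl⟩ := (mem_sup_of_norm (s0.le.trans (le_norm_piRes (π := {p})))).1
    (show g ∈ _ from by rw [sup_comm, s0.piRes_sup]; exact g0)
  have k0 : κ ∈ K := piRes_le (π := {p}) (M := K) hκ
  have u : κ * α * κ⁻¹ ∈ autInducedBy S P := by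
    have := mul_mem (mul_mem (inv_mem (mem_inf.1 hσ).1)
      (mem_inf.1 (g1 (mem_map_of_mem _ (mem_zpowers α)))).1) (mem_inf.1 hσ).1
    simpa [mul_assoc] using this
  have v := scA hS hF hT hP (((mem_aut hP.1).1 (inv_mem (h1 k0))).comp b fun _ => af_mem _)
    c u fun x hx => by
      rw [af_mul _ _ hx, af_mul _ _ (af_mem _ hx), af_inv_af _ (af_mem _ (af_mem _ hx)),
        d _ (af_mem _ hx)]
  have := mul_mem (mul_mem (inv_mem (mem_sup_right hκ)) (mem_sup_left v)) (mem_sup_right hκ)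
  simpa [mul_assoc] using this

omit hS hF hp [Finite S] in
theorem exists_res (hT : F.StronglyClosed T) :
    ∃ B : FusionSystem T, ∀ P f, M B P f ↔ M F P f ∧ P ≤ T :=
  exists_subFS F T _ (fun _ _ h => h.1) (fun _ _ h => ⟨h.2, fun x hx => sc_mem hT h.1 hx (h.2 hx)⟩)
    (fun _ _ _ h e => ⟨h.1.congr e, h.2⟩) (fun _ a _ b => ⟨M_conj (a.trans hT.1) (hT.1 b), a⟩)
    (fun _ _ _ _ a b m => ⟨a.1.comp b.1 m, a.2⟩) fun _ _ a => let ⟨g, b, c, _⟩ := a.1.exists_inv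
      ⟨g, ⟨b, im_le_iff.2 fun x hx => sc_mem hT a.1 hx (a.2 hx)⟩, c⟩

/-- the generated system -/
structure WE (F : FusionSystem S) (p : ℕ) (K : ∀ P : Subgroup Ω, Subgroup (MulAut P))
    (E : FusionSystem T) : Prop extends WM F T p K where
  hE : ∀ P f, M E P f ↔ (M F P f ∧ P ≤ T) ∧ ∀ D : FusionSystem T, GenK F p K D → M D P f

namespace WE
variable {K : ∀ P : Subgroup Ω, Subgroup (MulAut P)} (h : WE F p K E)
include h

section
omit hS hF hp [Finite S]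

theorem sub : E.IsSubsystemOf F := sub_iff_M.2 fun P f a => ((h.hE P f).1 a).1.1

theorem kM (l : P ≤ T) (a : Kf (K P) f) : M F P f :=
  let ⟨α, b, c⟩ := a; ((mem_aut (l.trans h.sc.1)).1 (h.le P b)).congr fun x hx => (c x hx).symm

theorem gen : GenK F p K E := fun P f a b c =>
  (h.hE P f).2 ⟨⟨h.kM a.1 b, a.1⟩, fun _ d => d P f a b c⟩

theorem ai : AI E F := by
  obtain ⟨D, a, b, c⟩ := exists_aicore F E
  refine fs_le_antisymm b (le_iff_M.2 fun P f d => ((h.hE P f).1 d).2 D fun Q g u v o =>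
    (c _ _).2 ⟨h.gen Q g u v o, fun α hα => ?_⟩) ▸ a
  have k := ((mem_aut h.sc.1).1 hα).mono u.1
  have e : ∀ x ∈ Q, (fun y => af α (g (af α⁻¹ y))) (af α x) = af α (g x) := fun x hx => by
    beta_reduce; rw [af_inv_af _ (u.1 hx)]
  exact h.gen _ _ (u.im h.sc k) (h.tr _ _ _ _ _ k rfl v e) (o.tr k.homOn (fun _ => v.mem) e)
end

omit hS hF hp in
theorem norm (hP : P ≤ S) : F.autGroup P ≤ N[K P] := fun χ a =>
  haveI := finite_of_le hP
  mem_norm_of_conj fun β b => by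
    obtain ⟨γ, c, d⟩ := h.tr P P _ _ (af (χ * β * χ⁻¹)) ((mem_aut hP).1 a) (im_af χ) (Kf.af b)
      fun x => af_conj _ _
    rwa [← af_ext d]

omit hF in
theorem gen_ind3 (X : Subgroup Ω → Prop) (hXc : ∀ P f, M E P f → X P → X (im P f))
    (Y : Subgroup Ω → (Ω → Ω) → Prop)
    (hcongr : ∀ P f g, Y P f → (∀ x ∈ P, g x = f x) → Y P g)
    (hcomp : ∀ P f g, X P → M E P f → M E (im P f) g → Y P f → Y (im P f) g →
      Y P fun x => g (f x))
    (hinv : ∀ P f g, X P → M E P f → Y P f → (∀ x ∈ P, g (f x) = x) → Y (im P f) g)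
    (hbase : ∀ P Q f, X P → P < Q → Q ≤ N[P] → M E Q f → Y P f)
    (hgen : ∀ P f, X P → UU F T P → Kf (K P) f → PPo p P f → Y P f)
    (htop : X T → ∀ s ∈ T, Y T fun x => s * x * s⁻¹) : ∀ P f, X P → M E P f → Y P f := by
  haveI := finite_of_le h.sc.1
  have hb : ∀ Q f, M E Q f → ∀ P ≤ Q, P ≠ Q → X P → Y P f := fun Q f hf P l ne x =>
    hbase P _ f x (lt_nI (hS.to_le h.sc.1) hf.le (lt_of_le_of_ne l ne)) inf_le_right
      (hf.mono inf_le_left)
  obtain ⟨D, hD⟩ := exists_subFS E T (fun P f => M E P f ∧ ∀ R ≤ P, X R → Y R f)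
    (fun _ _ h => h.1) (fun _ _ h => ⟨h.1.le, fun _ => h.1.mem⟩)
    (fun P f g h e => ⟨h.1.congr e, fun R l x => hcongr _ _ _ (h.2 R l x) fun y hy => e y (l hy)⟩)
    (fun P l g hg => ⟨M_conj l hg, fun R l' x => by
      by_cases e : R = T
      · subst e; exact htop x g hg
      · exact hb T _ (M_conj le_rfl hg) R (l'.trans l) e x⟩)
    (fun P Q f g a b m => ⟨a.1.comp b.1 m, fun R l x => by
      have l' : im R f ≤ Q := im_le_iff.2 fun y hy => m y (l hy)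
      exact hcomp _ _ _ x (a.1.mono l) (b.1.mono l') (a.2 R l x)
        (b.2 _ l' (hXc _ _ (a.1.mono l) x))⟩)
    (fun P f a => by
      obtain ⟨g, b, c, d, e⟩ := a.1.exists_inv
      refine ⟨g, ⟨b, fun R l x => ?_⟩, c⟩
      have l' : im R g ≤ P := e ▸ im_mono g l
      have x' := hXc _ _ (b.mono l) x
      have := hinv _ _ g x' (a.1.mono l') (a.2 _ l' x') fun y hy => c y (l' hy)
      rwa [(b.mono l).im_im, im_of_eq fun y hy => (d y (l hy)).2] at this)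
  refine fun P f x hf => ((hD _ _).1 (((h.hE P f).1 hf).2 D fun Q g a b c =>
    (hD _ _).2 ⟨h.gen Q g a b c, fun R l x => ?_⟩)).2 P le_rfl x
  by_cases e : R = Q
  · subst e; exact hgen _ _ x a b c
  · exact hb Q _ (h.gen Q g a b c) R l e x

/-- the local system -/
theorem loc' (u : UU F T P) (hP : F.IsFullyNormalized P) : ∃ D : FusionSystem (normalizerIn T P),
    D.IsSaturated p ∧ D.IsNormal P ∧ D.IsSubsystemOf E ∧ D.autGroup P ≤ K P ∧
    autInducedBy T P ⊔ piRes {p} (K P) ≤ D.autGroup P := by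
  obtain ⟨D, a, b, c, d⟩ := h.loc P u hP
  haveI := finite_of_le h.sc.1
  haveI : Finite (normalizerIn T P) := finite_nI
  have hT := hS.to_le (nI_le.trans h.sc.1 : normalizerIn T P ≤ S)
  refine ⟨D, a, b, sub_iff_M.2 (alperin_pp hT a _ (cl_M (F := D) E).congr
    (fun P l g hg => M_conj (l.trans nI_le) hg.1) (cl_M E).comp (cl_M E).inv
    fun R r1 r2 r3 f hf m o => ?_), fun α hα => ?_, sup_le ?_ ((closure_le _).2 fun α e => ?_)⟩
  · have l := normal_le_cr hT b r2 r3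
    exact h.gen R f (u.mono l (hf.le.trans nI_le)) (d R f l hf m o) o
  · obtain ⟨β, hβ, s, hs, n, e⟩ := aut_decomp hT a (fn_of_normal b.1 nI_le_norm) hα
    have : β ∈ K P := (closure_le (K P)).2 (fun γ v => by
      obtain ⟨δ, v1, v2⟩ := d P _ le_rfl ((mem_aut b.1).1 v.1) (fun _ => af_mem _)
        (ppo_af ((piN_compl_singleton' hp.out).1 v.2))
      exact af_ext v2 ▸ v1) hβ
    rw [show α = cA n * β from af_ext fun x hx => by
      rw [af_mul _ _ hx, af_cA _ (af_mem _ hx), e x hx]]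
    exact mul_mem (h.ind P u (cA_mem _ hs.1)) this
  · rw [← autInd_inf]; exact autInd_le_aut b.1 le_rfl
  · exact (c _ (Kf.af e.1) (ppo_af ((piN_compl_singleton' hp.out).1 e.2))).af_mem_aut

theorem inv : E.IsInvariantIn F := by
  refine inv_iff.2 ⟨h.sub, h.sc, h.ai, fr_of hS hF h.sc h.sub h.ai fun P a b => ?_⟩
  by_cases c : centralizerIn T P ≤ P
  swap
  · obtain ⟨y, y1, y2⟩ := SetLike.not_le_iff_exists.1 c
    exact .inl ⟨y, y1.1, y1.2, y2⟩
  have u := uu_of_fc hS hF h.sc a.le (sat_fn_fc hS hF b) c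
  obtain ⟨D, -, -, d1, -, d2⟩ := h.loc' hS hF u b
  haveI := finite_of_le b.1
  refine .inr ⟨closure {α | α ∈ K P ∧ ∃ χ, M F P χ ∧ ∃ s ∈ T, ∀ x ∈ P, χ (af α x) = s * χ x * s⁻¹},
    (closure_le _).2 fun α ⟨e, χ, e1, s, e2, e3⟩ => aut_mono d1 (d2 (pel_le hS hF h.sc b (h.le P)
      (h.norm b.1) e e1 e2 e3)), fun χ e => mem_norm_of_conj fun β e' => ?_,
    fun α e => subset_closure ⟨h.ind P u e, _, M_id b.1, mem_autInd'.1 e⟩⟩
  induction e' using closure_induction with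
  | mem β v =>
    obtain ⟨v, k, v1, s, v2, v3⟩ := v
    refine subset_closure ⟨conj_mem_of_norm (h.norm b.1 e) v, _, ((mem_aut b.1).1 (inv_mem e)).comp v1
      fun _ => af_mem _, s, v2, fun x hx => ?_⟩
    rw [af_mul _ _ hx, af_mul _ _ (af_mem _ hx), af_inv_af _ (af_mem _ (af_mem _ hx)),
      v3 _ (af_mem _ hx)]
  | one => simp
  | mul x y _ _ v w => simpa [mul_assoc] using mul_mem v w
  | inv x _ v => simpa [mul_assoc] using inv_mem v

theorem step {n : ℕ} (hs : ∀ Q ≤ T, n < Nat.card Q → SatC E p Q)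
    (hk : ∀ Q : Subgroup Ω, UU F T Q → n < Nat.card Q → E.autGroup Q ≤ K Q) (u : UU F T P)
    (hP : F.IsFullyNormalized P) (c : Nat.card P = n) :
    E.IsFullyAutomized p P ∧ E.IsReceptive P ∧ E.autGroup P ≤ K P := by
  obtain ⟨D, d0, d1, d2, d3, d4⟩ := h.loc' hS hF u hP
  haveI := finite_of_le h.sc.1
  haveI := finite_of_le hP.1
  haveI : Finite (normalizerIn T P) := finite_nI
  have hT := hS.to_le h.sc.1
  have hN := hT.to_le (nI_le : normalizerIn T P ≤ T)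
  have fn := fn_sub hS hF h.sc h.sub u.1 hP
  have hXc : ∀ R f, M E R f → E.IsConj P R → E.IsConj P (im R f) := fun R f a b =>
    fconj_trans b a.isConj
  have gD : ∀ f, Kf (K P) f → PPo p P f → Kf (D.autGroup P) f := fun f ⟨α, a, b⟩ o =>
    ⟨α, d4 (mem_sup_right (mem_piRes a ((piN_compl_singleton' hp.out).2
      (o.congr (fun x hx => b x hx ▸ af_mem _ hx) b).cop))), b⟩
  have hnl : ∀ R, E.IsConj P R → NL E R P := fun R a => by
    obtain ⟨f, hf, rfl⟩ := isConj_iff'.1 a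
    refine (h.gen_ind3 hS _ hXc (fun R f => NL E R P ↔ NL E (im R f) P) ?_ ?_ ?_ ?_ ?_ ?_ P f
      (fconj_refl u.1) hf).1 .refl
    · intro R f g a e; rwa [im_congr e]
    · intro R f g _ a _ b c; rw [← a.im_im]; exact b.trans c
    · intro R f g _ a b e; rw [a.im_im, im_of_eq e]; exact b.symm
    · intro R Q f a b d hf
      have c' := (fconj_card a).trans c
      refine ⟨nl_step hT hs fn c' b d hf, fun h => ?_⟩
      obtain ⟨k, hk, k1, -, -⟩ := hf.exists_inv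
      have := nl_step hT hs fn ((hf.card_im' b.le).trans c') (hf.im_lt_im b le_rfl)
        ((hf.im_nI_le b.le le_rfl d).trans nI_le_norm) hk h
      rwa [(hf.mono b.le).im_im, im_of_eq fun x hx => k1 x (b.le hx)] at this
    · intro R f _ _ a _; rw [a.im_eq]
    · intro _ s a; rw [(M_conj (F := E) le_rfl a).im_top]
  have dl := dlem' hT hs c hnl (K := D.autGroup P) fun Q l n' f hf e e' => by
    obtain ⟨γ, a, b⟩ := hf.exists_aut e
    haveI := finite_of_le hf.le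
    have c' := c ▸ card_lt_of_lt' hf.le l
    obtain ⟨α, a1, β, b1, rfl, a2, b2⟩ := exists_pi_parts {p} γ
    have st : zpowers (α * β) ≤ E.autGroup Q ⊓ stabA l.le :=
      zpowers_le.2 ⟨a, (im_congr fun x hx => b x (l.le hx)).trans e'⟩
    refine (Kf.comp (gD _ (h.res P Q _ u hP l.le hf.le n' (Kf.af (hk Q (u.mono l.le hf.le) c' (st b1).1))
      (ppo_af ((piN_compl_singleton' hp.out).1 b2)) fun _ => stabA_mem (st b1).2)
      ((ppo_af ((piN_compl_singleton' hp.out).1 b2)).mono l.le)) (g := af α) ?_).congr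
      fun x hx => by rw [← b x (l.le hx), af_mul _ _ (l.le hx)]
    obtain ⟨R, r1, r2, -⟩ := hs Q hf.le c'
    obtain ⟨i, hi⟩ := (piN_singleton hp.out (orderOf_pos α).ne').1 a2
    obtain ⟨k, k0, -, k1⟩ := exists_conj_into r2 r1 (isPGroup_zpowers (k := i)
      (hi ▸ pow_orderOf_eq_one α)) (zpowers_le.2 (st a1).1)
    obtain ⟨s, s1, -, s2⟩ := k1 α (mem_zpowers α)
    have k2 := (k0.mono l.le).sub h.sub
    obtain ⟨j, j0, j1, j2, j3⟩ := k2.exists_inv
    have sm := fun x (hx : x ∈ P) => stabA_mem (st a1).2 hx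
    have n2 : s ∈ N[im P k] := mem_norm_of_conj' k2.im_le fun y hy => by
      obtain ⟨x, hx, rfl⟩ := k2.mem_im.1 hy
      rw [← s2 x (l.le hx)]; exact mem_im_of _ (sm x hx)
    obtain ⟨δ, v1, v2⟩ := h.tr _ _ j _ (af α) j0 j3 ((Kf_cA n2).2 (h.ind _ (u.im h.sc k2)
      (cA_mem _ s1))) fun y hy => by
        obtain ⟨x, hx, rfl⟩ := k2.mem_im.1 hy
        rw [← s2 x (l.le hx), j1 x hx, j1 _ (sm x hx)]
    exact ⟨δ, d4 (pel_le hS hF h.sc hP (h.le P) (h.norm hP.1) v1 k2 s1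
      fun x hx => by rw [v2 x hx, s2 x (l.le hx)]), v2⟩
  have hA : ∀ f, M E P f → im P f = P → Kf (D.autGroup P) f := fun f hf e => by
    rcases u.1.eq_or_lt with rfl | hlt
    · exact h.gen_ind3 hS (· = P) (fun _ _ b c => by subst c; exact b.im_top)
        (fun R f => R = P → Kf (D.autGroup P) f) (fun _ _ _ b c e => (b e).congr (e ▸ c))
        (fun _ _ _ _ b _ c d e => by subst e; exact (c rfl).comp (d b.im_top))
        (fun _ _ _ e _ b c _ => (b e).inv (e ▸ c))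
        (fun _ _ _ e b _ c => absurd c.le (e ▸ b).2) (fun _ _ e _ c' d _ => by
          subst e; exact gD _ c' d) (fun _ s b _ => (Kf_cA (le_normalizer b)).2
            (d4 (mem_sup_left (cA_mem _ b)))) P f rfl hf rfl
    let Y : Subgroup Ω → (Ω → Ω) → Prop := fun R f => ∀ g1 g2, M E (normalizerIn T R) g1 →
      im R g1 = P → M E (normalizerIn T (im R f)) g2 → im (im R f) g2 = P →
      ∃ α ∈ D.autGroup P, ∀ x ∈ R, af α (g1 x) = g2 (f x)
    have hbase : ∀ R Q f, E.IsConj P R → R < Q → Q ≤ N[R] → M E Q f → Y R f := by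
      intro R Q f a b d hf g1 g2 b1 b2 b3 b4
      have l : Q ≤ normalizerIn T R := le_inf hf.le d
      obtain ⟨m, m0, m1, m2, -⟩ := (b1.mono l).exists_inv
      have t := (m0.comp hf fun y hy => (m2 y hy).1).comp b3 fun y hy =>
        hf.im_nI_le b.le le_rfl d (mem_im_of f (m2 y hy).1)
      obtain ⟨α, u, v⟩ := dl _ t.le (b2 ▸ b1.im_lt_im b l)
        (b2 ▸ (b1.im_nI_le (b.le.trans l) l d).trans nI_le_norm) _ t (by
          conv_lhs => rw [← b2]
          rw [(b1.mono (b.le.trans l)).im_im,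
            im_congr fun x hx => congrArg (fun y => g2 (f y)) (m1 x (b.le hx)),
            ← (hf.mono b.le).im_im, b4])
      exact ⟨α, u, fun x hx => by
        rw [v _ (b2 ▸ mem_im_of g1 hx)]; beta_reduce; rw [m1 x (b.le hx)]⟩
    refine h.gen_ind3 hS _ hXc Y ?_ ?_ ?_ hbase ?_ ?_ P f (fconj_refl u.1) hf
      _ _ (M_id nI_le) (im_id P) (M_id nI_le) ((im_id _).trans e)
    · intro R f g a e g1 g2 b1 b2 b3 b4
      rw [im_congr e] at b3 b4
      obtain ⟨α, u, v⟩ := a g1 g2 b1 b2 b3 b4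
      exact ⟨α, u, fun x hx => by rw [v x hx, e x hx]⟩
    · intro R f g x a _ b d g1 g2 b1 b2 b3 b4
      obtain ⟨g3, b5, b6⟩ := hnl _ (hXc _ _ a x)
      rw [← a.im_im] at b3 b4
      obtain ⟨α, u, v⟩ := b g1 g3 b1 b2 b5 b6
      obtain ⟨β, u', v'⟩ := d g3 g2 b5 b6 b3 b4
      exact ⟨β * α, mul_mem u' u, fun x hx => by
        rw [af_mul _ _ (b2 ▸ mem_im_of g1 hx), v x hx, v' _ (mem_im_of f hx)]⟩
    · intro R f g _ a b e g1 g2 b1 b2 b3 b4
      rw [a.im_im, im_of_eq e] at b3 b4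
      obtain ⟨α, u, v⟩ := b g2 g1 b3 b4 b1 b2
      refine ⟨α⁻¹, inv_mem u, fun y hy => ?_⟩
      obtain ⟨x, hx, rfl⟩ := a.mem_im.1 hy
      rw [← v x hx, e x hx, af_inv_af _ (b4 ▸ mem_im_of g2 hx)]
    · intro R f x b a o k k' d1 d2 d3 d4
      rw [a.im_eq] at d3 d4
      have l : R < T := lt_of_le_of_ne b.1 fun e => (card_lt_of_lt' le_rfl hlt).ne'
        (e ▸ fconj_card x)
      obtain ⟨α, a1, a2⟩ := hbase R _ _ x (lt_nI hT le_rfl l) inf_le_right (M_id inf_le_left) k k'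
        d1 d2 (by rwa [im_id]) (by rwa [im_id])
      have k0 := (d1.mono (le_nI b.1)).sub h.sub
      obtain ⟨j, -, j1, -⟩ := k0.exists_inv
      have e : ∀ x ∈ R, (fun y => k (f (j y))) (k x) = k (f x) := fun x hx => by
        beta_reduce; rw [j1 x hx]
      have o' := o.tr (f' := fun y => k (f (j y))) k0.homOn (fun _ => a.mem) e
      rw [d2] at o'
      obtain ⟨β, b1, b2⟩ := gD _ (h.tr _ _ _ _ _ k0 d2 a e) o'
      refine ⟨α * β, mul_mem a1 b1, fun y hy => ?_⟩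
      rw [af_mul _ _ (d2 ▸ mem_im_of _ hy), b2 _ (d2 ▸ mem_im_of _ hy), e y hy, a2 _ (a.mem hy)]
    · exact fun x => absurd (fconj_card x) (card_lt_of_lt' le_rfl hlt).ne'
  have ea : E.autGroup P = D.autGroup P := le_antisymm (fun α a => by
    obtain ⟨β, b1, b2⟩ := hA _ ((mem_aut u.1).1 a) (im_af α)
    exact af_ext b2 ▸ b1) (aut_mono d2)
  have fD := fn_of_normal (F := D) d1.1 nI_le_norm
  refine ⟨fa_iff.2 ⟨u.1, by rw [ea, ← autInd_inf]; exact sat_syl (F := D) hN d0 fD⟩,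
    rec_iff.2 ⟨u.1, fun R f hf e => ?_⟩, ea ▸ d3⟩
  obtain ⟨g1, a1, e1⟩ := hnl R (fconj_symm (e ▸ hf.isConj))
  have lR := le_nI hf.le
  obtain ⟨m, m0, m1, m2, m3⟩ := (a1.mono lR).exists_inv' e1
  obtain ⟨α, v, v'⟩ := hA _ (m0.comp hf fun y hy => (m2 y hy).1) (by rw [← m0.im_im, m3, e])
  obtain ⟨g, g0, g2⟩ := sat_ext hN d0 ((mem_aut d1.1).1 v) ((im_af α).symm ▸ sat_fn_fc hN d0 fD)
  have w : ∀ x ∈ R, af α (g1 x) = f x := fun x hx => by
    rw [v' _ (e1 ▸ mem_im_of g1 hx)]; beta_reduce; rw [m1 x hx]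
  refine ⟨_, (a1.mono Ext_le_nI).comp (g0.sub d2) ?_, fun x hx => by
    rw [g2 _ (e1 ▸ mem_im_of g1 hx), w x hx]⟩
  rintro x ⟨i1, i2, k, i3, i4⟩
  have i5 : g1 x ∈ N[P] := e1 ▸ a1.mem_norm lR ⟨i1, i2⟩ i2
  refine mem_Ext.2 ⟨⟨a1.mem ⟨i1, i2⟩, i5⟩, i5, k, ⟨i3, e ▸ mem_norm_of_ext hf.homOn i2 i4⟩,
    fun z hz => ?_⟩
  obtain ⟨y, hy, rfl⟩ := (a1.mem_im' lR).1 (e1 ▸ hz)
  rw [← a1.conj ⟨i1, i2⟩ (lR hy), w _ (conj_mem_of_norm i2 hy), w y hy, i4 y hy]

theorem wn : E.IsWeaklyNormalIn F p := by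
  have i := h.inv hS hF
  haveI := finite_of_le h.sc.1
  have hT := hS.to_le h.sc.1
  refine ⟨fun P hP => (down_ind (S := T) (p := fun P => SatC E p P ∧ (UU F T P → E.autGroup P ≤ K P))
    (fun P hP ih => ?_) P hP).1, hF, i⟩
  by_cases u : UU F T P
  · obtain ⟨R, a, b⟩ := exists_fn F (hP.trans h.sc.1)
    obtain ⟨k, k0, rfl⟩ := isConj_iff'.1 a
    obtain ⟨s1, s2, s3⟩ := h.step hS hF (fun Q a b => (ih Q a b).1) (fun Q a b => (ih Q a.1 b).2 a)
      (u.im h.sc k0) b k0.card_im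
    obtain ⟨χ, c1, k', c2, c3⟩ := (inv_iff.1 i).2.2.2 P hP k k0
    have := satC_af h.ai h.sc.1 s1 s2 (inv_mem c1)
    rw [k0.im_im, im_congr (g := k') fun x hx => by rw [c3 x hx, af_inv_af _ (c2.mem hx)]] at this
    refine ⟨⟨_, c2.isConj, this⟩, fun _ α hα => ?_⟩
    obtain ⟨j, j0, j1, j2, j3⟩ := k0.exists_inv
    obtain ⟨β, b1, b2⟩ := h.tr _ _ j _ (af α) j0 j3 (Kf.af (s3 (M.af_mem_aut (si_of_inv i _ _ _ _ _
      ((mem_aut hP).1 hα) k0 le_rfl (fun _ => af_mem _) fun x hx => k0.af_tr rfl α hx))))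
      fun y hy => by
        obtain ⟨x, hx, rfl⟩ := k0.mem_im.1 hy
        rw [k0.af_tr rfl α hx, j1 x hx, j1 _ (af_mem _ hx)]
    exact af_ext b2 ▸ b1
  refine ⟨?_, fun a => absurd a u⟩
  obtain ⟨R, a, b⟩ := exists_fn E hP
  have hc : ∀ P ∈ {P | UU F T P}, ∀ Q, E.IsConj P Q → Q ∈ {P | UU F T P} := fun P a Q b => by
    obtain ⟨k, k0, rfl⟩ := isConj_iff'.1 b
    exact UU.im a h.sc (k0.sub h.sub)
  have ut : UU F T T := ⟨le_rfl, fun f hf => by rw [sc_im h.sc hf le_rfl]; exact cI_le⟩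
  refine ⟨R, a, sat_step hT (fun Q a b => (ih Q a b).1) hc (fun D d => le_iff_M.2 fun P f e =>
    ((h.hE P f).1 e).2 D fun Q g v w o => ?_) b (fconj_card a) (fun h => u (hc R h P (fconj_symm a)))
    (fun e => u (hc T ut P (fconj_symm (e ▸ a)))) ?_⟩
  · have := h.gen Q g v w o
    exact (hom_iff' (fun _ => rfl)).1 (d Q v this.hom_mem)
  by_contra hn
  push Not at hn
  have : E.IsCentric P := ⟨hP, fun Q c => cI_le_NSK.trans (hn Q (fconj_trans (fconj_symm a) c))⟩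
  exact u ⟨hP, fun f hf => centric_cI (inv_centric i this hf)⟩

end WE

theorem WM.exists {K : ∀ P : Subgroup Ω, Subgroup (MulAut P)} (h : WM F T p K) :
    ∃ E : FusionSystem T, E.IsWeaklyNormalIn F p ∧ GenK F p K E ∧
      (∀ D : FusionSystem T, GenK F p K D → E ≤ D) ∧ E.autGroup T ≤ K T := by
  obtain ⟨B, hB⟩ := exists_res h.sc
  obtain ⟨E, hE⟩ := exists_infFS B (GenK F p K)
  have w : WE F p K E := ⟨h, fun P f => by rw [hE, hB]⟩
  haveI := finite_of_le h.sc.1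
  exact ⟨E, w.wn hS hF, w.gen, fun D a => le_iff_M.2 fun P f b => ((hE P f).1 b).2 D a,
    (w.step hS hF (fun Q a b => absurd (card_le_of_le' le_rfl a) b.not_ge)
      (fun Q a b => absurd (card_le_of_le' le_rfl a.1) b.not_ge)
      ⟨le_rfl, fun f hf => by rw [sc_im h.sc hf le_rfl]; exact cI_le⟩
      (fn_of_normal h.sc.1 (sc_le_norm h.sc)) rfl).2.2⟩

end CfsgH2
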