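import Cfsg.Agent.H2.Sa16

/-! Local lemmas for the intersection of weakly normal subsystems. -/

namespace CfsgH2
open Cfsg Subgroup CfsgL0 Function
open Cfsg.FusionSystem hiding inv_mem center

variable {Ω : Type*} [Group Ω] {S T U V W X Y A B : Subgroup Ω} {F : FusionSystem S}
  {P Q R : Subgroup Ω} {f g : Ω → Ω} {p : ℕ} {E : FusionSystem T}

theorem triv_sup (hg : HomOn (A ⊔ B) g) (n : A ⊔ B ≤ N[P]) (a : ∀ x ∈ A, x⁻¹ * g x ∈ P)
    (b : ∀ x ∈ B, x⁻¹ * g x ∈ P) : ∀ x ∈ A ⊔ B, x⁻¹ * g x ∈ P := by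
  let H : Subgroup Ω :=
    { carrier := {x | x ∈ A ⊔ B ∧ x⁻¹ * g x ∈ P}
      mul_mem' := fun {x y} u v => ⟨mul_mem u.1 v.1, by
        rw [hg.mul u.1 v.1]
        simpa [mul_assoc] using mul_mem (conj_mem_of_norm' (n v.1) u.2) v.2⟩
      one_mem' := ⟨one_mem _, by simp [hg.one]⟩
      inv_mem' := fun {x} u => ⟨inv_mem u.1, by
        rw [hg.inv u.1]
        simpa [mul_assoc] using conj_mem_of_norm (n u.1) (inv_mem u.2)⟩ }
  exact fun x hx => ((sup_le (fun x hx => ⟨mem_sup_left hx, a x hx⟩)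
    (fun x hx => ⟨mem_sup_right hx, b x hx⟩) : A ⊔ B ≤ H) hx).2

theorem nV {y : Ω} (h1 : y ∈ S) (h2 : y ∈ N[P]) : y ∈ N[P ⊔ centralizerIn S P] := mem_norm_sup h2
  (mem_norm_inf (le_normalizer h1) (norm_le_norm_cent _ h2))

theorem cN : centralizerIn S P ≤ N[P] := cI_le_cent.trans (cent_le_norm _)

theorem VN : P ⊔ centralizerIn S P ≤ N[P] := sup_le le_normalizer cN

theorem vT (l : P ≤ T) (h : centralizerIn T P ≤ P) {x : Ω} (hx : x ∈ P ⊔ centralizerIn S P)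
    (t : x ∈ T) : x ∈ P := by
  obtain ⟨r, hr, s, hs, rfl⟩ := (mem_sup_of_norm' cN).1 hx
  exact mul_mem hr (h ⟨(mul_mem_cancel_left (l hr)).1 t, hs.2⟩)

theorem Kf.iter {K : Subgroup (MulAut Q)} (h : Kf K f) (n : ℕ) : Kf K f^[n] := by
  induction n with
  | zero => exact Kf.id
  | succ n ih => exact (ih.comp h).congr fun x _ => iterate_succ_apply' _ _ _

variable [Finite S]

theorem rm_tr (hi : E.IsInvariantIn F) {k g' : Ω → Ω} (hk : M F W k) (hg : M E (W ⊓ T) g)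
    (m : ∀ x ∈ W, g x ∈ W) (e : ∀ x ∈ W, g' (k x) = k (g x)) : M E (im W k ⊓ T) g' := by
  rw [← hk.im_inf_sc hi.2.1]
  exact si_of_inv hi _ _ _ _ _ hg hk inf_le_left (fun x hx => m x hx.1) fun x hx => e x hx.1

theorem im_V (hg : M F W g) (l : P ⊔ centralizerIn S P ≤ W) (e : im P g = P) :
    ∀ x ∈ P ⊔ centralizerIn S P, g x ∈ P ⊔ centralizerIn S P := im_le_iff.1 (by
  rw [(hg.mono l).homOn.im_sup, e]
  exact sup_le_sup_left ((hg.im_cI_le (le_sup_left.trans l) (le_sup_right.trans l)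
    cI_le_cent).trans (by rw [e])) _)

variable [hp : Fact p.Prime] (hS : IsPGroup p S) (hF : F.IsSaturated p)
include hS hF

theorem fcV (hT : F.StronglyClosed T) (l : Q ≤ T) (hQ : F.IsFullyCentralized Q) :
    F.IsFullyCentralized ((Q ⊔ centralizerIn S Q) ⊓ T) := ⟨inf_le_right.trans hT.1, fun R a => by
  obtain ⟨f, hf, rfl⟩ := isConj_iff'.1 a
  have l1 : Q ≤ (Q ⊔ centralizerIn S Q) ⊓ T := le_inf le_sup_left l
  obtain ⟨j, j0, j1, -, j3⟩ := (hf.mono l1).exists_inv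
  obtain ⟨k, k0, k1⟩ := sat_ext hS hF j0 (j3.symm ▸ hQ)
  have l2 : im ((Q ⊔ centralizerIn S Q) ⊓ T) f ≤ Ext S (im Q f) j := im_le_iff.2 fun x hx => by
    obtain ⟨r, hr, s, hs, rfl⟩ := (mem_sup_of_norm' cN).1 hx.1
    have s1 : s ∈ (Q ⊔ centralizerIn S Q) ⊓ T := (mul_mem_cancel_left (l1 hr)).1 hx
    rw [hf.mul (l1 hr) s1]
    exact mul_mem (j0.le_Ext (mem_im_of _ hr)) (cI_le_Ext ⟨hf.mem s1, hf.mem_cent l1 s1 hs.2⟩)
  have t := hf.comp k0 (im_le_iff.1 l2)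
  have e : ∀ x ∈ Q, k (f x) = x := fun x hx => by rw [k1 _ (mem_im_of _ hx), j1 x hx]
  have := k0.card_cI_le l2 ((inf_le_inf_left _ (cent_anti (im_mono f l1))).trans cI_le_Ext)
  rwa [hf.im_im, t.im_eq_of_le le_rfl fun x hx => ⟨?_, sc_mem hT t hx hx.2⟩] at this
  obtain ⟨r, hr, s, hs, rfl⟩ := (mem_sup_of_norm' cN).1 hx.1
  have s1 : s ∈ (Q ⊔ centralizerIn S Q) ⊓ T := (mul_mem_cancel_left (l1 hr)).1 hx
  have := t.mem_cent l1 s1 hs.2
  rw [im_of_eq e] at this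
  beta_reduce
  rw [t.mul (l1 hr) s1, e r hr]
  exact mul_mem (mem_sup_left hr) (mem_sup_right ⟨t.mem s1, this⟩)⟩

theorem cenV (h : E.IsInvariantIn F) (l : Q ≤ T) (hQ : F.IsFullyCentralized Q) :
    E.IsCentric ((Q ⊔ centralizerIn S Q) ⊓ T) :=
  haveI := finite_of_le h.2.1.1
  centric_of_fc (fc_sub hS hF h.2.1 h.1 inf_le_right (fcV hS hF h.2.1 l hQ)) fun _ a =>
    ⟨mem_sup_right ⟨h.2.1.1 a.1, cent_anti (le_inf le_sup_left l) a.2⟩, a.1⟩

theorem mem_T_of (h : E.IsWeaklyNormalIn F p) (hQ : F.IsFullyCentralized Q) {s : Ω} (h1 : s ∈ S)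
    (h2 : s ∈ N[Q]) (h3 : M E Q fun x => s * x * s⁻¹) : ∃ t ∈ T, t⁻¹ * s ∈ C[Q] := by
  have hT := h.2.2.2.1
  haveI := finite_of_le hT.1
  obtain ⟨k, k0, k1⟩ := sat_nmap_fn hS hF hQ.1
  have l := le_nI hQ.1
  have s1 : s ∈ normalizerIn S Q := ⟨h1, h2⟩
  have a := si_of_inv h.2.2 _ _ _ _ (fun x => k s * x * (k s)⁻¹) h3 k0 l
    (fun x hx => l (conj_mem_of_norm h2 hx)) fun x hx => (k0.conj s1 (l hx)).symm
  have n := k0.mem_norm l s1 h2
  haveI := finite_of_le k1.1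
  have e := (sat_syl (hS.to_le hT.1) h.1 (fn_sub hS hF hT h.2.2.1 a.le k1)).eq_of_le
    (Q := autInducedBy S _ ⊓ E.autGroup _) (isPGroup_autInd hS).to_inf_left
    (le_inf (autInd_mono hT.1) (autInd_le_aut a.le le_rfl)) inf_le_right
  obtain ⟨t, t1, -, t2⟩ := (cA_mem_autInd_iff n).1 (e.le ⟨cA_mem _ (k0.mem s1),
    M.af_mem_aut (a.congr fun x => af_cA _)⟩)
  obtain ⟨c, c1, c2⟩ := (k0.mem_im' cI_le_nI).1 ((k0.im_cI_eq hQ l cI_le_nI).ge
    (mem_cI.2 ⟨mul_mem (inv_mem (hT.1 t1)) (k0.mem s1), t2⟩))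
  obtain ⟨j, j0, j1, -⟩ := k0.exists_inv
  have u := mul_mem s1 (inv_mem (cI_le_nI c1))
  have := sc_mem hT j0 (mem_im_of k u) (by
    rw [k0.mul s1 (inv_mem (cI_le_nI c1)), k0.inv (cI_le_nI c1), c2]; simpa using t1)
  rw [j1 _ u] at this
  exact ⟨_, this, by simpa using c1.2⟩

omit hF in
theorem rm_up (h : E.IsWeaklyNormalIn F p) (l : U ≤ T) (a : Q ≤ U) (n : U ≤ N[Q])
    (c : E.IsCentric Q) (hg : M F U g) (m : ∀ x ∈ U, g x ∈ U) (o : PPo p U g) (b : M E Q g)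
    (e : im Q g = Q) : M E U g := by
  have hT := h.2.2.2.1
  haveI := finite_of_le hT.1
  haveI := finite_of_le hg.le
  obtain ⟨k, k0, k1⟩ := sat_ext (hS.to_le hT.1) h.1 b (e.symm ▸ centric_fc c)
  replace k0 := k0.mono (fun x hx => mem_Ext.2 ⟨l hx, n hx, g x, l (m x hx), fun y hy =>
    hg.conj hx (a hy)⟩ : U ≤ _)
  obtain ⟨γ, u, v⟩ := exists_fix_aut hS hg (fun x hx => l (m x hx)) k0 a n k1
    (e.symm ▸ centric_cI c)
  obtain ⟨α, a1, a2⟩ := hg.exists_aut (hg.im_eq_of_le le_rfl m)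
  obtain ⟨β, b1, b2⟩ := k0.exists_aut (k0.im_eq_of_le le_rfl fun x hx => by
    rw [← af_af_inv γ hx, v _ (af_mem _ hx)]; exact m _ (af_mem _ hx))
  have e1 : α = β * γ := af_ext fun x hx => by
    rw [af_mul _ _ hx, b2 _ (af_mem _ hx), v x hx, a2 x hx]
  have nn := (si_of_inv h.2.2).le_norm l hT.1
  have key : ∀ n : ℕ, α ^ n * (γ ^ n)⁻¹ ∈ E.autGroup U := fun n => by
    induction n with
    | zero => simp
    | succ n ih =>
      have := mul_mem (conj_mem_of_norm (nn (pow_mem a1 n)) b1) ih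
      rw [pow_succ, pow_succ]
      nth_rewrite 2 [e1]
      simpa [mul_assoc] using this
  obtain ⟨i, hi⟩ := pgroup_pow_eq_one u (mem_zpowers γ)
  have := key (p ^ i)
  rw [hi] at this
  exact ((mem_aut l).1 (mem_of_pow_pow (by simpa using this) (pow_orderOf_eq_one α ▸ one_mem _)
    ((o.congr m a2).cop.symm.pow_left i))).congr fun x hx => (a2 x hx).symm

theorem fc_of_N (hP : F.IsFullyNormalized P) {N : FusionSystem (normalizerIn S P)}
    (hN : F.IsNormalizerSystem P N) (l : P ≤ Q) (hQ : N.IsFullyCentralized Q) :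
    F.IsFullyCentralized Q := ⟨hQ.1.trans nI_le, fun R a => by
  obtain ⟨f, hf, rfl⟩ := isConj_iff'.1 a
  obtain ⟨k, k0, k1⟩ := sat_nmap hS hF hP (fconj_symm (hf.mono l).isConj)
  have l1 := hf.im_nI_le l le_rfl (hQ.1.trans nI_le_norm)
  have e : ∀ R, P ≤ R → centralizerIn (normalizerIn S P) R = centralizerIn S R := fun R a =>
    le_antisymm (inf_le_inf_right _ nI_le) fun x b => ⟨⟨b.1, cent_le_norm _ (cent_anti a b.2)⟩, b.2⟩
  have t := hf.comp k0 (im_le_iff.1 l1)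
  have k2 : im P (fun x => k (f x)) = P := by rw [← (hf.mono l).im_im, k1]
  have := hQ.2 _ ((isN_iff.1 hN _ _).2 (NKM_top_iff.2 ⟨hQ.1, _, t.mono (sup_le le_rfl l),
    fun _ _ => rfl, k2⟩)).isConj
  rw [e Q l, e _ (k2.ge.trans (im_mono _ l)), ← hf.im_im] at this
  exact (k0.card_cI_le l1 ((inf_le_inf_left _ (cent_anti (im_mono f l))).trans cI_le_nI)).trans this⟩

theorem N_aut {N : FusionSystem (normalizerIn S P)} (hN : F.IsNormalizerSystem P N) (l : P ≤ Q)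
    (l' : Q ≤ normalizerIn S P) : M N Q f ↔ M F Q f ∧ im P f = P := by
  rw [isN_iff.1 hN, NKM_top_iff]
  exact ⟨fun ⟨_, g, a, b, c⟩ => ⟨(a.mono le_sup_left).congr fun x hx => (b x hx).symm,
    (im_congr fun x hx => b x (l hx)).symm.trans c⟩,
    fun ⟨a, b⟩ => ⟨l', f, a.mono (sup_le le_rfl l), fun _ _ => rfl, b⟩⟩

theorem syl_K (hP : F.IsFullyNormalized P) {K : Subgroup (MulAut ↥(P ⊔ centralizerIn S P))}
    (h1 : ∀ α ∈ K, M F (P ⊔ centralizerIn S P) (af α) ∧ im P (af α) = P)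
    (h2 : ∀ α, M F (P ⊔ centralizerIn S P) (af α) → im P (af α) = P → α ∈ N[K]) :
    Syl p (K ⊓ autInducedBy S _) (K ⊓ F.autGroup _) := by
  obtain ⟨N, hN⟩ := exists_N F hP.1
  haveI : Finite (normalizerIn S P) := finite_nI
  have l : P ⊔ centralizerIn S P ≤ normalizerIn S P := sup_le (le_nI hP.1) cI_le_nI
  haveI := finite_of_le l
  have s := sat_syl (hS.to_le nI_le) (sat_N hS hF hP hN) (fn_of_normal l fun x a => nV a.1 a.2)
  have a : K ≤ N.autGroup _ := fun α a => ((N_aut hS hF hN le_sup_left l).2 (h1 α a)).af_mem_aut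
  have s1 := s.inf_norm a (s.le.trans fun α b =>
    let ⟨c, d⟩ := (N_aut hS hF hN le_sup_left l).1 ((mem_aut l).1 b); h2 α c d)
  rw [show K ⊓ F.autGroup _ = K from inf_eq_left.2 fun α b => (h1 α b).1.af_mem_aut]
  rwa [s1.eq_of_le (Q := K ⊓ autInducedBy S _) (isPGroup_autInd hS).to_inf_right
    (fun α b => ⟨b.2, autInd_mono nI_le b.1⟩) inf_le_left]

theorem res_i (h : E.IsWeaklyNormalIn F p) (l : P ≤ Q) (l' : Q ≤ T) (hQ : F.IsFullyCentralized Q)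
    (n : centralizerIn S P ≤ N[Q]) (hg : M F (Q ⊔ centralizerIn S P) g)
    (o : PPo p (Q ⊔ centralizerIn S P) g) (e : im P g = P) (e' : im Q g = Q)
    (t : ∀ y ∈ centralizerIn S Q, y⁻¹ * g y ∈ Q) (b : M E ((Q ⊔ centralizerIn S Q) ⊓ T) g) :
    (∀ c ∈ centralizerIn S P, c⁻¹ * g c ∈ T) ∧ M E ((Q ⊔ centralizerIn S P) ⊓ T) g := by
  have hT := h.2.2.2.1
  haveI := finite_of_le hT.1
  set C := centralizerIn S P
  have l1 : centralizerIn S Q ≤ C := inf_le_inf_left _ (cent_anti l)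
  have cm : ∀ c ∈ C, g c ∈ C := im_le_iff.1 ((hg.im_cI_le (l.trans le_sup_left) le_sup_right
    cI_le_cent).trans (by rw [e]))
  have gm : ∀ x ∈ Q ⊔ C, g x ∈ Q ⊔ C := im_le_iff.1 (by
    rw [hg.homOn.im_sup, e']; exact sup_le_sup_left (im_le_iff.2 cm) _)
  set Z := (Q ⊔ centralizerIn S Q) ⊓ T
  have l2 : Z ≤ Q ⊔ C := inf_le_left.trans (sup_le_sup_left l1 _)
  have nZ : Q ⊔ C ≤ N[Z] := fun x a => mem_norm_inf (nV (hg.le a)
    (sup_le le_normalizer n a)) (sc_le_norm hT (hg.le a))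
  have zm : im Z g = Z := b.im_eq_of_le le_rfl fun x hx =>
    ⟨im_V (hg.mono (sup_le_sup_left l1 _)) le_rfl e' x hx.1, b.mem hx⟩
  refine ⟨fun c hc => (cop2 hS hg (X := C ⊓ T ⊔ centralizerIn S Q) (P := C ⊓ T)
    ((sup_le inf_le_left l1).trans le_sup_right) le_sup_left (xt_triv (hg.homOn.mono
      ((sup_le inf_le_left l1).trans le_sup_right)) (fun x a => mem_norm_inf (le_normalizer (l1 a))
      (sc_le_norm hT a.1)) (fun x a => ⟨cm x a.1, sc_mem hT hg (mem_sup_right a.1) a.2⟩)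
      fun y a => ⟨C.mul_mem (C.inv_mem (l1 a)) (cm y (l1 a)), l' (t y a)⟩) o (mem_sup_right hc) ?_).2,
    rm_up hS h inf_le_right (le_inf l2 inf_le_right) (inf_le_left.trans nZ) (cenV hS hF h.2.2 l' hQ)
      (hg.mono inf_le_left) (fun x a => ⟨gm x a.1, sc_mem hT hg a.1 a.2⟩) (o.mono inf_le_left) b zm⟩
  have d := mul_mem (inv_mem hc) (cm c hc)
  obtain ⟨α, a1, a2⟩ := b.exists_aut zm
  have n1 := nZ (mem_sup_right hc)
  have n2 := nZ (mem_sup_right (cm c hc))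
  have u : cA (nZ (mem_sup_right d)) ∈ E.autGroup Z := by
    rw [cA_mul (inv_mem n1) n2, cA_inv n1, ← conj_cA α n1 n2 fun z hz => by
      rw [a2 _ (conj_mem_of_norm n1 hz), a2 z hz, hg.conj (mem_sup_right hc) (l2 hz)]]
    have := mul_mem ((si_of_inv h.2.2).aut_conj b.le hT.1 (inv_mem (autInd_le_aut (b.le.trans hT.1)
      le_rfl (cA_mem n1 hc.1))) a1) (inv_mem a1)
    simpa [mul_assoc] using this
  obtain ⟨s, s1, s2⟩ := mem_T_of hS hF h (fcV hS hF hT l' hQ) d.1 (nZ (mem_sup_right d))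
    (((mem_aut b.le).1 u).congr fun x hx => (af_cA _ hx).symm)
  have s3 : s⁻¹ * (c⁻¹ * g c) ∈ centralizerIn S Q := mem_cI.2 ⟨mul_mem (inv_mem (hT.1 s1)) d.1,
    cent_anti (le_inf le_sup_left l') s2⟩
  have s4 : s ∈ C ⊓ T := mem_inf.2 ⟨by simpa [mul_assoc] using mul_mem d (inv_mem (l1 s3)), s1⟩
  have := mul_mem (mem_sup_left s4) (mem_sup_right s3)
  rwa [mul_inv_cancel_left] at this

theorem foc_i (h : E.IsWeaklyNormalIn F p) (l : P ≤ T) (hP : F.IsFullyCentralized P)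
    (hg : M F (R ⊔ (P ⊔ centralizerIn S P)) g) (t : ∀ y ∈ P ⊔ centralizerIn S P, y⁻¹ * g y ∈ P)
    {x : Ω} (hx : x ∈ R) (n : x ∈ N[P])
    (b : M E ((P ⊔ centralizerIn S P) ⊓ T) fun y => x * y * x⁻¹) : x⁻¹ * g x ∈ T := by
  have hT := h.2.2.2.1
  have x1 := hg.le (mem_sup_left hx)
  obtain ⟨s, s1, s2⟩ := mem_T_of hS hF h (fcV hS hF hT l hP) x1 (mem_norm_inf (nV x1 n)
    (sc_le_norm hT x1)) b
  have s3 : s⁻¹ * x ∈ centralizerIn S P := mem_cI.2 ⟨mul_mem (inv_mem (hT.1 s1)) x1,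
    cent_anti (le_inf le_sup_left l) s2⟩
  have s4 := mem_sup_right (S := R) (mem_sup_right (S := P) s3)
  have s5 : s ∈ R ⊔ (P ⊔ centralizerIn S P) := by
    simpa using mul_mem (mem_sup_left hx) (inv_mem s4)
  have := mul_mem (conj_mem_of_norm' (sc_le_norm hT s3.1) (mul_mem (inv_mem s1)
    (sc_mem hT hg s5 s1))) (l (t _ (mem_sup_right s3)))
  rw [show g x = g s * g (s⁻¹ * x) by rw [← hg.mul s5 s4]; simp]
  simpa [mul_assoc] using this

end CfsgH2
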