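import Cfsg.Agent.H2.Sa17

/-! The intersection of weakly normal subsystems. -/

namespace CfsgH2
open Cfsg Subgroup CfsgL0 Function
open Cfsg.FusionSystem hiding inv_mem center

variable {Ω : Type*} [Group Ω] {S T U V W X Y T₁ T₂ : Subgroup Ω} {F : FusionSystem S}
  {P Q R : Subgroup Ω} {f g k : Ω → Ω} {p : ℕ} {E₁ : FusionSystem T₁} {E₂ : FusionSystem T₂}

/-- good maps -/
structure GG (F : FusionSystem S) (E₁ : FusionSystem T₁) (E₂ : FusionSystem T₂) (P V : Subgroup Ω)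
    (g : Ω → Ω) : Prop where
  m : M F V g
  mem : ∀ x ∈ V, g x ∈ V
  t : ∀ x ∈ V, x⁻¹ * g x ∈ P
  r₁ : M E₁ (V ⊓ T₁) g
  r₂ : M E₂ (V ⊓ T₂) g

theorem GG.congr (h : GG F E₁ E₂ P V f) (e : ∀ x ∈ V, g x = f x) : GG F E₁ E₂ P V g :=
  ⟨h.m.congr e, fun x a => e x a ▸ h.mem x a, fun x a => e x a ▸ h.t x a,
    h.r₁.congr fun x a => e x a.1, h.r₂.congr fun x a => e x a.1⟩

theorem GG.comp (h : GG F E₁ E₂ P V f) (h' : GG F E₁ E₂ P V g) :
    GG F E₁ E₂ P V fun x => g (f x) :=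
  ⟨h.m.comp h'.m h.mem, fun x a => h'.mem _ (h.mem x a), fun x a => by
    simpa [mul_assoc] using mul_mem (h.t x a) (h'.t _ (h.mem x a)),
    h.r₁.comp h'.r₁ fun x a => ⟨h.mem x a.1, h.r₁.mem a⟩,
    h.r₂.comp h'.r₂ fun x a => ⟨h.mem x a.1, h.r₂.mem a⟩⟩

theorem GG.mono (h : GG F E₁ E₂ P V f) (l : P ≤ W) (l' : W ≤ V) : GG F E₁ E₂ P W f :=
  ⟨h.m.mono l', fun x a => by simpa using mul_mem a (l (h.t x (l' a))), fun x a => h.t x (l' a),
    h.r₁.mono (inf_le_inf_right _ l'), h.r₂.mono (inf_le_inf_right _ l')⟩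

theorem GG.memP (h : GG F E₁ E₂ P V f) (l : P ≤ V) : ∀ x ∈ P, f x ∈ P := fun x a => by
  simpa using mul_mem a (h.t x (l a))

/-- a good extension exists -/
def G0 (F : FusionSystem S) (E₁ : FusionSystem T₁) (E₂ : FusionSystem T₂) (P : Subgroup Ω)
    (f : Ω → Ω) : Prop := ∃ g, GG F E₁ E₂ P (P ⊔ centralizerIn S P) g ∧ ∀ x ∈ P, g x = f x

theorem G0.congr (h : G0 F E₁ E₂ P f) (e : ∀ x ∈ P, g x = f x) : G0 F E₁ E₂ P g :=
  let ⟨k, a, b⟩ := h; ⟨k, a, fun x c => (b x c).trans (e x c).symm⟩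

variable [Finite S] [Finite T₁] [Finite T₂]

theorem GG.inv (h : GG F E₁ E₂ P V f) (e : ∀ x ∈ V, g (f x) = x) : GG F E₁ E₂ P V g := by
  have i := h.m.im_eq_of_le le_rfl h.mem
  have s : ∀ y ∈ V, ∃ x ∈ V, f x = y := fun y a => h.m.mem_im.1 (i.ge a)
  refine ⟨i ▸ h.m.of_leftInv e, fun y a => ?_, fun y a => ?_, ?_, ?_⟩
  · obtain ⟨x, b, rfl⟩ := s y a; rwa [e x b]
  · obtain ⟨x, b, rfl⟩ := s y a; rw [e x b]; simpa using inv_mem (h.t x b)
  · have := h.r₁.of_leftInv fun x a => e x a.1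
    rwa [h.r₁.im_eq_of_le le_rfl fun x a => ⟨h.mem x a.1, h.r₁.mem a⟩] at this
  · have := h.r₂.of_leftInv fun x a => e x a.1
    rwa [h.r₂.im_eq_of_le le_rfl fun x a => ⟨h.mem x a.1, h.r₂.mem a⟩] at this

/-- good automorphisms -/
def KV (F : FusionSystem S) (E₁ : FusionSystem T₁) (E₂ : FusionSystem T₂) (P V : Subgroup Ω) : Subgroup (MulAut V) where
  carrier := {α | V ≤ S → GG F E₁ E₂ P V (af α)}
  mul_mem' := fun a b l => ((b l).comp (a l)).congr fun _ => af_mul _ _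
  one_mem' := fun l => GG.congr ⟨M_id l, fun _ a => a, fun _ _ => by simp, M_id inf_le_right,
    M_id inf_le_right⟩ fun _ => af_one
  inv_mem' := fun a l => (a l).inv fun _ => af_inv_af _

theorem kv_iff (l : V ≤ S) : Kf (KV F E₁ E₂ P V) g ↔ GG F E₁ E₂ P V g :=
  ⟨fun ⟨_, a, b⟩ => (a l).congr fun x c => (b x c).symm, fun a =>
    let ⟨α, _, b⟩ := a.m.exists_aut (a.m.im_eq_of_le le_rfl a.mem); ⟨α, fun _ => a.congr b, b⟩⟩

theorem GG.iter (h : GG F E₁ E₂ P V f) (n : ℕ) : GG F E₁ E₂ P V f^[n] :=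
  (kv_iff h.m.le).1 (Kf.iter ((kv_iff h.m.le).2 h) n)

/-- automorphisms all of whose conjugates have good extensions -/
def KK (F : FusionSystem S) (E₁ : FusionSystem T₁) (E₂ : FusionSystem T₂) (P : Subgroup Ω) : Subgroup (MulAut P) where
  carrier := {α | α ∈ F.autGroup P ∧ ∀ k g, M F P k → (∀ x ∈ P, g (k x) = k (af α x)) →
    G0 F E₁ E₂ (im P k) g}
  mul_mem' := fun {α β} a b => ⟨mul_mem a.1 b.1, fun k g c d => by
    obtain ⟨j, -, j1, j2, -⟩ := c.exists_inv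
    obtain ⟨g1, a1, a2⟩ := a.2 k (fun y => k (af α (j y))) c fun x e => by rw [j1 x e]
    obtain ⟨g2, b1, b2⟩ := b.2 k (fun y => k (af β (j y))) c fun x e => by rw [j1 x e]
    refine ⟨_, b1.comp a1, fun y e => ?_⟩
    obtain ⟨x, e', rfl⟩ := c.mem_im.1 e
    simp only [b2 _ e, j1 x e', a2 _ (mem_im_of _ (af_mem _ e')), j1 _ (af_mem _ e'), d x e',
      af_mul _ _ e']⟩
  one_mem' := ⟨one_mem _, fun k g c d => ⟨_, (kv_iff (sup_le c.im_le cI_le)).1 Kf.id,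
    fun y e => by
      obtain ⟨x, e', rfl⟩ := c.mem_im.1 e
      rw [d x e', af_one e']⟩⟩
  inv_mem' := fun {α} a => ⟨inv_mem a.1, fun k g c d => by
    obtain ⟨j, -, j1, j2, -⟩ := c.exists_inv
    obtain ⟨g1, a1, a2⟩ := a.2 k (fun y => k (af α (j y))) c fun x e => by rw [j1 x e]
    obtain ⟨i, -, i1, -⟩ := a1.m.exists_inv
    refine ⟨i, a1.inv i1, fun y e => ?_⟩
    obtain ⟨x, e', rfl⟩ := c.mem_im.1 e
    have u := mem_im_of k (af_mem α⁻¹ e')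
    rw [d x e', ← i1 _ (mem_sup_left u), a2 _ u]
    simp only [j1 _ (af_mem _ e'), af_af_inv _ e']⟩

theorem kk_iff (l : P ≤ S) : Kf (KK F E₁ E₂ P) f ↔ M F P f ∧ (∀ x ∈ P, f x ∈ P) ∧
    ∀ k g, M F P k → (∀ x ∈ P, g (k x) = k (f x)) → G0 F E₁ E₂ (im P k) g :=
  ⟨fun a => let ⟨_, b, c⟩ := a; ⟨((mem_aut l).1 b.1).congr fun x d => (c x d).symm,
    fun _ => a.mem, fun k g d e => b.2 k g d fun x u => by rw [e x u, c x u]⟩, fun ⟨a, b, c⟩ =>
    let ⟨α, d, e⟩ := a.exists_aut (a.im_eq_of_le le_rfl b)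
    ⟨α, ⟨d, fun k g u v => c k g u fun x w => by rw [v x w, e x w]⟩, e⟩⟩

theorem kk_G0 (l : P ≤ S) (h : Kf (KK F E₁ E₂ P) f) : G0 F E₁ E₂ P f := by
  have := ((kk_iff l).1 h).2.2 _ f (M_id l) fun _ _ => rfl
  rwa [im_id] at this

theorem kk_tr (hk : M F P k) (e : im P k = Q) (h : Kf (KK F E₁ E₂ P) f)
    (e' : ∀ x ∈ P, g (k x) = k (f x)) : Kf (KK F E₁ E₂ Q) g := by
  subst e
  obtain ⟨a, b, c⟩ := (kk_iff hk.le).1 h
  obtain ⟨j, j0, j1, j2, -⟩ := hk.exists_inv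
  refine (kk_iff hk.im_le).2 ⟨((j0.comp a fun y a => (j2 y a).1).comp hk
    fun y a => b _ (j2 y a).1).congr fun y u => ?_, fun y u => ?_, fun k' g' u v => ?_⟩
  · obtain ⟨x, w, rfl⟩ := hk.mem_im.1 u; rw [e' x w, j1 x w]
  · obtain ⟨x, w, rfl⟩ := hk.mem_im.1 u; rw [e' x w]; exact mem_im_of _ (b x w)
  · rw [hk.im_im]
    exact c _ g' (hk.comp_im u) fun x w => by rw [v _ (mem_im_of _ w), e' x w]

variable (h₁ : E₁.IsWeaklyNormalIn F p) (h₂ : E₂.IsWeaklyNormalIn F p)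
include h₁ h₂

omit [Finite T₁] [Finite T₂] in
theorem GG.tr (h : GG F E₁ E₂ P V f) (hk : M F V k) (l : P ≤ V) (e : ∀ x ∈ V, g (k x) = k (f x)) :
    GG F E₁ E₂ (im P k) (im V k) g := by
  obtain ⟨j, j0, j1, j2, -⟩ := hk.exists_inv
  refine ⟨((j0.comp h.m fun y a => (j2 y a).1).comp hk fun y a => h.mem _ (j2 y a).1).congr
    fun y a => ?_, fun y a => ?_, fun y a => ?_, rm_tr h₁.2.2 hk h.r₁ h.mem e,
    rm_tr h₂.2.2 hk h.r₂ h.mem e⟩ <;> obtain ⟨x, b, rfl⟩ := hk.mem_im.1 a <;> rw [e x b]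
  · rw [j1 x b]
  · exact mem_im_of _ (h.mem x b)
  · rw [← hk.inv b, ← hk.mul (inv_mem b) (h.mem x b)]; exact mem_im_of _ (h.t x b)

omit [Finite T₁] [Finite T₂] in
theorem G0.pull (hk : M F U k) (l : P ⊔ centralizerIn S P ≤ U) (m : ∀ x ∈ P, f x ∈ P)
    (e : ∀ x ∈ P, g (k x) = k (f x)) (h : G0 F E₁ E₂ (im P k) g) : G0 F E₁ E₂ P f := by
  obtain ⟨g', a, b⟩ := h
  replace hk := hk.mono l
  obtain ⟨j, j0, j1, -, j3⟩ := hk.exists_inv
  have := GG.tr h₁ h₂ (g := fun x => j (g' (k x))) (a.mono (im_mono k le_sup_left) (by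
    rw [hk.homOn.im_sup]
    exact sup_le_sup_left (hk.im_cI_le le_sup_left le_sup_right cI_le_cent) _)) j0
    (im_mono k le_sup_left) fun y a => by
      obtain ⟨x, c, rfl⟩ := hk.mem_im.1 a
      rw [j1 x c]
  rw [j3, (hk.mono le_sup_left).im_im, im_of_eq fun x a => j1 x (mem_sup_left a)] at this
  exact ⟨_, this, fun x a => by
    rw [b _ (mem_im_of _ a), e x a, j1 _ (mem_sup_left (m x a))]⟩

omit [Finite S] [Finite T₁] [Finite T₂] in
theorem gg_conj (u : UU F (T₁ ⊓ T₂) P) {t : Ω} (a : t ∈ T₁ ⊓ T₂) (n : t ∈ N[P]) :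
    GG F E₁ E₂ P (P ⊔ centralizerIn S P) fun x => t * x * t⁻¹ := by
  have s1 := h₁.2.2.2.1
  have s := sc_inf h₂.2.2.2.1 s1
  have l : P ⊔ centralizerIn S P ≤ S := sup_le (u.1.trans s.1) cI_le
  have m := fun x => conj_mem_of_norm (x := x) (nV (s.1 a) n)
  refine ⟨M_conj l (s.1 a), m, fun x b => vT u.1 (u.cI s.1) (mul_mem (inv_mem b) (m x b)) ?_,
    M_conj inf_le_right a.1, M_conj inf_le_right a.2⟩
  simpa [mul_assoc] using mul_mem (conj_mem_of_norm' (sc_le_norm s (l b)) a) (inv_mem a)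

variable [hp : Fact p.Prime] (hS : IsPGroup p S) (hF : F.IsSaturated p)
include hS hF

theorem kk_of (hP : F.IsFullyCentralized P) (h : G0 F E₁ E₂ P f) : Kf (KK F E₁ E₂ P) f := by
  obtain ⟨g, a, b⟩ := id h
  have m : ∀ x ∈ P, f x ∈ P := fun x c => b x c ▸ a.memP le_sup_left x c
  refine (kk_iff hP.1).2 ⟨(a.m.mono le_sup_left).congr fun x c => (b x c).symm, m,
    fun k g c d => ?_⟩
  obtain ⟨j, j0, j1, -, j3⟩ := c.exists_inv
  obtain ⟨i, i0, i1⟩ := sat_ext hS hF j0 (j3.symm ▸ hP)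
  refine G0.pull h₁ h₂ (g := f) i0 (sup_le j0.le_Ext cI_le_Ext) (fun y e => ?_) (fun y e => ?_)
    (by rwa [im_congr i1, j3]) <;> obtain ⟨x, e', rfl⟩ := c.mem_im.1 e <;> rw [d x e']
  · exact mem_im_of _ (m x e')
  · rw [i1 _ e, i1 _ (mem_im_of _ (m x e')), j1 x e', j1 _ (m x e')]

theorem kk_ind (u : UU F (T₁ ⊓ T₂) P) : autInducedBy (T₁ ⊓ T₂) P ≤ KK F E₁ E₂ P := fun α a => by
  have s := sc_inf h₂.2.2.2.1 h₁.2.2.2.1
  obtain ⟨t, b, n, c⟩ := mem_autInd.1 a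
  have l := le_nI (u.1.trans s.1)
  obtain ⟨k, k0, k1⟩ := sat_nmap_fn hS hF (u.1.trans s.1)
  have t1 : t ∈ normalizerIn S P := ⟨s.1 b, n⟩
  obtain ⟨j, j0, j1, -, j3⟩ := (k0.mono l).exists_inv
  obtain ⟨β, d, e⟩ := kk_tr (g := af α) j0 j3 (kk_of h₁ h₂ hS hF (sat_fn_fc hS hF k1)
    ⟨_, gg_conj h₁ h₂ (u.im s (k0.mono l)) (sc_mem s k0 t1 b) (k0.mem_norm l t1 n),
      fun _ _ => rfl⟩) fun y v => by
      obtain ⟨x, w, rfl⟩ := (k0.mem_im' l).1 v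
      rw [← k0.conj t1 (l w), j1 x w, j1 _ (conj_mem_of_norm n w), c x w]
  exact af_ext e ▸ d

theorem kk_res0 (u : UU F (T₁ ⊓ T₂) P) (hP : F.IsFullyNormalized P) (l : P ≤ Q) (l' : Q ≤ T₁ ⊓ T₂)
    (n : Q ≤ N[P]) {N : FusionSystem (normalizerIn S P)} (hN : F.IsNormalizerSystem P N)
    (hQ : F.IsFullyCentralized Q) (hW : N.IsFullyNormalized (Q ⊔ centralizerIn S Q))
    (h : G0 F E₁ E₂ Q f) (o : PPo p Q f) (m : ∀ x ∈ P, f x ∈ P) : G0 F E₁ E₂ P f := by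
  have s := sc_inf h₂.2.2.2.1 h₁.2.2.2.1
  haveI : Finite (normalizerIn S P) := finite_nI
  obtain ⟨g0, a0, b0⟩ := h
  obtain ⟨i, o1, e1⟩ := pp_part a0.m a0.mem (o.congr (fun x c => b0 x c ▸ a0.memP le_sup_left x c) b0)
  have a := a0.iter i
  have b : ∀ x ∈ Q, g0^[i] x = f x := fun x c => (e1 x c).trans (b0 x c)
  generalize g0^[i] = g at a b o1
  clear a0 b0 e1 g0
  set C := centralizerIn S P
  set W := Q ⊔ centralizerIn S Q
  have ct : ∀ x ∈ C, x ∈ T₁ ⊓ T₂ → x ∈ P := fun x c d => u.cI s.1 ⟨d, c.2⟩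
  have l1 : centralizerIn S Q ≤ C := inf_le_inf_left _ (cent_anti l)
  have cq : ∀ c ∈ C, ∀ x ∈ Q, x⁻¹ * (c * x * c⁻¹) ∈ P := fun c d x e => ct _ (by
    have : x ∈ N[C] := mem_norm_inf (le_normalizer (s.1 (l' e))) (norm_le_norm_cent _ (n e))
    simpa [mul_assoc] using mul_mem (conj_mem_of_norm' this d) (inv_mem d))
    (mul_mem (inv_mem (l' e)) (conj_mem_of_norm (sc_le_norm s d.1) (l' e)))
  have nQ : C ≤ N[Q] := fun c d => mem_norm_of_conj' hQ.1 fun x e => by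
    simpa using mul_mem e (l (cq c d x e))
  have nW : C ≤ N[W] := fun c d => nV d.1 (nQ d)
  have lp := l.trans (le_sup_left : Q ≤ W)
  have gi := a.m.im_eq_of_le le_rfl a.mem
  have gp : ∀ x ∈ P, g x ∈ P := fun x c => b x (l c) ▸ m x c
  have gp' := a.m.im_eq_of_le lp gp
  have gq := a.memP le_sup_left
  have gc : ∀ y ∈ centralizerIn S Q, y⁻¹ * g y ∈ P := fun y c => ct _ (mul_mem (inv_mem (l1 c))
    ((a.m.im_cI_le lp le_sup_right (l1.trans cI_le_cent)).trans (by rw [gp']) (mem_im_of g c)))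
    (l' (a.t y (mem_sup_right c)))
  obtain ⟨j, j0, j1, j2, -⟩ := a.m.exists_inv' gi
  have ja := a.inv j1
  have key : C ≤ Ext S W g := fun c d => by
    have jm : ∀ x ∈ W, c * j (c⁻¹ * x * c⁻¹⁻¹) * c⁻¹ ∈ W := fun x e =>
      conj_mem_of_norm (nW d) (ja.mem _ (conj_mem_of_norm (inv_mem (nW d)) e))
    have v := ((((M_conj (F := F) a.m.le (inv_mem d.1)).comp j0 fun x e =>
      conj_mem_of_norm (inv_mem (nW d)) e)).conj_comp d.1).comp a.m jm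
    have fp : ∀ x ∈ P, g (c * j (c⁻¹ * x * c⁻¹⁻¹) * c⁻¹) = x := fun x e => by
      obtain ⟨y, e', rfl⟩ := (a.m.mem_im' lp).1 (gp'.ge e)
      rw [← mem_cent_iff.1 (inv_mem d.2) _ e, mul_inv_cancel_right, j1 y (lp e'),
        ← mem_cent_iff.1 d.2 _ e', mul_inv_cancel_right]
    have hh : ∀ x ∈ W, x⁻¹ * g (c * j (c⁻¹ * x * c⁻¹⁻¹) * c⁻¹) ∈ P := by
      refine triv_sup v.homOn (hW.1.trans nI_le_norm) (fun x e => ?_) fun x e => ?_
      · have e1 := conj_mem_of_norm (inv_mem (nQ d)) e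
        have e2 := ja.memP le_sup_left _ e1
        have := mul_mem (cq _ (inv_mem d) x e) (gp _ (cq c d _ e2))
        rw [a.m.mul (mem_sup_left (inv_mem e2)) (jm x (mem_sup_left e)), a.m.inv (mem_sup_left e2),
          (j2 _ (mem_sup_left e1)).2] at this
        simpa [mul_assoc] using this
      · have nc : c ∈ N[centralizerIn S Q] := mem_norm_inf (le_normalizer d.1)
          (norm_le_norm_cent _ (nQ d))
        have e1 := conj_mem_of_norm (inv_mem nc) e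
        have e2 : j (c⁻¹ * x * c⁻¹⁻¹) ∈ centralizerIn S Q := (j0.im_cI_le le_sup_left le_sup_right
          cI_le_cent).trans (by rw [j0.im_eq_of_le le_sup_left (ja.memP le_sup_left)])
          (mem_im_of j e1)
        have e3 := gc _ e2
        rw [(j2 _ (mem_sup_right e1)).2] at e3
        have := mul_mem (conj_mem_of_norm (cN d) (inv_mem e3)) (gc _ (conj_mem_of_norm nc e2))
        simpa [mul_assoc] using this
    obtain ⟨t, t1, t2⟩ := exists_S_of_fix (hS.to_le nI_le) (sat_N hS hF hP hN)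
      (normal_sc (NK_normal NSK_top.symm (isN_iff.1 hN) (le_nI hP.1))) hW
      ((N_aut hS hF hN lp hW.1).2 ⟨v, im_of_eq fp⟩) (fun x _ => fp x) hh
      fun x e => a.mem _ (jm x e)
    refine mem_Ext.2 ⟨d.1, nW d, t * c, mul_mem t1.1 d.1, fun y e => ?_⟩
    have := t2 _ (conj_mem_of_norm (nW d) (a.mem y e))
    rw [show c⁻¹ * (c * g y * c⁻¹) * c⁻¹⁻¹ = g y by group, j1 y e] at this
    rw [this]; group
  obtain ⟨k, k0, k1⟩ := sat_ext hS hF a.m (gi.symm ▸ centric_fc (by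
    have := cenV hS hF (self_normal hS hF).1.2.2 hQ.1 hQ
    rwa [inf_eq_left.2 a.m.le] at this))
  replace k0 := k0.mono (sup_le (le_sup_left.trans a.m.le_Ext) key)
  have l2 : W ≤ Q ⊔ C := sup_le_sup_left l1 _
  have kp : im P k = P := (im_congr fun x c => k1 x (lp c)).trans gp'
  have km : ∀ x ∈ Q ⊔ C, k x ∈ Q ⊔ C := im_le_iff.1 (by
    rw [k0.homOn.im_sup]
    exact sup_le_sup (im_le_iff.2 fun x c => k1 x (mem_sup_left c) ▸ gq x c)
      ((k0.im_cI_le (l.trans le_sup_left) le_sup_right cI_le_cent).trans (by rw [kp])))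
  obtain ⟨i, o2, e2⟩ := pp_part k0 km (o1.congr a.mem k1)
  have k2 := M.iter k0 km i
  have km' := iter_mem km i
  have a' := a.congr fun x c => (e2 x c).trans (k1 x c)
  have b' : ∀ x ∈ Q, k^[i] x = f x := fun x c => by
    rw [e2 x (mem_sup_left c), k1 x (mem_sup_left c), b x c]
  generalize k^[i] = γ at o2 k2 km' a' b'
  have m' : ∀ x ∈ P, γ x ∈ P := fun x c => b' x (l c) ▸ m x c
  have ep := k2.im_eq_of_le (l.trans le_sup_left) m'
  have eq := k2.im_eq_of_le le_sup_left (a'.memP le_sup_left)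
  obtain ⟨u1, v1⟩ := res_i hS hF h₁ l (l'.trans inf_le_left) hQ nQ k2 o2 ep eq
    (fun y c => a'.t y (mem_sup_right c)) a'.r₁
  obtain ⟨u2, v2⟩ := res_i hS hF h₂ l (l'.trans inf_le_right) hQ nQ k2 o2 ep eq
    (fun y c => a'.t y (mem_sup_right c)) a'.r₂
  have l3 : P ⊔ C ≤ Q ⊔ C := sup_le_sup_right l _
  exact ⟨γ, ⟨k2.mono l3, im_V k2 l3 ep, xt_triv (k2.mono l3).homOn cN m' fun y c => ct _
    (mul_mem (inv_mem c) ((k2.im_cI_le (l.trans le_sup_left) le_sup_right cI_le_cent).trans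
      (by rw [ep]) (mem_im_of γ c))) ⟨u1 y c, u2 y c⟩, v1.mono (inf_le_inf_right _ l3),
    v2.mono (inf_le_inf_right _ l3)⟩, fun x c => b' x (l c)⟩

omit h₁ h₂ [Finite T₁] [Finite T₂] in
theorem exists_fn2 (hR : R ≤ S) : ∃ k, M F (normalizerIn S R) k ∧
    F.IsFullyNormalized (im R k ⊔ centralizerIn S (im R k)) ∧ F.IsFullyCentralized (im R k) := by
  obtain ⟨k, hk, a⟩ := sat_nmap_fn hS hF hR
  obtain ⟨j, hj, b⟩ := sat_nmap_fn hS hF (sup_le a.1 cI_le : im R k ⊔ centralizerIn S (im R k) ≤ S)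
  have l : normalizerIn S (im R k) ≤ normalizerIn S (im R k ⊔ centralizerIn S (im R k)) :=
    fun y hy => ⟨hy.1, nV hy.1 hy.2⟩
  have c := hj.fc_im (sat_fn_fc hS hF a) ((le_nI a.1).trans l) (cI_le_nI.trans l)
  rw [hj.homOn.im_sup' ((le_nI a.1).trans l) (cI_le_nI.trans l), hj.im_cI_eq
    (sat_fn_fc hS hF a) ((le_nI a.1).trans l) (cI_le_nI.trans l)] at b
  rw [(hk.mono (le_nI hR)).im_im] at b c
  exact ⟨_, hk.comp hj fun x hx => l ⟨hk.mem hx, hk.mem_norm (le_nI hR) hx hx.2⟩, b, c⟩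

theorem kk_res (u : UU F (T₁ ⊓ T₂) P) (hP : F.IsFullyNormalized P) (l : P ≤ Q) (l' : Q ≤ T₁ ⊓ T₂)
    (n : Q ≤ N[P]) (h : Kf (KK F E₁ E₂ Q) f) (o : PPo p Q f) (m : ∀ x ∈ P, f x ∈ P) :
    Kf (KK F E₁ E₂ P) f := by
  have s := sc_inf h₂.2.2.2.1 h₁.2.2.2.1
  haveI : Finite (normalizerIn S P) := finite_nI
  obtain ⟨N, hN⟩ := exists_N F hP.1
  have l1 : Q ≤ normalizerIn S P := le_inf (l'.trans s.1) n
  obtain ⟨k, k0, k1, k2⟩ := exists_fn2 (hS.to_le nI_le) (sat_N hS hF hP hN) l1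
  obtain ⟨k3, k4⟩ := (N_aut hS hF hN l l1).1 (k0.mono (le_nI l1))
  have l2 : P ≤ im Q k := k4.ge.trans (im_mono k l)
  rw [show centralizerIn (normalizerIn S P) (im Q k) = centralizerIn S (im Q k) from
    le_antisymm (inf_le_inf_right _ nI_le) fun x b =>
      ⟨⟨b.1, cent_le_norm _ (cent_anti l2 b.2)⟩, b.2⟩] at k1
  obtain ⟨j, j0, j1, -⟩ := k3.exists_inv
  have e : ∀ x ∈ Q, (fun y => k (f (j y))) (k x) = k (f x) := fun x hx => by
    beta_reduce; rw [j1 x hx]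
  have pk : ∀ y ∈ P, ∃ x ∈ P, k x = y := fun y a => (k3.mem_im' l).1 (k4.ge a)
  refine kk_tr (j0.mono l2) (j0.im_eq_of_le l2 fun y a => ?_) (kk_of h₁ h₂ hS hF
    (sat_fn_fc hS hF hP) (kk_res0 h₁ h₂ hS hF u hP l2 (im_le_iff.2 fun x a => sc_mem s k3 a (l' a))
    (k2.1.trans nI_le_norm) hN (fc_of_N hS hF hP hN l2 k2) k1 (kk_G0 k3.im_le (kk_tr k3 rfl h e))
    (o.tr (f' := fun y => k (f (j y))) k3.homOn (fun _ => h.mem) e) fun y a => ?_)) fun y a => ?_ <;>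
    obtain ⟨x, b, rfl⟩ := pk y a <;> rw [j1 x (l b)]
  · exact b
  · exact k4.le (mem_im_of _ (m x b))
  · rw [j1 _ (l (m x b))]

theorem locA (u : UU F (T₁ ⊓ T₂) P) (hP : F.IsFullyCentralized P) (l : P ≤ R) (n : R ≤ N[P])
    (hg : M F (R ⊔ (P ⊔ centralizerIn S P)) g) (m : ∀ x ∈ R, g x ∈ R)
    (o : PPo p (R ⊔ (P ⊔ centralizerIn S P)) g) (a : GG F E₁ E₂ P (P ⊔ centralizerIn S P) g) :
    G0 F E₁ E₂ R g := by
  have l0 : centralizerIn S R ≤ P ⊔ centralizerIn S P :=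
    (inf_le_inf_left _ (cent_anti l)).trans le_sup_right
  have l1 := sup_le_sup_left l0 R
  have gm : ∀ x ∈ R ⊔ (P ⊔ centralizerIn S P), g x ∈ R ⊔ (P ⊔ centralizerIn S P) := im_le_iff.1 (by
    rw [hg.homOn.im_sup]; exact sup_le_sup (im_le_iff.2 m) (im_le_iff.2 a.mem))
  have key : ∀ {T} {E : FusionSystem T}, E.IsWeaklyNormalIn F p → P ≤ T →
      M E ((P ⊔ centralizerIn S P) ⊓ T) g → M E ((R ⊔ centralizerIn S R) ⊓ T) g := fun h b c =>
    haveI := finite_of_le h.2.2.2.1.1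
    (rm_up hS h inf_le_right (inf_le_inf_right _ le_sup_right) (fun x d => mem_norm_inf
      (nV (hg.le d.1) (sup_le n VN d.1)) (le_normalizer d.2)) (cenV hS hF h.2.2 b hP)
      (hg.mono inf_le_left) (fun x d => ⟨gm x d.1, sc_mem h.2.2.2.1 hg d.1 d.2⟩) (o.mono inf_le_left)
      c (c.im_eq_of_le le_rfl fun x d => ⟨a.mem x d.1, c.mem d⟩)).mono (inf_le_inf_right _ l1)
  exact ⟨g, ⟨hg.mono l1, im_V hg l1 (hg.im_eq_of_le le_sup_left m), xt_triv (hg.mono l1).homOn cN m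
    fun y b => l (a.t y (l0 b)), key h₁ (u.1.trans inf_le_left) a.r₁,
    key h₂ (u.1.trans inf_le_right) a.r₂⟩, fun _ _ => rfl⟩

theorem kk_loc (u : UU F (T₁ ⊓ T₂) P) (hP : F.IsFullyNormalized P) :
    ∃ D : FusionSystem (normalizerIn (T₁ ⊓ T₂) P), D.IsSaturated p ∧ D.IsNormal P ∧
    (∀ f, Kf (KK F E₁ E₂ P) f → PPo p P f → M D P f) ∧
    ∀ R f, P ≤ R → M D R f → (∀ x ∈ R, f x ∈ R) → PPo p R f → Kf (KK F E₁ E₂ R) f := by
  have s := sc_inf h₂.2.2.2.1 h₁.2.2.2.1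
  have fc := sat_fn_fc hS hF hP
  set V := P ⊔ centralizerIn S P with eV
  have lV : V ≤ S := sup_le hP.1 cI_le
  haveI := finite_of_le lV
  obtain ⟨N, hN⟩ := exists_NK F lV (KV F E₁ E₂ P V) rfl
  haveI := finite_of_le (NSK_le : NSK S (KV F E₁ E₂ P V) ≤ S)
  have h0 := hS.to_le (NSK_le : NSK S (KV F E₁ E₂ P V) ≤ S)
  have gp : ∀ {g}, GG F E₁ E₂ P V g → im P g = P := fun a =>
    a.m.im_eq_of_le le_sup_left (a.memP le_sup_left)
  have sN := sat_NK hS hF (sat_fc_rec hS hF (centric_fc (by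
    have := cenV hS hF (self_normal hS hF).1.2.2 hP.1 fc
    rwa [inf_eq_left.2 lV] at this))) (syl_K hS hF hP (K := KV F E₁ E₂ P V) (fun α a => ⟨(a lV).m, gp (a lV)⟩)
    fun χ a b => mem_norm_of_conj fun β c => fun _ => by
      have := GG.tr h₁ h₂ (g := af (χ * β * χ⁻¹)) (c lV) a le_sup_left fun x => af_conj _ _
      rwa [b, im_af] at this) rfl hN
  have np : NSK S (KV F E₁ E₂ P V) ≤ N[P] := fun x a => by
    rw [← map_cj_eq_iff, ← im_conj]; exact gp ((kv_iff lV).1 a.2)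
  have l1 : normalizerIn (T₁ ⊓ T₂) P ≤ NSK S (KV F E₁ E₂ P V) := fun t a =>
    ⟨s.1 a.1, (kv_iff lV).2 (gg_conj h₁ h₂ u a.1 a.2)⟩
  have l2 := (le_nI u.1).trans l1
  obtain ⟨D, d0, d1⟩ := exists_ppi h0 sN (hyp_le_foc.trans (foc_le_iff.2 fun R f a x b => by
    obtain ⟨c, g, g0, g1, g2⟩ := (hN R f).1 a
    have g3 := (kv_iff lV).1 g2
    have x1 := (kv_iff lV).1 (c b).2
    rw [← g1 x b]
    exact ⟨⟨foc_i hS hF h₁ (u.1.trans inf_le_left) fc g0 g3.t b (np (c b)) x1.r₁,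
      foc_i hS hF h₂ (u.1.trans inf_le_right) fc g0 g3.t b (np (c b)) x1.r₂⟩,
      np (mul_mem (inv_mem (c b)) (g1 x b ▸ a.mem b))⟩)) l1
  have nD := ppi_normal h0 sN (fun x a => mem_norm_inf (sc_le_norm s a.1)
    (le_normalizer (np a))) d0 d1
  have nP : N.IsNormal P := isNormal_iff.2 ⟨l2, fun R f a => by
    obtain ⟨c, g, g0, g1, g2⟩ := (hN R f).1 a
    exact ⟨g, (hN _ _).2 (g0.NKM (sup_le_sup_left le_sup_left _) le_sup_right (sup_le c l2) g2), g1,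
      gp ((kv_iff lV).1 g2)⟩⟩
  have : D.IsNormal (P ⊓ normalizerIn (T₁ ⊓ T₂) P) := normal_inf h0 sN nD.1 nP
  rw [inf_eq_left.2 (le_nI u.1)] at this
  refine ⟨D, d0, this, fun f a o => ?_, fun R f l a m o => ?_⟩
  · obtain ⟨g, b, c⟩ := kk_G0 hP.1 a
    obtain ⟨α, a1, a2⟩ := ((hN _ _).2 (b.m.NKM le_sup_left le_rfl l2
      ((kv_iff lV).2 b))).exists_aut (gp b)
    haveI := finite_of_le hP.1
    exact ((mem_aut (le_nI u.1)).1 ((ppi_iff.1 d1).2.2 P (le_nI u.1) (mem_piRes a1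
      ((piN_compl_singleton' hp.out).2 (o.congr (fun _ => a.mem) fun x e =>
        (a2 x e).trans (c x e)).cop)))).congr fun x e => ((a2 x e).trans (c x e)).symm
  obtain ⟨-, g0, a0, b0, c0⟩ := (hN R f).1 (a.sub d1.1)
  have c1 := (kv_iff lV).1 c0
  have gm : ∀ x ∈ R ⊔ V, g0 x ∈ R ⊔ V := im_le_iff.1 (by
    rw [a0.homOn.im_sup]
    exact sup_le_sup (im_le_iff.2 fun x e => b0 x e ▸ m x e) (im_le_iff.2 c1.mem))
  obtain ⟨i, o1, e1⟩ := pp_part a0 gm (o.congr m b0)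
  have a1 := M.iter a0 gm i
  have c2 := c1.iter i
  have gm' := iter_mem gm i
  have b : ∀ x ∈ R, g0^[i] x = f x := fun x c => (e1 x c).trans (b0 x c)
  generalize g0^[i] = g at a1 c2 b o1 gm'
  haveI : Finite (normalizerIn S P) := finite_nI
  obtain ⟨N', hN'⟩ := exists_N F hP.1
  have l3 : R ≤ normalizerIn S P := a.le.trans (inf_le_inf_right _ s.1)
  have l4 : R ⊔ V ≤ normalizerIn S P := sup_le l3 (le_inf lV VN)
  obtain ⟨k, k0, k1⟩ := sat_nmap_fn (hS.to_le nI_le) (sat_N hS hF hP hN') l3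
  obtain ⟨k3, k4⟩ := (N_aut hS hF hN' (l.trans le_sup_left) l4).1 (k0.mono (le_inf l4
    (sup_le le_normalizer (sup_le (l.trans le_normalizer) fun c d => mem_norm_of_conj' (l3.trans nI_le)
      fun x e => by
        have := l ((gg_conj h₁ h₂ u (a.le e).1 (a.le e).2).t _ (mem_sup_right (inv_mem d)))
        simpa [mul_assoc] using mul_mem this e))))
  have kV : im V k = V := k3.im_eq_of_le le_sup_right (im_V k3 le_sup_right k4)
  have l5 : P ≤ im R k := k4.ge.trans (im_mono k l)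
  obtain ⟨j, j0, j1, j2, -⟩ := k3.exists_inv
  have e : ∀ x ∈ R ⊔ V, (fun y => k (g (j y))) (k x) = k (g x) := fun x hx => by
    beta_reduce; rw [j1 x hx]
  have t1 := (j0.comp a1 fun y c => (j2 y c).1).comp k3 fun y c => gm' _ (j2 y c).1
  have t2 := o1.tr (f' := fun y => k (g (j y))) k3.homOn gm' e
  have t3 := GG.tr h₁ h₂ (g := fun y => k (g (j y))) c2 (k3.mono le_sup_right) le_sup_left
    fun x c => e x (mem_sup_right c)
  rw [k3.homOn.im_sup, kV] at t1 t2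
  rw [kV, k4] at t3
  refine kk_tr (j0.mono (im_mono k le_sup_left)) (by
    rw [(k3.mono le_sup_left).im_im, im_of_eq fun x c => j1 x (mem_sup_left c)])
    (kk_of h₁ h₂ hS hF (fc_of_N hS hF hP hN' l5 (sat_fn_fc (hS.to_le nI_le) (sat_N hS hF hP hN') k1))
    (locA h₁ h₂ hS hF u fc l5 (k1.1.trans nI_le_norm) t1 (fun y c => ?_) t2 t3)) fun y c => ?_ <;>
    obtain ⟨x, d, rfl⟩ := (k3.mem_im' le_sup_left).1 c <;> rw [j1 x (mem_sup_left d)]
  · exact mem_im_of _ (b x d ▸ m x d)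
  · rw [j1 _ (gm' x (mem_sup_left d)), b x d]

/-- a normal subsystem over the intersection -/
theorem exists_inter : ∃ E : FusionSystem (T₁ ⊓ T₂), E.IsNormalIn F p ∧
    E.IsNormalIn E₁ p ∧ E.IsNormalIn E₂ p ∧ GenK F p (KK F E₁ E₂) E := by
  have s := sc_inf h₂.2.2.2.1 h₁.2.2.2.1
  obtain ⟨E, a, b, c, c'⟩ := WM.exists hS hF (K := KK F E₁ E₂) ⟨s, fun _ _ a => a.1,
    fun _ _ _ _ _ => kk_tr, fun _ => kk_ind h₁ h₂ hS hF, fun _ _ _ => kk_res h₁ h₂ hS hF,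
    fun _ => kk_loc h₁ h₂ hS hF⟩
  haveI := finite_of_le s.1
  have key : ∀ {T} {D : FusionSystem T}, D.IsWeaklyNormalIn F p → T₁ ⊓ T₂ ≤ T → (∀ P g, GG F E₁ E₂ P
      (P ⊔ centralizerIn S P) g → M D ((P ⊔ centralizerIn S P) ⊓ T) g) → E.IsNormalIn D p := by
    intro T D d l r
    have := sc_sub d.2.2.1 s
    rw [inf_eq_left.2 l] at this
    obtain ⟨B, hB⟩ := exists_res this
    haveI := finite_of_le d.2.2.2.1.1
    refine normalIn_iff'.2 ⟨wn_sub hS a d.1 (fun P φ v => hom_iff.2 ((hB _ _).1 (le_iff_M.1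
      (c B fun P f u w _ => (hB _ _).2 ⟨?_, u.1⟩) _ _ (M_ex v))).1) d.2.2.1, fun f v => ?_⟩
    · obtain ⟨g, x, y⟩ := kk_G0 (u.1.trans s.1) w
      exact ((r P g x).mono (le_inf le_sup_left (u.1.trans l))).congr fun z t => (y z t).symm
    obtain ⟨α, a1, a2⟩ := v.exists_aut v.im_top
    obtain ⟨g, x, y⟩ := kk_G0 s.1 (⟨α, c' a1, a2⟩ : Kf _ f)
    have l1 : centralizerIn T (T₁ ⊓ T₂) ≤ T₁ ⊓ T₂ ⊔ centralizerIn S (T₁ ⊓ T₂) :=
      (inf_le_inf_right _ d.2.2.2.1.1).trans le_sup_right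
    exact ⟨g, (r _ g x).mono (le_inf (sup_le le_sup_left l1) (sup_le l cI_le)), y,
      fun z t => x.t z (l1 t)⟩
  exact ⟨E, key (self_normal hS hF).1 s.1 fun _ _ x => x.m.mono inf_le_left,
    key h₁ inf_le_left fun _ _ x => x.r₁, key h₂ inf_le_right fun _ _ x => x.r₂, b⟩

theorem le_inter {D E : FusionSystem (T₁ ⊓ T₂)} (h : GenK F p (KK F E₁ E₂) E)
    (d : D.IsNormalIn F p) (d₁ : D.IsNormalIn E₁ p) (d₂ : D.IsNormalIn E₂ p) :
    D.IsSubsystemOf E := by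
  have i := d.1.2.2
  haveI := finite_of_le i.2.1.1
  refine sub_iff_M.2 (alperin_pp (hS.to_le i.2.1.1) d.1.1 _ (cl_M (F := D) E).congr
    (fun P l g hg => M_conj l hg) (cl_M E).comp (cl_M E).inv fun P _ c _ f hf m o =>
    h P f ⟨c.1, fun k a => centric_cI (inv_centric i c a)⟩ ((kk_iff (c.1.trans i.2.1.1)).2
      ⟨hf.sub i.1, m, fun k g a b => ?_⟩) o)
  have c' := inv_centric i c a
  have u := si_of_inv i _ _ _ _ _ hf a le_rfl m b
  have m' : ∀ y ∈ im P k, g y ∈ im P k := fun y e => by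
    obtain ⟨x, e', rfl⟩ := a.mem_im.1 e
    rw [b x e']; exact mem_im_of _ (m x e')
  have o' := o.tr a.homOn m b
  generalize im P k = R at c' u m' o'
  obtain ⟨γ, g0, g1, g2, g3⟩ := (lemL hS hF d c' u m').pp cN m' o'
  have key : ∀ {T} {B : FusionSystem T}, B.IsWeaklyNormalIn F p → D.IsNormalIn B p →
      M B ((R ⊔ centralizerIn S R) ⊓ T) γ := by
    intro T B w n
    have hT := w.2.2.2.1.1
    haveI := finite_of_le hT
    obtain ⟨δ, e0, e1, e2, e3⟩ := (lemL (hS.to_le hT) w.1 n c' u m').pp cN m' o'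
    have l : R ⊔ centralizerIn T R ≤ R ⊔ centralizerIn S R :=
      sup_le_sup_left (inf_le_inf_right _ hT) _
    refine (e0.congr (ext_uniq hS hF d c' cI_le_cent (e0.sub w.2.2.1) (g0.mono l)
      (u.congr e2) (fun x a => e2 x a ▸ m' x a) (fun x a => (g2 x a).trans (e2 x a).symm)
      (fun x a => e3 x (mem_sup_right a)) (fun x a => g3 x (l (mem_sup_right a))) e1
      (g1.mono l))).mono fun x a => ?_
    obtain ⟨r, hr, s, hs, rfl⟩ := (mem_sup_of_norm' cN).1 a.1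
    exact mul_mem (mem_sup_left hr) (mem_sup_right ⟨(mul_mem_cancel_left
      (e0.le (mem_sup_left hr))).1 a.2, hs.2⟩)
  exact ⟨γ, ⟨g0, fun x a => by simpa using mul_mem a (mem_sup_left (g3 x a)), g3, key h₁ d₁,
    key h₂ d₂⟩, g2⟩

end CfsgH2
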