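import Cfsg.Agent.H2.Sa18

/-! Components and normal subsystems; products of commuting normal subsystems. -/

namespace CfsgH2
open Cfsg Subgroup CfsgL0 Function
open Cfsg.FusionSystem hiding inv_mem center

variable {Ω : Type*} [Group Ω] {S T U V W X Y T₁ T₂ : Subgroup Ω} {F : FusionSystem S}
  {P Q R : Subgroup Ω} {f g k : Ω → Ω} {p : ℕ} {E : FusionSystem T} {C : FusionSystem U}
  {E₁ : FusionSystem T₁} {E₂ : FusionSystem T₂}

variable [Finite S] [hp : Fact p.Prime] (hS : IsPGroup p S)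
include hS

theorem exists_push {Ω' : Type*} [Group Ω'] {S' : Subgroup Ω'} {G : FusionSystem S'} {θ : S →* Ω'}
    (h : SMor F θ G) (hE : E.IsWeaklyNormalIn F p) : ∃ E' : FusionSystem (im T (ex θ)),
      SMor E (resH θ hE.2.2.2.1.1) E' ∧ E'.IsWeaklyNormalIn G p := by
  have hT := hE.2.2.2.1
  haveI := finite_of_le hT.1
  haveI := h.finite
  have mp : ∀ {P' x}, x ∈ preimageAlong (resH θ hT.1) P' ↔ x ∈ T ∧ ex θ x ∈ P' := fun {P' x} =>
    mem_pre.trans (and_congr_right fun a => by rw [ex_resH _ a])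
  have sk : E.StronglyClosed (preimageAlong (resH θ hT.1) ⊥) := by
    have := sc_sub hE.2.2.1 h.toMor.sc_ker
    rwa [show preimageAlong θ ⊥ ⊓ T = preimageAlong (resH θ hT.1) ⊥ from Subgroup.ext fun x => by
      rw [mp, mem_inf, mem_pre]; exact ⟨fun a => ⟨a.2, a.1.2⟩, fun a => ⟨⟨hT.1 a.1, a.2⟩, a.1⟩⟩]
      at this
  obtain ⟨E', a⟩ := exists_factor sk (im_resH hT.1 le_rfl)
  have k := factor_smor (hS.to_le hT.1) hE.1 sk a
  have hG := h.sat hS hE.2.1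
  refine ⟨E', k, k.sat (hS.to_le hT.1) hE.1, hG, inv_of_si (h.pgroup hS) hG (h.sc_im hT)
    (sub_iff_M.2 fun P f a => ?_) fun P Q f j g a b l m e => ?_⟩
  · obtain ⟨f₀, c, d⟩ := k.lift _ _ a
    obtain ⟨f', u, v⟩ := h.mor _ _ (c.sub hE.2.2.1)
    rw [← im_resH hT.1 pre_le, k.im_pre' a.le] at u
    refine u.congr fun y hy => ?_
    obtain ⟨x, hx, rfl⟩ := k.sur a.le hy
    rw [d x hx, ex_resH _ (pre_le hx), v x hx, ex_resH _ (c.mem hx)]
  obtain ⟨f₀, c, d⟩ := k.lift _ _ a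
  obtain ⟨j₀, c', d'⟩ := h.lift _ _ b
  have l1 : preimageAlong (resH θ hT.1) P ≤ preimageAlong θ Q := fun x hx =>
    mem_pre.2 ⟨hT.1 (mp.1 hx).1, l (mp.1 hx).2⟩
  have m1 : ∀ x ∈ preimageAlong (resH θ hT.1) P, f₀ x ∈ preimageAlong θ Q := fun x hx =>
    mem_pre.2 ⟨hT.1 (c.mem hx), by
      rw [← ex_resH hT.1 (c.mem hx), ← d x hx, ex_resH _ (pre_le hx)]; exact m _ (mp.1 hx).2⟩
  obtain ⟨i, -, i1, -⟩ := (c'.mono l1).exists_inv
  have u := si_of_inv hE.2.2 _ _ _ _ (fun y => j₀ (f₀ (i y))) c c' l1 m1 fun x hx => by rw [i1 x hx]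
  obtain ⟨g', v, w⟩ := k.mor _ _ u
  have e1 : im (im (preimageAlong (resH θ hT.1) P) j₀) (ex (resH θ hT.1)) = im P j := by
    rw [im_resH _ u.le, ← im_ind (c'.mono l1) fun x hx => d' x (l1 hx), ← im_resH hT.1 pre_le,
      k.im_pre' a.le]
  rw [e1] at v
  refine v.congr fun y hy => ?_
  obtain ⟨z, hz, rfl⟩ := (b.mem_im' l).1 hy
  obtain ⟨x, hx, rfl⟩ := k.sur a.le hz
  have x1 := mem_im_of j₀ hx
  rw [e _ hz, d x hx, ex_resH _ (pre_le hx), ex_resH _ (c.mem hx), d' x (l1 hx), d' _ (m1 x hx),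
    ← ex_resH hT.1 (u.le x1), w _ x1, ex_resH _ (u.mem x1), i1 x hx]

theorem qs_wn (h : F.Quasisimple p) (hE : E.IsWeaklyNormalIn F p) :
    T ≤ F.center ∨ T = S ∧ F.IsSubsystemOf E := by
  obtain ⟨G, a, b⟩ := qs_quot hS h
  have hT := hE.2.2.2.1
  haveI := finite_of_le hT.1
  haveI := a.finite
  obtain ⟨E', c, d⟩ := exists_push hS a hE
  haveI := c.finite
  obtain ⟨L, l, -⟩ := exists_ppr (c.pgroup (hS.to_le hT.1)) d.1
  have hZ := central_center (F := F)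
  rcases b.2.2 _ L (ppr_normal (a.pgroup hS) b.1 d l) with e | ⟨e, e'⟩
  · exact .inl (center_pre (F := F) ▸ (le_pre hT.1).2 e.le)
  have e1 : T ⊔ F.center = S := by
    conv_lhs => rw [center_pre (F := F), ← pre_im hT.1, e]
    exact a.pre_top
  have e2 : T = S := le_antisymm hT.1 (h.2.1.ge.trans (hyp_le_foc.trans (foc_le_iff.2
    fun P f u x hx => by
      obtain ⟨g, g0, g1, g2⟩ := central_ext hZ u
      obtain ⟨w, hw, z, hz, rfl⟩ := (mem_sup_of_norm' (center_le.trans (sc_le_norm hT))).1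
        (e1.ge (u.le hx))
      have w1 := (mul_mem_cancel_right (mem_sup_right hz)).1 (mem_sup_left hx (T := F.center))
      rw [← g1 _ hx, g0.mul w1 (mem_sup_right hz), g2 z hz]
      simpa [mul_assoc] using conj_mem_of_norm' (sc_le_norm hT (center_le hz))
        (mul_mem (inv_mem hw) (sc_mem hT g0 w1 hw)))))
  subst e2
  refine .inr ⟨rfl, wn_le hS h.1 (fun _ _ h => h) hE.2.2 fun α u => ?_⟩
  obtain ⟨f', v, w⟩ := a.mor _ _ ((mem_aut le_rfl).1 u)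
  obtain ⟨g, g0, g1⟩ := c.lift _ _ ((hom_eq_iff_M.1 e' _ _).2 v |>.sub l.2.1.1)
  rw [c.pre_top] at g0 g1
  obtain ⟨j, j0, j1, j2, -⟩ := g0.exists_inv' g0.im_top
  have t := (j0.sub hE.2.2.1).comp ((mem_aut le_rfl).1 u) fun x _ => j0.mem ‹_›
  obtain ⟨s, s1, s2⟩ := exists_S_of_fix hS h.1 (normal_sc (central_normal hZ)) fn_top t
    (fun x hx z => central_fix hZ t hx z) (fun x hx => by
      rw [center_pre, ← ex_eq_iff hx (t.mem hx), ← w _ (j0.mem hx), ← ex_resH hT.1 (j0.mem hx),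
        g1 _ (j0.mem hx), (j2 x hx).2, ex_resH _ hx]) fun _ => t.mem
  exact M.af_mem_aut ((g0.conj_comp s1).congr fun x hx => by rw [← s2 _ (g0.mem hx), j1 x hx])

omit hS hp [Finite S] in
theorem comp_inter (h : C.IsSubnormalIn F p) : ∀ [Finite S] [Fact p.Prime], IsPGroup p S →
    C.Quasisimple p → ∀ {T} {E : FusionSystem T}, E.IsWeaklyNormalIn F p →
    U ⊓ T ≤ C.center ∨ C.IsSubnormalIn E p := by
  induction h with
  | refl =>
    intro _ _ hS hC T E hE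
    rcases qs_wn hS hC hE with a | ⟨rfl, a⟩
    · exact .inl (inf_le_right.trans a)
    · rw [fs_le_antisymm (F := E) hE.2.2.1 a]; exact .inr (.refl _ _)
  | step a h ih =>
    intro _ _ hS hC T E hE
    haveI := finite_of_le h.1.2.2.2.1.1
    haveI := finite_of_le hE.2.2.2.1.1
    obtain ⟨D, -, b, c, -⟩ := exists_inter h.1 hE hS hE.2.1
    rcases ih (hS.to_le h.1.2.2.2.1.1) hC b.1 with d | d
    · exact .inl ((le_inf inf_le_left (inf_le_inf_right _ (sub_le (subn_le a)))).trans d)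
    · exact .inr (.step d c)

theorem comp_of_le (h : C.IsComponentIn F p) (hE : E.IsWeaklyNormalIn F p) (l : U ≤ T) :
    C.IsComponentIn E p :=
  haveI := finite_of_le (sub_le (subn_le h.1))
  ⟨(comp_inter h.1 hS h.2 hE).resolve_left fun a => qs_not_le (hS.to_le (sub_le (subn_le h.1))) h.2
    ((le_inf le_rfl l).trans a), h.2⟩

variable (hF : F.IsSaturated p)
include hF

theorem exists_layer : ∃ (T : Subgroup Ω) (E : FusionSystem T), E.IsLayerOf F p := by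
  classical
  have ex : ∃ n, ∃ (T : Subgroup Ω) (E : FusionSystem T), Nat.card T = n ∧ E.IsNormalIn F p ∧
    ∀ U (C : FusionSystem U), C.IsComponentIn F p → C.IsSubsystemOf E :=
    ⟨_, S, F, rfl, self_normal hS hF, fun _ _ a => subn_le a.1⟩
  obtain ⟨T, E, a, b, c⟩ := Nat.find_spec ex
  have hT := b.1.2.2.2.1.1
  haveI := finite_of_le hT
  obtain ⟨L, l, -⟩ := exists_ppr (hS.to_le hT) b.1.1
  have n := ppr_normal hS hF b.1 l
  refine ⟨T, L, n, fun U C d => subn_le (comp_of_le hS d n.1 (sub_le (c U C d))).1,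
    fun R D d e => ?_⟩
  haveI := finite_of_le d.1.2.2.2.1.1
  obtain ⟨G, g0, -, g2, -⟩ := exists_inter b.1 d.1 hS hF
  have := Nat.find_min' ex ⟨_, G, rfl, g0, fun U C u => subn_le (comp_of_le hS u g0.1
    (le_inf (sub_le (c U C u)) (sub_le (e U C u)))).1⟩
  have e1 : T ⊓ R = T := eq_of_le_card hT inf_le_left (a ▸ this)
  generalize T ⊓ R = V at G g0 g2 e1
  subst e1
  exact sub_trans (ppr_le_wn hS b.1 l g0.1) g2.1.2.2.1

theorem layer_normal_of (hE : E.IsLayerOf C p) (hC : C.IsWeaklyNormalIn F p)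
    (h : E.IsInvariantIn F) : E.IsNormalIn F p := by
  haveI := finite_of_le h.2.1.1
  haveI := finite_of_le hC.2.2.2.1.1
  have hU := hS.to_le hC.2.2.2.1.1
  obtain ⟨L, l, -⟩ := exists_ppr (hS.to_le h.2.1.1) hE.1.1.1
  have n := ppr_normal hU hC.1 hE.1.1 l
  rw [fs_le_antisymm (F := E) (hE.2.2 _ L n fun V K d => subn_le (comp_of_le hU d n.1
    (sub_le (hE.2.1 V K d))).1) l.2.1.1]
  exact ppr_normal hS hF ⟨hE.1.1.1, hF, h⟩ l

omit hF in
theorem qs_normal_of (hC : C.Quasisimple p) (h : C.IsWeaklyNormalIn F p) : C.IsNormalIn F p := by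
  haveI := finite_of_le h.2.2.2.1.1
  have hU := hS.to_le h.2.2.2.1.1
  obtain ⟨L, l, -⟩ := exists_ppr hU hC.1
  rw [fs_le_antisymm (F := C) ((qs_wn hU hC (ppr_normal hU hC.1 (self_normal hU hC.1).1 l).1).resolve_left
    (qs_not_le hU hC)).2 l.2.1.1]
  exact ppr_normal hS h.2.1 h l

omit hS hF [Finite S] in
theorem cp_sat [Finite T₁] [Finite T₂] (h : IsCentralProductOf E₁ E₂ E) (h1 : IsPGroup p T₁)
    (h2 : IsPGroup p T₂) (s1 : E₁.IsSaturated p) (s2 : E₂.IsSaturated p) : E.IsSaturated p := by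
  obtain ⟨D₀, h0, Z, θ, z, -, -, -, -, h4⟩ := h
  haveI := finite_prod' (S₁ := T₁) (S₂ := T₂)
  exact (factor_smor_central (central_mono central_center z) h4).sat (isPGroup_prod' h1 h2)
    (prod_sat h1 h2 s1 s2 h0)

omit hS hF hp [Finite S] in
theorem CP.sub (h : CP E₁ E₂ E) (c₁ : ∀ P f, M E₁ P f → NKM F (⊥ : Subgroup (MulAut T₂)) P f)
    (c₂ : ∀ P f, M E₂ P f → NKM F (⊥ : Subgroup (MulAut T₁)) P f) : E.IsSubsystemOf F :=
  sub_iff_M.2 fun P f a => by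
    obtain ⟨P₁, P₂, f₁, f₂, b, c, l, d⟩ := h.dec' a
    obtain ⟨-, g, g0, g1, g2⟩ := NKM_bot_iff.1 (c₁ _ _ b)
    obtain ⟨-, k, k0, k1, k2⟩ := NKM_bot_iff.1 (c₂ _ _ c)
    replace g0 := g0.mono (sup_le_sup_left c.le P₁)
    refine ((g0.comp k0 (im_le_iff.1 ?_)).mono l).congr fun z hz => ?_
    · rw [g0.homOn.im_sup, im_congr g1, im_of_eq fun x hx => g2 x (c.le hx), sup_comm]
      exact sup_le_sup_left b.im_le _
    obtain ⟨x, u, y, v, rfl, w⟩ := d z hz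
    rw [w, g0.mul (mem_sup_left u) (mem_sup_right v), g1 x u, g2 y (c.le v),
      k0.mul (mem_sup_right (b.mem u)) (mem_sup_left v), k1 y v, k2 _ (b.mem u)]

omit hS hF hp [Finite S] in
theorem CP.res₁ (h : CP E₁ E₂ E) (a : M E P f) : M E₁ (P ⊓ T₁) f := by
  obtain ⟨P₁, P₂, f₁, f₂, b, c, d⟩ := h.dec _ _ a
  have := fun x (hx : x ∈ P ⊓ T₁) => d x hx.2 1 (one_mem _) (by simpa using hx.1)
  exact (b.mono fun x hx => (this x hx).1).congr fun x hx => by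
    simpa [c.one] using (this x hx).2.2

omit hS hF hp [Finite S] in
theorem CP.res₂ (h : CP E₁ E₂ E) (a : M E P f) : M E₂ (P ⊓ T₂) f := by
  obtain ⟨P₁, P₂, f₁, f₂, b, c, d⟩ := h.dec _ _ a
  have := fun x (hx : x ∈ P ⊓ T₂) => d 1 (one_mem _) x hx.2 (by simpa using hx.1)
  exact (c.mono fun x hx => (this x hx).2.1).congr fun x hx => by
    simpa [b.one] using (this x hx).2.2

omit hS hF hp [Finite S] in
theorem CP.tr (h : CP E₁ E₂ E) (s₁ : SI E₁ F) (s₂ : SI E₂ F) {P₁ P₂ : Subgroup Ω} {f₁ f₂ : Ω → Ω}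
    (b : M E₁ P₁ f₁) (c : M E₂ P₂ f₂) (hk : M F Q k) (l₁ : P₁ ≤ Q) (l₂ : P₂ ≤ Q)
    (m₁ : ∀ x ∈ P₁, f₁ x ∈ Q) (m₂ : ∀ x ∈ P₂, f₂ x ∈ Q)
    (d : ∀ z ∈ P, ∃ x ∈ P₁, ∃ y ∈ P₂, z = x * y ∧ f z = f₁ x * f₂ y)
    (e : ∀ x ∈ P, g (k x) = k (f x)) : M E (im P k) g := by
  obtain ⟨j, -, j1, -⟩ := hk.exists_inv
  obtain ⟨g', g0, g1⟩ := h.of _ _ _ _
    (s₁ _ _ _ _ (fun y => k (f₁ (j y))) b hk l₁ m₁ fun x hx => by rw [j1 x (l₁ hx)])
    (s₂ _ _ _ _ (fun y => k (f₂ (j y))) c hk l₂ m₂ fun x hx => by rw [j1 x (l₂ hx)])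
  have l : P ≤ Q := fun z hz => by
    obtain ⟨x, u, y, v, rfl, -⟩ := d z hz; exact mul_mem (l₁ u) (l₂ v)
  refine (g0.mono (im_le_iff.2 fun z hz => ?_)).congr fun w hw => ?_
  · obtain ⟨x, u, y, v, rfl, -⟩ := d z hz
    rw [hk.mul (l₁ u) (l₂ v)]
    exact mul_mem (mem_sup_left (mem_im_of _ u)) (mem_sup_right (mem_im_of _ v))
  obtain ⟨z, hz, rfl⟩ := (hk.mem_im' l).1 hw
  obtain ⟨x, u, y, v, rfl, t⟩ := d z hz
  rw [e _ hz, t, hk.mul (l₁ u) (l₂ v), g1 _ (mem_im_of _ u) _ (mem_im_of _ v), j1 x (l₁ u),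
    j1 y (l₂ v), hk.mul (m₁ x u) (m₂ y v)]

theorem CP.normal (h : CP E₁ E₂ E) (hE : E.IsSaturated p) (h₁ : E₁.IsNormalIn F p)
    (h₂ : E₂.IsNormalIn F p) (c₁ : ∀ P f, M E₁ P f → NKM F (⊥ : Subgroup (MulAut T₂)) P f)
    (c₂ : ∀ P f, M E₂ P f → NKM F (⊥ : Subgroup (MulAut T₁)) P f) : E.IsNormalIn F p := by
  have t₁ := h₁.1.2.2.2.1
  have t₂ := h₂.1.2.2.2.1
  have s₁ := si_of_inv h₁.1.2.2
  have s₂ := si_of_inv h₂.1.2.2
  have hT : F.StronglyClosed T := h.sup ▸ sc_sup hS hF t₂ t₁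
  have l₁ : T₁ ≤ T := h.sup ▸ le_sup_left
  have l₂ : T₂ ≤ T := h.sup ▸ le_sup_right
  have hs := h.sub c₁ c₂
  haveI := finite_of_le hT.1
  haveI := finite_of_le t₁.1
  haveI := finite_of_le t₂.1
  have hA : AI E F := fun P f α a g b e => by
    obtain ⟨P₁, P₂, f₁, f₂, u, v, -, d⟩ := h.dec' b
    exact h.tr s₁ s₂ u v ((mem_aut hT.1).1 a) (u.le.trans l₁) (v.le.trans l₂)
      (fun _ w => l₁ (u.mem w)) (fun _ w => l₂ (v.mem w)) d e
  refine normalIn_iff'.2 ⟨⟨hE, hF, inv_iff.2 ⟨hs, hT, hA, frat_ind2 hS hF hT hs hA fun P a b => ?_⟩⟩,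
    fun f => xt_of_pp hS hT hE fun f hf o => ?_⟩
  · haveI := finite_of_le b.1
    by_cases c : T₁ ⊓ (P ⊔ T₂) ≤ P
    · refine .inr ⟨_, le_rfl, fun χ u => mem_norm_of_conj fun β v => M.af_mem_aut ?_,
        autInd_le_aut a.le le_rfl⟩
      have w := (mem_aut a.le).1 v
      have := h.tr (g := af (χ * β * χ⁻¹)) s₁ s₂ (h.res₁ w) (h.res₂ w) ((mem_aut b.1).1 u) inf_le_left
        inf_le_left (fun _ x => af_mem _ x.1) (fun _ x => af_mem _ x.1) (fun z hz => by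
          obtain ⟨x, hx, y, hy, rfl⟩ := (sup_of_comm h.comm le_rfl le_rfl).1 (h.sup.ge (a.le hz))
          have x1 := c ⟨hx, (mul_mem_cancel_right (mem_sup_right hy)).1 (mem_sup_left hz)⟩
          have y1 := (mul_mem_cancel_left x1).1 hz
          exact ⟨x, ⟨x1, hx⟩, y, ⟨y1, hy⟩, rfl, w.mul x1 y1⟩) fun x => af_conj _ _
      rwa [im_af] at this
    obtain ⟨x, x1, x2, x3⟩ := exists_mem_norm_not hS b.1 (inf_le_left.trans t₁.1)
      (le_norm_inf (b.1.trans (sc_le_norm t₁)) (le_norm_sup le_normalizer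
        (b.1.trans (sc_le_norm t₂)))) c
    obtain ⟨t, t1, y, y1, e⟩ := (mem_sup_of_norm (b.1.trans (sc_le_norm t₂))).1 x1.2
    obtain ⟨n, hn⟩ := exists_ucs hS b.1
    have o : cA x2 ∈ piCoreOf {p} (F.autGroup P) := mem_Op_of_chain (hS.to_le b.1)
      (fun i => if i ≤ n then T₁ ⊓ ucs P i else ⊤) (n := n + 1) (by simp)
      (fun β _ _ _ _ z _ v => by
        rw [if_pos n.zero_le, ucs_zero] at v
        rw [mem_bot.1 v.2, (homOn_af β).one])
      (fun β u i z v w => by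
        split_ifs at w ⊢
        · exact ⟨sc_mem t₁ ((mem_aut b.1).1 u) v w.1,
            im_af_of_char β (ucs_le i) (ucs_char i) ▸ mem_im_of _ w.2⟩
        · trivial) (autInd_le_aut b.1 le_rfl (cA_mem _ (t₁.1 x1.1)))
      fun i z v w => by
        rw [af_cA _ v]
        have z1 : z⁻¹ * (x * z * x⁻¹) ∈ T₁ := by
          simpa [mul_assoc] using mul_mem (conj_mem_of_norm' (sc_le_norm t₁ (b.1 v)) x1.1)
            (inv_mem x1.1)
        by_cases i2 : i ≤ n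
        swap
        · rw [if_neg i2]; trivial
        rw [if_pos i2]
        by_cases i1 : i + 1 ≤ n
        · rw [if_pos i1] at w
          refine ⟨z1, ?_⟩
          rw [← e, show t * y * z * (t * y)⁻¹ = t * (y * z) * y⁻¹ * t⁻¹ by group,
            ← h.comm z w.1 y y1, show t * (z * y) * y⁻¹ * t⁻¹ = t * z * t⁻¹ by group]
          exact ucs_step t1 w.2
        · rw [show i = n by omega, hn]
          exact ⟨z1, P.mul_mem (P.inv_mem v) (conj_mem_of_norm x2 v)⟩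
    refine .inl ⟨x, l₁ x1.1, x3, fun f u v => ?_⟩
    obtain ⟨α, a1, a2⟩ := u.exists_aut v
    rw [← Ext_congr a2]
    exact mem_Ext_of_norm (sat_syl hS hF b).pCoreOf_le (le_norm_piCoreOf a1) (t₁.1 x1.1) x2 o
  have u₁ := h.res₁ hf
  have u₂ := h.res₂ hf
  rw [inf_eq_right.2 l₁] at u₁
  rw [inf_eq_right.2 l₂] at u₂
  have z₁ : T₁ ≤ centralizerIn S T₂ := (NKM_bot_iff.1 (c₁ _ _ u₁)).1
  have z₂ : T₂ ≤ centralizerIn S T₁ := (NKM_bot_iff.1 (c₂ _ _ u₂)).1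
  obtain ⟨g₁, a1, -, a2, a3, a4⟩ := exists_can hS hF h₁ centric_top u₁ (fun _ => u₁.mem) (o.mono l₁)
  obtain ⟨g₂, b1, -, b2, b3, b4⟩ := exists_can hS hF h₂ centric_top u₂ (fun _ => u₂.mem) (o.mono l₂)
  have a5 := fun y (hy : y ∈ T₂) => a4 y (le_CE hS hF h₁ z₂ c₁ hy)
  have b5 := fun y (hy : y ∈ T₁) => b4 y (le_CE hS hF h₂ z₁ c₂ hy)
  have q₁ : centralizerIn S T ≤ centralizerIn S T₁ := inf_le_inf_left _ (cent_anti l₁)
  have q₂ : centralizerIn S T ≤ centralizerIn S T₂ := inf_le_inf_left _ (cent_anti l₂)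
  have r₁ := a1.mono (sup_le (h.sup.ge.trans (sup_le_sup_left z₂ _)) (q₁.trans le_sup_right))
  have r₂ := b1.mono (sup_le (h.sup.ge.trans (sup_le (z₁.trans le_sup_right) le_sup_left))
    (q₂.trans le_sup_right))
  refine (XT.comp (f := g₁) (g := g₂) ⟨_, r₁, fun _ _ => rfl, fun y hy => l₁ (a3 y (q₁ hy))⟩
    ⟨_, r₂, fun _ _ => rfl, fun y hy => l₂ (b3 y (q₂ hy))⟩ cN
    (fun x hx => sc_mem hT r₁ (mem_sup_left hx) hx)
    (fun x hx => sc_mem hT r₂ (mem_sup_left hx) hx)).congr fun z hz => ?_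
  obtain ⟨x, hx, y, hy, rfl⟩ := (sup_of_comm h.comm le_rfl le_rfl).1 (h.sup.ge hz)
  rw [r₁.mul (mem_sup_left (l₁ hx)) (mem_sup_left (l₂ hy)), a2 x hx, a5 y hy,
    r₂.mul (mem_sup_left (l₁ (u₁.mem hx))) (mem_sup_left (l₂ hy)), b5 _ (u₁.mem hx), b2 y hy,
    hf.mul (l₁ hx) (l₂ hy)]

end CfsgH2
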