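import Cfsg.Agent.H2.Sa1

/-! The saturation criterion on a generating family, second part. -/

namespace CfsgH2
open Cfsg Subgroup CfsgL0 Function
open Cfsg.FusionSystem hiding inv_mem center

variable {Ω : Type*} [Group Ω] {S : Subgroup Ω} {F : FusionSystem S} {P Q R : Subgroup Ω}
  {f g : Ω → Ω} {p : ℕ}

/-- automorphisms of `Q` acting on `P` as `K` -/
def KS (Q : Subgroup Ω) (l : P ≤ Q) (K : Subgroup (MulAut P)) : Subgroup (MulAut Q) where
  carrier := {α | Kf K (af α)}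
  mul_mem' := fun ha hb => (Kf.comp hb ha).congr fun _ hx => af_mul _ _ (l hx)
  one_mem' := Kf.id.congr fun _ hx => af_one (l hx)
  inv_mem' := fun ha => Kf.inv ha fun _ hx => af_inv_af _ (l hx)

/-- the elements of `N_S(P)` acting as `O_p(Aut_F(P))` -/
abbrev hat (F : FusionSystem S) (p : ℕ) (P : Subgroup Ω) : Subgroup Ω :=
  NSK S (piCoreOf {p} (F.autGroup P))

theorem mem_hat {x : Ω} (hx : x ∈ N[P]) :
    x ∈ hat F p P ↔ x ∈ S ∧ cA hx ∈ piCoreOf {p} (F.autGroup P) := by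
  rw [mem_NSK, Kf_cA hx]

theorem Kf_conj {K : Subgroup (MulAut P)} (hK : F.autGroup P ≤ N[K]) (hg : M F P g)
    (e : im P g = P) {f f' : Ω → Ω} (h : Kf K f) (e' : ∀ x ∈ P, f' (g x) = g (f x)) : Kf K f' := by
  obtain ⟨α, a, b⟩ := hg.exists_aut e
  obtain ⟨β, c, d⟩ := h
  refine ⟨_, conj_mem_of_norm (hK a) c, fun y hy => ?_⟩
  obtain ⟨x, hx, rfl⟩ := hg.mem_im.1 (e.symm ▸ hy)
  rw [e' x hx, ← b x hx, af_conj _ _ hx, d x hx, b _ (d x hx ▸ af_mem β hx)]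

variable [Finite S] [hp : Fact p.Prime] (hS : IsPGroup p S)

omit hp in
theorem hat_tr (hg : M F R g) (l : P ≤ R) {x : Ω} (hx : x ∈ R) (h : x ∈ hat F p P) :
    g x ∈ hat F p (im P g) := by
  have hn := (NSK_le_nI h).2
  have a := hg.mono l
  haveI := finite_of_le a.le
  haveI := finite_of_le a.im_le
  refine (mem_hat (hg.mem_norm l hx hn)).2 ⟨hg.mem hx, ?_⟩
  rw [← a.tr_cA rfl hn _ fun z hz => hg.conj hx (l hz), ← a.map_tr rfl,
    inj_piCoreOf (a.tr rfl).injective]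
  exact mem_map_of_mem _ ((mem_hat hn).1 h).2

include hS in
theorem inn_le_Op' (hP : P ≤ S) : Inn P ≤ piCoreOf {p} (F.autGroup P) :=
  haveI := finite_of_le hP
  le_pCoreOf (inn_le_aut hP) aut_le_norm_inn (inn_eq P ▸ isPGroup_autInd (hS.to_le hP))

include hS in
theorem le_hat (hP : P ≤ S) : P ≤ hat F p P := fun x hx =>
  (mem_hat (le_normalizer hx)).2 ⟨hP hx, inn_le_Op' hS hP (mem_inn.2 ⟨x, hx, fun _ => af_cA _⟩)⟩

omit hp in
theorem norm_hat (hP : P ≤ S) : normalizerIn S P ≤ N[hat F p P] := fun x hx =>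
  mem_norm_of_conj' NSK_le fun y hy => by
    have := hat_tr (M_conj (F := F) le_rfl hx.1) hP (NSK_le hy) hy
    rwa [im_conj, map_cj_eq hx.2] at this

/-- automorphisms of `P` extending to `hat P` -/
noncomputable abbrev AH (F : FusionSystem S) (hP : P ≤ S) : Subgroup (MulAut P) :=
  resS (le_hat hS hP) (F.autGroup (hat F p P))

theorem kf_of_ext (hP : P ≤ S) (hg : M F (hat F p P) g) (e : im P g = P) : Kf (AH hS F hP) g := by
  obtain ⟨α, a, b⟩ := hg.exists_aut (hg.im_eq_of_le le_rfl fun x hx => by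
    have := hat_tr hg (le_hat hS hP) hx hx
    rwa [e] at this)
  obtain ⟨β, -, d⟩ := (hg.mono (le_hat hS hP)).exists_aut e
  exact ⟨β, mem_resS.2 ⟨α, a, fun x hx => (b x (le_hat hS hP hx)).trans (d x hx).symm⟩, d⟩

variable {n : ℕ} (hs : ∀ Q ≤ S, n < Nat.card Q → SatC F p Q)
include hs

theorem dlem (hP : P ≤ S) (c : Nat.card P = n) (hnl : ∀ R, F.IsConj P R → NL F R P) :
    ∀ Q ≤ S, P < Q → Q ≤ N[P] → ∀ f, M F Q f → im P f = P → Kf (AH hS F hP) f := by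
  refine down_ind fun Q hQ ih l hn f hf e => ?_
  haveI := finite_of_le hP
  by_cases hh : hat F p P ≤ Q
  · exact kf_of_ext hS hP (hf.mono hh) e
  have a : Q < normalizerIn S P :=
    lt_of_le_of_ne (le_inf hQ hn) fun e => hh (e ▸ NSK_le_nI)
  have b : im Q f < normalizerIn S P := lt_of_le_of_ne (e ▸ hf.im_nI_le l.le le_rfl hn) fun e => by
    have := card_lt_of_lt' nI_le a
    rw [← e, hf.card_im] at this
    exact this.false
  have sQ := hs Q hQ (c ▸ card_lt_of_lt' hQ l)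
  obtain ⟨h, mh, e1, gp⟩ : ∃ h, M F Q h ∧ im P h = P ∧ GP F p P (im Q h) := by
    obtain ⟨h, mh, gp⟩ := gp_exists l.le sQ
    obtain ⟨g, a0, e0⟩ := hnl _ (mh.mono l.le).isConj
    have u := mh.im_nI_le l.le le_rfl hn
    have := gp_move hS gp (u.trans nI_le_norm) (sQ.conj mh.isConj) a0
    rw [e0, mh.im_im] at this
    exact ⟨_, mh.comp a0 (im_le_iff.1 u), by rw [← (mh.mono l.le).im_im, e0], this⟩
  have u : im Q h ≤ normalizerIn S P := e1 ▸ mh.im_nI_le l.le le_rfl hn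
  have cQ := mh.card_im
  have key : ∀ Q' : Subgroup Ω, Nat.card Q' = Nat.card Q → P < Q' → Q' < normalizerIn S P → ∀ k, M F Q' k →
      im P k = P → im Q' k = im Q h → ∃ g, M F Q' g ∧ Kf (AH hS F hP) g ∧ im Q' g = im Q h := by
    intro Q' h1 h2 h3 k hk h4 h5
    obtain ⟨g, a, b, d⟩ := gp_nmap hS h2.le hk (h4.symm ▸ h5.symm ▸ gp)
    have t := inf_lt_of hS h3
    exact ⟨g, a.mono t.le, ih _ a.le (h1 ▸ card_lt_of_lt' a.le t) (h2.trans t) inf_le_right g a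
      (b.trans h4), d.trans h5⟩
  obtain ⟨g1, a1, b1, c1⟩ := key Q rfl l a h mh e1 rfl
  obtain ⟨k, hk, k1, k2, k3⟩ := hf.exists_inv
  have l' : P < im Q f := e ▸ hf.im_lt_im l le_rfl
  have k4 : im P k = P := by
    conv_lhs => rw [← e]
    rw [(hf.mono l.le).im_im, im_of_eq fun x hx => k1 x (l.le hx)]
  obtain ⟨g2, a2, b2, c2⟩ := key _ hf.card_im l' b _ (hk.comp mh fun y hy => (k2 y hy).1)
    (by rw [← (hk.mono l'.le).im_im, k4, e1]) (by rw [← hk.im_im, k3])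
  generalize im Q h = Q1 at gp u cQ c1 c2
  obtain ⟨r, l1, s⟩ := gp
  haveI := finite_of_le r.1
  have main : ∀ γ ∈ F.autGroup Q1 ⊓ stabA l1, Kf (AH hS F hP) (af γ) := by
    intro γ hγ
    by_cases hh : hat F p P ≤ Q1
    · exact kf_of_ext hS hP (((mem_aut r.1).1 hγ.1).mono hh) hγ.2
    set L := F.autGroup Q1 ⊓ stabA l1
    let K := L ⊓ KS Q1 l1 (piCoreOf {p} (F.autGroup P))
    have nK : L ≤ N[K] := le_norm_inf le_normalizer fun β hβ => mem_norm_of_conj fun α hα =>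
      Kf_conj le_norm_piCoreOf (((mem_aut r.1).1 hβ.1).mono l1) hβ.2 hα fun x hx =>
        af_conj _ _ (l1 hx)
    have s1 := s.inf_norm (K := K) inf_le_left (s.le.trans nK)
    obtain ⟨β, hβ, κ, hκ, rfl⟩ := s1.frattini' (nK hγ)
    have hβ' : β ∈ L := by simpa using mul_mem hγ (inv_mem hκ.1)
    refine (Kf.comp (f := af κ) (g := af β) ?_ ?_).congr fun x hx => af_mul _ _ (l1 hx)
    · have s2 := (syl_resS (hP := l1) (A := K) (fun _ h => h.1.2) s1).eq_of_pgroup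
        ((isPGroup_piCoreOf (M := F.autGroup P)).to_le fun δ hδ => by
          obtain ⟨α, ⟨-, ε, v1, v2⟩, v3⟩ := mem_resS.1 hδ
          rwa [af_ext (β := ε) fun x hx => (v3 x hx).symm.trans (v2 x hx).symm])
      obtain ⟨δ, -, v⟩ := hκ.2
      obtain ⟨α, v1, v2⟩ := mem_resS.1 (s2.ge (mem_resS.2 ⟨κ, hκ, fun x hx => (v x hx).symm⟩))
      obtain ⟨x, v3, v4⟩ := mem_autInd'.1 v1.1.1
      have v5 : ∀ y ∈ P, af κ y = x * y * x⁻¹ := fun y hy => by
        rw [← v y hy, ← v2 y hy, v4 y (l1 hy)]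
      exact (kf_of_ext hS hP (M_conj NSK_le v3) ((im_congr v5).symm.trans hκ.1.2)).congr v5
    · obtain ⟨y, v1, v2, v3⟩ := exists_mem_norm_not hS r.1 NSK_le (u.trans (norm_hat hP)) hh
      have v4 := (NSK_le_nI v1).2
      have v5 := mem_Ext_of_norm (S := S) (inf_le_left.trans inf_le_left) hβ v1.1 v2
        ⟨⟨cA_mem _ v1.1, (cA_stab l1 _).2 v4⟩, ⟨autInd_le_aut r.1 le_rfl (cA_mem _ v1.1),
          (cA_stab l1 _).2 v4⟩, v1.2.congr fun x hx => af_cA _ (l1 hx)⟩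
      have hb := (mem_aut r.1).1 hβ'.1
      obtain ⟨g, v6, v7⟩ := (rec_iff.1 r).2 _ _ hb (im_af β)
      have v8 : Q1 < Ext S Q1 (af β) ⊓ N[P] := lt_of_le_of_ne
        (le_inf hb.le_Ext (u.trans nI_le_norm)) fun e => v3 (e ▸ ⟨v5, v4⟩)
      have v9 := v6.mono (inf_le_left (b := N[P]))
      refine (ih _ v9.le (cQ ▸ card_lt_of_lt' v9.le v8) (l1.trans_lt v8) inf_le_right g v9
        ((im_congr fun x hx => v7 x (l1 hx)).trans hβ'.2)).congr fun x hx => (v7 x (l1 hx)).symm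
  obtain ⟨m, m0, m1, m2, m3⟩ := a1.exists_inv' c1
  obtain ⟨m', -, m1', -, -⟩ := a2.exists_inv' c2
  have t := (m0.comp hf fun y hy => (m2 y hy).1).comp a2 fun y hy => mem_im_of f (m2 y hy).1
  obtain ⟨γ, v1, v2⟩ := t.exists_aut (by
    rw [← m0.im_im (fun x => g2 (f x)), m3, ← hf.im_im, c2])
  have b3 := b1.inv fun x hx => m1 x (l.le hx)
  have v3 := main γ ⟨v1, (im_congr fun x hx => v2 x (l1 hx)).trans (by
    rw [← (m0.mono l1).im_im (fun x => g2 (f x)), b3.im_eq, ← (hf.mono l.le).im_im, e, b2.im_eq])⟩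
  refine ((b1.comp v3).comp (b2.inv fun x hx => m1' x (l'.le hx))).congr fun x hx => ?_
  rw [v2 _ (l1 (b1.mem hx)), m1 x (l.le hx), m1' _ (mem_im_of f (l.le hx))]

include hS in
theorem sat_step {H : Set (Subgroup Ω)} (hc : ∀ P ∈ H, ∀ Q, F.IsConj P Q → Q ∈ H)
    (hgen : ∀ E : FusionSystem S, (∀ P ∈ H, F.Hom P ⊆ E.Hom P) → F ≤ E)
    (hP : F.IsFullyNormalized P) (c : Nat.card P = n) (hH : P ∉ H) (hne : P ≠ S)
    (hlt : ∃ Q, F.IsConj P Q ∧ ¬ hat F p Q ≤ Q) :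
    F.IsFullyAutomized p P ∧ F.IsReceptive P := by
  have hX : ∀ R, F.IsConj P R → R ∉ H ∧ R ≠ S := fun R a =>
    ⟨fun h => hH (hc R h P (fconj_symm a)), fun e => hne (eq_of_le_card le_rfl hP.1 (by
      rw [← fconj_card a, e]))⟩
  have hXc : ∀ R f, M F R f → F.IsConj P R → F.IsConj P (im R f) := fun R f a b =>
    fconj_trans b a.isConj
  have hnl : ∀ R, F.IsConj P R → NL F R P := fun R a => by
    obtain ⟨f, hf, rfl⟩ := isConj_iff'.1 a
    refine (gen_ind hS hgen _ hX hXc (fun R f => NL F R P ↔ NL F (im R f) P) ?_ ?_ ?_ ?_ P f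
      (fconj_refl hP.1) hf).1 .refl
    · intro R f g a e; rwa [im_congr e]
    · intro R f g _ a _ b c; rw [← a.im_im]; exact b.trans c
    · intro R f g _ a b e; rw [a.im_im, im_of_eq e]; exact b.symm
    · intro R Q f a b d hf
      have c' := (fconj_card a).trans c
      refine ⟨nl_step hS hs hP c' b d hf, fun h => ?_⟩
      obtain ⟨k, hk, k1, -, -⟩ := hf.exists_inv
      have := nl_step hS hs hP ((hf.card_im' b.le).trans c') (hf.im_lt_im b le_rfl)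
        ((hf.im_nI_le b.le le_rfl d).trans nI_le_norm) hk h
      rwa [(hf.mono b.le).im_im, im_of_eq fun x hx => k1 x (b.le hx)] at this
  have hA : ∀ f, M F P f → im P f = P → Kf (AH hS F hP.1) f := fun f hf e => by
    have := gen_ind hS hgen _ hX hXc (fun R f => ∀ g1 g2, M F (normalizerIn S R) g1 →
      im R g1 = P → M F (normalizerIn S (im R f)) g2 → im (im R f) g2 = P →
      ∃ α ∈ AH hS F hP.1, ∀ x ∈ R, af α (g1 x) = g2 (f x)) ?_ ?_ ?_ ?_ P f (fconj_refl hP.1) hf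
      _ _ (M_id nI_le) (im_id P) (M_id nI_le) ((im_id _).trans e)
    · exact this
    · intro R f g a e g1 g2 b1 b2 b3 b4
      rw [im_congr e] at b3 b4
      obtain ⟨α, u, v⟩ := a g1 g2 b1 b2 b3 b4
      exact ⟨α, u, fun x hx => by rw [v x hx, e x hx]⟩
    · intro R f g x a _ b d g1 g2 b1 b2 b3 b4
      obtain ⟨g3, b5, b6⟩ := hnl _ (hXc _ _ a x)
      rw [← a.im_im] at b3 b4
      obtain ⟨α, u, v⟩ := b g1 g3 b1 b2 b5 b6
      obtain ⟨β, u', v'⟩ := d g3 g2 b5 b6 b3 b4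
      exact ⟨β * α, mul_mem u' u, fun x hx => by
        rw [af_mul _ _ (b2 ▸ mem_im_of g1 hx), v x hx, v' _ (mem_im_of f hx)]⟩
    · intro R f g _ a b e g1 g2 b1 b2 b3 b4
      rw [a.im_im, im_of_eq e] at b3 b4
      obtain ⟨α, u, v⟩ := b g2 g1 b3 b4 b1 b2
      refine ⟨α⁻¹, inv_mem u, fun y hy => ?_⟩
      obtain ⟨x, hx, rfl⟩ := a.mem_im.1 hy
      rw [← v x hx, e x hx, af_inv_af _ (b4 ▸ mem_im_of g2 hx)]
    · intro R Q f a b d hf g1 g2 b1 b2 b3 b4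
      have l : Q ≤ normalizerIn S R := le_inf hf.le d
      obtain ⟨m, m0, m1, m2, -⟩ := (b1.mono l).exists_inv
      have t := (m0.comp hf fun y hy => (m2 y hy).1).comp b3 fun y hy =>
        hf.im_nI_le b.le le_rfl d (mem_im_of f (m2 y hy).1)
      obtain ⟨α, u, v⟩ := dlem hS hs hP.1 c hnl _ t.le (b2 ▸ b1.im_lt_im b l)
        (b2 ▸ (b1.im_nI_le (b.le.trans l) l d).trans nI_le_norm) _ t (by
          conv_lhs => rw [← b2]
          rw [(b1.mono (b.le.trans l)).im_im,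
            im_congr fun x hx => congrArg (fun y => g2 (f y)) (m1 x (b.le hx)),
            ← (hf.mono b.le).im_im, b4])
      exact ⟨α, u, fun x hx => by
        rw [v _ (b2 ▸ mem_im_of g1 hx)]; beta_reduce; rw [m1 x (b.le hx)]⟩
  have l := le_hat (F := F) hS hP.1
  have lt : P < hat F p P := by
    obtain ⟨Q, a, b⟩ := hlt
    obtain ⟨x, u, v⟩ := SetLike.not_le_iff_exists.1 b
    obtain ⟨g, d, rfl⟩ := hnl Q a
    have l' := le_nI (fconj_le_right a)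
    exact lt_of_le_of_ne l fun e => v ((d.mem_im_iff l' (NSK_le_nI u)).1
      (e.ge (hat_tr d l' (NSK_le_nI u) u)))
  have sH := hs _ NSK_le (c ▸ card_lt_of_lt' NSK_le lt)
  have gp : GP F p P (hat F p P) := by
    obtain ⟨h, mh, gp⟩ := gp_exists l sH
    obtain ⟨g, a0, e0⟩ := hnl _ (mh.mono l).isConj
    have u := mh.im_nI_le l le_rfl (NSK_le_nI.trans nI_le_norm)
    have := gp_move hS gp (u.trans nI_le_norm) (sH.conj mh.isConj) a0
    have t := mh.comp a0 (im_le_iff.1 u)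
    rw [e0, mh.im_im, t.im_eq_of_le le_rfl fun x hx => ?_] at this
    · exact this
    · have := hat_tr t l hx hx
      rwa [← (mh.mono l).im_im, e0] at this
  obtain ⟨r, _, s⟩ := gp
  haveI := finite_of_le r.1
  have ex : ∀ f, M F P f → im P f = P → ∃ α ∈ F.autGroup (hat F p P), ∀ x ∈ P, af α x = f x :=
    fun f hf e => by
      obtain ⟨δ, u, v⟩ := hA f hf e
      obtain ⟨α, u', v'⟩ := mem_resS.1 u
      exact ⟨α, u', fun x hx => (v' x hx).trans (v x hx)⟩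
  refine ⟨fa_of_over hS r.1 l s fun f hf e => ?_, rec_iff.2 ⟨hP.1, fun R f hf e => ?_⟩⟩
  · obtain ⟨α, u, v⟩ := ex f hf e
    exact ⟨_, (mem_aut r.1).1 u, im_af α, v⟩
  obtain ⟨g1, a1, e1⟩ := hnl R (fconj_symm (e ▸ hf.isConj))
  have lR := le_nI hf.le
  obtain ⟨m, m0, m1, m2, m3⟩ := (a1.mono lR).exists_inv' e1
  obtain ⟨α, u, v⟩ := ex _ (m0.comp hf fun y hy => (m2 y hy).1) (by rw [← m0.im_im, m3, e])
  have v' : ∀ x ∈ R, af α (g1 x) = f x := fun x hx => by rw [v _ (e1 ▸ mem_im_of g1 hx), m1 x hx]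
  have w : im P (af α) = P := by
    have := (a1.mono lR).im_im (af α)
    rwa [e1, im_congr v', e] at this
  have ha := (mem_aut r.1).1 u
  have hx1 : ∀ x ∈ Ext S R f, g1 x ∈ Ext S P (af α) := by
    rintro x ⟨i1, i2, k, i3, i4⟩
    refine ⟨a1.mem ⟨i1, i2⟩, e1 ▸ a1.mem_norm lR ⟨i1, i2⟩ i2, k, i3, fun z hz => ?_⟩
    obtain ⟨y, hy, rfl⟩ := (a1.mem_im' lR).1 (e1 ▸ hz)
    rw [← a1.conj ⟨i1, i2⟩ (lR hy), v' _ (conj_mem_of_norm i2 hy), v' y hy, i4 y hy]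
  have s1 := s.mono (K := F.autGroup _ ⊓ stabA l ⊓ KS _ l (autInducedBy S P))
    (le_inf s.le fun β hβ => by
      obtain ⟨x, i1, i2⟩ := mem_autInd'.1 hβ.1
      have i3 : x ∈ N[P] := by
        rw [← map_cj_eq_iff, ← im_conj, ← im_congr fun y hy => i2 y (l hy)]; exact hβ.2
      exact ⟨_, cA_mem i3 i1, fun y hy => by rw [af_cA _ hy, i2 y (l hy)]⟩) inf_le_left
  obtain ⟨χ, i1, i2⟩ := exists_le_Ext hS ha (im_af α) s1 inf_le_left (X := Ext S P (af α))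
    (le_inf Ext_le (Ext_le_nI.trans (norm_hat hP.1))) (by
      rintro x ⟨i1, i2, k, i3, i4⟩
      have i5 := norm_hat (F := F) (p := p) hP.1 ⟨i1, i2⟩
      refine ⟨α * cA i5 * α⁻¹, ⟨conj_mem_of_norm (le_normalizer (mem_inf.2 ⟨u, w⟩))
        (mem_inf.2 ⟨autInd_le_aut r.1 le_rfl (cA_mem _ i1), (cA_stab l _).2 i2⟩),
        _, cA_mem (w ▸ mem_norm_of_ext (ha.mono l).homOn i2 i4) i3, fun z hz => ?_⟩,
        fun y hy => by rw [af_conj _ _ hy, af_cA _ hy]⟩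
      obtain ⟨y, hy, rfl⟩ := (ha.mem_im' l).1 (w.symm ▸ hz)
      rw [af_cA _ hz, af_conj _ _ (l hy), af_cA _ (l hy), i4 y hy])
  have t := ha.comp ((mem_aut r.1).1 i1.1.1) fun _ => af_mem α
  obtain ⟨g, j1, j2⟩ := (rec_iff.1 r).2 _ _ t (by rw [← ha.im_im, im_af, im_af])
  obtain ⟨δ, j3, j4⟩ := i1.2
  obtain ⟨k, j5, j6⟩ := mem_autInd'.1 j3
  refine ⟨_, ((a1.mono Ext_le_nI).comp j1 fun x hx => i2 (hx1 x hx)).conj_comp (inv_mem j5),
    fun x hx => ?_⟩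
  have j7 : f x ∈ P := e ▸ mem_im_of f hx
  rw [j2 _ (l (e1 ▸ mem_im_of g1 hx)), v' x hx, ← j4 _ j7, j6 _ j7]; group

omit hs in
include hS in
/-- the saturation criterion -/
theorem sat_of_family {H : Set (Subgroup Ω)} (hc : ∀ P ∈ H, ∀ Q, F.IsConj P Q → Q ∈ H)
    (hsat : ∀ P ∈ H, SatC F p P)
    (hgen : ∀ E : FusionSystem S, (∀ P ∈ H, F.Hom P ⊆ E.Hom P) → F ≤ E)
    (hstar : ∀ P, F.IsCentric P → P ∉ H → ∃ Q, F.IsConj P Q ∧ ¬ hat F p Q ≤ Q)
    (hT : S ∈ H) : F.IsSaturated p := by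
  refine down_ind (p := fun P => SatC F p P) fun P hP ih => ?_
  by_cases hH : P ∈ H
  · exact hsat P hH
  obtain ⟨R, a, b⟩ := exists_fn F hP
  refine ⟨R, a, sat_step hS ih hc hgen b (fconj_card a) (fun h => hH (hc R h P (fconj_symm a)))
    (fun e => hH (hc S hT P (fconj_symm (e ▸ a)))) ?_⟩
  by_cases h : F.IsCentric P
  · obtain ⟨Q, c, d⟩ := hstar P h hH
    exact ⟨Q, fconj_trans (fconj_symm a) c, d⟩
  · by_contra hn
    push Not at hn
    exact h ⟨hP, fun Q c => cI_le_NSK.trans (hn Q (fconj_trans (fconj_symm a) c))⟩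

end CfsgH2
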