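import Cfsg.Agent.H2.Sa19

/-! Components centralize or lie in normal subsystems; transport of components. -/

namespace CfsgH2
open Cfsg Subgroup CfsgL0 Function
open Cfsg.FusionSystem hiding inv_mem center

variable {Ω : Type*} [Group Ω] {S T U V W X Y T₁ T₂ : Subgroup Ω} {F : FusionSystem S}
  {P Q R : Subgroup Ω} {f g k : Ω → Ω} {p : ℕ} {E : FusionSystem T} {C : FusionSystem U}
  {E₁ : FusionSystem T₁} {E₂ : FusionSystem T₂}

section
variable {Ω' : Type*} [Group Ω'] {S' T' : Subgroup Ω'} {G : FusionSystem S'} {θ : S →* Ω'}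

theorem exists_push' [Finite T] {η : T →* Ω'} (hi : Injective η) (E : FusionSystem T)
    (e : im T (ex η) = T') : ∃ E' : FusionSystem T', SMor E η E' := by
  obtain ⟨E', a⟩ := exists_factor (F := E) (by rw [pre_bot hi]; exact sc_bot) e
  exact ⟨E', factor_smor_central (by rw [pre_bot hi]; exact central_bot) a⟩

theorem qs_tr [Finite S] [Fact p.Prime] (hS : IsPGroup p S) (h : SMor F θ G) (hi : Injective θ)
    (q : F.Quasisimple p) : G.Quasisimple p := by
  haveI := h.finite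
  have s := h.sat hS q.1
  refine ⟨s, by rw [h.hyp, q.2.1, h.range], fun D d => ?_⟩
  have k := factor_smor (h.pgroup hS) s (normal_sc (central_normal central_center)) d
  obtain ⟨θ', a, b, -⟩ := h.exists_inv hi
  obtain ⟨E₀, c, c'⟩ := qs_quot hS q
  let ζ : S' →* S ⧸ F.center.subgroupOf S := (QuotientGroup.mk' _).comp
    (θ'.codRestrict S fun x => ex_coe θ' x ▸ a.mem _ x.2)
  have e : ∀ x ∈ S', ex ζ x = ex (QuotientGroup.mk' (F.center.subgroupOf S)) (ex θ' x) :=
    fun x hx => by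
      rw [ex_apply _ hx, ex_apply _ (a.mem x hx)]
      exact congrArg (QuotientGroup.mk' (F.center.subgroupOf S)) (Subtype.ext (ex_apply θ' hx).symm)
  have z : ∀ x ∈ S', ex ζ x = 1 ↔ ex (QuotientGroup.mk' (G.center.subgroupOf S')) x = 1 :=
    fun x hx => by
      have u : x ∈ G.center ↔ ex θ' x ∈ F.center :=
        (mem_im_inj b center_le hx).symm.trans (by rw [← a.center_eq b])
      rw [e x hx]
      exact ⟨fun v => (mem_ker_pre.1 (center_pre.le (u.2 (center_pre.ge (mem_ker_pre.2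
        ⟨a.mem x hx, v⟩))))).2, fun v => (mem_ker_pre.1 (center_pre.le (u.1 (center_pre.ge
        (mem_ker_pre.2 ⟨hx, v⟩))))).2⟩
  obtain ⟨η, e'⟩ := exists_desc (center_im (F := G)) ζ fun x hx => (z x hx).2
  haveI := k.finite
  refine (k.desc (a.comp c e) e').simple ((injective_iff_map_eq_one η).2 fun y hy => ?_)
    (k.pgroup (h.pgroup hS)) c'
  obtain ⟨x, hx, v⟩ := k.sur le_rfl y.2
  exact Subtype.ext (v ▸ (z x (pre_le hx)).1 (by rw [e' x (pre_le hx), v, ex_coe, hy]))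

theorem subn_tr (hE : E.IsSubnormalIn F p) : ∀ [Finite S] [Fact p.Prime], IsPGroup p S →
    ∀ {S' : Subgroup Ω'} {G : FusionSystem S'} {θ : S →* Ω'}, SMor F θ G → Injective θ →
    ∀ {η : T →* Ω'} {E' : FusionSystem T'}, SMor E η E' → (∀ x ∈ T, ex η x = ex θ x) →
    E'.IsSubnormalIn G p := by
  induction hE with
  | refl =>
    intro _ _ hS S' G θ h hi η E' k e
    obtain rfl : T' = S' := by rw [← k.range, ← h.range, im_congr e]
    rw [fs_le_antisymm (F := E') ((tr_sub h hi k le_rfl e).2 fun _ _ a => a)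
      ((tr_sub k (inj_of_ex hi le_rfl e) h le_rfl fun x hx => (e x hx).symm).2 fun _ _ a => a)]
    exact .refl _ _
  | step a b ih =>
    intro _ _ hS S' G θ h hi η E' k e
    have l := b.1.2.2.2.1.1
    haveI := finite_of_le l
    obtain ⟨D', c⟩ := exists_push' (resH_inj hi l) _ rfl
    exact .step (ih (hS.to_le l) c (resH_inj hi l) k fun x hx => by
      rw [e x hx, ex_resH _ (sub_le (subn_le a) hx)]) (tr_normal h hi c l (fun _ => ex_resH _) hS b)

theorem comp_tr [Finite S] [Fact p.Prime] (hS : IsPGroup p S) (h : SMor F θ G) (hi : Injective θ)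
    {η : T →* Ω'} {E' : FusionSystem T'} (k : SMor E η E') (e : ∀ x ∈ T, ex η x = ex θ x)
    (c : E.IsComponentIn F p) : E'.IsComponentIn G p :=
  have l := sub_le (subn_le c.1)
  haveI := finite_of_le l
  ⟨subn_tr c.1 hS h hi k e, qs_tr (hS.to_le l) k (inj_of_ex hi l e) c.2⟩

theorem subn_conj (hE : E.IsSubnormalIn F p) : ∀ [Finite S] [Fact p.Prime], IsPGroup p S →
    F.IsSaturated p → ∀ {T' : Subgroup Ω} {η : T →* Ω} {E' : FusionSystem T'}, SMor E η E' →
    M F T (ex η) → E'.IsSubnormalIn F p := by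
  induction hE with
  | refl =>
    intro _ _ hS hF T' η E' k u
    obtain ⟨α, a, b⟩ := u.exists_aut u.im_top
    exact subn_tr (.refl _ _) hS ((inv_iff.1 (self_normal hS hF).1.2.2).2.2.1.smor a)
      (af_hom_inj α) k fun x hx => (b x hx).symm
  | step a b ih =>
    intro _ _ hS hF T' η E' k u
    have l := b.1.2.2.2.1.1
    have l' := sub_le (subn_le a)
    haveI := finite_of_le l
    haveI := finite_of_le l'
    obtain ⟨α, c, f, d, e⟩ := (inv_iff.1 b.1.2.2).2.2.2 _ l' _ u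
    have e1 : ∀ x ∈ _, ex d.homOn.hom x = f x := fun x hx => ex_apply _ hx
    obtain ⟨D, v⟩ := exists_push' (η := d.homOn.hom) (fun x y h => Subtype.ext (d.inj x.2 y.2 h))
      _ rfl
    have l2 := (im_congr e1).trans_le d.im_le
    have e2 := fun x hx => (e x hx).trans ((congrArg (af α) (e1 x hx).symm).trans
      (ex_resH l2 (mem_im_of _ hx)).symm)
    exact .step (subn_tr (ih (hS.to_le l) b.1.1 v (d.congr e1)) (hS.to_le l)
      ((inv_iff.1 b.1.2.2).2.2.1.smor c) (af_hom_inj α) (v.desc k e2) fun _ => ex_resH _) b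
end

variable [Finite S] [hp : Fact p.Prime] (hS : IsPGroup p S)
include hS

theorem layer_le_push (hE : E.IsLayerOf F p) {θ : S →* Ω} (h : SMor F θ F) (hi : Injective θ)
    {E' : FusionSystem W} (k : SMor E (resH θ hE.1.1.2.2.2.1.1) E') : E.IsSubsystemOf E' := by
  have l := hE.1.1.2.2.2.1.1
  obtain ⟨θ', a, b, -, d, -⟩ := h.exists_inv hi
  refine hE.2.2 _ E' (tr_normal h hi k l (fun _ => ex_resH _) hS hE.1) fun U C c =>
    sub_iff_M.2 fun P f u => ?_
  have l' := sub_le (subn_le c.1)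
  haveI := finite_of_le l'
  obtain ⟨C', v⟩ := exists_push' (resH_inj b l') C rfl
  obtain ⟨f', w, w'⟩ := v.mor _ _ u
  replace w := w.sub (hE.2.1 _ C' (comp_tr hS a b v (fun _ => ex_resH _) c))
  obtain ⟨g, z, z'⟩ := k.mor _ _ w
  have e : ∀ x ∈ U, ex (resH θ l) (ex (resH θ' l') x) = x := fun x hx => by
    rw [ex_resH l (sub_le (hE.2.1 _ C' (comp_tr hS a b v (fun _ => ex_resH _) c)) (mem_im_of _ hx)),
      ex_resH l' hx, d x (l' hx)]
  rw [((homOn_ex _).mono u.le).im_im, im_of_eq fun x hx => e x (u.le hx)] at z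
  refine z.congr fun x hx => ?_
  conv_rhs => rw [← e x (u.le hx), z' _ (mem_im_of _ hx), w' x hx, e _ (u.mem hx)]

theorem layer_aut (hE : E.IsLayerOf F p) {θ : S →* Ω} (h : SMor F θ F) (hi : Injective θ) :
    im T (ex θ) = T ∧ ∀ P f g, M E P f → (∀ x ∈ P, g (ex θ x) = ex θ (f x)) →
      M E (im P (ex θ)) g := by
  have l := hE.1.1.2.2.2.1.1
  haveI := finite_of_le l
  obtain ⟨E', k⟩ := exists_push' (resH_inj hi l) E (im_resH l le_rfl)
  have e := (eq_of_le_card (h.toMor.im_le l) (sub_le (layer_le_push hS hE h hi k))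
    (card_im_inj hi l).le).symm
  refine ⟨e, fun P f g u v => ?_⟩
  obtain ⟨θ', a, b, c, d, -⟩ := h.exists_inv hi
  obtain ⟨D, k'⟩ := exists_push' (resH_inj b l) E rfl
  obtain ⟨f', w, w'⟩ := k'.lift _ _ (u.sub (layer_le_push hS hE a b k'))
  have m : ∀ x ∈ P, ex θ x ∈ preimageAlong (resH θ' l) P := fun x hx => by
    have := e.le (mem_im_of _ (u.le hx))
    exact mem_pre.2 ⟨this, by rwa [ex_resH l this, c x (l (u.le hx))]⟩
  refine (w.mono (im_le_iff.2 m)).congr fun y hy => ?_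
  obtain ⟨x, hx, rfl⟩ := (mem_imθ (u.le.trans l)).1 hy
  have := w' _ (m x hx)
  rw [ex_resH l (pre_le (m x hx)), c x (l (u.le hx)), ex_resH l (w.mem (m x hx))] at this
  rw [v x hx, this, d _ (l (w.mem (m x hx)))]

variable (hF : F.IsSaturated p)
include hF

theorem layer_normal (hE : E.IsLayerOf C p) (hC : C.IsWeaklyNormalIn F p) : E.IsNormalIn F p := by
  have i := hC.2.2
  have l := hE.1.1.2.2.2.1.1
  haveI := finite_of_le i.2.1.1
  haveI := finite_of_le l
  have key := fun α (a : α ∈ F.autGroup U) => layer_aut (hS.to_le i.2.1.1) hE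
    ((inv_iff.1 i).2.2.1.smor a) (af_hom_inj α)
  refine layer_normal_of hS hF hE hC (inv_trans hE.1.1.2.2 i (sc_of_inv i hE.1.1.2.2.2.1
    fun α a x hx => (key α a).1.le (mem_im_of _ hx)) fun P f β b g u e => ?_)
  have b' := (mem_aut (l.trans i.2.1.1)).1 b
  obtain ⟨α, a, δ, d, e'⟩ := (inv_iff.1 i).2.2.2 T l _ b'
  obtain ⟨j, -, j1, -⟩ := d.exists_inv
  have v := si_of_inv hE.1.1.2.2 _ _ _ _ (fun y => δ (f (j y))) u d u.le (fun _ => u.mem)
    fun x hx => by rw [j1 x (u.le hx)]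
  have := (key α a).2 _ _ g v fun y hy => by
    obtain ⟨x, hx, rfl⟩ := (d.mem_im' u.le).1 hy
    rw [j1 x (u.le hx)]
    exact (congrArg g (e' x (u.le hx)).symm).trans ((e x hx).trans (e' _ (u.mem hx)))
  rw [(d.mono u.le).im_im] at this
  rwa [im_congr fun x hx => e' x (u.le hx)]

theorem lemM2 (h : E.IsNormalIn F p) (sQ : F.StronglyClosed Q) (hZ : E.IsCentral (Q ⊓ T))
    (hf : M E P f) : ∃ g, M F (P ⊔ Q) g ∧ (∀ x ∈ P, g x = f x) ∧ ∀ q ∈ Q, q⁻¹ * g q ∈ T := by
  have hi := h.1.2.2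
  have hT := hi.2.1
  haveI := finite_of_le hT.1
  have hT' := hS.to_le hT.1
  refine alperin_pp hT' h.1.1 (fun P f => ∃ g, M F (P ⊔ Q) g ∧ (∀ x ∈ P, g x = f x) ∧
    ∀ q ∈ Q, q⁻¹ * g q ∈ T) ?_ ?_ ?_ ?_ ?_ P f hf
  · rintro P f g ⟨k, a, b, c⟩ e
    exact ⟨k, a, fun x hx => (b x hx).trans (e x hx).symm, c⟩
  · exact fun P hP g hg => ⟨_, M_conj (sup_le (hP.trans hT.1) sQ.1) (hT.1 hg), fun _ _ => rfl,
      fun x hx => by
        simpa [mul_assoc] using mul_mem (conj_mem_of_norm' (sc_le_norm hT (sQ.1 hx)) hg) (inv_mem hg)⟩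
  · rintro P R f g - - ⟨k, a, b, c⟩ ⟨k', a', b', c'⟩ m
    refine ⟨_, a.comp a' (im_le_iff.1 ?_), fun x hx => by rw [b x hx, b' _ (m x hx)],
      fun x hx => by simpa [mul_assoc] using mul_mem (c x hx) (c' _ (sc_mem sQ a (mem_sup_right hx) hx))⟩
    rw [a.homOn.im_sup, sc_im sQ a le_sup_right, im_congr b]
    exact sup_le_sup_right (im_le_iff.2 m) _
  · rintro P f g hf ⟨k, a, b, c⟩ e
    obtain ⟨j, j0, j1, -⟩ := a.exists_inv
    rw [a.homOn.im_sup, sc_im sQ a le_sup_right, im_congr b] at j0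
    refine ⟨j, j0, fun y hy => ?_, fun y hy => ?_⟩
    · obtain ⟨x, hx, rfl⟩ := hf.mem_im.1 hy
      rw [e x hx, ← b x hx, j1 x (mem_sup_left hx)]
    · obtain ⟨x, hx, rfl⟩ := (a.mem_im' le_sup_right).1 ((sc_im sQ a le_sup_right).ge hy)
      rw [j1 x (mem_sup_right hx)]; simpa using inv_mem (c x hx)
  intro P _ c r f hf m o
  have hP := c.1.trans hT.1
  haveI := finite_of_le hP
  have l := normal_le_cr hT' (central_normal hZ) c r
  have cq : ∀ q ∈ Q, ∀ x ∈ P, x⁻¹ * (q * x * q⁻¹) ∈ Q ⊓ T := fun q hq x hx => mem_inf.2 ⟨by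
    simpa [mul_assoc] using mul_mem (conj_mem_of_norm' (sc_le_norm sQ (hP hx)) hq) (inv_mem hq),
    mul_mem (inv_mem (c.1 hx)) (conj_mem_of_norm (sc_le_norm hT (sQ.1 hq)) (c.1 hx))⟩
  have n : Q ≤ N[P] := fun q hq => mem_norm_of_conj' hP fun x hx => by
    simpa using mul_mem hx (l (cq q hq x hx))
  obtain ⟨g, a, b, d⟩ := xt_of_inn hS hF hi c (fun R' u f => lemL hS hF h (by
    obtain ⟨k, k0, rfl⟩ := isConj_iff'.1 u
    exact inv_centric hi c k0)) (le_inf sQ.1 n) hf m o fun q hq => by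
      obtain ⟨α, a1, a2⟩ := hf.exists_aut (hf.im_eq_of_le le_rfl m)
      have u : (cA (n hq))⁻¹ * α * cA (n hq) * α⁻¹ ∈ E.autGroup P := by
        simpa using mul_mem ((si_of_inv hi).aut_conj c.1 hT.1 (inv_mem (autInd_le_aut hP sQ.1
          (cA_mem (n hq) hq))) a1) (inv_mem a1)
      have ev : ∀ x ∈ P, af ((cA (n hq))⁻¹ * α * cA (n hq) * α⁻¹) (f x) =
          q⁻¹ * f (q * x * q⁻¹) * q := fun x hx => by
        rw [← a2 x hx, af_mul _ _ (af_mem _ hx), af_inv_af _ hx, af_mul _ _ hx, af_cA _ hx,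
          af_mul _ _ (conj_mem_of_norm (n hq) hx), a2 _ (conj_mem_of_norm (n hq) hx),
          ← cA_inv (n hq), af_cA _ (m _ (conj_mem_of_norm (n hq) hx)), inv_inv]
      have v := mem_Op_of_chain (hS.to_le hP) (fun i => match i with | 0 => ⊥ | 1 => Q ⊓ T | _ => P)
        (n := 2) le_rfl (fun β _ _ _ _ x hx h => by rw [mem_bot.1 h, (homOn_af β).one])
        (fun β hβ i x hx h => match i with
          | 0 => by rw [mem_bot.1 h, (homOn_af β).one]; exact one_mem _
          | 1 => by rwa [central_fix hZ ((mem_aut c.1).1 hβ) hx h]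
          | _ + 2 => af_mem _ hx) u
        (fun i x hx h => match i with
          | 0 => by
            have h1 : q * x * q⁻¹ ∈ Q ⊓ T := by simpa using mul_mem h (cq q hq x hx)
            have := ev x hx
            rw [central_fix hZ hf hx h, central_fix hZ hf (l h1) h1] at this
            rw [this]; simp [mul_assoc]
          | 1 => by
            obtain ⟨y, hy, rfl⟩ := hf.mem_im.1 ((hf.im_eq_of_le le_rfl m).ge hx)
            have h1 := cq q hq y hy
            have h2 := central_fix hZ hf (l h1) h1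
            rw [hf.mul (inv_mem hy) (conj_mem_of_norm (n hq) hy), hf.inv hy] at h2
            rw [ev y hy, eq_inv_mul_iff_mul_eq.1 h2.symm |>.symm]
            have := mul_mem (cq _ (inv_mem hq) _ hx) (conj_mem_of_norm' (mem_norm_inf
              (le_normalizer hq) (sc_le_norm hT (sQ.1 hq))) h1)
            simpa [mul_assoc] using this
          | _ + 2 => mul_mem (inv_mem hx) (af_mem _ hx))
      rw [(radical_iff.1 r).2] at v
      obtain ⟨z, z1, z2⟩ := mem_inn.1 v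
      refine ⟨z, z1, fun x hx => ?_⟩
      have := z2 _ (m x hx)
      rw [ev x hx] at this
      rw [show q * z * f x * (q * z)⁻¹ = q * (z * f x * z⁻¹) * q⁻¹ by group, ← this]; group
  exact ⟨g, a, b, fun q hq => c.1 (d q hq)⟩

omit hF in
theorem comp_step2 (sQ : F.StronglyClosed Q) (l1 : U ≤ S) (hC : C.IsSaturated p)
    (h1 : C.hyperfocalSubgroup p = U ∨ U ≤ C[Q])
    (lm : ∀ P f, M C P f → ∃ g, M F (P ⊔ Q) g ∧ (∀ x ∈ P, g x = f x) ∧
      (∀ q ∈ Q, q⁻¹ * g q ∈ T) ∧ ∀ q ∈ Q ⊓ T, g q = q) (hf : M C P f) :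
    NKM F (⊥ : Subgroup (MulAut Q)) P f := by
  haveI := finite_of_le l1
  have key : ∀ P ≤ U, ∀ α ∈ C.autGroup P, (orderOf α).Coprime p → ∃ g, M F (P ⊔ Q) g ∧
      (∀ x ∈ P, g x = af α x) ∧ ∀ x ∈ Q, g x = x := fun P hP α hα o => by
    obtain ⟨g, a', e, c', c⟩ := lm P _ ((mem_aut hP).1 hα)
    have qm : ∀ x ∈ Q, g x ∈ Q := fun x hx => sc_mem sQ a' (mem_sup_right hx) hx
    have gm : ∀ x ∈ P ⊔ Q, g x ∈ P ⊔ Q := im_le_iff.1 (by
      rw [a'.homOn.im_sup]
      exact sup_le_sup (im_le_iff.2 fun x hx => e x hx ▸ af_mem _ hx) (im_le_iff.2 qm))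
    obtain ⟨n, o', e'⟩ := pp_part a' gm ((ppo_af o).congr (fun _ => af_mem _) e)
    refine ⟨_, M.iter a' gm n, fun x hx => (e' x hx).trans (e x hx), fun x hx => ?_⟩
    have := cop2 hS (M.iter a' gm n) (inf_le_left.trans le_sup_right : Q ⊓ T ≤ _) bot_le
      (fun y hy => by rw [iter_fix (c y hy)]; simp) o'
      (mem_sup_right hx) (iter_triv qm (fun x hx => mem_inf.2 ⟨mul_mem (inv_mem hx) (qm x hx),
        c' x hx⟩) n x hx)
    exact (inv_mul_eq_one.1 (mem_bot.1 this)).symm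
  have l2 : U ≤ centralizerIn S Q := h1.elim (fun h1 => h1.ge.trans (hyp_le_iff'.2
    fun P hP α hα o x hx => by
      obtain ⟨g, a, b, c⟩ := key P hP α hα o
      refine mem_cI.2 ⟨l1 (hP (mul_mem (inv_mem hx) (af_mem _ hx))), mem_cent_iff.2 fun q hq => ?_⟩
      have := c _ (conj_mem_of_norm (sc_le_norm sQ (l1 (hP hx))) hq)
      rw [a.conj (mem_sup_left hx) (mem_sup_right hq), c q hq, b x hx] at this
      rw [show q * (x⁻¹ * af α x) = x⁻¹ * (x * q * x⁻¹) * af α x by group, ← this]; group))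
    (le_inf l1)
  obtain ⟨D, hD⟩ := exists_C F sQ.1
  refine (isC_iff.1 hD P f).1 (hf.sub (le_of_piRes hS hC l1 l2 fun P hP => (closure_le _).2
    fun α a => M.af_mem_aut ((isC_iff.1 hD _ _).2 (NKM_bot_iff.2 ⟨hP.trans l2, ?_⟩))))
  exact key P hP α a.1 ((piN_compl_singleton' hp.out).1 a.2)

theorem cent_of (h : E.IsNormalIn F p) (sQ : F.StronglyClosed Q) (hZ : E.IsCentral (Q ⊓ T))
    (l : C.IsSubsystemOf E) (hC : C.IsSaturated p) (h1 : C.hyperfocalSubgroup p = U ∨ U ≤ C[Q])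
    (hf : M C P f) : NKM F (⊥ : Subgroup (MulAut Q)) P f :=
  comp_step2 hS sQ ((sub_le l).trans h.1.2.2.2.1.1) hC h1 (fun P f u => by
    obtain ⟨k, a, b, c⟩ := central_ext hZ (u.sub l)
    obtain ⟨g, a', b', c'⟩ := lemM2 hS hF h sQ hZ a
    exact ⟨g, a'.mono (sup_le_sup_right le_sup_left _), fun x hx =>
      (b' x (mem_sup_left hx)).trans (b x hx), c', fun x hx =>
      (b' x (mem_sup_right hx)).trans (c x hx)⟩) hf

omit hS hF hp [Finite S] in
theorem comp_cent (h : C.IsSubnormalIn F p) : ∀ [Finite S] [Fact p.Prime], IsPGroup p S →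
    C.Quasisimple p → ∀ {T} {E : FusionSystem T}, E.IsNormalIn F p → U ⊓ T ≤ C.center →
    ∀ P f, M C P f → NKM F (⊥ : Subgroup (MulAut T)) P f := by
  induction h with
  | refl =>
    intro _ _ hS hC T E hE l P f u
    rw [inf_eq_right.2 hE.1.2.2.2.1.1] at l
    have := central_mono central_center l
    exact NKM_bot_iff.2 ⟨le_inf u.le (u.le.trans (central_le_cent this)), central_ext this u⟩
  | @step R S C D F p a h ih =>
    intro _ _ hS hC T E hE l P f
    have hF := hE.1.2.1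
    have lR := h.1.2.2.2.1.1
    have lU := sub_le (subn_le a)
    haveI := finite_of_le lR
    haveI := finite_of_le lU
    haveI := finite_of_le hE.1.2.2.2.1.1
    obtain ⟨E', e0, e1, -⟩ := exists_inter h.1 hE.1 hS hF
    have i := ih (hS.to_le lR) hC e1 ((inf_le_inf_left _ inf_le_right).trans l)
    obtain ⟨B, hB⟩ := exists_C F e0.1.2.2.2.1.1
    haveI : Finite (centralizerIn S (R ⊓ T)) := finite_cI
    have l1 : U ≤ CE F E' p := hC.2.1.ge.trans ((hyp_le_foc.trans (foc_le_iff.2 fun P f u x hx => by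
      obtain ⟨v, g, g0, g1, g2⟩ := NKM_bot_iff.1 (i P f u)
      exact mem_foc ((isC_iff.1 hB P f).2 (NKM_bot_iff.2 ⟨v.trans (inf_le_inf_right _ lR), g,
        g0.sub h.1.2.2.1, g1, g2⟩)) hx)).trans (foc_le_CE hS hF e0 hB))
    obtain ⟨G, g0, g1⟩ := exists_CFE hS hF e0
    haveI := finite_of_le g0.1.2.2.2.1.1
    obtain ⟨D', d0, d1, d2, -⟩ := exists_inter h.1 g0.1 hS hF
    haveI := finite_of_le d0.1.2.2.2.1.1
    exact cent_of hS hF d0 hE.1.2.2.2.1 (central_of_fix (hS.to_le d0.1.2.2.2.1.1) d0.1.1 inf_le_right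
      fun P f u x v w => by
        obtain ⟨-, g, -, b, c⟩ := NKM_bot_iff.1 (g1 P f (u.sub d2.1.2.2.1))
        rw [← b x v, c x ⟨w.2.1, w.1⟩])
      (subn_le (comp_of_le (hS.to_le lR) ⟨a, hC⟩ d1.1 (le_inf lU l1)).1) hC.1 (.inl hC.2.1)

/-- a component lies in a normal subsystem or centralizes it -/
theorem comp_dich (h : C.IsComponentIn F p) (hE : E.IsNormalIn F p) : C.IsComponentIn E p ∨
    U ≤ CE F E p ∧ ∀ P f, M C P f → NKM F (⊥ : Subgroup (MulAut T)) P f := by
  rcases comp_inter h.1 hS h.2 hE.1 with a | a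
  · have i := comp_cent h.1 hS h.2 hE a
    obtain ⟨B, hB⟩ := exists_C F hE.1.2.2.2.1.1
    haveI := finite_of_le (sub_le (subn_le h.1))
    haveI : Finite (centralizerIn S T) := finite_cI
    exact .inr ⟨h.2.2.1.ge.trans ((hyp_le_foc.trans (foc_le_iff.2 fun P f u x hx =>
      mem_foc ((isC_iff.1 hB P f).2 (i P f u)) hx)).trans (foc_le_CE hS hF hE hB)), i⟩
  · exact .inl ⟨a, h.2⟩

end CfsgH2
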