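import Cfsg.Agent.H2.Sa20

/-! Central products of normal subsystems; components are normal in the layer. -/

namespace CfsgH2
open Cfsg Subgroup CfsgL0 Function
open Cfsg.FusionSystem hiding inv_mem center

variable {Ω : Type*} [Group Ω] {S T U V W X Y T₁ T₂ : Subgroup Ω} {F : FusionSystem S}
  {P Q R : Subgroup Ω} {f g k : Ω → Ω} {p : ℕ} {E : FusionSystem T} {C : FusionSystem U}
  {E₁ : FusionSystem T₁} {E₂ : FusionSystem T₂}

namespace CP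
variable (h : CP E₁ E₂ E)
include h

theorem symm : CP E₂ E₁ E :=
  ⟨fun x a y b => (h.comm y b x a).symm, (sup_comm _ _).trans h.sup, fun P₁ P₂ f₁ f₂ a b => by
    obtain ⟨f, u, v⟩ := h.of _ _ _ _ b a
    exact ⟨f, sup_comm P₂ P₁ ▸ u, fun x hx y hy => by
      rw [← h.comm y (b.le hy) x (a.le hx), v y hy x hx, h.comm _ (b.mem hy) _ (a.mem hx)]⟩,
  fun P f a => by
    obtain ⟨P₁, P₂, f₁, f₂, b, c, d⟩ := h.dec P f a
    exact ⟨P₂, P₁, f₂, f₁, c, b, fun x hx y hy z => by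
      rw [← h.comm y hy x hx] at z ⊢
      obtain ⟨u, v, w⟩ := d y hy x hx z
      exact ⟨v, u, w.trans (h.comm _ (b.mem u) _ (c.mem v))⟩⟩⟩

theorem nk (a : M E₁ P f) : NKM E (⊥ : Subgroup (MulAut T₂)) P f := by
  obtain ⟨g, u, v⟩ := h.of _ _ _ _ a (M_id (F := E₂) le_rfl)
  exact NKM_bot_iff.2 ⟨fun x hx => mem_cI.2 ⟨h.sup.le (mem_sup_left (a.le hx)),
    mem_cent_iff.2 fun y hy => (h.comm x (a.le hx) y hy).symm⟩, g, u,
    fun x hx => by simpa using v x hx 1 (one_mem _),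
    fun y hy => by simpa [a.one] using v 1 (one_mem _) y hy⟩

variable [Finite T] [Fact p.Prime] (hT : IsPGroup p T) (hE : E.IsSaturated p)
include hT hE

theorem wn (hC : C.IsWeaklyNormalIn E₁ p) : C.IsWeaklyNormalIn E p :=
  have t := hC.2.2.2.1
  ⟨hC.1, hE, inv_of_si hT hE (sc_iff.2 ⟨t.1.trans (sub_le h.sub₁), fun _ _ a _ u v =>
    sc_mem t (h.res₁ a) ⟨u, t.1 v⟩ v⟩) (sub_trans hC.2.2.1 h.sub₁) fun P _ f k g a b l m e =>
    si_of_inv hC.2.2 P _ f k g a (h.res₁ b) (le_inf l (a.le.trans t.1))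
      (fun x hx => ⟨m x hx, t.1 (a.mem hx)⟩) e⟩

theorem normal₁ (s : E₁.IsSaturated p) : E₁.IsNormalIn E p :=
  haveI := finite_of_le (sub_le h.sub₁)
  normalIn_iff'.2 ⟨h.wn hT hE (self_normal (hT.to_le (sub_le h.sub₁)) s).1, fun f a => by
    obtain ⟨g, u, v⟩ := h.of _ _ _ _ a (M_id (F := E₂) le_rfl)
    refine ⟨g, u.mono (sup_le le_sup_left (cI_le.trans h.sup.ge)),
      fun x hx => by simpa using v x hx 1 (one_mem _), fun c hc => ?_⟩
    obtain ⟨x, hx, y, hy, rfl⟩ := (sup_of_comm h.comm le_rfl le_rfl).1 (h.sup.ge (cI_le hc))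
    rw [v x hx y hy, h.comm x hx y hy, h.comm _ (a.mem hx) y hy]
    simpa [mul_assoc] using mul_mem (inv_mem hx) (a.mem hx)⟩

end CP

variable [Finite S] [hp : Fact p.Prime] (hS : IsPGroup p S) (hF : F.IsSaturated p)
include hS hF

theorem cp_normal (h₁ : E₁.IsNormalIn F p) (h₂ : E₂.IsNormalIn F p)
    (c₁ : ∀ P f, M E₁ P f → NKM F (⊥ : Subgroup (MulAut T₂)) P f)
    (c₂ : ∀ P f, M E₂ P f → NKM F (⊥ : Subgroup (MulAut T₁)) P f) :
    ∃ D : FusionSystem (T₁ ⊔ T₂ :), IsCentralProductOf E₁ E₂ D ∧ D.IsNormalIn F p := by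
  have l₁ := h₁.1.2.2.2.1.1
  have l₂ := h₂.1.2.2.2.1.1
  haveI := finite_of_le l₁
  haveI := finite_of_le l₂
  obtain ⟨D, d⟩ := exists_cp (E₁ := E₁) (E₂ := E₂) (fun x a y b => (mem_cent_iff.1
    ((NKM_bot_iff.1 (c₁ _ _ (M_id le_rfl))).1 a).2 y b).symm)
    (central_of_fix (hS.to_le l₁) h₁.1.1 inf_le_left fun P f u x v w => by
      obtain ⟨-, g, -, b, c⟩ := NKM_bot_iff.1 (c₁ P f u)
      rw [← b x v, c x w.2])
    (central_of_fix (hS.to_le l₂) h₂.1.1 inf_le_right fun P f u x v w => by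
      obtain ⟨-, g, -, b, c⟩ := NKM_bot_iff.1 (c₂ P f u)
      rw [← b x v, c x w.1]) rfl
  exact ⟨D, d, (cp_of d).normal hS hF (cp_sat d (hS.to_le l₁) (hS.to_le l₂) h₁.1.1 h₂.1.1) h₁ h₂ c₁ c₂⟩

theorem cp_normal' (h₁ : E₁.IsNormalIn F p) (h₂ : E₂.IsNormalIn F p) (c : T₁ ≤ C[T₂])
    (z₁ : E₁.IsCentral (T₁ ⊓ T₂)) (z₂ : E₂.IsCentral (T₁ ⊓ T₂)) :
    ∃ D : FusionSystem (T₁ ⊔ T₂ :), IsCentralProductOf E₁ E₂ D ∧ D.IsNormalIn F p :=
  cp_normal hS hF h₁ h₂ (fun _ _ => cent_of hS hF h₁ h₂.1.2.2.2.1 (inf_comm T₁ T₂ ▸ z₁)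
    (fun _ _ a => a) h₁.1.1 (.inr c)) fun _ _ => cent_of hS hF h₂ h₁.1.2.2.2.1 z₂
    (fun _ _ a => a) h₂.1.1 (.inr (le_centralizer_iff.1 c))

theorem ppr_cent {L : FusionSystem S} (hL : F.IsPPrimeResidual p L) (hQ : F.StronglyClosed Q)
    (c : S ≤ C[Q]) : L.IsCentral Q := by
  obtain ⟨C, hC⟩ := exists_C F hQ.1
  have n := C_normal hS hF (normal_of_comm hS hF hQ (isMulComm_iff.2 fun a ha b hb =>
    mem_cent_iff.1 (c (hQ.1 hb)) a ha)) hC
  have key : ∀ {T} (C : FusionSystem T), T = S → C.IsNormalIn F p → L.IsSubsystemOf C := by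
    rintro _ C rfl n
    exact ppr_le_wn hS (self_normal hS hF).1 hL n.1
  exact central_of_fix hS hL.1 hQ.1 fun P f u x v w => by
    obtain ⟨-, g, -, b, d⟩ := NKM_bot_iff.1 ((isC_iff.1 hC P f).1 (u.sub (key C
      (le_antisymm cI_le (le_inf le_rfl c)) n)))
    rw [← b x v, d x w]

theorem wn_layer {L : FusionSystem V} (hE : E.IsNormalIn F p) (hC : C.IsWeaklyNormalIn E p)
    (hL : L.IsLayerOf F p) (l : C.IsSubsystemOf L) : C.IsWeaklyNormalIn L p := by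
  obtain ⟨G, g0, g1⟩ := exists_CFE hS hF hE
  obtain ⟨D, d, n⟩ := cp_normal hS hF hE g0 (fun _ _ => sub_CE hS hF hE) g1
  haveI := finite_of_le hE.1.2.2.2.1.1
  haveI := finite_of_le g0.1.2.2.2.1.1
  haveI := finite_of_le n.1.2.2.2.1.1
  have hD := hS.to_le n.1.2.2.2.1.1
  replace d := cp_of d
  exact wn_sub hD (d.wn hD n.1.1 hC) hL.1.1.1 l (hL.2.2 _ D n fun U K a =>
    (comp_dich hS hF a hE).elim (fun b => sub_trans (subn_le b.1) d.sub₁) fun b =>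
      sub_trans (subn_le (comp_of_le hS a g0.1 b.1).1) d.sub₂)

omit hS hF hp [Finite S] in
theorem comp_wn (h : C.IsSubnormalIn F p) : ∀ [Finite S] [Fact p.Prime], IsPGroup p S →
    C.Quasisimple p → ∃ (T : Subgroup Ω) (E : FusionSystem T), E.IsNormalIn F p ∧
      C.IsWeaklyNormalIn E p := by
  induction h with
  | refl => exact fun hS hC => ⟨_, _, self_normal hS hC.1, (self_normal hS hC.1).1⟩
  | step a b ih =>
    intro _ _ hS hC
    have l := b.1.2.2.2.1.1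
    haveI := finite_of_le l
    obtain ⟨_, E, e, w⟩ := ih (hS.to_le l) hC
    obtain ⟨V, L, hL⟩ := exists_layer (hS.to_le l) b.1.1
    exact ⟨V, L, layer_normal hS b.1.2.1 hL b.1,
      wn_layer (hS.to_le l) b.1.1 e w hL (hL.2.1 _ _ ⟨a, hC⟩)⟩

theorem comp_wn_layer (hC : C.IsComponentIn F p) (hE : E.IsLayerOf F p) :
    C.IsWeaklyNormalIn E p :=
  let ⟨_, _, a, b⟩ := comp_wn hC.1 hS hC.2
  wn_layer hS hF a b hE (hE.2.1 _ _ hC)

end CfsgH2
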