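import Cfsg.Agent.H2.Sa21

/-! Full subsystems over direct factors. -/

namespace CfsgH2
open Cfsg Subgroup CfsgL0 Function
open Cfsg.FusionSystem hiding inv_mem center

variable {Ω : Type*} [Group Ω] {S T U V W X Y T₁ T₂ : Subgroup Ω} {F : FusionSystem S}
  {P Q R : Subgroup Ω} {f g k : Ω → Ω} {p : ℕ} {E : FusionSystem T}

variable [Finite S] [hp : Fact p.Prime] (hS : IsPGroup p S) (hF : F.IsSaturated p)
include hS hF

theorem res_sat (l : T ≤ S) (hU : F.StronglyClosed U) (h1 : T ⊓ U = ⊥)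
    (h2 : ∀ x ∈ S, ∃ a ∈ T, ∃ b ∈ U, a * b = x) (h : ∀ P ≤ T, ∀ f, M E P f ↔ M F P f) :
    E.IsSaturated p := by
  obtain ⟨Ω', _, θ, G, a, b⟩ := exists_quot hS hF hU
  haveI := finite_of_le l
  have k : ∀ x ∈ U, ex θ x = 1 := fun x hx => (mem_ker_pre.1 (b.ge hx)).2
  have s : SMor E (resH θ l) G := by
    refine ⟨⟨fun _ _ => mem_top _, fun P f u => ?_⟩, eq_top_iff.2 fun y _ => ?_, fun P f u => ?_⟩
    · obtain ⟨f', v, w⟩ := a.mor P f ((h P u.le f).1 u)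
      exact ⟨f', (im_resH (θ := θ) l u.le).symm ▸ v, fun x hx => by
        rw [ex_resH l (u.le hx), ex_resH l (u.mem hx), w x hx]⟩
    · obtain ⟨x, hx, rfl⟩ := (mem_imθ le_rfl).1 (a.range.ge (mem_top y))
      obtain ⟨c, hc, d, hd, rfl⟩ := h2 x hx
      rw [(homOn_ex θ).mul (l hc) (hU.1 hd), k d hd, mul_one, ← ex_resH l hc]
      exact mem_im_of _ hc
    obtain ⟨g, v, w⟩ := a.lift P f u
    have m : preimageAlong (resH θ l) P ≤ preimageAlong θ P := fun x hx =>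
      mem_pre.2 ⟨l (pre_le hx), ex_resH (θ := θ) l (pre_le hx) ▸ (mem_pre.1 hx).2⟩
    have v' := (h _ pre_le g).2 (v.mono m)
    exact ⟨g, v', fun x hx => by
      rw [ex_resH l (pre_le hx), ex_resH l (v'.mem hx), w x (m hx)]⟩
  obtain ⟨θ', c, -⟩ := s.exists_inv ((injective_iff_map_eq_one _).2 fun x hx => Subtype.ext
    (mem_bot.1 (h1.le ⟨x.2, b.le (mem_ker_pre.2 ⟨l x.2, by rw [← ex_resH l x.2, ex_coe, hx]⟩)⟩)))
  haveI := a.finite
  exact c.sat (a.pgroup hS) (a.sat hS hF)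

theorem dp_thm {R R' : FusionSystem T} (h₁ : F.StronglyClosed T) (h₂ : F.StronglyClosed U)
    (c : T ≤ C[U]) (h1 : T ⊓ U = ⊥) (h2 : T ⊔ U = S) (hR : ∀ P ≤ T, ∀ f, M R P f ↔ M F P f)
    (hR' : ∀ P ≤ T, ∀ f, M R' P f ↔ NKM F (⊥ : Subgroup (MulAut U)) P f) :
    R.IsSaturated p ∧ R'.IsSaturated p ∧ R'.IsNormalIn F p ∧ R'.IsNormalIn R p ∧
      R.IsWeaklyNormalIn F p := by
  have d : ∀ x ∈ S, ∃ a ∈ T, ∃ b ∈ U, a * b = x := fun x hx =>
    (mem_sup_of_norm (h₁.1.trans (sc_le_norm h₂))).1 (h2.ge hx)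
  have s := res_sat hS hF h₁.1 h₂ h1 d hR
  obtain ⟨C, hC⟩ := exists_C F h₂.1
  haveI : Finite (centralizerIn S U) := finite_cI
  haveI := finite_of_le h₁.1
  have hC' := isC_iff.1 hC
  have l : T ≤ centralizerIn S U := le_inf h₁.1 c
  have sub : C.IsSubsystemOf F := sub_iff_M.2 fun P f a => ((hC' P f).1 a).toM
  have sC := sat_C hS hF (sat_fn_fc hS hF (fn_of_normal h₂.1 (sc_le_norm h₂))) hC
  have s' := res_sat (E := R') (hS.to_le cI_le) sC l (sc_sub sub h₂)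
    (le_bot_iff.1 ((inf_le_inf_left _ inf_le_left).trans h1.le)) (fun x hx => by
      obtain ⟨a, ha, b, hb, rfl⟩ := d x hx.1
      exact ⟨a, ha, b, ⟨hb, (mul_mem_cancel_left (l ha)).1 hx⟩, rfl⟩)
    fun P a f => (hR' P a f).trans (hC' P f).symm
  have n := ppi_C_normal hS hF h₂ hC h₁ s' (ppi_iff.2 ⟨sub_iff_M.2 fun P f a =>
    (hC' P f).2 ((hR' P a.le f).1 a), hyp_le_foc.trans (foc_le_iff.2 fun P f a x hx => by
      obtain ⟨-, g, g0, g1, g2⟩ := NKM_bot_iff.1 ((hC' P f).1 a)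
      obtain ⟨y, hy, z, hz, rfl⟩ := d x (g0.le (mem_sup_left hx))
      have w := (mul_mem_cancel_right (mem_sup_right hz : z ∈ P ⊔ U)).1 (mem_sup_left hx)
      have v := sc_mem h₁ g0 w hy
      rw [← g1 _ hx, g0.mul w (mem_sup_right hz), g2 z hz, ← mem_cent_iff.1 (c hy) z hz,
        ← mem_cent_iff.1 (c v) z hz]
      simpa [mul_assoc] using mul_mem (inv_mem hy) v), fun P a α b => M.af_mem_aut
        ((hR' P a _).2 ((hC' _ _).1 ((mem_aut (a.trans l)).1 (piRes_le b))))⟩)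
  have sR : R.IsSubsystemOf F := sub_iff_M.2 fun P f a => (hR P a.le f).1 a
  refine ⟨s, s', n, normalIn_iff'.2 ⟨wn_sub hS n.1 s (sub_iff_M.2 fun P f a =>
    (hR P a.le f).2 ((hR' P a.le f).1 a).toM) sR, fun f a => ⟨f, ((hR _ le_rfl f).2
      (a.sub n.1.2.2.1)).mono (sup_le le_rfl cI_le), fun _ _ => rfl, fun x hx =>
      mul_mem (inv_mem hx.1) (a.mem hx.1)⟩⟩, s, hF, inv_of_si hS hF h₁ sR
    fun P Q f k g a b u v e => (hR _ (im_le_iff.2 fun x hx => sc_mem h₁ b (u hx) (a.le hx)) _).2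
      (si_of_inv (self_normal hS hF).1.2.2 P Q f k g (a.sub sR) b u v e)⟩

end CfsgH2
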