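import Cfsg.Agent.H2.Sa22

/-! Gluing local systems. -/

namespace CfsgH2
open Cfsg Subgroup CfsgL0 Function
open Cfsg.FusionSystem hiding inv_mem center

variable {Ω : Type*} [Group Ω] {S T U W X Y : Subgroup Ω} {F : FusionSystem S}
  {P Q R : Subgroup Ω} {f g : Ω → Ω} {p : ℕ}

variable [Finite S] [hp : Fact p.Prime] (hS : IsPGroup p S)
include hS

theorem dlemG {n : ℕ} (hs : ∀ Q ≤ S, n < Nat.card Q → SatC F p Q) (c : Nat.card P = n)
    (hnl : ∀ R, F.IsConj P R → NL F R P) {K : Subgroup (MulAut P)}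
    (main : ∀ Q, P < Q → Q ≤ N[P] → GP F p P Q → ∀ f, M F Q f → im Q f = Q → im P f = P → Kf K f) :
    ∀ Q ≤ S, P < Q → Q ≤ N[P] → ∀ f, M F Q f → im P f = P → Kf K f := by
  refine down_ind fun Q hQ ih l hn f hf e => ?_
  have b0 : im Q f ≤ normalizerIn S P := e ▸ hf.im_nI_le l.le le_rfl hn
  have sQ := hs Q hQ (c ▸ card_lt_of_lt' hQ l)
  obtain ⟨h, mh, e1, gp⟩ : ∃ h, M F Q h ∧ im P h = P ∧ GP F p P (im Q h) := by
    obtain ⟨h, mh, gp⟩ := gp_exists l.le sQ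
    obtain ⟨g, a0, e0⟩ := hnl _ (mh.mono l.le).isConj
    have u := mh.im_nI_le l.le le_rfl hn
    have := gp_move hS gp (u.trans nI_le_norm) (sQ.conj mh.isConj) a0
    rw [e0, mh.im_im] at this
    exact ⟨_, mh.comp a0 (im_le_iff.1 u), by rw [← (mh.mono l.le).im_im, e0], this⟩
  have u : im Q h ≤ normalizerIn S P := e1 ▸ mh.im_nI_le l.le le_rfl hn
  rcases (le_inf hQ hn : Q ≤ normalizerIn S P).eq_or_lt with a | a
  · exact main Q l hn (mh.im_eq_of_le le_rfl (im_le_iff.1 (u.trans a.ge)) ▸ gp) f hf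
      (hf.im_eq_of_le le_rfl (im_le_iff.1 (b0.trans a.ge))) e
  have b : im Q f < normalizerIn S P := lt_of_le_of_ne b0 fun e => by
    have := card_lt_of_lt' nI_le a
    rw [← e, hf.card_im] at this
    exact this.false
  have l1 : P < im Q h := e1 ▸ mh.im_lt_im l le_rfl
  have key : ∀ Q' : Subgroup Ω, Nat.card Q' = Nat.card Q → P < Q' → Q' < normalizerIn S P → ∀ k, M F Q' k →
      im P k = P → im Q' k = im Q h → ∃ g, M F Q' g ∧ Kf K g ∧ im Q' g = im Q h := by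
    intro Q' h1 h2 h3 k hk h4 h5
    obtain ⟨g, a, b, d⟩ := gp_nmap hS h2.le hk (h4.symm ▸ h5.symm ▸ gp)
    have t := inf_lt_of hS h3
    exact ⟨g, a.mono t.le, ih _ a.le (h1 ▸ card_lt_of_lt' a.le t) (h2.trans t) inf_le_right g a
      (b.trans h4), d.trans h5⟩
  obtain ⟨g1, a1, b1, c1⟩ := key Q rfl l a h mh e1 rfl
  obtain ⟨k, hk, k1, k2, k3⟩ := hf.exists_inv
  have l' : P < im Q f := e ▸ hf.im_lt_im l le_rfl
  have k4 : im P k = P := by
    conv_lhs => rw [← e]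
    rw [(hf.mono l.le).im_im, im_of_eq fun x hx => k1 x (l.le hx)]
  obtain ⟨g2, a2, b2, c2⟩ := key _ hf.card_im l' b _ (hk.comp mh fun y hy => (k2 y hy).1)
    (by rw [← (hk.mono l'.le).im_im, k4, e1]) (by rw [← hk.im_im, k3])
  generalize im Q h = Q1 at u l1 c1 c2 gp
  obtain ⟨m, m0, m1, m2, m3⟩ := a1.exists_inv' c1
  obtain ⟨m', -, m1', -, -⟩ := a2.exists_inv' c2
  have t := (m0.comp hf fun y hy => (m2 y hy).1).comp a2 fun y hy => mem_im_of f (m2 y hy).1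
  have b3 := b1.inv fun x hx => m1 x (l.le hx)
  have v3 := main Q1 l1 (u.trans nI_le_norm) gp _ t (by
    rw [← m0.im_im (fun x => g2 (f x)), m3, ← hf.im_im, c2]) (by
    rw [← (m0.mono l1.le).im_im (fun x => g2 (f x)), b3.im_eq, ← (hf.mono l.le).im_im, e, b2.im_eq])
  refine ((b1.comp v3).comp (b2.inv fun x hx => m1' x (l'.le hx))).congr fun x hx => ?_
  rw [m1 x (l.le hx), m1' _ (mem_im_of f (l.le hx))]

theorem gen_ind4 {Gn : Subgroup Ω → (Ω → Ω) → Prop} (hG : ∀ P f, Gn P f → M F P f)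
    (hD : ∀ D : FusionSystem S, (∀ P f, Gn P f → M D P f) → F ≤ D) (X : Subgroup Ω → Prop) (hXc : ∀ P f, M F P f → X P → X (im P f))
    (Y : Subgroup Ω → (Ω → Ω) → Prop)
    (hcongr : ∀ P f g, Y P f → (∀ x ∈ P, g x = f x) → Y P g)
    (hcomp : ∀ P f g, X P → M F P f → M F (im P f) g → Y P f → Y (im P f) g →
      Y P fun x => g (f x))
    (hinv : ∀ P f g, X P → M F P f → Y P f → (∀ x ∈ P, g (f x) = x) → Y (im P f) g)
    (hbase : ∀ P Q f, X P → P < Q → Q ≤ N[P] → M F Q f → Y P f)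
    (hgen : ∀ P f, X P → Gn P f → Y P f)
    (htop : X S → ∀ s ∈ S, Y S fun x => s * x * s⁻¹) : ∀ P f, X P → M F P f → Y P f := by
  have hb : ∀ Q f, M F Q f → ∀ P ≤ Q, P ≠ Q → X P → Y P f := fun Q f hf P l ne x =>
    hbase P _ f x (lt_nI hS hf.le (lt_of_le_of_ne l ne)) inf_le_right
      (hf.mono inf_le_left)
  obtain ⟨D, hD'⟩ := exists_subFS F S (fun P f => M F P f ∧ ∀ R ≤ P, X R → Y R f)
    (fun _ _ h => h.1) (fun _ _ h => ⟨h.1.le, fun _ => h.1.mem⟩)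
    (fun P f g h e => ⟨h.1.congr e, fun R l x => hcongr _ _ _ (h.2 R l x) fun y hy => e y (l hy)⟩)
    (fun P l g hg => ⟨M_conj l hg, fun R l' x => by
      by_cases e : R = S
      · subst e; exact htop x g hg
      · exact hb S _ (M_conj le_rfl hg) R (l'.trans l) e x⟩)
    (fun P Q f g a b m => ⟨a.1.comp b.1 m, fun R l x => by
      have l' : im R f ≤ Q := im_le_iff.2 fun y hy => m y (l hy)
      exact hcomp _ _ _ x (a.1.mono l) (b.1.mono l') (a.2 R l x)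
        (b.2 _ l' (hXc _ _ (a.1.mono l) x))⟩)
    (fun P f a => by
      obtain ⟨g, b, c, d, e⟩ := a.1.exists_inv
      refine ⟨g, ⟨b, fun R l x => ?_⟩, c⟩
      have l' : im R g ≤ P := e ▸ im_mono g l
      have x' := hXc _ _ (b.mono l) x
      have := hinv _ _ g x' (a.1.mono l') (a.2 _ l' x') fun y hy => c y (l' hy)
      rwa [(b.mono l).im_im, im_of_eq fun y hy => (d y (l hy)).2] at this)
  refine fun P f x hf => ((hD' _ _).1 (le_iff_M.1 (hD D fun Q g a =>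
    (hD' _ _).2 ⟨hG Q g a, fun R l x => ?_⟩) P f hf)).2 P le_rfl x
  by_cases e : R = Q
  · subst e; exact hgen _ _ x a
  · exact hb Q _ (hG Q g a) R l e x

theorem glue {Gn : Subgroup Ω → (Ω → Ω) → Prop}
    (hG : ∀ P f, Gn P f → M F P f ∧ (∀ x ∈ P, f x ∈ P) ∧ PPo p P f)
    (hD : ∀ D : FusionSystem S, (∀ P f, Gn P f → M D P f) → F ≤ D) {n : ℕ}
    (hs : ∀ Q ≤ S, n < Nat.card Q → SatC F p Q) (fn : F.IsFullyNormalized P) (c : Nat.card P = n)
    (loc : (∀ R, F.IsConj P R → NL F R P) → ∃ D : FusionSystem (normalizerIn S P), D.IsSaturated p ∧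
      D.IsNormal P ∧ D.IsSubsystemOf F ∧
      ∀ f, M F P f → (∀ x ∈ P, f x ∈ P) → PPo p P f → M D P f) :
    F.IsFullyAutomized p P ∧ F.IsReceptive P := by
  haveI := finite_of_le fn.1
  haveI : Finite (normalizerIn S P) := finite_nI
  have hN := hS.to_le (nI_le : normalizerIn S P ≤ S)
  have hXc : ∀ R f, M F R f → F.IsConj P R → F.IsConj P (im R f) := fun R f a b =>
    fconj_trans b a.isConj
  have hnl : ∀ R, F.IsConj P R → NL F R P := fun R a => by
    obtain ⟨f, hf, rfl⟩ := isConj_iff'.1 a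
    refine (gen_ind4 hS (fun P f a => (hG P f a).1) hD _ hXc (fun R f => NL F R P ↔ NL F (im R f) P) ?_ ?_ ?_ ?_ ?_ ?_ P f
      (fconj_refl fn.1) hf).1 .refl
    · intro R f g a e; rwa [im_congr e]
    · intro R f g _ a _ b c; rw [← a.im_im]; exact b.trans c
    · intro R f g _ a b e; rw [a.im_im, im_of_eq e]; exact b.symm
    · intro R Q f a b d hf
      have c' := (fconj_card a).trans c
      refine ⟨nl_step hS hs fn c' b d hf, fun h => ?_⟩
      obtain ⟨k, hk, k1, -, -⟩ := hf.exists_inv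
      have := nl_step hS hs fn ((hf.card_im' b.le).trans c') (hf.im_lt_im b le_rfl)
        ((hf.im_nI_le b.le le_rfl d).trans nI_le_norm) hk h
      rwa [(hf.mono b.le).im_im, im_of_eq fun x hx => k1 x (b.le hx)] at this
    · intro R f _ a; rw [(hG R f a).1.im_eq_of_le le_rfl (hG R f a).2.1]
    · intro _ s a; rw [(M_conj (F := F) le_rfl a).im_top]
  obtain ⟨D, d0, d1, d2, d3⟩ := loc hnl
  have gD : ∀ f, M F P f → (∀ x ∈ P, f x ∈ P) → PPo p P f → Kf (D.autGroup P) f := fun f a b o =>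
    (d3 f a b o).exists_aut (a.im_eq_of_le le_rfl b)
  have d4 : ∀ s ∈ S, s ∈ N[P] → Kf (D.autGroup P) fun x => s * x * s⁻¹ := fun s a b =>
    (Kf_cA b).2 (autInd_le_aut d1.1 le_rfl (cA_mem _ ⟨a, b⟩))
  have dl := dlemG hS hs c hnl (K := D.autGroup P) fun Q l n' ⟨r, l', s0⟩ f hf e e' => by
    obtain ⟨γ, a, b⟩ := hf.exists_aut e
    haveI := finite_of_le hf.le
    obtain ⟨σ, hσ, κ, hκ, rfl⟩ := (mem_sup_of_norm (s0.le.trans (le_norm_piRes (π := {p})))).1
      (show γ ∈ _ from by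
        rw [sup_comm, s0.piRes_sup]; exact ⟨a, (im_congr fun x hx => b x (l' hx)).trans e'⟩)
    have k1 : Kf (D.autGroup P) (af κ) := by
      clear a b
      induction hκ using closure_induction with
      | mem β v =>
        exact gD _ (((mem_aut r.1).1 v.1.1).mono l') (fun _ => stabA_mem v.1.2)
          ((ppo_af ((piN_compl_singleton' hp.out).1 v.2)).mono l')
      | one => exact Kf.id.congr fun x hx => af_one (l' hx)
      | mul x y _ _ v w => exact (w.comp v).congr fun z hz => af_mul _ _ (l' hz)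
      | inv x _ v => exact v.inv fun z hz => af_inv_af _ (l' hz)
    obtain ⟨s, s1, s2, s3⟩ := mem_autInd.1 hσ.1
    obtain rfl : σ = cA s2 := af_ext fun y hy => by rw [s3 y hy, af_cA _ hy]
    exact (k1.comp (d4 s s1 ((cA_stab l' _).1 hσ.2))).congr fun x hx => by
      rw [← b x (l' hx), af_mul _ _ (l' hx), af_cA _ (af_mem _ (l' hx))]
  have hA : ∀ f, M F P f → im P f = P → Kf (D.autGroup P) f := fun f hf e => by
    rcases fn.1.eq_or_lt with rfl | hlt
    · exact gen_ind4 hS (fun P f a => (hG P f a).1) hD (· = P) (fun _ _ b c => by subst c; exact b.im_top)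
        (fun R f => R = P → Kf (D.autGroup P) f) (fun _ _ _ b c e => (b e).congr (e ▸ c))
        (fun _ _ _ _ b _ c d e => by subst e; exact (c rfl).comp (d b.im_top))
        (fun _ _ _ e _ b c _ => (b e).inv (e ▸ c))
        (fun _ _ _ e b _ c => absurd c.le (e ▸ b).2) (fun _ _ e a _ => by
          subst e; exact gD _ (hG _ _ a).1 (hG _ _ a).2.1 (hG _ _ a).2.2)
        (fun _ s b _ => d4 s b (le_normalizer b)) P f rfl hf rfl
    let Y : Subgroup Ω → (Ω → Ω) → Prop := fun R f => ∀ g1 g2, M F (normalizerIn S R) g1 →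
      im R g1 = P → M F (normalizerIn S (im R f)) g2 → im (im R f) g2 = P →
      ∃ α ∈ D.autGroup P, ∀ x ∈ R, af α (g1 x) = g2 (f x)
    have hbase : ∀ R Q f, F.IsConj P R → R < Q → Q ≤ N[R] → M F Q f → Y R f := by
      intro R Q f a b d hf g1 g2 b1 b2 b3 b4
      have l : Q ≤ normalizerIn S R := le_inf hf.le d
      obtain ⟨m, m0, m1, m2, -⟩ := (b1.mono l).exists_inv
      have t := (m0.comp hf fun y hy => (m2 y hy).1).comp b3 fun y hy =>
        hf.im_nI_le b.le le_rfl d (mem_im_of f (m2 y hy).1)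
      obtain ⟨α, u, v⟩ := dl _ t.le (b2 ▸ b1.im_lt_im b l)
        (b2 ▸ (b1.im_nI_le (b.le.trans l) l d).trans nI_le_norm) _ t (by
          conv_lhs => rw [← b2]
          rw [(b1.mono (b.le.trans l)).im_im,
            im_congr fun x hx => congrArg (fun y => g2 (f y)) (m1 x (b.le hx)),
            ← (hf.mono b.le).im_im, b4])
      exact ⟨α, u, fun x hx => by
        rw [v _ (b2 ▸ mem_im_of g1 hx)]; beta_reduce; rw [m1 x (b.le hx)]⟩
    refine gen_ind4 hS (fun P f a => (hG P f a).1) hD _ hXc Y ?_ ?_ ?_ hbase ?_ ?_ P f (fconj_refl fn.1) hf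
      _ _ (M_id nI_le) (im_id P) (M_id nI_le) ((im_id _).trans e)
    · intro R f g a e g1 g2 b1 b2 b3 b4
      rw [im_congr e] at b3 b4
      obtain ⟨α, u, v⟩ := a g1 g2 b1 b2 b3 b4
      exact ⟨α, u, fun x hx => by rw [v x hx, e x hx]⟩
    · intro R f g x a _ b d g1 g2 b1 b2 b3 b4
      obtain ⟨g3, b5, b6⟩ := hnl _ (hXc _ _ a x)
      rw [← a.im_im] at b3 b4
      obtain ⟨α, u, v⟩ := b g1 g3 b1 b2 b5 b6
      obtain ⟨β, u', v'⟩ := d g3 g2 b5 b6 b3 b4
      exact ⟨β * α, mul_mem u' u, fun x hx => by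
        rw [af_mul _ _ (b2 ▸ mem_im_of g1 hx), v x hx, v' _ (mem_im_of f hx)]⟩
    · intro R f g _ a b e g1 g2 b1 b2 b3 b4
      rw [a.im_im, im_of_eq e] at b3 b4
      obtain ⟨α, u, v⟩ := b g2 g1 b3 b4 b1 b2
      refine ⟨α⁻¹, inv_mem u, fun y hy => ?_⟩
      obtain ⟨x, hx, rfl⟩ := a.mem_im.1 hy
      rw [← v x hx, e x hx, af_inv_af _ (b4 ▸ mem_im_of g2 hx)]
    · intro R f x a k k' d1 d2 d3 d4
      obtain ⟨a, m, o⟩ := hG R f a
      rw [a.im_eq_of_le le_rfl m] at d3 d4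
      have l : R < S := lt_of_le_of_ne a.le fun e => (card_lt_of_lt' le_rfl hlt).ne'
        (e ▸ fconj_card x)
      obtain ⟨α, a1, a2⟩ := hbase R _ _ x (lt_nI hS le_rfl l) inf_le_right (M_id inf_le_left) k k'
        d1 d2 (by rwa [im_id]) (by rwa [im_id])
      have k0 := d1.mono (le_nI a.le)
      obtain ⟨j, j0, j1, j2, -⟩ := k0.exists_inv
      have e : ∀ x ∈ R, (fun y => k (f (j y))) (k x) = k (f x) := fun x hx => by
        beta_reduce; rw [j1 x hx]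
      have o' := o.tr (f' := fun y => k (f (j y))) k0.homOn m e
      have t := (j0.comp a fun y hy => (j2 y hy).1).comp k0 fun y hy => m _ (j2 y hy).1
      have m' : ∀ y ∈ im R k, k (f (j y)) ∈ im R k := fun y hy => mem_im_of _ (m _ (j2 y hy).1)
      rw [d2] at o' t m'
      obtain ⟨β, b1, b2⟩ := gD _ t m' o'
      refine ⟨α * β, mul_mem a1 b1, fun y hy => ?_⟩
      rw [af_mul _ _ (d2 ▸ mem_im_of _ hy), b2 _ (d2 ▸ mem_im_of _ hy), e y hy, a2 _ (m _ hy)]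
    · exact fun x => absurd (fconj_card x) (card_lt_of_lt' le_rfl hlt).ne'
  have ea : F.autGroup P = D.autGroup P := le_antisymm (fun α a => by
    obtain ⟨β, b1, b2⟩ := hA _ ((mem_aut fn.1).1 a) (im_af α)
    exact af_ext b2 ▸ b1) (aut_mono d2)
  have fD := fn_of_normal (F := D) d1.1 nI_le_norm
  refine ⟨fa_iff.2 ⟨fn.1, by rw [ea, ← autInd_inf]; exact sat_syl (F := D) hN d0 fD⟩,
    rec_iff.2 ⟨fn.1, fun R f hf e => ?_⟩⟩
  obtain ⟨g1, a1, e1⟩ := hnl R (fconj_symm (e ▸ hf.isConj))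
  have lR := le_nI hf.le
  obtain ⟨m, m0, m1, m2, m3⟩ := (a1.mono lR).exists_inv' e1
  obtain ⟨α, v, v'⟩ := hA _ (m0.comp hf fun y hy => (m2 y hy).1) (by rw [← m0.im_im, m3, e])
  obtain ⟨g, g0, g2⟩ := sat_ext hN d0 ((mem_aut d1.1).1 v) ((im_af α).symm ▸ sat_fn_fc hN d0 fD)
  have w : ∀ x ∈ R, af α (g1 x) = f x := fun x hx => by
    rw [v' _ (e1 ▸ mem_im_of g1 hx)]; beta_reduce; rw [m1 x hx]
  refine ⟨_, (a1.mono Ext_le_nI).comp (g0.sub d2) ?_, fun x hx => by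
    rw [g2 _ (e1 ▸ mem_im_of g1 hx), w x hx]⟩
  rintro x ⟨i1, i2, k, i3, i4⟩
  have i5 : g1 x ∈ N[P] := e1 ▸ a1.mem_norm lR ⟨i1, i2⟩ i2
  refine mem_Ext.2 ⟨⟨a1.mem ⟨i1, i2⟩, i5⟩, i5, k, ⟨i3, e ▸ mem_norm_of_ext hf.homOn i2 i4⟩,
    fun z hz => ?_⟩
  obtain ⟨y, hy, rfl⟩ := (a1.mem_im' lR).1 (e1 ▸ hz)
  rw [← a1.conj ⟨i1, i2⟩ (lR hy), w _ (conj_mem_of_norm i2 hy), w y hy, i4 y hy]

end CfsgH2
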