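import Cfsg.Agent.H2.Sa23

/-! The product of a normal subsystem with the Sylow subgroup: definitions. -/

namespace CfsgH2
open Cfsg Subgroup CfsgL0 Function
open Cfsg.FusionSystem hiding inv_mem center

variable {Ω : Type*} [Group Ω] {S T U V W X Y : Subgroup Ω} {F D : FusionSystem S}
  {P Q R : Subgroup Ω} {f g k : Ω → Ω} {p : ℕ} {E : FusionSystem T} {s s' : Ω}

/-- degree of a map -/
def DG (E : FusionSystem T) (s : Ω) (P : Subgroup Ω) (f : Ω → Ω) : Prop :=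
  (∀ x ∈ P, (s * x * s⁻¹)⁻¹ * f x ∈ T) ∧ M E (P ⊓ T) fun x => s⁻¹ * f x * s

theorem DG.congr (a : DG E s P f) (e : ∀ x ∈ P, g x = f x) : DG E s P g :=
  ⟨fun x hx => e x hx ▸ a.1 x hx, a.2.congr fun x hx => by rw [e x hx.1]⟩

theorem DG.conj : DG E s P fun x => s * x * s⁻¹ :=
  ⟨fun _ _ => by rw [inv_mul_cancel]; exact one_mem _, (M_id inf_le_right).congr fun x _ => by group⟩

theorem DG.comp (hi : E.IsInvariantIn F) (hs : s ∈ S) (hs' : s' ∈ S) (hf : M F P f)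
    (a : DG E s P f) (b : DG E s' Q g) (m : ∀ x ∈ P, f x ∈ Q) :
    DG E (s' * s) P fun x => g (f x) := by
  refine ⟨fun x hx => ?_, (a.2.comp (si_of_inv hi _ S _ _
    (fun y => s⁻¹ * (s'⁻¹ * g (s * y * s⁻¹) * s') * s) b.2 (M_conj le_rfl (inv_mem hs))
    (inf_le_right.trans hi.2.1.1) (fun _ c => hi.2.1.1 (b.2.mem c)) fun x _ => by group)
    fun x hx => ?_).congr fun x _ => by group⟩
  · have := mul_mem (conj_mem_of_norm (sc_le_norm hi.2.1 hs') (a.1 x hx)) (b.1 _ (m x hx))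
    convert this using 1; group
  · simpa using mem_im_of (fun y => s⁻¹ * y * s⁻¹⁻¹)
      (⟨m x hx.1, sc_mem hi.2.1 hf hx.1 hx.2⟩ : f x ∈ Q ⊓ T)

theorem DG.inv [Finite S] (hi : E.IsInvariantIn F) (hs : s ∈ S) (hf : M F P f) (a : DG E s P f)
    (e : ∀ x ∈ P, g (f x) = x) : DG E s⁻¹ (im P f) g := by
  refine ⟨fun y hy => ?_, ?_⟩
  · obtain ⟨x, hx, rfl⟩ := hf.mem_im.1 hy
    have := conj_mem_of_norm' (sc_le_norm hi.2.1 hs) (inv_mem (a.1 x hx))
    rw [e x hx]; convert this using 1; group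
  have u := a.2.of_leftInv (g := fun y => g (s * y * s⁻¹)) fun x hx => by
    rw [← e x hx.1]; congr 1; rw [e x hx.1]; group
  have := si_of_inv hi _ S _ _ (fun y => s⁻¹⁻¹ * g y * s⁻¹) u (M_conj le_rfl hs)
    (u.le.trans hi.2.1.1) (fun _ c => hi.2.1.1 (u.mem c)) fun x _ => by group
  rwa [a.2.im_im, im_congr (g := f) fun x _ => by group, hf.im_inf_sc hi.2.1] at this

theorem mm_tr [Finite S] (hi : E.IsInvariantIn F) (h : GG F E E T P f) (hk : M F P k)
    (e : ∀ x ∈ P, g (k x) = k (f x)) : GG F E E T (im P k) g := by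
  obtain ⟨j, j0, j1, j2, -⟩ := hk.exists_inv
  refine ⟨((j0.comp h.m fun y a => (j2 y a).1).comp hk fun y a => h.mem _ (j2 y a).1).congr
    fun y u => ?_, fun y u => ?_, fun y u => ?_, rm_tr hi hk h.r₁ h.mem e,
    rm_tr hi hk h.r₁ h.mem e⟩ <;> obtain ⟨x, w, rfl⟩ := hk.mem_im.1 u
  · rw [e x w, j1 x w]
  · rw [e x w]; exact mem_im_of _ (h.mem x w)
  · rw [e x w, ← hk.inv w, ← hk.mul (inv_mem w) (h.mem x w)]
    exact sc_mem hi.2.1 hk (mul_mem (inv_mem w) (h.mem x w)) (h.t x w)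

/-- generators of the product -/
def Gn (F : FusionSystem S) (E : FusionSystem T) (p : ℕ) (P : Subgroup Ω) (f : Ω → Ω) : Prop :=
  E.IsCentric (P ⊓ T) ∧ GG F E E T P f ∧ PPo p P f

/-- the product system -/
structure PrS (F : FusionSystem S) (E : FusionSystem T) (p : ℕ) (D : FusionSystem S) : Prop where
  nor : E.IsNormalIn F p
  hD : ∀ P f, M D P f ↔ M F P f ∧
    ∀ B : FusionSystem S, (∀ P f, Gn F E p P f → M B P f) → M B P f

theorem exists_PS (h : E.IsNormalIn F p) : ∃ D, PrS F E p D :=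
  let ⟨D, a⟩ := exists_infFS F _; ⟨D, h, a⟩

/-- automorphisms all of whose conjugates lie in `D` -/
def KD (F : FusionSystem S) {R : Subgroup Ω} (D : FusionSystem R) (P : Subgroup Ω) :
    Subgroup (MulAut P) where
  carrier := {α | α ∈ F.autGroup P ∧ ∀ k g, M F P k → im P k ≤ R →
    (∀ x ∈ P, g (k x) = k (af α x)) → M D (im P k) g}
  mul_mem' := fun {α β} a b => ⟨mul_mem a.1 b.1, fun k g c l d => by
    obtain ⟨j, -, j1, j2, -⟩ := c.exists_inv
    refine ((b.2 k (fun y => k (af β (j y))) c l fun x e => by rw [j1 x e]).comp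
      (a.2 k (fun y => k (af α (j y))) c l fun x e => by rw [j1 x e])
      fun y e => mem_im_of _ (af_mem _ (j2 y e).1)).congr fun y e => ?_
    obtain ⟨x, e', rfl⟩ := c.mem_im.1 e
    rw [j1 x e', j1 _ (af_mem _ e'), d x e', af_mul _ _ e']⟩
  one_mem' := ⟨one_mem _, fun k g c l d => (M_id l).congr fun y e => by
    obtain ⟨x, e', rfl⟩ := c.mem_im.1 e
    rw [d x e', af_one e']⟩
  inv_mem' := fun {α} a => ⟨inv_mem a.1, fun k g c l d => by
    obtain ⟨j, -, j1, j2, -⟩ := c.exists_inv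
    have := (a.2 k (fun y => k (af α (j y))) c l fun x e => by rw [j1 x e]).of_leftInv (g := g)
      fun y e => by rw [d _ (af_mem _ (j2 y e).1), af_inv_af _ (j2 y e).1, (j2 y e).2]
    rwa [c.im_im, im_congr (g := fun x => k (af α x)) fun x e => by rw [j1 x e],
      ← (homOn_af α).im_im, im_af] at this⟩

section
variable {D : FusionSystem R} [Finite S]

theorem kd_iff (l : P ≤ S) : Kf (KD F D P) f ↔ M F P f ∧ (∀ x ∈ P, f x ∈ P) ∧
    ∀ k g, M F P k → im P k ≤ R → (∀ x ∈ P, g (k x) = k (f x)) → M D (im P k) g :=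
  ⟨fun a => let ⟨_, b, c⟩ := a; ⟨((mem_aut l).1 b.1).congr fun x d => (c x d).symm,
    fun _ => a.mem, fun k g d l e => b.2 k g d l fun x u => by rw [e x u, c x u]⟩, fun ⟨a, b, c⟩ =>
    let ⟨α, d, e⟩ := a.exists_aut (a.im_eq_of_le le_rfl b)
    ⟨α, ⟨d, fun k g u l v => c k g u l fun x w => by rw [v x w, e x w]⟩, e⟩⟩

theorem kd_M (l : P ≤ S) (l' : P ≤ R) (h : Kf (KD F D P) f) : M D P f := by
  have := ((kd_iff l).1 h).2.2 _ f (M_id l) (by rwa [im_id]) fun _ _ => rfl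
  rwa [im_id] at this

theorem kd_tr (hk : M F P k) (e : im P k = Q) (h : Kf (KD F D P) f)
    (e' : ∀ x ∈ P, g (k x) = k (f x)) : Kf (KD F D Q) g := by
  subst e
  obtain ⟨a, b, c⟩ := (kd_iff hk.le).1 h
  obtain ⟨j, j0, j1, j2, -⟩ := hk.exists_inv
  refine (kd_iff hk.im_le).2 ⟨((j0.comp a fun y a => (j2 y a).1).comp hk
    fun y a => b _ (j2 y a).1).congr fun y u => ?_, fun y u => ?_, fun k' g' u l v => ?_⟩
  · obtain ⟨x, w, rfl⟩ := hk.mem_im.1 u; rw [e' x w, j1 x w]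
  · obtain ⟨x, w, rfl⟩ := hk.mem_im.1 u; rw [e' x w]; exact mem_im_of _ (b x w)
  · rw [hk.im_im] at l ⊢
    exact c _ g' (hk.comp_im u) l fun x w => by rw [v _ (mem_im_of _ w), e' x w]

theorem kd_norm (hP : P ≤ S) : F.autGroup P ≤ N[KD F D P] := fun χ a =>
  haveI := finite_of_le hP
  mem_norm_of_conj fun β b => by
    obtain ⟨γ, c, d⟩ := kd_tr (g := af (χ * β * χ⁻¹)) ((mem_aut hP).1 a) (im_af χ) (Kf.af b)
      fun x => af_conj _ _
    rwa [← af_ext d]
end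

theorem kv_norm [Finite S] [Finite T] (hi : E.IsInvariantIn F) (hP : P ≤ S) :
    F.autGroup P ≤ N[KV F E E T P] := fun χ a =>
  haveI := finite_of_le hP
  mem_norm_of_conj fun β b _ => by
    have := mm_tr (g := af (χ * β * χ⁻¹)) hi (b hP) ((mem_aut hP).1 a) fun x => af_conj _ _
    rwa [im_af] at this

theorem mm_conj (hT : F.StronglyClosed T) (hP : P ≤ S) {t : Ω} (a : t ∈ T) (n : t ∈ N[P]) :
    GG F E E T P fun x => t * x * t⁻¹ :=
  ⟨M_conj hP (hT.1 a), fun _ => conj_mem_of_norm n, fun x b => by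
    simpa [mul_assoc] using mul_mem (conj_mem_of_norm' (sc_le_norm hT (hP b)) a) (inv_mem a),
    M_conj inf_le_right a, M_conj inf_le_right a⟩

namespace PrS
variable (h : PrS F E p D)
include h

theorem inv : E.IsInvariantIn F := h.nor.1.2.2
theorem sc : F.StronglyClosed T := h.inv.2.1
theorem sub : D.IsSubsystemOf F := sub_iff_M.2 fun P f a => ((h.hD P f).1 a).1
theorem gen (a : Gn F E p P f) : M D P f := (h.hD P f).2 ⟨a.2.1.m, fun _ b => b P f a⟩
theorem min (B : FusionSystem S) (a : ∀ P f, Gn F E p P f → M B P f) : D ≤ B :=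
  le_iff_M.2 fun P f b => ((h.hD P f).1 b).2 B a
theorem scD : D.StronglyClosed T := sc_iff.2 ⟨h.sc.1, fun _ _ a _ => sc_mem h.sc (a.sub h.sub)⟩

variable [Finite S]

theorem deg (a : M D P f) : ∃ s ∈ S, DG E s P f := by
  obtain ⟨B, hB⟩ := exists_subFS F S (fun P f => M F P f ∧ ∃ s ∈ S, DG E s P f) (fun _ _ a => a.1)
    (fun _ _ a => ⟨a.1.le, fun _ => a.1.mem⟩)
    (fun _ _ _ ⟨a, s, b, c⟩ e => ⟨a.congr e, s, b, c.congr e⟩)
    (fun _ l s b => ⟨M_conj l b, s, b, DG.conj⟩)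
    (fun _ _ _ _ ⟨a, s, b, c⟩ ⟨a', s', b', c'⟩ m =>
      ⟨a.comp a' m, _, mul_mem b' b, c.comp h.inv b b' a c' m⟩)
    fun _ _ ⟨a, s, b, c⟩ => let ⟨g, u, v, _⟩ := a.exists_inv
      ⟨g, ⟨u, _, inv_mem b, c.inv h.inv b a v⟩, v⟩
  exact ((hB P f).1 (le_iff_M.1 (h.min B fun P f a => (hB P f).2 ⟨a.2.1.m, 1, one_mem _,
    by simpa using a.2.1.t, by simpa using a.2.1.r₁⟩) P f a)).2

variable [hp : Fact p.Prime] (hS : IsPGroup p S)
include hS

theorem pp (a : M D P f) (m : ∀ x ∈ P, f x ∈ P) (o : PPo p P f) : GG F E E T P f := by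
  haveI := finite_of_le h.sc.1
  obtain ⟨s, b, c⟩ := h.deg a
  have a' := a.sub h.sub
  have key : ∀ n, DG E (s ^ n) P f^[n] := fun n => by
    induction n with
    | zero => rw [pow_zero]; exact DG.conj.congr fun x _ => by simp
    | succ n ih =>
      rw [pow_succ']
      exact (ih.comp h.inv (pow_mem b n) b (M.iter a' m n) c (iter_mem m n)).congr
        fun x _ => iterate_succ_apply' _ _ _
  obtain ⟨i, hi⟩ := pgroup_pow_eq_one hS b
  have k1 := key (p ^ i)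
  rw [hi] at k1
  obtain ⟨α, -, e⟩ := a.exists_aut (a.im_eq_of_le le_rfl m)
  have e' := iter_congr m e (p ^ i)
  refine (kv_iff a.le).1 ⟨α, mem_of_pow_pow (a := p ^ i) (fun _ => GG.congr
    ⟨M.iter a' m _, iter_mem m _, by simpa using k1.1, by simpa using k1.2, by simpa using k1.2⟩
    fun x hx => (af_iter α _ x hx).symm.trans (e' x hx)) (pow_orderOf_eq_one α ▸ one_mem _)
    ((o.congr m e).cop.symm.pow_left i), e⟩

theorem hyp : D.hyperfocalSubgroup p ≤ T := hyp_le_iff'.2 fun _ l _ a o =>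
  (h.pp hS ((mem_aut l).1 a) (fun _ => af_mem _) (ppo_af o)).t

theorem subE : E.IsSubsystemOf D :=
  haveI := finite_of_le h.sc.1
  sub_iff_M.2 (alperin_pp (hS.to_le h.sc.1) h.nor.1.1 _ (cl_M (F := E) D).congr
    (fun _ l _ hg => M_conj (l.trans h.sc.1) (h.sc.1 hg)) (cl_M D).comp (cl_M D).inv
    fun P _ c _ f hf m o => h.gen ⟨by rwa [inf_eq_left.2 c.1], ⟨hf.sub h.inv.1, m, fun x a =>
      mul_mem (inv_mem (c.1 a)) (hf.mem a), hf.mono inf_le_left, hf.mono inf_le_left⟩, o⟩)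

theorem ppi : E.HasPPowerIndexIn D p := ppi_iff.2 ⟨h.subE hS, h.hyp hS, fun P l =>
  haveI := finite_of_le (l.trans h.sc.1)
  (closure_le _).2 fun α a => M.af_mem_aut ((h.pp hS ((mem_aut (l.trans h.sc.1)).1 a.1)
    (fun _ => af_mem _) (ppo_af ((piN_compl_singleton' hp.out).1 a.2))).r₁.mono (le_inf le_rfl l))⟩

end PrS

end CfsgH2
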