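import Cfsg.Agent.H2.Sa24

/-! The product system: full normalizers in the normal part. -/

namespace CfsgH2
open Cfsg Subgroup CfsgL0 Function
open Cfsg.FusionSystem hiding inv_mem center

variable {Ω : Type*} [Group Ω] {S T U V W X Y : Subgroup Ω} {F D : FusionSystem S}
  {P Q R : Subgroup Ω} {f g k : Ω → Ω} {p : ℕ} {E : FusionSystem T} {s s' : Ω}

/-- the normalizer in `T` is as large as possible -/
def TF (F : FusionSystem S) (T P : Subgroup Ω) : Prop :=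
  ∀ k, M F P k → Nat.card (normalizerIn T (im P k)) ≤ Nat.card (normalizerIn T P)

/-- centralizing part of the normalizer -/
abbrev YY (T P : Subgroup Ω) : Subgroup Ω := centralizerIn T (P ⊓ T) ⊓ N[P]

theorem yy_norm (hT : F.StronglyClosed T) (a : s ∈ S) (n : s ∈ N[P]) : s ∈ N[P ⊔ YY T P] :=
  mem_norm_sup n (mem_norm_inf (mem_norm_inf (sc_le_norm hT a) (norm_le_norm_cent _
    (mem_norm_inf n (sc_le_norm hT a)))) (le_normalizer n))

theorem yy_le (hT : F.StronglyClosed T) (hP : P ≤ S) : P ⊔ YY T P ≤ normalizerIn S P :=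
  sup_le (le_nI hP) (inf_le_inf_right _ (cI_le.trans hT.1))

variable [Finite S] (hT : F.StronglyClosed T)
include hT

theorem yy_mem (a : M F R k) (l : P ≤ R) {y : Ω} (b : y ∈ R) (c : y ∈ YY T P) :
    k y ∈ YY T (im P k) :=
  ⟨⟨sc_mem hT a b c.1.1, (a.mono l).im_inf_sc hT ▸ a.mem_cent (inf_le_left.trans l) b c.1.2⟩,
    a.mem_norm l b c.2⟩

omit [Finite S] in
theorem nT_le (a : M F R k) (l : P ≤ R) (l' : Y ≤ R) (l2 : Y ≤ normalizerIn T P) :
    im Y k ≤ normalizerIn T (im P k) := im_le_iff.2 fun _ b =>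
  ⟨sc_mem hT a (l' b) (l2 b).1, a.mem_norm l (l' b) (l2 b).2⟩

theorem nT_card (a : M F R k) (l : P ≤ R) (l' : Y ≤ R) (l2 : Y ≤ normalizerIn T P) :
    Nat.card Y ≤ Nat.card (normalizerIn T (im P k)) :=
  a.card_im' l' ▸ card_le_of_le' (nI_le.trans hT.1) (nT_le hT a l l' l2)

theorem TF.im_eq (h : TF F T P) (a : M F R k) (l : P ≤ R) (l' : normalizerIn T P ≤ R) :
    im (normalizerIn T P) k = normalizerIn T (im P k) :=
  eq_of_le_card (nI_le.trans hT.1) (nT_le hT a l l' le_rfl) (a.card_im' l' ▸ h k (a.mono l))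

theorem TF.of_card (h : TF F T (im P k)) (a : M F P k)
    (c : Nat.card (normalizerIn T (im P k)) ≤ Nat.card (normalizerIn T P)) : TF F T P := fun g b => by
  obtain ⟨j, j0, j1, j2, -⟩ := a.exists_inv
  have := h _ (j0.comp b fun y u => (j2 y u).1)
  rw [a.im_im, im_congr (g := g) fun x u => by rw [j1 x u]] at this
  exact this.trans c

theorem TF.im (h : TF F T P) (a : M F R k) (l : P ≤ R) (l' : normalizerIn T P ≤ R) :
    TF F T (im P k) := fun g b => by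
  rw [(a.mono l).im_im]
  exact (h _ ((a.mono l).comp_im b)).trans (nT_card hT a l l' le_rfl)

variable [hp : Fact p.Prime] (hS : IsPGroup p S) (hF : F.IsSaturated p)
include hS hF

theorem tf_fn (h : F.IsFullyNormalized P) : TF F T P := fun k a => by
  obtain ⟨g, b, c⟩ := sat_nmap hS hF h (fconj_symm a.isConj)
  have := nT_card hT b (le_nI a.im_le) (inf_le_inf_right _ hT.1) le_rfl
  rwa [c] at this

theorem ext_yy (hf : M F W f) (h : F.IsFullyNormalized (im W f)) :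
    ∃ g, M F (W ⊔ YY T W) g ∧ ∀ x ∈ W, g x = f x := by
  haveI := finite_of_le hf.le
  haveI := finite_of_le hf.im_le
  obtain ⟨g, a, b⟩ := sat_ext hS hF hf (sat_fn_fc hS hF h)
  refine ⟨g, a.mono (sup_le hf.le_Ext fun y hy => ?_), b⟩
  have : hf.tr rfl (cA hy.2) ∈ piCoreOf {p} (F.autGroup (im W f)) := by
    rw [← hf.map_tr rfl, inj_piCoreOf (hf.tr rfl).injective]
    exact mem_map_of_mem _ (cA_mem_Op_of_sc hS hT hf.le hy.1.1 hy.1.2 hy.2)
  obtain ⟨s, s1, s2⟩ := mem_autInd'.1 ((sat_syl hS hF h).pCoreOf_le this)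
  exact mem_Ext.2 ⟨hT.1 hy.1.1, hy.2, s, s1, fun x hx => by
    rw [← s2 _ (mem_im_of _ hx), hf.af_tr rfl _ hx, af_cA _ hx]⟩

theorem ext_tf (hk : M F W k) (t : TF F T (im W k)) :
    ∃ g, M F (W ⊔ YY T W) g ∧ ∀ x ∈ W, g x = k x := by
  obtain ⟨a, a0, a1⟩ := sat_nmap_fn hS hF hk.im_le
  have l := le_nI hk.im_le
  obtain ⟨g, g0, g1⟩ := ext_yy hT hS hF (hk.comp_im (a0.mono l)) (hk.im_im a ▸ a1)
  obtain ⟨j, j0, j1, -⟩ := a0.exists_inv
  have e : im W g = im (im W k) a := by rw [im_congr g1, hk.im_im]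
  refine ⟨_, g0.comp j0 (im_le_iff.1 ?_), fun x hx => by rw [g1 x hx, j1 _ (l (mem_im_of _ hx))]⟩
  rw [g0.homOn.im_sup]
  refine sup_le (e ▸ im_mono _ l) ((nT_le hT g0 le_sup_left le_sup_right
    (inf_le_inf_right _ cI_le)).trans ?_)
  rw [e, ← t.im_eq hT a0 l (inf_le_inf_right _ hT.1)]
  exact im_mono _ (inf_le_inf_right _ hT.1)

omit hT in
theorem yy_not_le (h : E.IsInvariantIn F) (hP : P ≤ S) (t : TF F T P)
    (hPT : ¬ E.IsCentric (P ⊓ T)) : P < P ⊔ YY T P := by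
  have hT := h.2.1
  haveI := finite_of_le hT.1
  obtain ⟨g, a, b⟩ := sat_nmap_fn hS hF (inf_le_left.trans hP : P ⊓ T ≤ S)
  have hl : P ≤ normalizerIn S (P ⊓ T) :=
    le_inf hP (le_norm_inf le_normalizer (hP.trans (sc_le_norm hT)))
  have hg := a.mono hl
  rw [hg.im_inf_sc hT] at b
  have h1 : ¬ centralizerIn T (im P g ⊓ T) ≤ im P g := fun hc => hPT (by
    obtain ⟨k, c, d, -, e⟩ := (hg.mono (inf_le_left : P ⊓ T ≤ P)).exists_inv' (hg.im_inf_sc hT)
    exact e ▸ inv_centric h (centric_of_fc (fc_sub hS hF hT h.1 inf_le_right (sat_fn_fc hS hF b))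
      fun x hx => ⟨hc hx, hx.1⟩) c)
  have hn := hg.im_le.trans (sc_le_norm hT)
  obtain ⟨x, h2, h3, h4⟩ := exists_mem_norm_not hS hg.im_le (cI_le.trans hT.1)
    (le_norm_inf hn (le_norm_cent (le_norm_inf le_normalizer hn))) h1
  obtain ⟨j, j0, -, -, j3⟩ := hg.exists_inv
  obtain ⟨k, k0, k1⟩ := ext_tf hT hS hF j0 (j3.symm ▸ t)
  have e := (im_congr k1).trans j3
  have u := mem_sup_right (S := im P g) (mem_inf.2 ⟨h2, h3⟩ : x ∈ YY T (im P g))
  exact left_lt_sup.2 fun l => h4 ((k0.mem_im_iff le_sup_left u).1 (e.ge (l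
    (e ▸ yy_mem hT k0 le_sup_left u ⟨h2, h3⟩))))

omit hT hS hF hp in
theorem kd_of_tf (sub : D.IsSubsystemOf F) (hf : M F W f) (m : ∀ x ∈ W, f x ∈ W)
    (h1 : ∀ k, M F W k → ∃ j, M D (im W k) j ∧ TF F T (im (im W k) j))
    (h : ∀ k g, M F W k → TF F T (im W k) → (∀ x ∈ W, g (k x) = k (f x)) → M D (im W k) g) :
    Kf (KD F D W) f := (kd_iff hf.le).2 ⟨hf, m, fun k g a _ e => by
  obtain ⟨j, j0, t⟩ := h1 k a
  obtain ⟨i, i0, i1, i2, -⟩ := j0.exists_inv
  rw [a.im_im] at t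
  have u := h _ (fun y => j (g (i y))) (a.comp_im (j0.sub sub)) t fun x hx => by
    rw [i1 _ (mem_im_of _ hx), e x hx]
  rw [← a.im_im] at u
  have gm : ∀ y ∈ im W k, g y ∈ im W k := fun y hy => by
    obtain ⟨x, hx, rfl⟩ := a.mem_im.1 hy
    rw [e x hx]; exact mem_im_of _ (m x hx)
  exact ((j0.comp_im u).comp i0 fun y hy => mem_im_of _ (gm _ (i2 _ (mem_im_of _ hy)).1)).congr
    fun y hy => by rw [i1 y hy, i1 _ (gm y hy)]⟩

theorem kd_up (sub : D.IsSubsystemOf F) (m : ∀ x ∈ W, f x ∈ W) (hW : W ≤ S)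
    (h1 : ∀ k, M F W k → ∃ j, M D (im W k) j ∧ TF F T (im (im W k) j))
    (h : Kf (KD F D (W ⊔ YY T W)) f) : Kf (KD F D W) f := by
  obtain ⟨a, b, c⟩ := (kd_iff ((yy_le hT hW).trans nI_le)).1 h
  refine kd_of_tf sub (a.mono le_sup_left) m h1 fun k g u t e => ?_
  obtain ⟨k', v, w⟩ := ext_tf hT hS hF u t
  obtain ⟨j, -, j1, -⟩ := v.exists_inv
  have := (c k' (fun y => k' (f (j y))) v v.im_le fun x hx => by rw [j1 x hx]).mono
    (im_mono k' le_sup_left)
  rw [im_congr w] at this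
  refine this.congr fun y hy => ?_
  obtain ⟨x, hx, rfl⟩ := u.mem_im.1 hy
  rw [e x hx, ← w x hx, j1 x (mem_sup_left hx), w _ (m x hx)]

theorem tf_max (sub : D.IsSubsystemOf F) (hP : P ≤ S)
    (ih : ∀ Q ≤ S, Nat.card P < Nat.card Q → (∃ j, M D Q j ∧ TF F T (im Q j)) ∧
      autInducedBy T Q ≤ KD F D Q)
    (mx : ∀ j, M D P j → Nat.card (normalizerIn T (im P j)) ≤ Nat.card (normalizerIn T P)) :
    TF F T P := by
  obtain ⟨a, a0, a1⟩ := sat_nmap_fn hS hF hP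
  have lP := le_nI hP
  have lT : normalizerIn T P ≤ normalizerIn S P := inf_le_inf_right _ hT.1
  refine (tf_fn hT hS hF a1).of_card hT (a0.mono lP) (le_of_not_gt fun hc => ?_)
  have c0 : ¬ normalizerIn T P ≤ P := fun l => hc.not_ge (card_le_of_le' (nI_le.trans hT.1)
    (nI_le.trans (le_inf le_rfl (le_trans ?_ le_normalizer))))
  swap
  · by_contra hn
    obtain ⟨x, x1, x2, x3⟩ := exists_mem_norm_not hS hP hT.1 (hP.trans (sc_le_norm hT)) hn
    exact x3 (l ⟨x1, x2⟩)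
  set Q := P ⊔ normalizerIn T P with eQ
  have lQ : Q ≤ normalizerIn S P := sup_le lP lT
  have aQ := a0.mono lQ
  have cQ := card_lt_of_lt' aQ.le (left_lt_sup.2 c0 : P < Q)
  have l1 : im Q a ≤ normalizerIn S (im P a) := a0.im_nI_le lP lQ (lQ.trans nI_le_norm)
  obtain ⟨y, y1, y2, y3⟩ := exists_mem_norm_not hS aQ.im_le
    (nI_le.trans hT.1 : normalizerIn T (im P a) ≤ S) (fun x b => mem_norm_inf
      (sc_le_norm hT (l1 b).1) (le_normalizer (l1 b).2)) fun l => hc.not_ge (by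
        rw [← a0.card_im' lT]
        refine card_le_of_le' (a0.im_le' lT) ((le_inf l nI_le).trans ?_)
        rw [← aQ.im_inf_sc hT]
        exact im_mono _ fun x b => ⟨b.2, (lQ b.1).2⟩)
  set Y := normalizerIn T (im P a) ⊓ N[im Q a]
  have cY : Nat.card (normalizerIn T P) < Nat.card Y := by
    rw [← a0.card_im' lT]
    refine card_lt_of_lt' (inf_le_left.trans (nI_le.trans hT.1)) (lt_of_le_not_ge (le_inf
      (nT_le hT a0 lP lT le_rfl) ((im_mono a le_sup_right).trans le_normalizer)) fun l =>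
        y3 (im_mono a le_sup_right (l ⟨y1, y2⟩)))
  obtain ⟨j, j0, t⟩ := (ih Q aQ.le cQ).1
  obtain ⟨b, b0, b1⟩ := sat_nmap_fn hS hF j0.im_le
  have lj := le_nI j0.im_le
  obtain ⟨a', u0, u1, u2, u3⟩ := aQ.exists_inv
  have χ0 := (u0.comp (j0.sub sub) fun y v => (u2 y v).1).comp (b0.mono lj)
    fun y v => mem_im_of _ (u2 y v).1
  have eχ : im (im Q a) (fun x => b (j (a' x))) = im (im Q j) b := by
    rw [← u0.im_im (fun x => b (j x)), u3, j0.im_im]
  haveI := finite_of_le b1.1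
  have lY : Y ≤ normalizerIn S (im Q a) := inf_le_inf_right _ (nI_le.trans hT.1)
  obtain ⟨κ, k0, k1⟩ := exists_le_Ext hS χ0 eχ ((sat_syl hS hF b1).inf_norm (K := KD F D _)
    (fun _ v => v.1) ((sat_syl hS hF b1).le.trans (kd_norm b1.1))) inf_le_left lY fun x v => by
      obtain ⟨β, v1, v2⟩ := kd_tr (g := af (χ0.tr eχ (cA v.2))) χ0 eχ (Kf.af
        ((ih _ aQ.im_le (aQ.card_im ▸ cQ)).2 (cA_mem v.2 v.1.1))) fun z => χ0.af_tr eχ _
      exact ⟨β, v1, fun z w => by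
        rw [v2 _ (eχ ▸ mem_im_of _ w), χ0.af_tr eχ _ w, af_cA _ w]⟩
  have κ0 := χ0.comp ((mem_aut b1.1).1 k0.1) fun y v => eχ ▸ mem_im_of _ v
  have eκ : im (im Q a) (fun x => af κ (b (j (a' x)))) = im (im Q j) b := by
    rw [← χ0.im_im, eχ, im_af]
  obtain ⟨e, e0, e1⟩ := sat_ext hS hF κ0 (eκ.symm ▸ sat_fn_fc hS hF b1)
  replace e0 := e0.mono (sup_le κ0.le_Ext k1)
  have ee := (im_congr e1).trans eκ
  obtain ⟨i, i0, i1, -⟩ := b0.exists_inv
  have ω0 := e0.comp i0 (im_le_iff.1 (by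
    rw [e0.homOn.im_sup, ee]
    refine sup_le (im_mono _ lj) ((nT_le hT e0 le_sup_left le_sup_right
      (inf_le_inf_right _ nI_le)).trans ?_)
    rw [ee, ← t.im_eq hT b0 lj (inf_le_inf_right _ hT.1)]
    exact im_mono _ (inf_le_inf_right _ hT.1)))
  have i3 : im (im (im Q j) b) i = im Q j := by
    rw [(b0.mono lj).im_im, im_of_eq fun x v => i1 x (lj v)]
  have ψ0 := k0.2 i (fun y => i (af κ (b y))) (i0.mono (im_mono _ lj)) (i3.trans_le j0.im_le) fun x v => by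
    obtain ⟨z, w, rfl⟩ := (b0.mem_im' lj).1 v
    rw [i1 z (lj w)]
  rw [i3] at ψ0
  have := mx _ ((j0.comp_im ψ0).mono le_sup_left)
  have c2 := nT_card hT ω0 ((im_mono a le_sup_left).trans le_sup_left) le_sup_right inf_le_left
  rw [(a0.mono lP).im_im, im_congr (g := fun x => i (af κ (b (j x)))) fun x v => by
    rw [e1 _ (mem_im_of _ (mem_sup_left v)), u1 x (mem_sup_left v)]] at c2
  exact (cY.trans_le c2).not_ge this

end CfsgH2
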