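import Cfsg.Agent.H2.Sa25

/-! The product system: local systems. -/

namespace CfsgH2
open Cfsg Subgroup CfsgL0 Function
open Cfsg.FusionSystem hiding inv_mem center

variable {Ω : Type*} [Group Ω] {S T U V W X Y : Subgroup Ω} {F D : FusionSystem S}
  {P Q R : Subgroup Ω} {f g k : Ω → Ω} {p : ℕ} {E : FusionSystem T} {s s' : Ω}

variable [Finite S] [hp : Fact p.Prime] (hS : IsPGroup p S) (hF : F.IsSaturated p)
include hS hF

theorem PrS.phi (h : PrS F E p D) : ∀ P ≤ S, (∃ j, M D P j ∧ TF F T (im P j)) ∧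
    autInducedBy T P ≤ KD F D P := by
  have hT := h.sc
  haveI := finite_of_le hT.1
  refine down_ind fun P hP ih => ?_
  have h1 : ∀ P' ≤ S, Nat.card P' = Nat.card P → ∃ j, M D P' j ∧ TF F T (im P' j) := fun P' l c => by
    obtain ⟨Q, a, b⟩ := exists_max_conj (F := D) l (fun Q => Nat.card (normalizerIn T Q))
      (Nat.card T) fun _ => card_le_of_le' le_rfl nI_le
    obtain ⟨j, j0, rfl⟩ := isConj_iff'.1 a
    exact ⟨j, j0, tf_max hT hS hF h.sub j0.im_le (fun Q u v => ih Q u (c ▸ j0.card_im ▸ v))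
      fun i i0 => b _ i0.isConj⟩
  refine ⟨h1 P hP rfl, fun α hα => ?_⟩
  obtain ⟨t, t1, n, t2⟩ := mem_autInd.1 hα
  obtain rfl : α = cA n := af_ext fun y hy => by rw [t2 y hy, af_cA _ hy]
  refine (Kf_cA n).1 ?_
  by_cases c : E.IsCentric (P ⊓ T)
  · refine kd_of_tf h.sub (M_conj hP (hT.1 t1)) (fun _ => conj_mem_of_norm n)
      (fun k u => h1 _ u.im_le u.card_im) fun k g u tf e => ?_
    obtain ⟨a, a0, a1⟩ := sat_nmap_fn hS hF u.im_le
    have l := le_nI u.im_le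
    have ha := a0.mono l
    have φ0 := u.comp_im ha
    have eφ := (u.im_im a).symm
    obtain ⟨χ, χ0, χ1, χ2, -⟩ := φ0.exists_inv' eφ
    obtain ⟨b, b0, b1, b2, b3⟩ := ha.exists_inv
    haveI := finite_of_le a1.1
    have := pel_le hS hF hT a1 (K := KV F E E T _) (fun _ v => (v a1.1).m.af_mem_aut)
      (kv_norm h.inv a1.1) (α := φ0.tr eφ (cA n)) (fun _ => by
        have := mm_tr (g := af (φ0.tr eφ (cA n))) h.inv (mm_conj hT hP t1 n) φ0
          fun x hx => by rw [φ0.af_tr eφ _ hx, af_cA _ hx]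
        exact (congrArg (GG F E E T · (af (φ0.tr eφ (cA n)))) eφ).mp this) χ0 t1 fun x hx => by
          rw [← (χ2 x hx).2, φ0.af_tr eφ _ (χ2 x hx).1, χ1 _ (af_mem _ (χ2 x hx).1),
            af_cA _ (χ2 x hx).1, χ1 _ (χ2 x hx).1]
    obtain ⟨β, β1, β2⟩ := le_trans (b := _) le_rfl (sup_le (fun γ v => by
      obtain ⟨y, y1, y2, y3⟩ := mem_autInd.1 v
      obtain ⟨x, x1, rfl⟩ := (a0.mem_im' (inf_le_inf_right _ hT.1)).1
        ((tf.im_eq hT a0 l (inf_le_inf_right _ hT.1)).ge ⟨y1, y2⟩)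
      exact ⟨cA x1.2, autInd_le_aut u.im_le le_rfl (cA_mem _ (hT.1 x1.1)),
        (ha.tr_cA rfl _ y2 fun z hz => a0.conj ⟨hT.1 x1.1, x1.2⟩ (l hz)).trans
          (af_ext fun z hz => by rw [af_cA _ hz, y3 z hz])⟩) ((closure_le _).2 fun γ v => by
      obtain ⟨γ, rfl⟩ := (ha.tr rfl).surjective γ
      have w := mm_tr (g := af γ) h.inv (v.1 a1.1) b0 fun x hx => by
        rw [← (b2 x hx).2, ha.af_tr rfl γ (b2 x hx).1, b1 _ (b2 x hx).1, b1 _ (af_mem _ (b2 x hx).1)]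
      rw [b3] at w
      exact ⟨γ, (h.gen ⟨u.im_inf_sc hT ▸ inv_centric h.inv c (u.mono inf_le_left), w, ppo_af
        ((ha.tr rfl).orderOf_eq γ ▸ (piN_compl_singleton' hp.out).1 v.2)⟩).af_mem_aut, rfl⟩) :
      _ ≤ (D.autGroup _).map (ha.tr rfl).toMonoidHom) this
    refine ((mem_aut u.im_le).1 β1).congr fun y hy => ?_
    obtain ⟨x, hx, rfl⟩ := u.mem_im.1 hy
    refine ha.inj (e x hx ▸ mem_im_of _ (conj_mem_of_norm n hx)) (af_mem _ hy) ?_
    rw [← ha.af_tr rfl β hy, show ha.tr rfl β = _ from β2, φ0.af_tr eφ _ hx, af_cA _ hx, e x hx]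
  obtain ⟨a, a0, a1⟩ := sat_nmap_fn hS hF hP
  have l := le_nI hP
  have ha := a0.mono l
  obtain ⟨b, b0, b1, b2, b3⟩ := ha.exists_inv
  have t3 : t ∈ normalizerIn S P := ⟨hT.1 t1, n⟩
  have n' := yy_norm hT (a0.mem t3) (a0.mem_norm l t3 n)
  have l' := (yy_le hT a1.1).trans nI_le
  refine kd_tr b0 b3 (kd_up hT hS hF h.sub (fun _ => conj_mem_of_norm (a0.mem_norm l t3 n)) a1.1
    (fun k u => h1 _ u.im_le (u.card_im.trans ha.card_im)) ((Kf_cA n').2 ((ih _ l'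
      (ha.card_im ▸ card_lt_of_lt' l' (yy_not_le hS hF h.inv a1.1 (tf_fn hT hS hF a1) fun v => c ?_))).2
      (cA_mem _ (sc_mem hT a0 t3 t1))))) fun y hy => ?_
  · have := inv_centric h.inv v (b0.mono inf_le_left)
    rwa [b0.im_inf_sc hT, b3] at this
  · obtain ⟨x, hx, rfl⟩ := ha.mem_im.1 hy
    rw [← a0.conj t3 (l hx), b1 x hx, b1 _ (conj_mem_of_norm n hx)]

theorem locU (hE : E.IsNormalIn F p) (c : E.IsCentric U) (hU : F.IsFullyNormalized U) :
    ∃ L : FusionSystem (normalizerIn S U), L.IsSaturated p ∧ L.IsSubsystemOf F ∧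
      (∀ Q f, M L Q f → (∀ x ∈ Q, f x ∈ Q) → PPo p Q f → GG F E E T Q f) ∧
      ∀ P f, P ⊓ T = U → F.IsFullyNormalized P → GG F E E T P f → PPo p P f → M L P f := by
  have hT := hE.1.2.2.2.1
  haveI := finite_of_le hT.1
  have fc := sat_fn_fc hS hF hU
  set V := U ⊔ centralizerIn S U with eV
  have lV : V ≤ S := sup_le hU.1 cI_le
  haveI := finite_of_le lV
  set B := F.autGroup V ⊓ stabA (le_sup_left : U ≤ V)
  have s0 := syl_K hS hF hU (K := B) (fun α a => ⟨(mem_aut lV).1 a.1, a.2⟩)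
    fun α a b => le_normalizer (⟨a.af_mem_aut, b⟩ : α ∈ B)
  have nK : B ≤ N[KV F E E U V] := fun χ a => mem_norm_of_conj fun β b _ => by
    have := GG.tr hE.1 hE.1 (g := af (χ * β * χ⁻¹)) (b lV) ((mem_aut lV).1 a.1) le_sup_left
      fun x => af_conj _ _
    rwa [show im U (af χ) = U from a.2, im_af] at this
  have kB : KV F E E U V ⊔ B ⊓ autInducedBy S V ≤ B := sup_le (fun α a => ⟨(a lV).m.af_mem_aut,
    (a lV).m.im_eq_of_le le_sup_left ((a lV).memP le_sup_left)⟩) inf_le_left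
  have cB : ∀ {x} (a : x ∈ normalizerIn S U), cA (nV a.1 a.2) ∈ B ⊓ autInducedBy S V := fun a =>
    ⟨⟨autInd_le_aut lV le_rfl (cA_mem _ a.1), (cA_stab _ _).2 a.2⟩, cA_mem _ a.1⟩
  have eN : normalizerIn S U = NSK S (KV F E E U V ⊔ B ⊓ autInducedBy S V) := le_antisymm
    (fun x a => ⟨a.1, (Kf_cA (nV a.1 a.2)).2 (mem_sup_right (cB a))⟩) fun x a =>
      ⟨a.1, (cA_stab _ a.2.norm).1 (kB ((Kf_cA a.2.norm).1 a.2)).2⟩
  obtain ⟨L, hL⟩ := exists_NK F lV _ eN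
  refine ⟨L, sat_NK hS hF (sat_fc_rec hS hF (centric_fc (by
    have := cenV hS hF (self_normal hS hF).1.2.2 hU.1 fc
    rwa [inf_eq_left.2 lV] at this))) ?_ eN hL, sub_iff_M.2 fun Q f a => ?_, fun Q f a m o => ?_, fun P f e fn a o => ?_⟩
  · rw [le_antisymm (inf_le_inf_right _ kB) (le_inf le_sup_right inf_le_right)]
    exact s0.mono (le_inf le_sup_right (inf_le_left.trans inf_le_left)) (inf_le_inf_right _ kB)
  · obtain ⟨-, g0, a0, b0, -⟩ := (hL Q f).1 a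
    exact (a0.mono le_sup_left).congr fun x v => (b0 x v).symm
  · obtain ⟨-, g0, a0, b0, c0⟩ := (hL Q f).1 a
    have gm : ∀ x ∈ Q ⊔ V, g0 x ∈ Q ⊔ V := im_le_iff.1 (by
      rw [a0.homOn.im_sup, c0.im_eq]
      exact sup_le_sup_right (im_le_iff.2 fun x e => b0 x e ▸ m x e) _)
    obtain ⟨i, o1, e1⟩ := pp_part a0 gm (o.congr m b0)
    have a1 := M.iter a0 gm i
    obtain ⟨α, α1, α2⟩ := Kf.iter c0 i
    have gm' := iter_mem gm i
    have b : ∀ x ∈ Q, g0^[i] x = f x := fun x c => (e1 x c).trans (b0 x c)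
    generalize g0^[i] = g at a1 α2 b o1 gm'
    have α3 : α ∈ KV F E E U V := piRes_le (piRes_sup_le (inf_le_left.trans nK)
      (isPGroup_autInd hS).to_inf_right (mem_piRes α1 ((piN_compl_singleton' hp.out).2
        ((o1.mono le_sup_right).congr (fun x v => α2 x v ▸ af_mem _ v) α2).cop)))
    have g1 : GG F E E U V g := (kv_iff lV).1 ⟨α, α3, α2⟩
    have lW : Q ⊔ V ≤ normalizerIn S U := sup_le a.le (le_inf lV VN)
    have r := rm_up hS hE.1 (U := (Q ⊔ V) ⊓ T) inf_le_right (le_inf (le_sup_left.trans le_sup_right)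
      c.1) (inf_le_left.trans (lW.trans nI_le_norm)) c (a1.mono inf_le_left)
      (fun x v => ⟨gm' x v.1, sc_mem hT a1 v.1 v.2⟩) (o1.mono inf_le_left)
      (g1.r₁.mono (le_inf le_sup_left c.1)) (g1.m.im_eq_of_le le_sup_left (g1.memP le_sup_left))
    replace r := r.mono (inf_le_inf_right _ le_sup_left)
    refine GG.congr ⟨a1.mono le_sup_left, fun x v => b x v ▸ m x v, fun x v =>
      (cop2 hS a1 (X := (Q ⊔ V) ⊓ NSK S (KV F E E U V)) (P := (Q ⊔ V) ⊓ NSK S (KV F E E U V) ⊓ T)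
        inf_le_left inf_le_left (fun y w => mem_inf.2 ⟨mul_mem (inv_mem w) (mem_inf.2 ⟨gm' y w.1, a1.mem_NSK le_sup_right
          ⟨α, α3, α2⟩ w.1 w.2.2⟩), foc_i hS hF hE.1 c.1 fc (a1.mono (sup_le le_rfl le_sup_right))
          g1.t w.1 (lW w.1).2 ((kv_iff lV).1 w.2.2).r₁⟩) o1 (mem_sup_left v) ?_).2, r, r⟩
      fun x v => (b x v).symm
    have x1 := lW (mem_sup_left v)
    have x2 := lW (gm' x (mem_sup_left v))
    have d := mul_mem (inv_mem x1) x2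
    refine mem_inf.2 ⟨mul_mem (inv_mem (mem_sup_left v)) (gm' x (mem_sup_left v)), d.1,
      (Kf_cA (nV d.1 d.2)).2 ?_⟩
    rw [cA_mul (inv_mem (nV x1.1 x1.2)) (nV x2.1 x2.2), cA_inv (nV x1.1 x1.2),
      ← conj_cA α (nV x1.1 x1.2) (nV x2.1 x2.2) fun z hz => by
        rw [α2 _ (conj_mem_of_norm (nV x1.1 x1.2) hz), α2 z hz,
          a1.conj (mem_sup_left v) (mem_sup_right hz)]]
    simpa [mul_assoc] using mul_mem (conj_mem_of_norm' (nK (cB x1).1) α3) (inv_mem α3)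
  have lU : U ≤ P := e ▸ inf_le_left
  have nU : normalizerIn S P ≤ normalizerIn S U := fun x v =>
    ⟨v.1, e ▸ mem_norm_inf v.2 (sc_le_norm hT v.1)⟩
  have lP := (le_nI fn.1).trans nU
  have m : ∀ x ∈ U, f x ∈ U := fun x v => e.le ⟨a.mem x (lU v), sc_mem hT a.m (lU v) (c.1 v)⟩
  have lY : P ⊔ centralizerIn S U ≤ normalizerIn S U := sup_le lP cI_le_nI
  obtain ⟨g, g0, -, g2, g3⟩ := (xt_of_inn hS hF hE.1.2.2 c (fun R' u f => lemL hS hF hE (by
    obtain ⟨k, k0, rfl⟩ := isConj_iff'.1 u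
    exact inv_centric hE.1.2.2 c k0)) lY (e ▸ a.r₁) m (o.mono lU) fun y hy => by
      obtain ⟨w, hw, z, hz, rfl⟩ := (mem_sup_of_norm fun x v => mem_norm_inf
        (le_normalizer (lP v).1) (norm_le_norm_cent _ (lP v).2)).1 hy
      have u : w⁻¹ * f w ∈ U := e.le (mem_inf.2 ⟨mul_mem (inv_mem hw) (a.mem w hw), a.t w hw⟩)
      refine ⟨_, u, fun x hx => ?_⟩
      rw [show w * z * x * (w * z)⁻¹ = w * (z * x * z⁻¹) * w⁻¹ by group,
        ← mem_cent_iff.1 hz.2 x hx, mul_inv_cancel_right, a.m.conj hw (lU hx), mul_assoc w z,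
        ← mem_cent_iff.1 hz.2 _ u, show w * (w⁻¹ * f w * z) * f x * (w * (w⁻¹ * f w * z))⁻¹ =
          f w * (z * f x * z⁻¹) * (f w)⁻¹ by group, ← mem_cent_iff.1 hz.2 _ (m x hx),
        mul_inv_cancel_right]).pp (lY.trans nI_le_norm) m (o.mono lU)
  have l1 : P ≤ U ⊔ (P ⊔ centralizerIn S U) := le_sup_left.trans le_sup_right
  have l2 : V ≤ U ⊔ (P ⊔ centralizerIn S U) := sup_le_sup_left le_sup_right _
  have gP : ∀ x ∈ P, g x ∈ P := fun x v => by simpa using mul_mem v (lU (g3 x (l1 v)))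
  have r : M E (V ⊓ T) g := ((e ▸ a.r₁ : M E U f).congr g2).mono fun x v =>
    vT c.1 (centric_cI c) v.1 v.2
  have u := (hL P g).2 (g0.NKM l1 l2 (eN ▸ lP) (((kv_iff lV).2 ⟨g0.mono l2, fun x v => by
    simpa using mul_mem v (mem_sup_left (g3 x (l2 v))), fun x v => g3 x (l2 v), r, r⟩).mono le_sup_left))
  obtain ⟨j, j0, j1, j2, -⟩ := (g0.mono l1).exists_inv' (g0.im_eq_of_le l1 gP)
  obtain ⟨s, s1, s2⟩ := exists_S_of_fix hS hF hT fn (a.m.comp j0 a.mem) (fun x v w => by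
    rw [← g2 x (e.le ⟨v, w⟩), j1 x v]) (fun x v => by
      have := g3 _ (l1 (j2 _ (a.mem x v)).1)
      rw [(j2 _ (a.mem x v)).2] at this
      simpa [mul_assoc] using mul_mem (a.t x v) (inv_mem (c.1 this))) fun x v => (j2 _ (a.mem x v)).1
  have n : s ∈ N[P] := mem_norm_of_conj' fn.1 fun x v => s2 x v ▸ (j2 _ (a.mem x v)).1
  exact ((M_conj lP (nU ⟨s1, n⟩)).comp u fun _ => conj_mem_of_norm n).congr fun x v => by
    rw [← s2 x v, (j2 _ (a.mem x v)).2]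

end CfsgH2
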