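import Cfsg.Agent.H2.Sa26

/-! The product system is saturated. -/

namespace CfsgH2
open Cfsg Subgroup CfsgL0 Function
open Cfsg.FusionSystem hiding inv_mem center

variable {Ω : Type*} [Group Ω] {S T U V W X Y : Subgroup Ω} {F D : FusionSystem S}
  {P Q R : Subgroup Ω} {f g k : Ω → Ω} {p : ℕ} {E : FusionSystem T} {s s' : Ω}

theorem fn_of_sub [Finite S] {L : FusionSystem R} (l : L.IsSubsystemOf F)
    (hP : F.IsFullyNormalized P) (h : normalizerIn S P ≤ R) : L.IsFullyNormalized P :=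
  ⟨(le_nI hP.1).trans h, fun Q a => by
    obtain ⟨f, hf, rfl⟩ := isConj_iff'.1 a
    exact ((card_le_of_le' nI_le (inf_le_inf_right _ (sub_le l))).trans
      (hP.2 _ (hf.sub l).isConj)).trans (card_le_of_le' (nI_le.trans (sub_le l))
        (le_inf h nI_le_norm))⟩

theorem ppi_pp [Finite S] [hp : Fact p.Prime] (h : E.HasPPowerIndexIn F p) (l : P ≤ T)
    (hf : M F P f) (m : ∀ x ∈ P, f x ∈ P) (o : PPo p P f) : M E P f := by
  obtain ⟨α, a, e⟩ := hf.exists_aut (hf.im_eq_of_le le_rfl m)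
  haveI := finite_of_le hf.le
  exact ((mem_aut l).1 ((ppi_iff.1 h).2.2 P l (mem_piRes a ((piN_compl_singleton' hp.out).2
    (o.congr m e).cop)))).congr fun x hx => (e x hx).symm

variable [Finite S] [hp : Fact p.Prime] (hS : IsPGroup p S) (hF : F.IsSaturated p)
include hS

theorem normal_sub (hQ : F.IsNormal Q) (hE : E.IsSaturated p) (l : E.IsSubsystemOf F)
    (h : Q ≤ T) : E.IsNormal Q :=
  haveI := finite_of_le (sub_le l)
  normal_of_ucs (hS.to_le (sub_le l)) hE h fun i => by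
    have := sc_sub l (normal_sc (normal_char hQ (ucs_le i) (ucs_char i)))
    rwa [inf_eq_left.2 ((ucs_le i).trans h)] at this

include hF

theorem exists_fn3 (hT : F.StronglyClosed T) (hP : P ≤ S) : ∃ a, M F (normalizerIn S P) a ∧
    F.IsFullyNormalized (im P a) ∧ F.IsFullyNormalized (im P a ⊓ T) := by
  obtain ⟨a, a0, a1⟩ := sat_nmap_fn hS hF hP
  obtain ⟨b, b0, b1⟩ := sat_nmap_fn hS hF (inf_le_left.trans a1.1 : im P a ⊓ T ≤ S)
  have l : normalizerIn S (im P a) ≤ normalizerIn S (im P a ⊓ T) := fun x v =>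
    ⟨v.1, mem_norm_inf v.2 (sc_le_norm hT v.1)⟩
  have lP := le_nI hP
  refine ⟨_, a0.comp b0 fun x v => l (a0.im_nI_le lP le_rfl nI_le_norm (mem_im_of _ v)), ?_, ?_⟩ <;>
    rw [← (a0.mono lP).im_im]
  · exact b0.fn_im a1 l
  · rwa [← (b0.mono ((le_nI a1.1).trans l)).im_inf_sc hT]

theorem PrS.locP (h : PrS F E p D) (hP : P ≤ S) (c : E.IsCentric (P ⊓ T)) (t : TF F T P) :
    ∃ L : FusionSystem (normalizerIn S P), L.IsSaturated p ∧ L.IsNormal P ∧ L.IsSubsystemOf D ∧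
      ∀ f, M D P f → (∀ x ∈ P, f x ∈ P) → PPo p P f → M L P f := by
  have hT := h.sc
  obtain ⟨a, a0, a1, a2⟩ := exists_fn3 hS hF hT hP
  have lP := le_nI hP
  have ha := a0.mono lP
  obtain ⟨L₀, s0, l0, b0, c0⟩ := locU hS hF h.nor
    (ha.im_inf_sc hT ▸ inv_centric h.inv c (ha.mono inf_le_left)) a2
  have l : normalizerIn S (im P a) ≤ normalizerIn S (im P a ⊓ T) := fun x v =>
    ⟨v.1, mem_norm_inf v.2 (sc_le_norm hT v.1)⟩
  have f0 := fn_of_sub l0 a1 l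
  haveI : Finite (normalizerIn S (im P a ⊓ T)) := finite_nI
  haveI : Finite (normalizerIn (normalizerIn S (im P a ⊓ T)) (im P a)) := finite_nI
  haveI : Finite (normalizerIn S P) := finite_nI
  have h0 := hS.to_le (nI_le : normalizerIn S (im P a ⊓ T) ≤ S)
  obtain ⟨N, hN⟩ := exists_N L₀ f0.1
  have lN := NK_sub (isN_iff.1 hN)
  have lR := a0.im_nI_le lP le_rfl nI_le_norm
  have lT : normalizerIn T P ≤ normalizerIn S P := inf_le_inf_right _ hT.1
  obtain ⟨L₁, s1, i1⟩ := exists_ppi (h0.to_le nI_le) (sat_N h0 s0 f0 hN)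
    (T := im (normalizerIn S P) a) (hyp_le_iff'.2 fun Q u α v o x hx => im_mono a lT
      ((t.im_eq hT a0 lP lT).ge (mem_nI.2 ⟨(b0 Q _ (((mem_aut u).1 v).sub lN) (fun _ => af_mem _)
        (ppo_af o)).t x hx, mul_mem (inv_mem (mem_nI.1 (u hx)).2) (u (af_mem _ hx)).2⟩)))
    (le_inf (lR.trans l) (lR.trans nI_le_norm))
  have e : ∀ x ∈ normalizerIn S P, ex a0.homOn.hom x = a x := fun x v => ex_apply _ v
  have hi : Injective a0.homOn.hom := fun x y v => Subtype.ext (a0.inj x.2 y.2 v)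
  obtain ⟨L, hL⟩ := exists_pull hi (im_congr e) L₁
  have e' : ∀ Q ≤ normalizerIn S P, im Q (ex a0.homOn.hom) = im Q a := fun Q u =>
    im_congr fun x v => e x (u v)
  obtain ⟨j, j0, j1, j2, -⟩ := a0.exists_inv
  have key : ∀ Q ≤ normalizerIn S P, ∀ f, (∀ x ∈ Q, f x ∈ Q) →
      (M L Q f ↔ M L₁ (im Q a) fun y => a (f (j y))) := fun Q u f m => by
    rw [← e' Q u]
    exact hL.M_iff hi u (fun x v => u (m x v)) fun x v => by
      rw [e x (u v), j1 x (u v), e _ (u (m x v))]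
  have sL := (hL.sat_iff hi (hS.to_le nI_le)).1 s1
  have nL : L.IsNormal P := (hL.normal_iff hi lP).1 (by
    rw [e' P lP]
    exact normal_sub (h0.to_le nI_le) (NK_normal NSK_top.symm (isN_iff.1 hN) (le_nI f0.1)) s1
      (ppi_iff.1 i1).1 (im_mono a lP))
  have mem : ∀ Q ≤ normalizerIn S P, ∀ f : Ω → Ω, (∀ x ∈ Q, f x ∈ Q) →
      ∀ y ∈ im Q a, a (f (j y)) ∈ im Q a := fun Q u f m y hy => by
    obtain ⟨x, hx, rfl⟩ := (a0.mem_im' u).1 hy
    rw [j1 x (u hx)]; exact mem_im_of _ (m x hx)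
  refine ⟨L, sL, nL, sub_iff_M.2 (alperin_pp (hS.to_le nI_le) sL _ (cl_M (F := L) D).congr
    (fun _ u _ hg => M_conj (u.trans nI_le) hg.1) (cl_M D).comp (cl_M D).inv
    fun Q _ c1 c2 f hf m o => ?_), fun f hf m o => ?_⟩
  · have u := hf.le
    have w := mm_tr (g := f) h.inv (b0 _ _ ((((key Q u f m).1 hf).sub (ppi_iff.1 i1).1).sub lN)
      (mem Q u f m) (o.tr (a0.mono u).homOn m fun x v => by rw [j1 x (u v)]))
      (j0.mono (im_mono a u)) fun y hy => by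
        obtain ⟨x, hx, rfl⟩ := (a0.mem_im' u).1 hy
        rw [j1 x (u hx), j1 _ (u (m x hx))]
    rw [(a0.mono u).im_im, im_of_eq fun x v => j1 x (u v)] at w
    exact h.gen ⟨centric_mono c (inf_le_inf_right _ (normal_le_cr (hS.to_le nI_le) nL c1 c2))
      inf_le_right, w, o⟩
  have e2 : ∀ x ∈ P, a (f (j (a x))) = a (f x) := fun x v => by rw [j1 x (lP v)]
  have o' := o.tr (f' := fun y => a (f (j y))) ha.homOn m e2
  have w := c0 _ _ rfl a1 (mm_tr (g := fun y => a (f (j y))) h.inv (h.pp hS hf m o) ha e2) o'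
  exact (key P lP f m).2 (ppi_pp i1 (im_mono a lP) ((N_aut h0 s0 hN le_rfl (le_nI f0.1)).2
    ⟨w, w.im_eq_of_le le_rfl (mem P lP f m)⟩) (mem P lP f m) o')

theorem PrS.sat (h : PrS F E p D) : D.IsSaturated p := by
  have hT := h.sc
  have cc : ∀ P, E.IsCentric (P ⊓ T) → ∀ Q, D.IsConj P Q → E.IsCentric (Q ⊓ T) := fun P c Q a => by
    obtain ⟨f, hf, rfl⟩ := isConj_iff'.1 a
    exact (hf.sub h.sub).im_inf_sc hT ▸ inv_centric h.inv c ((hf.sub h.sub).mono inf_le_left)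
  refine down_ind (p := SatC D p) fun P hP ih => ?_
  obtain ⟨R, a, b⟩ := exists_fn (F := D) hP
  have c0 := fconj_card a
  obtain ⟨j, j0, t⟩ := (h.phi hS hF R b.1).1
  refine ⟨R, a, ?_⟩
  by_cases c : E.IsCentric (R ⊓ T)
  · refine glue hS (Gn := Gn F E p) (fun P f u => ⟨h.gen u, u.2.1.mem, u.2.2⟩) h.min ih b c0
      fun hnl => h.locP hS hF b.1 c ?_
    obtain ⟨g, g0, g1⟩ := hnl _ j0.isConj
    exact g1 ▸ t.im hT (g0.sub h.sub) (le_nI j0.im_le) (inf_le_inf_right _ hT.1)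
  refine sat_step hS ih (H := {P | E.IsCentric (P ⊓ T)}) cc (fun B hB => h.min B fun P f u =>
    (hom_iff' fun _ => rfl).1 (hB P u.1 (h.gen u).hom_mem)) b c0 c (fun e => c ?_)
    ⟨_, j0.isConj, fun l => ?_⟩
  · haveI := finite_of_le hT.1
    rw [e, inf_eq_right.2 hT.1]; exact centric_top
  · exact left_lt_sup.1 (yy_not_le hS hF h.inv j0.im_le t fun v => c
      (cc _ v _ (fconj_symm j0.isConj))) fun y hy => l ((mem_hat hy.2).2 ⟨hT.1 hy.1.1,
        cA_mem_Op_of_sc hS h.scD j0.im_le hy.1.1 hy.1.2 hy.2⟩)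

theorem PrS.kd (h : PrS F E p D) : ∀ W ≤ S, ∀ f, M D W f → (∀ x ∈ W, f x ∈ W) → PPo p W f →
    Kf (KD F D W) f := by
  have hT := h.sc
  have hD := h.sat hS hF
  refine down_ind fun W hW ih f hf m o => ?_
  by_cases c : E.IsCentric (W ⊓ T)
  · exact (kd_iff hW).2 ⟨hf.sub h.sub, m, fun k g u _ e => h.gen ⟨u.im_inf_sc hT ▸
      inv_centric h.inv c (u.mono inf_le_left), mm_tr h.inv (h.pp hS hf m o) u e,
      o.tr u.homOn m e⟩⟩
  obtain ⟨a, a0, a1⟩ := sat_nmap_fn hS hD hW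
  have ha := a0.mono (le_nI hW)
  obtain ⟨b, b0, b1, b2, b3⟩ := ha.exists_inv
  have f0 := (b0.comp hf fun y v => (b2 y v).1).comp ha fun y v => m _ (b2 y v).1
  have m' : ∀ y ∈ im W a, a (f (b y)) ∈ im W a := fun y v => mem_im_of _ (m _ (b2 y v).1)
  have e0 := f0.im_eq_of_le le_rfl m'
  obtain ⟨g, g0, g1⟩ := ext_yy h.scD hS hD f0 (e0.symm ▸ a1)
  have gm : ∀ x ∈ im W a ⊔ YY T (im W a), g x ∈ im W a ⊔ YY T (im W a) := im_le_iff.1 (by
    have e1 := (im_congr g1).trans e0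
    rw [g0.homOn.im_sup, e1]
    exact sup_le_sup_left (im_le_iff.2 fun y hy =>
      e1 ▸ yy_mem h.scD g0 le_sup_left (mem_sup_right hy) hy) _)
  obtain ⟨n, o1, e1⟩ := pp_part g0 gm ((o.tr (f' := fun y => a (f (b y))) ha.homOn m
    fun x v => by rw [b1 x v]).congr m' g1)
  obtain ⟨j, j0, t⟩ := (h.phi hS hF _ a1.1).1
  obtain ⟨i, i0, i1⟩ := sat_nmap hS hD a1 (fconj_symm j0.isConj)
  replace t := i1 ▸ t.im hT (i0.sub h.sub) (le_nI j0.im_le) (inf_le_inf_right _ hT.1)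
  refine kd_tr (b0.sub h.sub) b3 (kd_up hT hS hF h.sub
    (fun x v => (e1 x v).trans (g1 x v) ▸ m' x v) a1.1 (fun k u => (h.phi hS hF _ u.im_le).1)
    (ih _ g0.le (ha.card_im ▸ card_lt_of_lt' g0.le (yy_not_le hS hF h.inv a1.1 t fun v => c ?_)) _
      (M.iter g0 gm n) (iter_mem gm n) o1)) fun y hy => ?_
  · have := inv_centric h.inv v ((b0.sub h.sub).mono inf_le_left)
    rwa [(b0.sub h.sub).im_inf_sc hT, b3] at this
  · rw [e1 y hy, g1 y hy, b1 _ (m _ (b2 y hy).1)]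

end CfsgH2
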