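import Cfsg.Agent.H2.Sa27

/-! Normal subsystems cut out normal subsystems of local subsystems; balance of the layer. -/

namespace CfsgH2
open Cfsg Subgroup CfsgL0 Function
open Cfsg.FusionSystem hiding inv_mem center

variable {Ω : Type*} [Group Ω] {S T U V W X Y : Subgroup Ω} {F D : FusionSystem S}
  {P Q R : Subgroup Ω} {f g k : Ω → Ω} {p : ℕ} {E : FusionSystem T} {s s' : Ω}
  {K : Subgroup (MulAut X)} {N N' : FusionSystem R} {C : FusionSystem U}

theorem kd_N [Finite S] (eR : R = NSK S K) (hN : ∀ P f, M N P f ↔ NKM F K P f)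
    (hN' : ∀ P f, M N' P f ↔ NKM D K P f) (l : P ≤ R) (hX : X ≤ S)
    (h : Kf (KD F D (P ⊔ X)) g) (m : ∀ x ∈ P, g x ∈ P) (c : Kf K g) : Kf (KD N N' P) g := by
  haveI := finite_of_le (eR.trans_le NSK_le)
  obtain ⟨a, -, b⟩ := (kd_iff (sup_le (l.trans (eR.trans_le NSK_le)) hX)).1 h
  refine (kd_iff l).2 ⟨(hN _ _).2 ⟨eR ▸ l, g, a, fun _ _ => rfl, c⟩, m, fun k g' u v e => ?_⟩
  obtain ⟨-, k', k0, k1, k2⟩ := (hN _ _).1 u
  obtain ⟨j, -, j1, -⟩ := k0.exists_inv
  have w := b k' (fun y => k' (g (j y))) k0 k0.im_le fun x hx => by rw [j1 x hx]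
  rw [k0.homOn.im_sup, im_congr k1, k2.im_eq] at w
  refine (hN' _ _).2 ⟨eR ▸ v, _, w, fun y hy => ?_,
    ((k2.inv fun x hx => j1 x (mem_sup_right hx)).comp c).comp k2⟩
  obtain ⟨x, hx, rfl⟩ := u.mem_im.1 hy
  rw [e x hx, ← k1 x hx, j1 x (mem_sup_left hx), k1 _ (m x hx)]

theorem nk_sub (eR : R = NSK S K) (hN : ∀ P f, M N P f ↔ NKM F K P f) (l : X ≤ Y)
    (h : NKM F (⊥ : Subgroup (MulAut Y)) P f) : M N P f := by
  obtain ⟨a, g, b, c, d⟩ := NKM_bot_iff.1 h
  exact (hN _ _).2 ⟨(a.trans (inf_le_inf_left _ (cent_anti l))).trans cI_le_NSK, g,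
    b.mono (sup_le_sup_left l _), c, Kf.id.congr fun x hx => d x (l hx)⟩

theorem nk_up (hN : N.IsSubsystemOf F) (h : NKM N (⊥ : Subgroup (MulAut Y)) P f) :
    NKM F (⊥ : Subgroup (MulAut Y)) P f := by
  obtain ⟨a, g, b, c, d⟩ := NKM_bot_iff.1 h
  exact NKM_bot_iff.2 ⟨a.trans (inf_le_inf_right _ (sub_le hN)), g, b.sub hN, c, d⟩

variable [Finite S] [hp : Fact p.Prime] (hS : IsPGroup p S) (hF : F.IsSaturated p)
include hS

theorem normal_inf' (hQ : F.IsNormal Q) (hE : E.IsSaturated p) (l : E.IsSubsystemOf F) :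
    E.IsNormal (Q ⊓ T) := by
  haveI := finite_of_le (sub_le l)
  obtain ⟨n, hn⟩ := exists_ucs hS hQ.1
  exact normal_of_chain (hS.to_le (sub_le l)) hE (fun i => ucs Q i ⊓ T) (n := n)
    (by rw [ucs_zero, bot_inf_eq]) (by rw [hn])
    (fun i _ => sc_sub l (normal_sc (normal_char hQ (ucs_le i) (ucs_char i))))
    fun i _ y hy x hx => ⟨ucs_step hy.1 hx.1,
      T.mul_mem (T.inv_mem hx.2) (T.mul_mem (T.mul_mem hy.2 hx.2) (T.inv_mem hy.2))⟩

theorem C_normal' (eR : R = NSK S K) (hN : ∀ P f, M N P f ↔ NKM F K P f) (sN : N.IsSaturated p)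
    (hX : X ≤ R) {B : FusionSystem (centralizerIn S X)} (hB : F.IsCentralizerSystem X B) :
    B.IsNormalIn N p := by
  have l := eR.trans_le NSK_le
  haveI := finite_of_le l
  have e : centralizerIn S X = centralizerIn R X :=
    le_antisymm (le_inf (cI_le_NSK.trans eR.ge) cI_le_cent) (inf_le_inf_right _ l)
  have h : ∀ P f, M B P f ↔ NKM N (⊥ : Subgroup (MulAut X)) P f := fun P f => by
    rw [isC_iff.1 hB]
    refine ⟨fun a => ?_, nk_up (NK_sub hN)⟩
    obtain ⟨a, g, b, c, d⟩ := NKM_bot_iff.1 a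
    exact NKM_bot_iff.2 ⟨e ▸ a, g, (hN _ _).2 ⟨sup_le (a.trans cI_le_NSK) (eR ▸ hX), g,
      b.mono (sup_le le_rfl le_sup_right), fun _ _ => rfl, Kf.id.congr d⟩, c, d⟩
  clear hB
  revert B
  rw [e]
  exact fun h => C_normal (hS.to_le l) sN (NK_normal eR hN hX) (isC_iff.2 h)

include hF

theorem exists_NE (h : PrS F E p D) (eR : R = NSK S K) (hN : ∀ P f, M N P f ↔ NKM F K P f)
    (hN' : ∀ P f, M N' P f ↔ NKM D K P f) (sN : N.IsSaturated p) (sN' : N'.IsSaturated p)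
    (hX : X ≤ S) : ∃ B : FusionSystem (T ⊓ R :), B.IsNormalIn N p ∧ B.IsSubsystemOf E := by
  have l := eR.trans_le NSK_le
  haveI := finite_of_le l
  haveI := finite_of_le (inf_le_right : T ⊓ R ≤ R)
  have hR := hS.to_le l
  have h1 := hR.to_le (inf_le_right : T ⊓ R ≤ R)
  obtain ⟨B, sB, iB⟩ := exists_ppi hR sN' (T := T ⊓ R)
    (le_inf ((hyp_mono (NK_sub hN')).trans (h.hyp hS)) hyp_le) inf_le_right
  have l1 := (ppi_iff.1 iB).1
  have l2 : N'.IsSubsystemOf N := sub_iff_M.2 fun P f a =>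
    let ⟨a, g, b, c⟩ := (hN' _ _).1 a; (hN _ _).2 ⟨a, g, b.sub h.sub, c⟩
  have sc := sc_sub (NK_sub hN) h.sc
  have key : ∀ P f, M N' P f → (∀ x ∈ P, f x ∈ P) → PPo p P f → Kf (KD N N' P) f :=
    fun P f a m o => by
      obtain ⟨-, g, g0, g1, g2⟩ := (hN' _ _).1 a
      have gm : ∀ x ∈ P ⊔ X, g x ∈ P ⊔ X := im_le_iff.1 (by
        rw [g0.homOn.im_sup, g2.im_eq]
        exact sup_le_sup_right (im_le_iff.2 fun x e => g1 x e ▸ m x e) _)
      obtain ⟨n, o1, e1⟩ := pp_part g0 gm (o.congr m g1)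
      exact (kd_N eR hN hN' a.le hX (h.kd hS hF _ g0.le _ (M.iter g0 gm n) (iter_mem gm n) o1)
        (fun x e => (e1 x e).trans (g1 x e) ▸ m x e) (Kf.iter g2 n)).congr
        fun x e => ((e1 x e).trans (g1 x e)).symm
  have ai : AI B N := by
    obtain ⟨B', a, b, c⟩ := exists_aicore N B
    refine fs_le_antisymm b (le_iff_M.2 (alperin_pp h1 sB _ (cl_M (F := B) B').congr
      (fun _ u _ hg => M_conj u hg) (cl_M B').comp (cl_M B').inv fun P _ _ _ f hf m o =>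
        (c _ _).2 ⟨hf, fun α hα => ?_⟩)) ▸ a
    have k0 := ((mem_aut inf_le_right).1 hα).mono hf.le
    have e : ∀ x ∈ P, af α (f (af α⁻¹ (af α x))) = af α (f x) := fun x hx => by
      rw [af_inv_af _ (hf.le hx)]
    have w := kd_tr (g := fun y => af α (f (af α⁻¹ y))) k0 rfl (key P f (hf.sub l1) m o) e
    exact ppi_pp iB (im_le_iff.2 fun x hx => af_mem _ (hf.le hx)) (kd_M k0.im_le k0.im_le w)
      (fun _ => w.mem) (o.tr k0.homOn m e)
  have wn : B.IsWeaklyNormalIn N p := ⟨sB, sN, inv_iff.2 ⟨sub_trans l1 l2, sc, ai,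
    fr_of hR sN sc (sub_trans l1 l2) ai fun P lt fn => Or.inr (by
      haveI := finite_of_le fn.1
      have k1 : autInducedBy (T ⊓ R) P ≤ KD N N' P := fun α hα => by
        obtain ⟨t, t1, n, t2⟩ := mem_autInd.1 hα
        obtain rfl : α = cA n := af_ext fun y hy => by rw [t2 y hy, af_cA _ hy]
        have t3 := (mem_NSK.1 (eR.le t1.2)).2
        have n' := mem_norm_sup n t3.norm
        exact (Kf_cA n).1 (kd_N eR hN hN' fn.1 hX ((Kf_cA n').2 ((h.phi hS hF _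
          (sup_le (fn.1.trans l) hX)).2 (cA_mem _ t1.1))) (fun _ => conj_mem_of_norm n) t3)
      have k2 := kd_norm (F := N) (D := N') fn.1
      refine ⟨autInducedBy (T ⊓ R) P ⊔ piRes {p} (KD N N' P), sup_le (autInd_le_aut lt.le le_rfl)
        ((piRes_mono fun α a => (kd_M fn.1 fn.1 (Kf.af a)).af_mem_aut).trans
          ((ppi_iff.1 iB).2.2 P lt.le)), fun χ hχ => mem_norm_of_conj fun β hβ => ?_, le_sup_left⟩
      refine (sup_le (fun γ v => ?_) fun γ v => mem_sup_right (conj_mem_of_norm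
        (norm_le_norm_piRes (k2 hχ)) v) : _ ≤ (autInducedBy (T ⊓ R) P ⊔
          piRes {p} (KD N N' P)).comap (MulAut.conj χ).toMonoidHom) hβ
      obtain ⟨t, t1, n, t2⟩ := mem_autInd.1 v
      exact pel_le hR sN sc fn (K := KD N N' P) (α := χ * γ * χ⁻¹) (fun _ a => a.1) k2
        (conj_mem_of_norm (k2 hχ) (k1 v))
        ((mem_aut fn.1).1 (inv_mem hχ)) t1 fun x hx => by
          rw [af_mul _ _ hx, af_mul _ _ (af_mem _ hx), af_inv_af _ (af_mem _ (af_mem _ hx)),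
            t2 _ (af_mem _ hx)])⟩⟩
  obtain ⟨B', b, -⟩ := exists_ppr h1 sB
  exact ⟨B', ppr_normal hR sN wn b, sub_trans (ptp_iff.1 b.2.1).1
    (sub_ppi hS sB (sub_trans l1 (NK_sub hN')) inf_le_left (h.ppi hS))⟩

theorem comp_up (eR : R = NSK S K) (hN : ∀ P f, M N P f ↔ NKM F K P f) (sN : N.IsSaturated p)
    (hX : X ≤ R) (rX : F.IsReceptive X)
    (hK : Syl p (K ⊓ autInducedBy S X) (K ⊓ F.autGroup X)) (hC : C.IsComponentIn N p)
    (hU : U ≤ C[X]) {B : FusionSystem P} (hB : B.IsNormalIn N p) (c : U ≤ CE N B p) :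
    F.IsFullyCentralized (X ⊔ P) ∧ ∀ A : FusionSystem (centralizerIn S (X ⊔ P)),
      F.IsCentralizerSystem (X ⊔ P) A → C.IsComponentIn A p := by
  have l := eR.trans_le NSK_le
  haveI := finite_of_le l
  have hR := hS.to_le l
  have sc := sc_sup hR sN hB.1.2.2.2.1 (normal_sc (NK_normal eR hN hX))
  have lY := sc.1
  have fc : F.IsFullyCentralized (X ⊔ P) := ⟨lY.trans l, fun Q a => by
    obtain ⟨f, hf, rfl⟩ := isConj_iff'.1 a
    have nY := (lY.trans eR.le).trans NSK_le_nI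
    have l1 := hf.im_nI_le le_sup_left le_rfl (nY.trans nI_le_norm)
    obtain ⟨g, g0, g1⟩ := exists_back hS rX hK (hf.mono le_sup_left)
      (X := im (X ⊔ P) f ⊔ centralizerIn S (im X f)) (sup_le l1 cI_le_nI) fun z hz => by
        obtain ⟨w, hw, y, hy, rfl⟩ := (mem_sup_of_norm fun x v => mem_norm_inf
          (le_normalizer (l1 v).1) (norm_le_norm_cent _ (l1 v).2)).1 hz
        obtain ⟨x, hx, rfl⟩ := hf.mem_im.1 hw
        obtain ⟨β, b1, b2⟩ := (mem_NSK.1 (eR.le (lY hx))).2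
        refine ⟨β, b1, fun u hu => ?_⟩
        rw [b2 u hu, hf.conj hx (mem_sup_left hu), show f x * y * f u * (f x * y)⁻¹ =
          f x * (y * f u * y⁻¹) * (f x)⁻¹ by group, ← mem_cent_iff.1 hy.2 _ (mem_im_of _ hu),
          mul_inv_cancel_right]
    have t := hf.comp g0 fun x v => mem_sup_left (mem_sup_left (mem_im_of _ v))
    have e := sc_im sc ((hN _ _).2 (t.NKM le_rfl le_sup_left (eR ▸ lY) g1)) le_rfl
    have := g0.card_cI_le (le_sup_left.trans le_sup_left) ((inf_le_inf_left _ (cent_anti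
      (im_mono f le_sup_left))).trans (le_sup_right.trans le_sup_left))
    rwa [hf.im_im, e] at this⟩
  refine ⟨fc, fun A hA => ?_⟩
  obtain ⟨A₁, a1, -⟩ := exists_CFE hR sN hB
  obtain ⟨A₂, a2⟩ := exists_C F (hX.trans l)
  have lC : CE N B p ≤ R := CE_le.trans cI_le
  haveI := finite_of_le lC
  haveI : Finite (centralizerIn S X) := finite_cI
  haveI : Finite (centralizerIn S (X ⊔ P)) := finite_cI
  obtain ⟨I, i1, -⟩ := exists_inter a1.1 (C_normal' hS eR hN sN hX a2).1 hR sN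
  have lV := inf_le_left.trans lC (a := CE N B p ⊓ centralizerIn S X)
  haveI := finite_of_le lV
  have hV := hR.to_le lV
  obtain ⟨L, hL, -⟩ := exists_ppr hV i1.1.1
  have nL := ppr_normal hR sN i1.1 hL
  have cV : CE N B p ⊓ centralizerIn S X ≤ C[X ⊔ P] := le_centralizer_iff.1 (sup_le
    (le_centralizer_iff.1 (inf_le_right.trans cI_le_cent))
    (le_centralizer_iff.1 (inf_le_left.trans (CE_le.trans cI_le_cent))))
  have sA := sat_C hS hF fc hA
  have wL := wn_sub hR nL.1 sA (sub_iff_M.2 fun Q f a => (isC_iff.1 hA _ _).2 (nk_up (NK_sub hN)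
    (cent_of hR sN nL sc (ppr_cent hV i1.1.1 hL (sc_sub i1.1.2.2.1 sc)
      (cV.trans (cent_anti inf_le_left))) (fun _ _ a => a) hL.1 (Or.inr cV) a)))
    (sub_iff_M.2 fun Q f a => nk_sub eR hN le_sup_left ((isC_iff.1 hA _ _).1 a))
  obtain ⟨L', hL', -⟩ := exists_ppr hV hL.1
  have := comp_of_le hR hC (ppr_normal hR sN nL.1 hL').1
    (le_inf c (le_inf ((sub_le (subn_le hC.1)).trans l) hU))
  exact ⟨.step this.1 (ppr_normal (hS.to_le cI_le) sA wL hL'), hC.2⟩

theorem comp_le_layer (hE : E.IsLayerOf F p) : ∀ X ≤ S, F.IsFullyCentralized X →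
    ∀ A : FusionSystem (centralizerIn S X), F.IsCentralizerSystem X A →
    ∀ (U : Subgroup Ω) (C : FusionSystem U), C.IsComponentIn A p → U ≤ T := by
  obtain ⟨D, h⟩ := exists_PS hE.1
  refine down_ind fun X hX ih fc A hA U C hC => by_contra fun hU => ?_
  have eR := (NSK_autInd (S := S) (Q := X)).symm
  obtain ⟨N, hN⟩ := exists_NK F hX _ eR
  obtain ⟨N', hN'⟩ := exists_NK D hX _ eR
  have rX := sat_fc_rec hS hF fc
  have sN := sat_autInd hS hF rX le_rfl eR hN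
  have hD := h.sat hS hF
  have sN' := sat_autInd hS hD (sat_fc_rec hS hD (fc_sub hS hF sc_top h.sub hX fc)) le_rfl eR hN'
  haveI : Finite (normalizerIn S X) := finite_nI
  haveI := finite_of_le hX
  have hR := hS.to_le (nI_le : normalizerIn S X ≤ S)
  have hC' : C.IsComponentIn N p := ⟨.step hC.1 (C_normal' hS eR hN sN (le_nI hX) hA), hC.2⟩
  have lA := subn_le hC.1
  have lU := sub_le lA
  have key : ∀ Q, F.StronglyClosed Q → ∀ B : FusionSystem (Q ⊓ normalizerIn S X :),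
      B.IsNormalIn N p → ¬ C.IsComponentIn B p → Q ≤ X := fun Q sQ B hB nB => by
    obtain ⟨a, b⟩ := comp_up hS hF eR hN sN (le_nI hX) rX (by
      rw [inf_idem, inf_eq_left.2 (autInd_le_aut hX le_rfl)]
      exact Syl.self (isPGroup_autInd hS)) hC' (lU.trans cI_le_cent) hB
      ((comp_dich hR sN hC' hB).resolve_left nB).1
    by_contra hn
    obtain ⟨x, x1, x2, x3⟩ := exists_mem_norm_not hS hX sQ.1 (hX.trans (sc_le_norm sQ)) hn
    obtain ⟨A', hA'⟩ := exists_C F a.1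
    exact hU (ih _ a.1 (card_lt_of_lt' a.1 (left_lt_sup.2 fun v => x3 (v ⟨x1, sQ.1 x1, x2⟩))) a A' hA'
      U C (b A' hA'))
  obtain ⟨B, b1, -⟩ := exists_NE hS hF h eR hN hN' sN sN' hX
  have lT := key T h.sc B b1 fun c => hU ((sub_le (subn_le c.1)).trans inf_le_left)
  have nQ := normal_inf' hS (normal_core (F := F)) sN (NK_sub hN)
  haveI := finite_of_le nQ.1
  have lQ := key _ (normal_sc normal_core) _ (inner_normal hR sN nQ) fun c =>
    not_comp_of_hyp (hR.to_le nQ.1) c (le_bot_iff.1 ((hyp_mono (subn_le c.1)).trans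
      (CfsgH2.hyp_inner (hR.to_le nQ.1)).le))
  obtain ⟨A', hA'⟩ := exists_C F h.sc.1
  haveI : Finite (centralizerIn S T) := finite_cI
  have lS := lU.trans cI_le
  haveI := finite_of_le lS
  have fx : ∀ P f, M C P f → NKM F (⊥ : Subgroup (MulAut X)) P f := fun P f a =>
    (isC_iff.1 hA _ _).1 (a.sub lA)
  have l1 : U ≤ CE F E p := hC.2.2.1.ge.trans (hyp_le_foc.trans ((foc_le_iff.2 fun P f a x hx =>
    mem_foc (nk_sub NSK_bot.symm (isC_iff.1 hA') lT (fx P f a)) hx).trans (foc_le_CE hS hF hE.1 hA')))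
  have l2 : U ≤ X := ((le_inf l1 (lU.trans (cI_le_cent.trans (cent_anti lQ)))).trans
    (CE_cent_le hS hF hE)).trans lQ
  refine qs_not_le (hS.to_le lS) hC.2 (le_center (central_of_fix (hS.to_le lS) hC.2.1 le_rfl
    fun P f a x hx v => ?_))
  obtain ⟨-, g, -, c, d⟩ := NKM_bot_iff.1 (fx P f a)
  rw [← c x hx, d x (l2 v)]

theorem layer_balance (hX : F.IsFullyNormalized X) {N : FusionSystem (normalizerIn S X)}
    (hN : F.IsNormalizerSystem X N) {EN : FusionSystem U} (hEN : EN.IsLayerOf N p)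
    (hE : E.IsLayerOf F p) : EN.IsSubsystemOf E := by
  obtain ⟨D, h⟩ := exists_PS hE.1
  obtain ⟨N', hN'⟩ := exists_N D hX.1
  have sN := sat_N hS hF hX hN
  haveI : Finite (normalizerIn S X) := finite_nI
  have hR := hS.to_le (nI_le : normalizerIn S X ≤ S)
  obtain ⟨B, b1, b2⟩ := exists_NE hS hF h NSK_top.symm (isN_iff.1 hN) (isN_iff.1 hN') sN
    (sat_N hS (h.sat hS hF) (fn_of_sub h.sub hX nI_le) hN') hX.1
  refine sub_trans (hEN.2.2 _ B b1 fun V C hC => subn_le (comp_of_le hR hC b1.1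
    (le_inf ?_ (sub_le (subn_le hC.1)))).1) b2
  obtain ⟨A, hA⟩ := exists_C F hX.1
  exact comp_le_layer hS hF hE X hX.1 (sat_fn_fc hS hF hX) A hA V C (comp_of_le hR hC
    (C_normal' hS NSK_top.symm (isN_iff.1 hN) sN (le_nI hX.1) hA).1
    ((NKM_bot_iff.1 (comp_le_C hC.1 hR hC.2 sN X (NK_normal NSK_top.symm (isN_iff.1 hN)
      (le_nI hX.1)) V _ (M_id le_rfl))).1.trans (inf_le_inf_right _ nI_le)))

end CfsgH2
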