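import Cfsg.Agent.H2.Sa28

/-! The product of a normal subsystem with a subgroup: uniqueness. -/

namespace CfsgH2
open Cfsg Subgroup CfsgL0 Function
open Cfsg.FusionSystem hiding inv_mem center

variable {Ω : Type*} [Group Ω] {S T U V W X Y : Subgroup Ω} {F D : FusionSystem S}
  {P Q R : Subgroup Ω} {f g k : Ω → Ω} {p : ℕ} {E : FusionSystem T} {A B : FusionSystem R}

theorem pp_hyp [Finite S] [hp : Fact p.Prime] (hf : M F P f) (m : ∀ x ∈ P, f x ∈ P)
    (o : PPo p P f) : ∀ x ∈ P, x⁻¹ * f x ∈ F.hyperfocalSubgroup p := fun x hx => by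
  obtain ⟨α, a, e⟩ := hf.exists_aut (hf.im_eq_of_le le_rfl m)
  exact e x hx ▸ hyp_le_iff'.1 le_rfl P hf.le α a (o.congr m e).cop x hx

variable [Finite S] [hp : Fact p.Prime] (hS : IsPGroup p S) (hF : F.IsSaturated p)
include hS

theorem le_of_ppi (hD : D.IsSaturated p) (hF : F.IsSaturated p) (l : D.IsSubsystemOf F)
    (n : S ≤ N[T]) (sE : E.IsSaturated p) (iD : E.HasPPowerIndexIn D p)
    (iF : E.HasPPowerIndexIn F p) : F.IsSubsystemOf D := by
  have nD := ppi_normal hS hD n sE iD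
  have nF := ppi_normal hS hF n sE iF
  have hT := nF.1.2.2.2.1
  haveI := finite_of_le hT.1
  refine sub_iff_M.2 (alperin_pp hS hF _ (cl_M (F := F) D).congr (fun _ u _ hg => M_conj u hg)
    (cl_M D).comp (cl_M D).inv fun P fn c1 c2 f hf m o => ?_)
  have c := inf_centric_of_cr hS hF nF.1.2.2 c1 c2
  have t : ∀ x ∈ P, x⁻¹ * f x ∈ T := fun x hx => (ppi_iff.1 iF).2.1 (pp_hyp hf m o x hx)
  have m' : ∀ x ∈ P ⊓ T, f x ∈ P ⊓ T := fun x v => ⟨m x v.1, sc_mem hT hf v.1 v.2⟩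
  have lY : P ≤ normalizerIn S (P ⊓ T) :=
    le_inf fn.1 (le_norm_inf le_normalizer (fn.1.trans n))
  obtain ⟨g, g0, -, g2, g3⟩ := (xt_of_inn hS hD nD.1.2.2 c (fun R' u f => lemL hS hD nD (by
    obtain ⟨k, k0, rfl⟩ := isConj_iff'.1 u
    exact inv_centric nD.1.2.2 c k0)) lY (ppi_pp iF inf_le_right (hf.mono inf_le_left) m'
      (o.mono inf_le_left)) m' (o.mono inf_le_left) fun y hy =>
        ⟨y⁻¹ * f y, mem_inf.2 ⟨mul_mem (inv_mem hy) (m y hy), t y hy⟩, fun x hx => by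
          rw [hf.conj hy hx.1, mul_inv_cancel_left]⟩).pp (lY.trans nI_le_norm) m'
      (o.mono inf_le_left)
  replace g0 := g0.mono le_sup_right
  have gP : ∀ x ∈ P, g x ∈ P := fun x v => by simpa using mul_mem v (g3 x (mem_sup_right v)).1
  obtain ⟨j, j0, j1, j2, -⟩ := g0.exists_inv' (g0.im_eq_of_le le_rfl gP)
  obtain ⟨s, s1, s2⟩ := exists_S_of_fix hS hF hT fn (hf.comp (j0.sub l) m) (fun x v w => by
    rw [← g2 x ⟨v, w⟩, j1 x v]) (fun x v => by
      have := (g3 _ (mem_sup_right (j2 _ (m x v)).1)).2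
      rw [(j2 _ (m x v)).2] at this
      simpa [mul_assoc] using mul_mem (t x v) (inv_mem this)) fun x v => (j2 _ (m x v)).1
  have n : s ∈ N[P] := mem_norm_of_conj' fn.1 fun x v => s2 x v ▸ (j2 _ (m x v)).1
  exact ((M_conj fn.1 s1).comp g0 fun _ => conj_mem_of_norm n).congr fun x v => by
    rw [← s2 x v, (j2 _ (m x v)).2]

theorem PrS.le_of (h : PrS F E p D) (sA : A.IsSaturated p) (lA : A.IsSubsystemOf F)
    (iA : E.HasPPowerIndexIn A p) : A.IsSubsystemOf D := by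
  have l := sub_le lA
  haveI := finite_of_le l
  have hR := hS.to_le l
  have nA := ppi_normal hR sA (l.trans (sc_le_norm h.sc)) h.nor.1.1 iA
  refine sub_iff_M.2 (alperin_pp hR sA _ (cl_M (F := A) D).congr
    (fun _ u _ hg => M_conj (u.trans l) (l hg)) (cl_M D).comp (cl_M D).inv
    fun P _ c1 c2 f hf m o => ?_)
  have r := ppi_pp iA inf_le_right (hf.mono inf_le_left)
    (fun x v => ⟨m x v.1, sc_mem h.sc (hf.sub lA) v.1 v.2⟩) (o.mono inf_le_left)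
  exact h.gen ⟨inf_centric_of_cr hR sA nA.1.2.2 c1 c2, ⟨hf.sub lA, m,
    fun x hx => (ppi_iff.1 iA).2.1 (pp_hyp hf m o x hx), r, r⟩, o⟩

include hF

theorem prod_uniq (hE : E.IsNormalIn F p) (sA : A.IsSaturated p) (lA : A.IsSubsystemOf F)
    (iA : E.HasPPowerIndexIn A p) (sB : B.IsSaturated p) (lB : B.IsSubsystemOf F)
    (iB : E.HasPPowerIndexIn B p) : A.IsSubsystemOf B := by
  obtain ⟨D, h⟩ := exists_PS hE
  have l := sub_le lA
  haveI := finite_of_le l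
  have lT := sub_le (ppi_iff.1 iA).1
  obtain ⟨G, sG, iG⟩ := exists_ppi hS (h.sat hS hF) ((h.hyp hS).trans lT) l
  refine sub_trans (sub_ppi hS sA (h.le_of hS sA lA iA) le_rfl iG) (le_of_ppi (hS.to_le l) sB sG
    (sub_ppi hS sB (h.le_of hS sB lB iB) le_rfl iG) (l.trans (sc_le_norm h.sc)) hE.1.1 iB
    (ppi_iff.2 ⟨sub_ppi hS hE.1.1 (h.subE hS) lT iG, ppi_hyp hS iG ▸ h.hyp hS, fun P u =>
      haveI := finite_of_le (u.trans h.sc.1)
      (piRes_mono (aut_mono (ppi_iff.1 iG).1)).trans ((ppi_iff.1 (h.ppi hS)).2.2 P u)⟩))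

theorem pres_normal (hE : E.IsNormalIn F p) {E₀ : FusionSystem (E.hyperfocalSubgroup p)}
    (h0 : E.IsPResidual p E₀) : E₀.IsNormalIn F p := by
  obtain ⟨D, h⟩ := exists_PS hE
  have w := pres_wn hS hE.1 h0
  refine normalIn_iff'.2 ⟨w, fun f hf => ?_⟩
  obtain ⟨g, a, b⟩ := (normalIn_iff'.1 (ppi_normal hS (h.sat hS hF) (sc_le_norm w.2.2.2.1) h0.1
    (ppi_trans hS (h.ppi hS) h0.2))).2 f hf
  exact ⟨g, a.sub h.sub, b⟩

theorem prod_thm (hE : E.IsNormalIn F p) (hTR : T ≤ R) (hRS : R ≤ S) :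
    ∃ D : FusionSystem R, (D.IsSaturated p ∧ D.IsSubsystemOf F ∧
      D.hyperfocalSubgroup p = E.hyperfocalSubgroup p ∧
      ∀ (D₁ : FusionSystem (D.hyperfocalSubgroup p)) (E₁ : FusionSystem (E.hyperfocalSubgroup p)),
        D.IsPResidual p D₁ → E.IsPResidual p E₁ → ∀ P : Subgroup Ω, D₁.Hom P = E₁.Hom P) ∧
      ∀ D' : FusionSystem R, D'.IsSaturated p → D'.IsSubsystemOf F →
        D'.hyperfocalSubgroup p = E.hyperfocalSubgroup p →
        (∀ (D₁ : FusionSystem (D'.hyperfocalSubgroup p))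
          (E₁ : FusionSystem (E.hyperfocalSubgroup p)), D'.IsPResidual p D₁ → E.IsPResidual p E₁ →
          ∀ P : Subgroup Ω, D₁.Hom P = E₁.Hom P) → ∀ P : Subgroup Ω, D'.Hom P = D.Hom P := by
  obtain ⟨D, h⟩ := exists_PS hE
  haveI := finite_of_le hRS
  haveI := finite_of_le hTR
  obtain ⟨G, sG, iG⟩ := exists_ppi hS (h.sat hS hF) ((h.hyp hS).trans hTR) hRS
  have e := (ppi_hyp hS iG).trans (ppi_hyp hS (h.ppi hS)).symm
  have lG := sub_trans (ppi_iff.1 iG).1 h.sub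
  have u : ∀ (D₁ : FusionSystem (G.hyperfocalSubgroup p))
      (E₁ : FusionSystem (E.hyperfocalSubgroup p)), G.IsPResidual p D₁ → E.IsPResidual p E₁ →
      ∀ P : Subgroup Ω, D₁.Hom P = E₁.Hom P := fun D₁ E₁ a b =>
    hom_eq_of_ppi hS e a.1 (ppi_trans hS iG a.2) b.1 (ppi_trans hS (h.ppi hS) b.2)
  obtain ⟨E₀, h0⟩ := exists_ppi (hS.to_le h.sc.1) hE.1.1 le_rfl hyp_le
  have key : ∀ D' : FusionSystem R, D'.IsSaturated p →
      D'.hyperfocalSubgroup p = E.hyperfocalSubgroup p →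
      (∀ (D₁ : FusionSystem (D'.hyperfocalSubgroup p))
        (E₁ : FusionSystem (E.hyperfocalSubgroup p)), D'.IsPResidual p D₁ → E.IsPResidual p E₁ →
        ∀ P : Subgroup Ω, D₁.Hom P = E₁.Hom P) → E₀.HasPPowerIndexIn D' p := fun D' a b c => by
    obtain ⟨D₁, h1⟩ := exists_ppi (hS.to_le hRS) a le_rfl hyp_le
    have v := hom_eq_iff_M.1 (c D₁ E₀ h1 h0)
    obtain ⟨i1, -, i3⟩ := ppi_iff.1 h1.2
    exact ppi_iff.2 ⟨sub_iff_M.2 fun P f w => ((v P f).2 w).sub i1, b.le, fun P l =>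
      (i3 P (b ▸ l)).trans (aut_mono (sub_iff_M.2 fun P f => (v P f).1))⟩
  have n0 := pres_normal hS hF hE h0
  refine ⟨G, ⟨sG, lG, e, u⟩, fun D' a b c d => hom_eq_iff_M.2 fun P f => ⟨fun w => w.sub
    (prod_uniq hS hF n0 a b (key D' a c d) sG lG (key G sG e u)), fun w => w.sub
    (prod_uniq hS hF n0 sG lG (key G sG e u) a b (key D' a c d))⟩⟩

end CfsgH2
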