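import Cfsg.Agent.H2.Sa2

/-! The residual subsystem of index prime to `p`. -/

namespace CfsgH2
open Cfsg Subgroup CfsgL0 Function
open Cfsg.FusionSystem hiding inv_mem center

variable {Ω : Type*} [Group Ω] {S T : Subgroup Ω} {F : FusionSystem S} {P Q R : Subgroup Ω}
  {f g : Ω → Ω} {p : ℕ}

/-- admissible systems -/
def Adm (F : FusionSystem S) (p : ℕ) (D : FusionSystem S) : Prop :=
  (∀ P, F.IsCentric P → ∀ α ∈ F.autGroup P, IsPGroup p (zpowers α) → M D P (af α)) ∧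
    ∀ R Q f, M F R f → Q ≤ R → F.IsCentric Q → M D Q f → M D R f

theorem exists_infFS (F : FusionSystem S) (X : FusionSystem S → Prop) :
    ∃ E : FusionSystem S, ∀ P f, M E P f ↔ M F P f ∧ ∀ D, X D → M D P f :=
  exists_subFS F S _ (fun _ _ h => h.1) (fun _ _ h => ⟨h.1.le, fun _ => h.1.mem⟩)
    (fun _ _ _ h e => ⟨h.1.congr e, fun D x => (h.2 D x).congr e⟩)
    (fun _ l _ hg => ⟨M_conj l hg, fun _ _ => M_conj l hg⟩)
    (fun _ _ _ _ a b m => ⟨a.1.comp b.1 m, fun D x => (a.2 D x).comp (b.2 D x) m⟩)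
    fun _ _ a => let ⟨g, b, c, _⟩ := a.1.exists_inv
      ⟨g, ⟨b, fun D x => (a.2 D x).of_leftInv c⟩, c⟩

/-- `f` is `α` after a map of `D` -/
def WD (D : FusionSystem T) (α : MulAut T) (P : Subgroup Ω) (f : Ω → Ω) : Prop :=
  ∃ d, M D P d ∧ ∀ x ∈ P, f x = af α (d x)

theorem WD.comp {D E : FusionSystem T} (hA : AI D E) {α β : MulAut T} (hα : α ∈ E.autGroup T)
    (h : WD D α P f) (h' : WD D β Q g) (hm : ∀ x ∈ P, f x ∈ Q) :
    WD D (β * α) P fun x => g (f x) := by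
  obtain ⟨f₀, c, d⟩ := h
  obtain ⟨g₀, c', d'⟩ := h'
  have := hA _ _ α⁻¹ (inv_mem hα) (fun y => af α⁻¹ (g₀ (af α y))) c' fun x hx => by
    rw [af_af_inv _ (c'.le hx)]
  refine ⟨_, c.comp this fun x hx => ?_, fun x hx => ?_⟩
  · have := mem_im_of (af α⁻¹) (hm x hx)
    rwa [d x hx, af_inv_af _ (c.mem hx)] at this
  · have h1 := c'.mem (hm x hx)
    beta_reduce
    rw [d' _ (hm x hx), ← d x hx, af_mul _ _ (af_mem _ h1), af_af_inv _ h1]

theorem WD.pow {D E : FusionSystem T} (hA : AI D E) {α : MulAut T} (hα : α ∈ E.autGroup T)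
    (hP : P ≤ T) {γ : MulAut P} (h : WD D α P (af γ)) (m : ℕ) : WD D (α ^ m) P (af (γ ^ m)) := by
  induction m with
  | zero => exact ⟨_, M_id hP, fun x hx => by rw [pow_zero, pow_zero, af_one hx, af_one (hP hx)]⟩
  | succ m ih =>
    obtain ⟨d, a, b⟩ := ih.comp hA (pow_mem hα m) h fun _ => af_mem _
    exact ⟨d, a, fun x hx => by rw [pow_succ' α, ← b x hx, af_pow_succ _ _ hx]⟩

theorem af_pow_of_fix {γ : MulAut R} (l : Q ≤ R) (h1 : ∀ x ∈ Q, af γ x = x)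
    (h2 : ∀ x ∈ R, x⁻¹ * af γ x ∈ Q) (n : ℕ) : ∀ x ∈ R, af (γ ^ n) x = x * (x⁻¹ * af γ x) ^ n := by
  intro x hx
  induction n with
  | zero => rw [pow_zero, pow_zero, af_one hx, mul_one]
  | succ n ih =>
    have := pow_mem (h2 x hx) n
    rw [af_pow_succ _ _ hx, ih, (homOn_af γ).mul hx (l this), h1 _ this, pow_succ']
    simp only [← mul_assoc, mul_inv_cancel, one_mul]

variable [Finite S] [hp : Fact p.Prime] (hS : IsPGroup p S)
include hS

theorem pgroup_of_fix {γ : MulAut R} (hR : R ≤ S) (l : Q ≤ R) (h1 : ∀ x ∈ Q, af γ x = x)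
    (h2 : ∀ x ∈ R, x⁻¹ * af γ x ∈ Q) : IsPGroup p (zpowers γ) := by
  obtain ⟨k, e⟩ := IsPGroup.iff_card.1 hS
  refine isPGroup_zpowers (k := k) (af_ext fun x hx => ?_)
  have := congrArg Subtype.val (pow_card_eq_one' (G := S) (x := ⟨_, hR (l (h2 x hx))⟩))
  rw [e] at this
  rw [af_pow_of_fix l h1 h2 _ x hx, af_one hx, show _ ^ p ^ k = _ from this]; simp

variable (hF : F.IsSaturated p)
include hF

theorem adm_of_sat {D : FusionSystem S} (h1 : D.IsSaturated p) (h2 : D.HasPrimeToPIndexIn F p) :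
    Adm F p D :=
  ⟨fun P hP α a b => haveI := finite_of_le hP.1
    (mem_aut hP.1).1 (opp_le_iff.1 ((ptp_iff.1 h2).2 P hP.1) α a b),
    fun _ Q _ a b c d => M_of_centric hS hF h1 h2.1 a Q c.1 b c d⟩

theorem fr_of_adm {D : FusionSystem S} (l : D.IsSubsystemOf F)
    (h : ∀ P, F.IsCentric P → ∀ α ∈ F.autGroup P, IsPGroup p (zpowers α) → M D P (af α)) :
    Fr D F := by
  obtain ⟨D', a, -, b⟩ := fr_of_centric hS hF l fun P hP => by
    haveI := finite_of_le hP.1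
    exact opp_le_iff.2 fun α a b => (h P hP α a b).af_mem_aut
  exact b.mono a

theorem exists_ppr : ∃ E, F.IsPPrimeResidual p E ∧ ∀ D, Adm F p D → E ≤ D := by
  obtain ⟨E, hE⟩ := exists_infFS F (Adm F p)
  have l : E.IsSubsystemOf F := sub_iff_M.2 fun P f h => ((hE P f).1 h).1
  have m : ∀ D, Adm F p D → E ≤ D := fun D a => le_iff_M.2 fun P f h => ((hE P f).1 h).2 D a
  have a : Adm F p E := ⟨fun P c α a b => (hE _ _).2 ⟨(mem_aut c.1).1 a, fun D d => d.1 P c α a b⟩,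
    fun R Q f a b c d => (hE _ _).2 ⟨a, fun D e => e.2 R Q f a b c (((hE _ _).1 d).2 D e)⟩⟩
  have fr := fr_of_adm hS hF l a.1
  refine ⟨E, ⟨sat_of_family hS (H := {P | F.IsCentric P}) (fun P h Q c => ?_) (fun P h => ?_)
    (fun D h => ?_) (fun P c n => (n (centric_of_fr fr c)).elim) centric_top,
    ptp_iff.2 ⟨l, fun P => ptp_of_fr hS hF fr⟩, fun D c d => m D (adm_of_sat hS hF c d)⟩, m⟩
  · obtain ⟨f, hf, rfl⟩ := isConj_iff'.1 c
    exact centric_conj h (hf.sub l).isConj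
  · obtain ⟨f, hf, b⟩ := sat_nmap_fn hS hF h.1
    obtain ⟨α, c, d, e, e'⟩ := fr P h.1 f (hf.mono (le_nI h.1))
    have t := ((mem_aut le_rfl).1 (inv_mem c)).fn_im b nI_le
    rw [(hf.mono (le_nI h.1)).im_im, im_congr (g := d) fun x hx => by
      rw [e' x hx, af_inv_af _ (e.mem hx)]] at t
    haveI := finite_of_le t.1
    refine ⟨_, e.isConj, fa_iff.2 ⟨t.1, (sat_syl hS hF t).mono (autInd_le_aut t.1 le_rfl)
      (aut_mono l)⟩, rec_iff.2 ⟨t.1, fun Q g hg e1 => ?_⟩⟩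
    obtain ⟨k, u, v⟩ := sat_ext hS hF (hg.sub l) (e1 ▸ sat_fn_fc hS hF t)
    exact ⟨k, a.2 _ Q k u hg.le_Ext (centric_conj (centric_conj h (e.sub l).isConj)
      (fconj_symm (e1 ▸ (hg.sub l).isConj))) (hg.congr v), v⟩
  · obtain ⟨E', hE'⟩ := exists_infFS E (· = D)
    have h' : ∀ P, F.IsCentric P → ∀ f, M E P f → M E' P f := fun P c f b =>
      (hE' _ _).2 ⟨b, fun _ e => e ▸ (hom_iff' fun _ => rfl).1 (h P c b.hom_mem)⟩
    refine le_iff_M.2 fun P f b => ((hE' P f).1 (le_iff_M.1 (m E' ⟨fun P c α u v => ?_,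
      fun R Q f u v c w => ?_⟩) P f b)).2 D rfl
    · exact h' P c _ (a.1 P c α u v)
    · exact h' R (centric_mono c v u.le) f (a.2 R Q f u v c ((hE' _ _).1 w).1)

theorem ppr_le {E D : FusionSystem S} (h : F.IsPPrimeResidual p E) (hD : Adm F p D) : E ≤ D :=
  let ⟨_, a, b⟩ := exists_ppr hS hF
  fun P => (h.2.2 _ a.1 a.2.1 P).trans (b D hD P)

theorem ppr_fr {E : FusionSystem S} (h : F.IsPPrimeResidual p E) : Fr E F :=
  fr_of_adm hS hF h.2.1.1 (adm_of_sat hS hF h.1 h.2.1).1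

theorem adm_of {D : FusionSystem S} (hA : AI D F)
    (h1 : ∀ P, F.IsCentric P → ∀ α ∈ F.autGroup P, IsPGroup p (zpowers α) → M D P (af α))
    (h2 : ∀ R Q f, M F R f → Q < R → R ≤ N[Q] → F.IsCentric Q → M D Q f →
      ∃ g, M D R g ∧ ∀ x ∈ Q, g x = f x) : Adm F p D := by
  refine ⟨h1, fun R Q f hf l c => ?_⟩
  obtain ⟨E, hE⟩ := exists_infFS F (· = D)
  have fr : Fr E F := fr_of_adm hS hF (sub_iff_M.2 fun P f h => ((hE P f).1 h).1)
    fun P c α a b => (hE _ _).2 ⟨(mem_aut c.1).1 a, fun _ e => e ▸ h1 P c α a b⟩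
  have hQ := c.1
  revert Q
  suffices ∀ Q ≤ S, Q ≤ R → F.IsCentric Q → M D Q f → M D R f from fun Q a b c => this Q c a b
  refine down_ind fun Q hQ ih l c h => ?_
  rcases l.eq_or_lt with rfl | lt
  · exact h
  have a := lt_nI hS hf.le lt
  have hf' := hf.mono (inf_le_left : R ⊓ N[Q] ≤ R)
  refine ih _ hf'.le (card_lt_of_lt' hf'.le a) inf_le_left (centric_mono c a.le hf'.le) ?_
  have hn : R ⊓ N[Q] ≤ N[Q] := inf_le_right
  generalize R ⊓ N[Q] = U at a hf' hn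
  obtain ⟨g, b, d⟩ := h2 U Q f hf' a hn c h
  have z : ∀ x ∈ U, (g x)⁻¹ * f x ∈ im Q f := fun x hx => by
    refine centric_cI (centric_conj c (hf'.mono a.le).isConj)
      ⟨S.mul_mem (S.inv_mem (b.mem hx)) (hf'.mem hx), mem_cent_iff.2 fun w hw => ?_⟩
    obtain ⟨y, hy, rfl⟩ := (hf'.mem_im' a.le).1 hw
    have u := b.conj hx (a.le hy)
    rw [d _ (conj_mem_of_norm (hn hx) hy), d y hy, hf'.conj hx (a.le hy)] at u
    calc f y * ((g x)⁻¹ * f x) = (g x)⁻¹ * (g x * f y * (g x)⁻¹) * f x := by group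
      _ = (g x)⁻¹ * f x * f y := by rw [← u]; group
  have z' : ∀ x ∈ U, (g x)⁻¹ * f x ∈ im Q g := fun x hx => im_congr d ▸ z x hx
  have m : ∀ x ∈ U, f x ∈ im U g := fun x hx => by
    simpa using mul_mem (mem_im_of g hx) (im_mono g a.le (z' x hx))
  obtain ⟨k, hk, k1, k2, k3⟩ := b.exists_inv
  have e : im U f = im U g := eq_of_le_card b.im_le (im_le_iff.2 m) (by rw [b.card_im, hf'.card_im])
  let γ : MulAut U := (hf'.equiv e).trans (hk.equiv k3)
  have eγ : ∀ x ∈ U, af γ x = k (f x) := fun x hx => by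
    rw [af_apply γ hx]; rfl
  obtain ⟨α, u, d', v, w⟩ := fr U hf'.le f hf'
  have W := (WD.comp hA u ⟨d', ((hE _ _).1 v).2 D rfl, w⟩
    (⟨k, hk, fun x hx => (af_one (hk.mem hx)).symm⟩ : WD D 1 _ k) m)
  rw [one_mul] at W
  have W' : WD D α U (af γ) := let ⟨d, a, b⟩ := W; ⟨d, a, fun x hx => (eγ x hx).trans (b x hx)⟩
  obtain ⟨d1, v1, w1⟩ := W'.pow hA u hf'.le ((Inn S).relIndex (F.autGroup S))
  obtain ⟨s, v2, w2⟩ := mem_inn.1 (pow_relIndex_mem (Inn S) u)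
  haveI := finite_of_le hf'.le
  have pγ := pgroup_of_fix hS (γ := γ) hf'.le a.le (fun x hx => by
    rw [eγ x (a.le hx), ← d x hx, k1 x (a.le hx)]) fun x hx => by
      obtain ⟨y, hy, ey⟩ := (b.mem_im' a.le).1 (z' x hx)
      rw [eγ x hx, show f x = g x * g y by rw [ey]; group, ← b.mul hx (a.le hy),
        k1 _ (mul_mem hx (a.le hy))]
      simpa using hy
  have hγ : γ ∈ D.autGroup U := mem_of_pow_mem_coprime (n := (Inn S).relIndex (F.autGroup S))
    (((v1.conj_comp v2).congr fun x hx => by rw [w1 x hx, w2 _ (v1.mem hx)]).af_mem_aut) (by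
      obtain ⟨j, ej⟩ := pgroup_mem_order pγ (mem_zpowers γ)
      rw [ej, inn_eq]
      exact ((Nat.Prime.coprime_iff_not_dvd hp.out).2 (sat_syl hS hF fn_top).nd).pow_left j)
  exact (((mem_aut hf'.le).1 hγ).comp b fun _ => af_mem γ).congr fun x hx => by
    rw [eγ x hx, (k2 _ (m x hx)).2]

omit hF in
theorem si_pelem {E D : FusionSystem T} (hE : E.IsSaturated p) (l : E.IsSubsystemOf F)
    (h : SI D F) (hP : P ≤ T) {α : MulAut P} (hα : α ∈ E.autGroup P)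
    (h1 : IsPGroup p (zpowers α)) : M D P (af α) := by
  haveI := finite_of_le (sub_le l)
  obtain ⟨f, a, -, k, b, c⟩ := exists_conj_pelem (hS.to_le (sub_le l)) hE hP hα h1
  obtain ⟨g, d1, d2, d3, d4⟩ := a.exists_inv
  have := h _ _ _ _ (af α) (M_conj a.im_le b) (d1.sub l) le_rfl (fun y hy => by
    rw [← (d3 y hy).2, ← c _ (d3 y hy).1]; exact mem_im_of f (af_mem _ (d3 y hy).1)) fun y hy => by
      obtain ⟨x, hx, rfl⟩ := a.mem_im.1 hy
      rw [← c x hx, d2 x hx, d2 _ (af_mem _ hx)]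
  rwa [d4] at this

omit hS hF [Finite S] hp in
theorem AI.sub {E D : FusionSystem T} (h : AI D F) (l : E.IsSubsystemOf F) : AI D E :=
  fun P f α a => h P f α (aut_mono l a)

omit hF in
theorem ppr_le_wn {E D D' : FusionSystem T} (hE : E.IsWeaklyNormalIn F p)
    (hD : E.IsPPrimeResidual p D) (h : D'.IsWeaklyNormalIn F p) : D ≤ D' := by
  have l := hE.2.2.1
  haveI := finite_of_le (sub_le l)
  have hT := hS.to_le (sub_le l)
  refine ppr_le hT hE.1 hD (adm_of hT hE.1 (AI.sub (inv_iff.1 h.2.2).2.2.1 l)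
    (fun P c α a b => si_pelem hS hE.1 l (si_of_inv h.2.2) c.1 a b) fun R Q f a b n c d => ?_)
  obtain ⟨g, u, v⟩ := sat_ext hT h.1 d (centric_fc ⟨d.im_le, fun U e => by
    obtain ⟨k, hk, rfl⟩ := isConj_iff'.1 e
    exact centric_cI (inv_centric hE.2.2 (centric_conj c (a.mono b.le).isConj) (hk.sub h.2.2.1))⟩)
  exact ⟨g, u.mono ((le_inf le_rfl n).trans (a.le_Ext_of b.le fun _ _ => rfl)), v⟩

end CfsgH2
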