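import Cfsg.Agent.H2.Sa29
import Cfsg.Agent.L0.Bis3
import Cfsg.Agent.L0.Thom
import Cfsg.Agent.S5295

/-! Normal subsystems with small centralizer. -/

namespace CfsgH2
open Cfsg Subgroup CfsgL0 Function
open Cfsg.FusionSystem hiding inv_mem center
open scoped commutatorElement

variable {Ω : Type*} [Group Ω] {S T : Subgroup Ω} {F : FusionSystem S} {p : ℕ}
  {E : FusionSystem T} [Finite S] [hp : Fact p.Prime] (hS : IsPGroup p S) (hF : F.IsSaturated p)
include hS hF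

theorem center_NJ (h2 : p ≠ 2) {N : FusionSystem (normalizerIn S (Wa (wJ 0) S))}
    (hN : F.IsNormalizerSystem _ N) : N.center ≤ F.center :=
  W_center' hS hF (wJ_char (dvd_zero p)).2 (fun Q _ _ _ => le_trans (le_inf le_top cent_top.ge)
    center_le_J) hN le_rfl fun V _ _ N _ L _ ι hL h _ =>
      haveI := hL.1
      Cfsg.Agent.S5295.loc h2 (model_syl hL) hL.2.2.2 (by rwa [show Wa (wJ 0) _ = _ from iw_J] at h)

theorem cent_decomp (hE : E.IsNormalIn F p) (h2 : p ≠ 2) {s : Ω} (hs : s ∈ centralizerIn S T) :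
    ∃ y ∈ centralizerIn S T, (∀ P f, M E P f → NKM F (⊥ : Subgroup (MulAut (zpowers y))) P f) ∧
      ∃ n, ¬ p ∣ n ∧ (s ^ n)⁻¹ * y ∈ T := by
  obtain ⟨D, h⟩ := exists_PS hE
  have lT := h.sc.1
  have lR : T ⊔ zpowers s ≤ S := sup_le lT (zpowers_le.2 hs.1)
  haveI := finite_of_le lR
  have hR := hS.to_le lR
  obtain ⟨G, sG, iG⟩ := exists_ppi hS (h.sat hS hF) ((h.hyp hS).trans le_sup_left) lR
  have lG := sub_trans (ppi_iff.1 iG).1 h.sub
  have lE := sub_ppi hS hE.1.1 (h.subE hS) le_sup_left iG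
  have sZ : s ∈ (T ⊔ zpowers s) ⊓ C[T ⊔ zpowers s] := ⟨mem_sup_right (mem_zpowers s),
    le_centralizer_iff.1 (sup_le (le_centralizer_iff.1 (zpowers_le.2 hs.2))
      (zpowers_le.2 (mem_cent_iff.2 fun x hx => by
        obtain ⟨k, rfl⟩ := mem_zpowers_iff.1 hx
        exact (Commute.zpow_left rfl k).eq))) (mem_zpowers s)⟩
  have lJ : Wa (wJ 0) (T ⊔ zpowers s :) ≤ T ⊔ zpowers s := Wa_le
  have eJ : Wa (wJ 0) (T ⊔ zpowers s :) = J[0, T ⊔ zpowers s] := iw_J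
  obtain ⟨N, hN⟩ := exists_N G lJ
  have nJ : T ⊔ zpowers s ≤ N[Wa (wJ 0) (T ⊔ zpowers s :)] := eJ.symm ▸ le_norm_J
  haveI : Finite (normalizerIn (T ⊔ zpowers s) (Wa (wJ 0) (T ⊔ zpowers s :))) := finite_nI
  obtain ⟨n, hn, t, -, a, -⟩ := CfsgL0.exists_tr (hR.to_le nI_le)
    (sat_N hR sG (fn_of_normal lJ nJ) hN) (NK_normal NSK_top.symm (isN_iff.1 hN) (le_nI lJ))
  obtain ⟨a1, a2⟩ := a s ⟨Z_le_Wa (le_trans (le_inf le_top cent_top.ge) center_le_J) sZ, cent_anti nI_le sZ.2⟩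
  replace a1 := center_NJ hR sG h2 hN a1
  have z := central_mono central_center (zpowers_le.2 a1)
  refine ⟨t s, ⟨lR (center_le a1), cent_anti le_sup_left (le_centralizer_iff.1
    (central_le_cent central_center) a1)⟩, fun P f hf => nk_up lG ?_, n, hn, ?_⟩
  · exact NKM_bot_iff.2 ⟨le_inf (hf.sub lE).le ((hf.sub lE).le.trans (central_le_cent z)),
      central_ext z (hf.sub lE)⟩
  have := foc_le_iff.2 (fun P f hf x hx => mem_foc (hf.sub (NK_sub (isN_iff.1 hN))) hx) a2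
  rw [foc_eq hR sG, ppi_hyp hS iG] at this
  refine sup_le (h.hyp hS) (commutator_le.2 fun x hx y hy => ?_) this
  obtain ⟨a, ha, b, hb, rfl⟩ := (mem_sup_of_norm' (zpowers_le.2 (sc_le_norm h.sc hs.1))).1 hx
  obtain ⟨c, hc, d, hd, rfl⟩ := (mem_sup_of_norm' (zpowers_le.2 (sc_le_norm h.sc hs.1))).1 hy
  have cb := zpowers_le.2 sZ hb
  have cd := zpowers_le.2 sZ hd
  have e : ⁅a * b, c * d⁆ = a * c * a⁻¹ * c⁻¹ := by
    rw [commutatorElement_def, mul_assoc a b, ← mem_cent_iff.1 cb.2 _ hy, ← mul_assoc a,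
      mul_inv_rev a, ← mul_assoc, mul_inv_cancel_right, ← mul_assoc a, mul_assoc (a * c),
      ← mem_cent_iff.1 cd.2 _ (inv_mem (mem_sup_left ha))]
    group
  exact e ▸ mul_mem (mul_mem (mul_mem ha hc) (inv_mem ha)) (inv_mem hc)

theorem small_cent (hE : E.IsNormalIn F p) (h : ∀ Y ≤ centralizerIn S T,
    (∀ C : FusionSystem (centralizerIn S Y), F.IsCentralizerSystem Y C → E.IsSubsystemOf C) →
    Y ≤ T) : ⁅T ⊔ centralizerIn S T, T ⊔ centralizerIn S T⁆ ≤ T ∧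
      (p ≠ 2 → centralizerIn S T ≤ T) := by
  have hT := hE.1.2.2.2.1
  refine ⟨commutator_le.2 fun x hx y hy => ?_, fun h2 s hs => ?_⟩
  · obtain ⟨C, hC⟩ := exists_C F hT.1
    haveI : Finite (centralizerIn S T) := finite_cI
    have l := (comm_le_foc.trans (foc_le_CE hS hF hE hC)).trans (h _ CE_le fun C c =>
      sub_iff_M.2 fun P f a => (isC_iff.1 c _ _).2 (sub_CE hS hF hE a))
    obtain ⟨a, ha, b, hb, rfl⟩ := (mem_sup_of_norm' cN).1 hx
    obtain ⟨c, hc, d, hd, rfl⟩ := (mem_sup_of_norm' cN).1 hy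
    have e : ⁅a * b, c * d⁆ = a * c * ⁅b, d⁆ * a⁻¹ * c⁻¹ := by
      have e1 := mem_cent_iff.1 hb.2 c hc
      have e2 := mem_cent_iff.1 hd.2 _ (inv_mem ha)
      calc ⁅a * b, c * d⁆ = a * (b * c) * d * b⁻¹ * (a⁻¹ * d⁻¹) * c⁻¹ := by
            rw [commutatorElement_def]; group
        _ = _ := by
            rw [← e1, show a⁻¹ * d⁻¹ = d⁻¹ * a⁻¹ from mem_cent_iff.1 (inv_mem hd.2) _ (inv_mem ha),
              commutatorElement_def]; group
    exact e ▸ mul_mem (mul_mem (mul_mem (mul_mem ha hc) (l (commutator_mem_commutator hb hd)))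
      (inv_mem ha)) (inv_mem hc)
  obtain ⟨y, a, b, n, c, d⟩ := cent_decomp hS hF hE h2 hs
  have := h _ (zpowers_le.2 a) (fun C c => sub_iff_M.2 fun P f u => (isC_iff.1 c _ _).2 (b P f u))
    (mem_zpowers y)
  exact mem_of_pow_mem' hS hs.1 c (by simpa using mul_mem this (inv_mem d))

end CfsgH2
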