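import Cfsg.Agent.H2.Sa3

/-! Normality of the residual of index prime to `p` of a weakly normal subsystem. -/

namespace CfsgH2
open Cfsg Subgroup CfsgL0 Function
open Cfsg.FusionSystem hiding inv_mem center

variable {Ω : Type*} [Group Ω] {S T : Subgroup Ω} {F : FusionSystem S} {P Q R : Subgroup Ω}
  {f g : Ω → Ω} {p : ℕ} {E : FusionSystem T}

/-- automorphisms trivial modulo `Q` -/
def TQ (X Q : Subgroup Ω) : Subgroup (MulAut X) where
  carrier := {β | ∀ x ∈ X, x⁻¹ * af β x ∈ Q}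
  mul_mem' := fun {a b} ha hb x hx => by
    have := mul_mem (hb x hx) (ha _ (af_mem b hx))
    rw [af_mul _ _ hx]; simpa [mul_assoc] using this
  one_mem' := fun x hx => by rw [af_one hx]; simp
  inv_mem' := fun {a} ha x hx => by
    have := inv_mem (ha _ (af_mem a⁻¹ hx))
    rw [af_af_inv _ hx] at this; simpa using this

theorem af_pow_res {δ : MulAut Q} {β : MulAut R} (l : Q ≤ R) (h : ∀ x ∈ Q, af δ x = af β x)
    (n : ℕ) : ∀ x ∈ Q, af (δ ^ n) x = af (β ^ n) x := by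
  intro x hx
  induction n with
  | zero => rw [pow_zero, pow_zero, af_one hx, af_one (l hx)]
  | succ n ih => rw [af_pow_succ _ _ hx, af_pow_succ _ _ (l hx), ← ih, h _ (af_mem _ hx)]

theorem comm_sup_cI (hQ : Q ≤ T) {x w : Ω} (hx : x ∈ T) (hn : x ∈ N[Q])
    (hw : w ∈ Q ⊔ centralizerIn S T) : w⁻¹ * (x * w * x⁻¹) ∈ Q := by
  obtain ⟨q, a, c, b, rfl⟩ := (mem_sup_of_norm' (le_norm_of_le_cent
    (cI_le_cent.trans (cent_anti hQ)))).1 hw
  have h1 := mul_mem (inv_mem a) (conj_mem_of_norm hn a)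
  have h2 := mem_cent_iff.1 b.2 _ (hQ h1)
  have h3 := mem_cent_iff.1 b.2 _ (inv_mem hx)
  have : (q * c)⁻¹ * (x * (q * c) * x⁻¹) = c⁻¹ * (q⁻¹ * (x * q * x⁻¹) * c) := by
    rw [mul_assoc _ _ c, mul_assoc _ _ c, h3]; group
  rw [this, h2]; simpa using h1

theorem norm_sup_cI {x : Ω} (hx : x ∈ T) (hn : x ∈ N[Q]) : x ∈ N[Q ⊔ centralizerIn S T] :=
  mem_norm_sup hn (cent_le_norm _ (mem_cent_iff.2 fun _ h => (mem_cent_iff.1 h.2 x hx).symm))

/-- `f` extends over `C_S(T)` acting trivially modulo `T` -/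
def Good (F : FusionSystem S) (T P : Subgroup Ω) (f : Ω → Ω) : Prop :=
  ∃ g, M F (P ⊔ centralizerIn S T) g ∧ (∀ x ∈ P, g x = f x) ∧
    ∀ c ∈ centralizerIn S T, c⁻¹ * g c ∈ T

variable [Finite S] [hp : Fact p.Prime] (hS : IsPGroup p S)

omit hp in
theorem cent_mem_im (h : E.IsInvariantIn F) (c : E.IsCentric P) (hf : M F P f) {x : Ω}
    (h1 : x ∈ T) (h2 : x ∈ C[im P f]) : x ∈ im P f :=
  centric_cI (inv_centric h c hf) ⟨h1, h2⟩

omit hp in
theorem good_mem (h : E.IsInvariantIn F) (c : E.IsCentric P)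
    (hg : M F (P ⊔ centralizerIn S T) g) {x : Ω} (hx : x ∈ centralizerIn S T)
    (h1 : x⁻¹ * g x ∈ T) : x⁻¹ * g x ∈ im P g :=
  cent_mem_im h c (hg.mono le_sup_left) h1 (mul_mem (inv_mem (cent_anti
    (inv_centric h c (hg.mono le_sup_left)).1 hx.2))
    (hg.mem_cent le_sup_left (mem_sup_right hx) (cent_anti c.1 hx.2)))

omit hp in
theorem good_im (h : E.IsInvariantIn F) (c : E.IsCentric P)
    (hg : M F (P ⊔ centralizerIn S T) g) (h1 : ∀ c ∈ centralizerIn S T, c⁻¹ * g c ∈ T) :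
    im (P ⊔ centralizerIn S T) g = im P g ⊔ centralizerIn S T := by
  rw [hg.homOn.im_sup]
  refine le_antisymm (sup_le le_sup_left (im_le_iff.2 fun x hx => ?_))
    (sup_le le_sup_left fun x hx => ?_)
  · simpa using mul_mem (mem_sup_right hx) (mem_sup_left (good_mem h c hg hx (h1 x hx)))
  · simpa using mul_mem (mem_sup_right (mem_im_of g hx))
      (mem_sup_left (inv_mem (good_mem h c hg hx (h1 x hx))))

omit hp in
theorem exists_good (h : E.IsInvariantIn F) : ∃ D : FusionSystem T, ∀ P f, M D P f ↔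
    M F P f ∧ P ≤ T ∧ (E.IsCentric P → Good F T P f) := by
  have hT := h.2.1
  haveI := finite_of_le hT.1
  refine exists_subFS F T _ (fun _ _ h => h.1)
    (fun _ _ h => ⟨h.2.1, fun x hx => sc_mem hT h.1 hx (h.2.1 hx)⟩)
    (fun _ _ _ ⟨a, b, c⟩ e => ⟨a.congr e, b, fun d => let ⟨g, u, v, w⟩ := c d
      ⟨g, u, fun x hx => (v x hx).trans (e x hx).symm, w⟩⟩)
    (fun P l g hg => ⟨M_conj (l.trans hT.1) (hT.1 hg), l, fun _ => ⟨_, M_conj
      (sup_le (l.trans hT.1) cI_le) (hT.1 hg), fun _ _ => rfl, fun c hc => by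
        rw [mem_cent_iff.1 hc.2 g hg]; simp⟩⟩) ?_ ?_
  · rintro P Q f g ⟨a, b, c⟩ ⟨a', b', c'⟩ m
    refine ⟨a.comp a' m, b, fun d => ?_⟩
    obtain ⟨k, u, v, w⟩ := c d
    have l : im P k ≤ Q := im_congr v ▸ im_le_iff.2 m
    obtain ⟨k', u', v', w'⟩ := c' (centric_mono (inv_centric h d (u.mono le_sup_left)) l b')
    refine ⟨_, u.comp u' (im_le_iff.1 ((good_im h d u w).trans_le (sup_le_sup_right l _))),
      fun x hx => by rw [v x hx, v' _ (m x hx)], fun x hx => ?_⟩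
    have t := l (good_mem h d u hx (w x hx))
    rw [show k x = x * (x⁻¹ * k x) by group, u'.mul (mem_sup_right hx) (mem_sup_left t),
      ← mul_assoc]
    exact mul_mem (w' x hx) (sc_mem hT u' (mem_sup_left t) (b' t))
  · rintro P f ⟨a, b, c⟩
    obtain ⟨g, a1, a2, -, a4⟩ := a.exists_inv
    refine ⟨g, ⟨a1, im_le_iff.2 fun x hx => sc_mem hT a hx (b hx), fun d => ?_⟩, a2⟩
    have d' : E.IsCentric P := a4 ▸ inv_centric h d a1
    obtain ⟨k, u, v, w⟩ := c d'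
    obtain ⟨m, m0, m1, -, -⟩ := u.exists_inv' (good_im h d' u w)
    rw [im_congr v] at m0
    refine ⟨m, m0, fun y hy => ?_, fun x hx => ?_⟩
    · obtain ⟨x, hx, rfl⟩ := a.mem_im.1 hy
      rw [a2 x hx, ← v x hx, m1 x (mem_sup_left hx)]
    · obtain ⟨y, hy, e⟩ := (u.mem_im' le_sup_left).1 (good_mem h d' u hx (w x hx))
      have := m1 _ (mul_mem (mem_sup_right hx) (mem_sup_left (inv_mem hy)))
      rw [u.mul (mem_sup_right hx) (mem_sup_left (inv_mem hy)), u.inv (mem_sup_left hy), e] at this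
      rw [show m x = x * y⁻¹ by rw [← this]; congr 1; group]
      simpa using b hy

variable (hF : F.IsSaturated p)
include hS hF

theorem good_conj (h : E.IsInvariantIn F) {α : MulAut T} (hα : α ∈ F.autGroup T)
    (l : P ≤ T) (hm : ∀ x ∈ P, f x ∈ T) (c : E.IsCentric P) (hf : Good F T P f)
    (e : ∀ x ∈ P, g (af α x) = af α (f x)) : Good F T (im P (af α)) g := by
  have hT := h.2.1
  have a := (mem_aut hT.1).1 hα
  obtain ⟨k, b, d⟩ := sat_ext hS hF a ((im_af α).symm ▸ sat_fn_fc hS hF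
    (fn_of_normal hT.1 (sc_le_norm hT)))
  replace b := b.mono (sup_le a.le_Ext cI_le_Ext)
  have e1 : im (centralizerIn S T) k = centralizerIn S T :=
    b.im_eq_of_le le_sup_right fun x hx => mem_cI.2 ⟨b.mem (mem_sup_right hx), by
      simpa only [sc_im hT b le_sup_left] using b.mem_cent le_sup_left (mem_sup_right hx) hx.2⟩
  obtain ⟨j, u, v, w⟩ := hf
  have l' : P ⊔ centralizerIn S T ≤ T ⊔ centralizerIn S T := sup_le_sup_right l _
  obtain ⟨m, m0, m1, m2, -⟩ := (b.mono l').exists_inv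
  have jm : ∀ x ∈ P ⊔ centralizerIn S T, j x ∈ T ⊔ centralizerIn S T :=
    im_le_iff.1 ((good_im h c u w).trans_le (sup_le_sup_right
      (im_le_iff.2 fun x hx => v x hx ▸ hm x hx) _))
  have t := (m0.comp u fun y hy => (m2 y hy).1).comp b fun y hy => jm _ (m2 y hy).1
  rw [(b.mono l').homOn.im_sup, e1, im_congr fun x hx => d x (l hx)] at t
  refine ⟨_, t, fun y hy => ?_, fun y hy => ?_⟩
  · obtain ⟨x, hx, rfl⟩ := ((homOn_af α).mem_im' l).1 hy
    rw [e x hx, ← d x (l hx), m1 x (mem_sup_left hx), v x hx, d _ (hm x hx)]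
  · obtain ⟨x, hx, rfl⟩ := (b.mem_im' le_sup_right).1 (e1.ge hy)
    rw [m1 x (mem_sup_right hx), ← b.inv (mem_sup_right hx),
      ← b.mul (inv_mem (mem_sup_right hx)) (jm x (mem_sup_right hx))]
    exact sc_mem hT b (mem_sup_left (w x hx)) (w x hx)

theorem good_pelem (h : E.IsWeaklyNormalIn F p) (c : E.IsCentric P) {α : MulAut P}
    (hα : α ∈ E.autGroup P) (h1 : IsPGroup p (zpowers α)) : Good F T P (af α) := by
  have hT := h.2.2.2.1
  haveI := finite_of_le hT.1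
  obtain ⟨f, a, -, k, b, d⟩ := exists_conj_pelem (hS.to_le hT.1) h.1 c.1 hα h1
  replace a := a.sub h.2.2.1
  have hk : k ∈ normalizerIn S (im P f) := ⟨hT.1 b, mem_norm_of_conj' a.im_le fun y hy => by
    obtain ⟨x, hx, rfl⟩ := a.mem_im.1 hy
    rw [← d x hx]; exact mem_im_of f (af_mem α hx)⟩
  obtain ⟨φ, a1, b1⟩ := sat_nmap_fn hS hF a.im_le
  have l := le_nI a.im_le
  have a2 := a.comp a1 fun x hx => l (mem_im_of f hx)
  rw [a.im_im] at b1
  obtain ⟨g, a3, e⟩ := sat_ext hS hF a2 (sat_fn_fc hS hF b1)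
  replace a3 := a3.mono (sup_le a2.le_Ext ((inf_le_inf_left _ (cent_anti c.1)).trans cI_le_Ext) :
    P ⊔ centralizerIn S T ≤ _)
  have k1 := sc_mem hT a1 hk b
  have d' : ∀ x ∈ P, g (af α x) = φ k * g x * (φ k)⁻¹ := fun x hx => by
    rw [e _ (af_mem α hx), e x hx, d x hx, a1.conj hk (l (mem_im_of f hx))]
  have kn : φ k ∈ N[im P g] := mem_norm_of_conj' (a3.im_le' le_sup_left) fun y hy => by
    obtain ⟨x, hx, rfl⟩ := (a3.mem_im' le_sup_left).1 hy
    rw [← d' x hx]; exact mem_im_of g (af_mem α hx)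
  have z : ∀ x ∈ centralizerIn S T, (g x)⁻¹ * (φ k * g x * (φ k)⁻¹) ∈ im P g := fun x hx => by
    have u := a3.mem_cent le_sup_left (mem_sup_right hx) (cent_anti c.1 hx.2)
    refine cent_mem_im h.2.2 c (a3.mono le_sup_left) ?_
      (mul_mem (inv_mem u) (conj_mem_of_norm (norm_le_norm_cent _ kn) u))
    simpa [mul_assoc] using
      mul_mem (conj_mem_of_norm' (sc_le_norm hT (a3.mem (mem_sup_right hx))) k1) (inv_mem k1)
  obtain ⟨m, m0, m1, -, -⟩ := a3.exists_inv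
  refine ⟨_, (a3.conj_comp (hT.1 k1)).comp m0 (im_le_iff.1 ?_), fun x hx => ?_, fun x hx => ?_⟩
  · rw [(a3.conj_comp (hT.1 k1)).homOn.im_sup]
    refine sup_le (im_le_iff.2 fun x hx => ?_) (im_le_iff.2 fun x hx => ?_)
    · rw [← d' x hx]; exact mem_im_of g (mem_sup_left (af_mem α hx))
    · simpa using mul_mem (mem_im_of g (mem_sup_right hx)) (im_mono g le_sup_left (z x hx))
  · beta_reduce; rw [← d' x hx, m1 _ (mem_sup_left (af_mem α hx))]
  · obtain ⟨y, hy, ey⟩ := (a3.mem_im' le_sup_left).1 (z x hx)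
    beta_reduce
    rw [show φ k * g x * (φ k)⁻¹ = g x * g y by rw [ey]; group,
      ← a3.mul (mem_sup_right hx) (mem_sup_left hy),
      m1 _ (mul_mem (mem_sup_right hx) (mem_sup_left hy))]
    simpa using c.1 hy

theorem good_ext (h : E.IsInvariantIn F) (hf : M F R f) (hR : R ≤ T) (l : Q ≤ R) (n : R ≤ N[Q])
    (c : E.IsCentric Q) (hg : Good F T Q f) :
    ∃ g, M F R g ∧ Good F T R g ∧ ∀ x ∈ Q, g x = f x := by
  have hT := h.2.1
  obtain ⟨g, a, b, d⟩ := hg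
  have e := good_im h c a d
  rw [im_congr b] at e
  have c' := inv_centric h c (hf.mono l)
  have fT : ∀ x ∈ R, f x ∈ T := fun x hx => sc_mem hT hf hx (hR hx)
  have fn : ∀ x ∈ R, f x ∈ N[im Q f] := fun x hx => hf.mem_norm l hx (n hx)
  set X := im Q f ⊔ centralizerIn S T
  have hX : X ≤ S := e ▸ a.im_le
  haveI := finite_of_le hX
  haveI := finite_of_le (hf.im_le' l)
  let A := F.autGroup X ⊓ KS X le_sup_left (autInducedBy S (im Q f)) ⊓ TQ X (im Q f)
  have pA : IsPGroup p A := isPGroup_of_forall fun β ⟨⟨_, δ, u, v⟩, w⟩ => by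
    obtain ⟨i, e1⟩ := pgroup_pow_eq_one (isPGroup_autInd hS) u
    obtain ⟨j, e2⟩ := pgroup_pow_eq_one (pgroup_of_fix hS (γ := β ^ p ^ i) hX le_sup_left
      (fun x hx => by rw [← af_pow_res le_sup_left v _ x hx, e1, af_one hx])
      (pow_mem (S := TQ X (im Q f)) w _)) (mem_zpowers _)
    exact ⟨i + j, by rw [pow_add, pow_mul, e2]⟩
  obtain ⟨Y, c1, c2⟩ := exists_fn F hX
  obtain ⟨ψ, p1, rfl, p2⟩ := exists_conj_into (sat_fn_fa hS hF c2) c1 pA fun _ h => h.1.1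
  obtain ⟨ψ', q1, q2⟩ := sat_ext hS hF p1 (sat_fn_fc hS hF c2)
  have gm : ∀ x ∈ Q ⊔ centralizerIn S T, g x ∈ X := fun x hx => e ▸ mem_im_of g hx
  have r0 := a.comp p1 gm
  obtain ⟨g', r1, r2⟩ := sat_ext hS hF r0 (by rw [← a.im_im, e]; exact sat_fn_fc hS hF c2)
  have s1 : ∀ x ∈ R, f x ∈ Ext S X ψ := fun x hx => by
    have u := norm_sup_cI (S := S) (fT x hx) (fn x hx)
    obtain ⟨k, v, -, w⟩ := p2 (cA u) ⟨⟨autInd_le_aut hX le_rfl (cA_mem _ (hf.mem hx)),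
      _, cA_mem (fn x hx) (hf.mem hx), fun y hy => by rw [af_cA _ hy, af_cA _ (mem_sup_left hy)]⟩,
      fun y hy => by rw [af_cA _ hy]; exact comm_sup_cI c'.1 (fT x hx) (fn x hx) hy⟩
    exact ⟨hf.mem hx, u, k, v, fun y hy => by rw [← w y hy, af_cA _ hy]⟩
  have s2 : R ≤ Ext S (Q ⊔ centralizerIn S T) fun x => ψ (g x) := fun x hx => by
    have u := norm_sup_cI (S := S) (hR hx) (n hx)
    obtain ⟨k, v, -, w⟩ := p2 (a.tr e (cA u)) ⟨⟨(a.tr_mem e).2 (autInd_le_aut a.le le_rfl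
      (cA_mem _ (hf.le hx))), _, cA_mem (fn x hx) (hf.mem hx), fun y hy => by
        obtain ⟨z, hz, rfl⟩ := (hf.mem_im' l).1 hy
        rw [af_cA _ hy, ← hf.conj hx (l hz), ← b z hz, a.af_tr e _ (mem_sup_left hz),
          af_cA _ (mem_sup_left hz), b _ (conj_mem_of_norm (n hx) hz)]⟩, fun y hy => by
        obtain ⟨z, hz, rfl⟩ := a.mem_im.1 (e.ge hy)
        have t := comm_sup_cI c.1 (hR hx) (n hx) hz
        rw [a.af_tr e _ hz, af_cA _ hz, ← a.inv hz, ← a.mul (inv_mem hz) (conj_mem_of_norm u hz),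
          b _ t]
        exact mem_im_of f t⟩
    exact ⟨hf.le hx, u, k, v, fun y hy => by rw [← w _ (gm y hy), a.af_tr e _ hy, af_cA _ hy]⟩
  have s3 : R ⊔ centralizerIn S T ≤ _ := sup_le s2 (le_sup_right.trans r0.le_Ext)
  obtain ⟨m, m0, m1, -, -⟩ := q1.exists_inv
  have s4 : ∀ x ∈ Q ⊔ centralizerIn S T, g' x = ψ' (g x) := fun x hx => by
    rw [r2 x hx, q2 _ (gm x hx)]
  have t := (r1.mono s3).comp m0 (im_le_iff.1 (by
    rw [(r1.mono s3).homOn.im_sup]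
    refine sup_le (im_le_iff.2 fun x hx => ?_) (im_le_iff.2 fun x hx => ?_)
    · have lE : im Q f ≤ Ext S X ψ := le_sup_left.trans p1.le_Ext
      have z : (ψ' (f x))⁻¹ * g' x ∈ im (im Q f) ψ' := by
        refine cent_mem_im h c' (q1.mono lE) (mul_mem (inv_mem (sc_mem hT q1 (s1 x hx) (fT x hx)))
          (sc_mem hT r1 (s2 hx) (hR hx))) (mem_cent_iff.2 fun w hw => ?_)
        obtain ⟨y, hy, rfl⟩ := (q1.mem_im' lE).1 hw
        obtain ⟨y, hy', rfl⟩ := (hf.mem_im' l).1 hy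
        have u := r1.conj (s2 hx) (s2 (l hy'))
        have u' := conj_mem_of_norm (n hx) hy'
        rw [s4 _ (mem_sup_left u'), s4 _ (mem_sup_left hy'), b _ u', b _ hy', hf.conj hx (l hy'),
          q1.conj (s1 x hx) (lE hy)] at u
        calc ψ' (f y) * ((ψ' (f x))⁻¹ * g' x)
            = (ψ' (f x))⁻¹ * (ψ' (f x) * ψ' (f y) * (ψ' (f x))⁻¹) * g' x := by group
          _ = _ := by rw [u]; group
      simpa using mul_mem (mem_im_of ψ' (s1 x hx)) (im_mono ψ' lE z)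
    · rw [s4 x (mem_sup_right hx)]; exact mem_im_of ψ' (p1.le_Ext (gm x (mem_sup_right hx)))))
  have s5 : ∀ x ∈ Q ⊔ centralizerIn S T, m (g' x) = g x := fun x hx => by
    rw [s4 x hx, m1 _ (p1.le_Ext (gm x hx))]
  exact ⟨_, t.mono le_sup_left, ⟨_, t, fun _ _ => rfl, fun x hx => by
    beta_reduce; rw [s5 x (mem_sup_right hx)]; exact d x hx⟩,
    fun x hx => (s5 x (mem_sup_left hx)).trans (b x hx)⟩

theorem ppr_ai {D : FusionSystem T} (hE : E.IsWeaklyNormalIn F p) (hD : E.IsPPrimeResidual p D) :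
    AI D F := by
  have hT := hE.2.2.2.1
  haveI := finite_of_le hT.1
  have hT' := hS.to_le hT.1
  have aE := (inv_iff.1 hE.2.2).2.2.1
  have a := adm_of_sat hT' hE.1 hD.1 hD.2.1
  obtain ⟨D', h1, h2, h3⟩ := exists_aicore F D
  have tr : ∀ P f, M E P f → ∀ α ∈ F.autGroup T, M E (im P (af α)) fun y => af α (f (af α⁻¹ y)) :=
    fun P f hf α hα => aE P f α hα _ hf fun x hx => by rw [af_inv_af _ (hf.le hx)]
  have cc : ∀ P, E.IsCentric P → ∀ α ∈ F.autGroup T, E.IsCentric (im P (af α)) :=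
    fun P c α hα => inv_centric hE.2.2 c (((mem_aut hT.1).1 hα).mono c.1)
  rwa [fs_le_antisymm (ppr_le hT' hE.1 hD ⟨fun P c β u v => (h3 _ _).2 ⟨a.1 P c β u v,
    fun α hα => ?_⟩, fun R Q f u v c w => (h3 _ _).2 ⟨a.2 R Q f u v c ((h3 _ _).1 w).1,
      fun α hα => a.2 _ _ _ (tr R f u α hα) (im_mono _ v) (cc Q c α hα)
        (((h3 _ _).1 w).2 α hα)⟩⟩) h2]
  have m := ((mem_aut hT.1).1 hα).mono c.1
  have e : ∀ y ∈ im P (af α), af (m.tr rfl β) y = af α (af β (af α⁻¹ y)) := fun y hy => by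
    obtain ⟨x, hx, rfl⟩ := m.mem_im.1 hy
    rw [m.af_tr rfl β hx, af_inv_af _ (c.1 hx)]
  refine (a.1 _ (cc P c α hα) (m.tr rfl β)
    (((tr P _ ((mem_aut c.1).1 u) α hα).congr e).af_mem_aut) ?_).congr fun y hy => (e y hy).symm
  have := v.map (m.tr rfl).toMonoidHom
  rwa [MonoidHom.map_zpowers] at this

theorem ppr_normal {D : FusionSystem T} (hE : E.IsWeaklyNormalIn F p)
    (hD : E.IsPPrimeResidual p D) : D.IsNormalIn F p := by
  have hT := hE.2.2.2.1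
  haveI := finite_of_le hT.1
  have hT' := hS.to_le hT.1
  have l := hE.2.2.1
  refine normalIn_iff'.2 ⟨⟨hD.1, hF, inv_iff.2 ⟨fun P => (hD.2.1.1 P).trans (l P), hT,
    ppr_ai hS hF hE hD, fun P hP f hf => ?_⟩⟩, fun f hf => ?_⟩
  · obtain ⟨α, a, f₀, b, c⟩ := (inv_iff.1 hE.2.2).2.2.2 P hP f hf
    obtain ⟨β, a', f₁, b', c'⟩ := ppr_fr hT' hE.1 hD P hP f₀ b
    exact ⟨α * β, mul_mem a (aut_mono l a'), f₁, b', fun x hx => by
      rw [c x hx, c' x hx, af_mul _ _ (b'.mem hx)]⟩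
  obtain ⟨G, hG⟩ := exists_good hE.2.2
  refine ((hG _ _).1 (le_iff_M.1 (ppr_le hT' hE.1 hD (adm_of hT' hE.1 ?_ ?_ ?_)) T f hf)).2.2
    centric_top
  · intro P f α hα g a e
    obtain ⟨a1, a2, a3⟩ := (hG _ _).1 a
    have m := (mem_aut hT.1).1 (aut_mono l hα)
    obtain ⟨k, k0, k1, k2, k3⟩ := (m.mono a2).exists_inv
    refine (hG _ _).2 ⟨((k0.comp a1 fun y hy => (k2 y hy).1).comp m fun y hy =>
      a.mem (k2 y hy).1).congr fun y hy => by rw [← e _ (k2 y hy).1, (k2 y hy).2],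
      im_le_iff.2 fun x hx => af_mem α (a2 hx), fun c => ?_⟩
    have c' : E.IsCentric P := k3 ▸ inv_centric hE.2.2 c k0
    exact good_conj hS hF hE.2.2 (aut_mono l hα) a2 (fun _ => a.mem) c' (a3 c') e
  · exact fun P c α a b => (hG _ _).2 ⟨((mem_aut c.1).1 a).sub l, c.1,
      fun _ => good_pelem hS hF hE c a b⟩
  · intro R Q f a b n c d
    obtain ⟨g, u, v, w⟩ := good_ext hS hF hE.2.2 (a.sub l) a.le b.le n c (((hG _ _).1 d).2.2 c)
    exact ⟨g, (hG _ _).2 ⟨u, a.le, fun _ => v⟩, w⟩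

end CfsgH2
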