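import Cfsg.Agent.H2.Sa4
import Cfsg.Agent.L0.Deg2

/-! Normal subsystems of index prime to `p` cut out by a quotient of an automizer. -/

namespace CfsgH2
open Cfsg Subgroup CfsgL0 Function
open Cfsg.FusionSystem hiding inv_mem center

variable {Ω : Type*} [Group Ω] {S T : Subgroup Ω} {F : FusionSystem S} {P Q R : Subgroup Ω}
  {f g : Ω → Ω} {p : ℕ} {E : FusionSystem T} {Γ : Subgroup (MulAut T)}

theorem WD.comp' (hA : AI E F) {α β : MulAut T} (hα : α ∈ F.autGroup T)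
    (h : WD E α P f) (h' : WD E β Q g) (hm : ∀ x ∈ P, f x ∈ Q) :
    WD E (β * α) P fun x => g (f x) := by
  obtain ⟨f₀, c, d⟩ := h
  obtain ⟨g₀, c', d'⟩ := h'
  have := hA _ _ α⁻¹ (inv_mem hα) (fun y => af α⁻¹ (g₀ (af α y))) c' fun x hx => by
    rw [af_af_inv _ (c'.le hx)]
  refine ⟨_, c.comp this fun x hx => ?_, fun x hx => ?_⟩
  · have := mem_im_of (af α⁻¹) (hm x hx)
    rwa [d x hx, af_inv_af _ (c.mem hx)] at this
  · have h1 := c'.mem (hm x hx)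
    beta_reduce
    rw [d' _ (hm x hx), ← d x hx, af_mul _ _ (af_mem _ h1), af_af_inv _ h1]

theorem WD.congr {α : MulAut T} (h : WD E α P f) (e : ∀ x ∈ P, g x = f x) : WD E α P g :=
  let ⟨d, a, b⟩ := h; ⟨d, a, fun x hx => (e x hx).trans (b x hx)⟩

theorem WD.pow' (hA : AI E F) {α : MulAut T} (hα : α ∈ F.autGroup T)
    (hP : P ≤ T) {γ : MulAut P} (h : WD E α P (af γ)) (m : ℕ) : WD E (α ^ m) P (af (γ ^ m)) := by
  induction m with
  | zero => exact ⟨_, M_id hP, fun x hx => by rw [pow_zero, pow_zero, af_one hx, af_one (hP hx)]⟩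
  | succ m ih =>
    rw [pow_succ' α]
    exact (ih.comp' hA (pow_mem hα m) h fun _ => af_mem _).congr fun x hx => af_pow_succ _ _ hx

theorem WD.inv (hA : AI E F) {α : MulAut T} (hα : α ∈ F.autGroup T) (h : WD E α P f)
    (e : ∀ x ∈ P, g (f x) = x) : WD E α⁻¹ (im P f) g := by
  obtain ⟨f₀, c, d⟩ := h
  obtain ⟨l, d1, d2, d3, -⟩ := c.exists_inv
  have := hA _ _ α hα (fun y => af α (l (af α⁻¹ y))) d1 fun x hx => by
    rw [af_inv_af _ (c.im_le hx)]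
  rw [c.im_im, ← im_congr d] at this
  refine ⟨_, this, fun y hy => ?_⟩
  rw [im_congr d, ← c.im_im] at hy
  obtain ⟨z, hz, rfl⟩ := ((homOn_af α).mem_im' c.im_le).1 hy
  obtain ⟨x, hx, rfl⟩ := c.mem_im.1 hz
  rw [af_inv_af _ (c.mem hx), d2 x hx, af_inv_af _ (c.le hx), ← d x hx, e x hx]

/-- maps of `F` acting on `T` through `Γ` modulo `E` -/
def GM (F : FusionSystem S) (E : FusionSystem T) (Γ : Subgroup (MulAut T)) (P : Subgroup Ω)
    (f : Ω → Ω) : Prop := M F P f ∧ ∃ γ ∈ Γ, WD E γ (P ⊓ T) f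

variable [Finite S] [hp : Fact p.Prime] (hS : IsPGroup p S)

omit hp in
theorem exists_GM (h : E.IsInvariantIn F) (h1 : autInducedBy S T ≤ Γ) (h2 : Γ ≤ F.autGroup T) :
    ∃ G : FusionSystem S, ∀ P f, M G P f ↔ GM F E Γ P f := by
  have hA := (inv_iff.1 h).2.2.1
  have hT := h.2.1
  refine exists_subFS F S _ (fun _ _ h => h.1) (fun _ _ h => ⟨h.1.le, fun _ => h.1.mem⟩)
    (fun _ _ _ ⟨a, γ, b, c⟩ e => ⟨a.congr e, γ, b, c.congr fun x hx => e x hx.1⟩)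
    (fun P l g hg => ⟨M_conj l hg, _, h1 (cA_mem (sc_le_norm hT hg) hg), _, M_id inf_le_right,
      fun x hx => (af_cA _ hx.2).symm⟩)
    (fun P Q f g ⟨a, γ, b, c⟩ ⟨a', γ', b', c'⟩ m => ⟨a.comp a' m, _, mul_mem b' b,
      c.comp' hA (h2 b) c' fun x hx => ⟨m x hx.1, sc_mem hT a hx.1 hx.2⟩⟩) ?_
  rintro P f ⟨a, γ, b, c⟩
  obtain ⟨g, u, v, -⟩ := a.exists_inv
  exact ⟨g, ⟨u, _, inv_mem b, a.im_inf_sc hT ▸ c.inv hA (h2 b) fun x hx => v x hx.1⟩, v⟩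

include hS

theorem exists_fix_aut {U : Subgroup Ω} (hf : M F U f) (fT : ∀ x ∈ U, f x ∈ T) (b : M E U g)
    (a : Q ≤ U) (hn : U ≤ N[Q]) (d : ∀ x ∈ Q, g x = f x)
    (hC : centralizerIn T (im Q f) ≤ im Q f) :
    ∃ γ : MulAut U, IsPGroup p (zpowers γ) ∧ ∀ x ∈ U, g (af γ x) = f x := by
  have z : ∀ x ∈ U, (g x)⁻¹ * f x ∈ im Q f := fun x hx => by
    refine hC ⟨T.mul_mem (T.inv_mem (b.mem hx)) (fT x hx), mem_cent_iff.2 fun w hw => ?_⟩
    obtain ⟨y, hy, rfl⟩ := (hf.mem_im' a).1 hw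
    have u := b.conj hx (a hy)
    rw [d _ (conj_mem_of_norm (hn hx) hy), d y hy, hf.conj hx (a hy)] at u
    calc f y * ((g x)⁻¹ * f x) = (g x)⁻¹ * (g x * f y * (g x)⁻¹) * f x := by group
      _ = (g x)⁻¹ * f x * f y := by rw [← u]; group
  have z' : ∀ x ∈ U, (g x)⁻¹ * f x ∈ im Q g := fun x hx => im_congr d ▸ z x hx
  have m : ∀ x ∈ U, f x ∈ im U g := fun x hx => by
    simpa using mul_mem (mem_im_of g hx) (im_mono g a (z' x hx))
  obtain ⟨k, hk, k1, k2, k3⟩ := b.exists_inv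
  haveI := finite_of_le hf.le
  haveI : Finite (im U g) := Nat.finite_of_card_ne_zero (by rw [b.card_im]; exact Nat.card_pos.ne')
  have e : im U f = im U g := eq_of_le_card (S := im U g) le_rfl (im_le_iff.2 m)
    (by rw [b.card_im, hf.card_im])
  let γ : MulAut U := (hf.equiv e).trans (hk.equiv k3)
  have eγ : ∀ x ∈ U, af γ x = k (f x) := fun x hx => by
    rw [af_apply γ hx]; rfl
  refine ⟨γ, pgroup_of_fix hS hf.le a (fun x hx => by
    rw [eγ x (a hx), ← d x hx, k1 x (a hx)]) fun x hx => ?_,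
    fun x hx => by rw [eγ x hx, (k2 _ (m x hx)).2]⟩
  obtain ⟨y, hy, ey⟩ := (b.mem_im' a).1 (z' x hx)
  rw [eγ x hx, show f x = g x * g y by rw [ey]; group, ← b.mul hx (a hy), k1 _ (mul_mem hx (a hy))]
  simpa using hy

variable (hE : E.IsWeaklyNormalIn F p) (h1 : E.autGroup T ≤ Γ)
  (h4 : ∀ α ∈ F.autGroup T, ∀ k, α ^ p ^ k ∈ Γ → α ∈ Γ)
include hE h1 h4

theorem mem_of_res : ∀ U ≤ T, E.IsCentric U → ∀ α ∈ F.autGroup T, M E U (af α) → α ∈ Γ := by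
  have hT := hE.2.2.2.1
  have hA := (inv_iff.1 hE.2.2).2.2.1
  haveI := finite_of_le hT.1
  refine down_ind fun U hU ih c α a b => ?_
  rcases hU.eq_or_lt with rfl | lt
  · exact h1 b.af_mem_aut
  have l := lt_nI (hS.to_le hT.1) le_rfl lt
  have c' := centric_conj c b.isConj
  obtain ⟨g, u, v⟩ := sat_ext (hS.to_le hT.1) hE.1 b (centric_fc c')
  replace u := u.mono (Q := T ⊓ N[U]) fun x hx => mem_Ext.2 ⟨hx.1, hx.2, _, af_mem α hx.1,
    fun y hy => (homOn_af α).conj hx.1 (hU hy)⟩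
  obtain ⟨γ, w, e⟩ := exists_fix_aut hS (((mem_aut hT.1).1 a).mono inf_le_left)
    (fun x hx => af_mem α hx.1) u l.le inf_le_right v (centric_cI c')
  obtain ⟨k, hk, k1, -, -⟩ := u.exists_inv
  have W := WD.comp' hA a (⟨_, M_id inf_le_left, fun _ _ => rfl⟩ : WD E α (T ⊓ N[U]) (af α))
    (⟨k, hk, fun x hx => (af_one (hk.mem hx)).symm⟩ : WD E 1 _ k) fun x hx =>
      e x hx ▸ mem_im_of g (af_mem γ hx)
  rw [one_mul] at W
  obtain ⟨j, ej⟩ := pgroup_pow_eq_one w (mem_zpowers γ)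
  obtain ⟨d, d1, d2⟩ := (W.congr (g := af γ) fun x hx => by
    rw [← e x hx, k1 _ (af_mem γ hx)]).pow' hA a inf_le_left (p ^ j)
  refine h4 α a j (inv_mem_iff.1 (ih _ inf_le_left (card_lt_of_lt' inf_le_left l)
    (centric_mono c l.le inf_le_left) _ (inv_mem (pow_mem a _)) (d1.congr fun x hx => ?_)))
  conv_lhs => rw [← af_one hx, ← ej, d2 x hx, af_inv_af _ (d1.mem hx)]

theorem gm_ext (h2 : Γ ≤ F.autGroup T) (c : E.IsCentric (Q ⊓ T)) (l : Q ≤ R) (hg : M F R g)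
    (h : GM F E Γ Q g) : GM F E Γ R g := by
  obtain ⟨-, γ, a, e, b, d⟩ := h
  obtain ⟨α, a', e', b', d'⟩ := (inv_iff.1 hE.2.2).2.2.2 _ inf_le_right g (hg.mono inf_le_left)
  refine ⟨hg, α, ?_, e', b', d'⟩
  obtain ⟨k, hk, k1, k2, -⟩ := b.exists_inv
  have l' : Q ⊓ T ≤ R ⊓ T := inf_le_inf_right _ l
  have := mem_of_res hS hE h1 h4 _ b.im_le (centric_conj c b.isConj) _ (mul_mem (inv_mem a') (h2 a))
    ((hk.comp b' fun y hy => l' (k2 y hy).1).congr fun y hy => by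
      obtain ⟨x, hx, rfl⟩ := b.mem_im.1 hy
      rw [k1 x hx, af_mul _ _ (b.mem hx), ← d x hx, d' x (l' hx), af_inv_af _ (b'.mem (l' hx))])
  simpa using mul_mem a (inv_mem this)

omit h1 in
theorem autInd_le_of : autInducedBy S T ≤ Γ := fun α a =>
  let ⟨k, e⟩ := pgroup_pow_eq_one (isPGroup_autInd hS) a
  h4 α (autInd_le_aut hE.2.2.2.1.1 le_rfl a) k (e ▸ one_mem _)

omit h1 in
theorem gm_decomp (h2 : Γ ≤ F.autGroup T) (h3 : F.autGroup T ≤ N[Γ]) (hf : M F P f) :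
    ∃ β ∈ F.autGroup S, GM F E Γ P fun x => af β⁻¹ (f x) := by
  have hT := hE.2.2.2.1
  have hF := hE.2.1
  haveI := finite_of_le hT.1
  obtain ⟨α, a, e, b, d⟩ := (inv_iff.1 hE.2.2).2.2.2 _ inf_le_right f (hf.mono inf_le_left)
  have fn : F.IsFullyNormalized T := fn_of_normal hT.1 (sc_le_norm hT)
  obtain ⟨n, u, γ, v, rfl⟩ := ((sat_syl hS hF fn).mono (autInd_le_of hS hE h4) h2).frattini' (h3 a)
  have m := (mem_aut hT.1).1 (show n ∈ _ by simpa using mul_mem a (inv_mem (h2 v)))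
  obtain ⟨g, w, e'⟩ := sat_ext hS hF m ((im_af n).symm ▸ sat_fn_fc hS hF fn)
  replace w := w.mono fun x (hx : x ∈ S) =>
    mem_Ext_of_norm le_rfl u hx (sc_le_norm hT hx) (cA_mem _ hx)
  obtain ⟨β, i, j⟩ := w.exists_aut w.im_top
  refine ⟨β, i, hf.comp ((mem_aut le_rfl).1 (inv_mem i)) fun _ => hf.mem, γ, v, e, b,
    fun x hx => ?_⟩
  have t := af_mem γ (b.mem hx)
  beta_reduce
  rw [d x hx, af_mul _ _ (b.mem hx), ← e' _ t, ← j _ (hT.1 t), af_inv_af _ (hT.1 t)]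

theorem exists_ptp (h2 : Γ ≤ F.autGroup T) (h3 : F.autGroup T ≤ N[Γ]) :
    ∃ D : FusionSystem S, D.IsNormalIn F p ∧ E.IsSubsystemOf D ∧ D.autGroup T = Γ ∧
      (∀ f, M D S f ↔ M F S f ∧ Kf Γ f) ∧
      ∀ {S' : Subgroup Ω} (F' : FusionSystem S'), [Finite S'] → F.IsInvariantIn F' →
        E.IsInvariantIn F' → F'.autGroup T ≤ N[Γ] → AI D F' := by
  have hT := hE.2.2.2.1
  have hF := hE.2.1
  haveI := finite_of_le hT.1
  obtain ⟨G, hG⟩ := exists_GM hE.2.2 (autInd_le_of hS hE h4) h2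
  obtain ⟨D, hD⟩ := exists_infFS F fun D => ∀ P f, E.IsCentric (P ⊓ T) → GM F E Γ P f → M D P f
  have l : D.IsSubsystemOf F := sub_iff_M.2 fun P f h => ((hD P f).1 h).1
  have m : ∀ D', (∀ P f, E.IsCentric (P ⊓ T) → GM F E Γ P f → M D' P f) → D ≤ D' :=
    fun D' a => le_iff_M.2 fun P f h => ((hD P f).1 h).2 D' a
  have a1 : ∀ P f, M D P f → GM F E Γ P f := fun P f h =>
    (hG _ _).1 (((hD P f).1 h).2 G fun P f _ h => (hG _ _).2 h)
  have a2 : ∀ P f, E.IsCentric (P ⊓ T) → GM F E Γ P f → M D P f := fun P f c h =>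
    (hD _ _).2 ⟨h.1, fun D' a => a P f c h⟩
  have cT : ∀ P, T ≤ P → E.IsCentric (P ⊓ T) := fun P h => by
    rw [inf_eq_right.2 h]; exact centric_top
  have kf : ∀ P, T ≤ P → ∀ f, GM F E Γ P f ↔ M F P f ∧ Kf Γ f := fun P h f => by
    refine and_congr_right fun _ => ?_
    rw [inf_eq_right.2 h]
    refine ⟨fun ⟨γ, a, e, b, c⟩ => ?_, fun ⟨γ, a, b⟩ =>
      ⟨γ, a, _, M_id le_rfl, fun x hx => (b x hx).symm⟩⟩
    obtain ⟨δ, u, v⟩ := b.exists_aut b.im_top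
    exact ⟨_, mul_mem a (h1 u), fun x hx => by rw [af_mul _ _ hx, v x hx, c x hx]⟩
  have ai : ∀ {S' : Subgroup Ω} (F' : FusionSystem S'), [Finite S'] → F.IsInvariantIn F' →
      E.IsInvariantIn F' → F'.autGroup T ≤ N[Γ] → AI D F' := by
    intro S' F' _ i1 i2 i3
    obtain ⟨D', b1, b2, b3⟩ := exists_aicore F' D
    rwa [fs_le_antisymm (m D' fun P f c h => (b3 _ _).2 ⟨a2 P f c h, fun α hα => ?_⟩) b2]
    have u := (mem_aut i1.2.1.1).1 hα
    have e := (u.mono h.1.le).im_inf_sc i2.2.1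
    obtain ⟨α', v, w⟩ := (u.mono hT.1).exists_aut (sc_im i2.2.1 u hT.1)
    obtain ⟨a, γ, b, d, d1, d2⟩ := h
    have l' : P ⊓ T ≤ S := inf_le_left.trans a.le
    refine a2 _ _ (e ▸ inv_centric i2 c (u.mono l')) ⟨(inv_iff.1 i1).2.2.1 _ _ α hα _ a
      fun x hx => by rw [af_inv_af _ (a.le hx)], _, conj_mem_of_norm (i3 v) b,
      fun y => af α (d (af α⁻¹ y)), e ▸ si_of_inv i2 _ _ _ _ _ d1 u l'
        (fun x hx => hT.1 (d1.mem hx)) fun x hx => by rw [af_inv_af _ (l' hx)], fun y hy => ?_⟩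
    obtain ⟨x, hx, rfl⟩ := (u.mem_im' l').1 (e.ge hy)
    beta_reduce
    rw [af_inv_af _ (l' hx), d2 x hx, ← w _ (d1.mem hx), af_conj _ _ (d1.mem hx),
      w _ (af_mem _ (d1.mem hx))]
  have aF := ai F (self_normal hS hF).1.2.2 hE.2.2 h3
  have wd : ∀ P f, E.IsCentric (P ⊓ T) → M F P f → ∃ β ∈ F.autGroup S, WD D β P f :=
    fun P f c hf => let ⟨β, u, v⟩ := gm_decomp hS hE h4 h2 h3 hf
      ⟨β, u, _, a2 _ _ c v, fun x hx => (af_af_inv _ (hf.mem hx)).symm⟩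
  have fr : Fr D F := fun P _ f hf => alperin_ind hS hF (fun P f => ∃ β ∈ F.autGroup S, WD D β P f)
    (fun _ _ _ ⟨β, u, v⟩ e => ⟨β, u, v.congr e⟩)
    (fun P l g hg => ⟨1, one_mem _, _, M_conj l hg, fun x hx =>
      (af_one ((M_conj (F := F) l hg).mem hx)).symm⟩)
    (fun _ _ _ _ _ _ ⟨β, u, v⟩ ⟨β', u', v'⟩ m => ⟨_, mul_mem u' u, v.comp' aF u v' m⟩)
    (fun _ _ _ _ ⟨β, u, v⟩ e => ⟨_, inv_mem u, v.inv aF u e⟩)
    (fun P h f hf _ => wd P f (h.elim (fun e => cT P (e ▸ hT.1)) fun h =>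
      inf_centric_of_cr hS hF hE.2.2 h.1 (ess_radical hS hF h)) hf) P f hf
  have cc : ∀ P f, M F P f → E.IsCentric (P ⊓ T) → E.IsCentric (im P f ⊓ T) := fun P f hf c =>
    hf.im_inf_sc hT ▸ inv_centric hE.2.2 c (hf.mono inf_le_left)
  have sat : D.IsSaturated p := by
    refine sat_of_family hS (H := {P | P ≤ S ∧ E.IsCentric (P ⊓ T)}) (fun P h Q c => ?_)
      (fun P h => ?_) (fun D' h => m D' fun P f c a =>
        (hom_iff' fun _ => rfl).1 (h P ⟨a.1.le, c⟩ (a2 P f c a).hom_mem))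
      (fun P c n => ?_) ⟨le_rfl, cT S hT.1⟩
    · obtain ⟨f, hf, rfl⟩ := isConj_iff'.1 c
      exact ⟨hf.im_le, cc P f (hf.sub l) h.2⟩
    · obtain ⟨f, hf, b⟩ := sat_nmap_fn hS hF h.1
      obtain ⟨α, c, d, e, e'⟩ := fr P h.1 f (hf.mono (le_nI h.1))
      have t := ((mem_aut le_rfl).1 (inv_mem c)).fn_im b nI_le
      rw [(hf.mono (le_nI h.1)).im_im, im_congr (g := d) fun x hx => by
        rw [e' x hx, af_inv_af _ (e.mem hx)]] at t
      haveI := finite_of_le t.1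
      refine ⟨_, e.isConj, fa_iff.2 ⟨t.1, (sat_syl hS hF t).mono (autInd_le_aut t.1 le_rfl)
        (aut_mono l)⟩, rec_iff.2 ⟨t.1, fun Q g hg e1 => ?_⟩⟩
      obtain ⟨k, u, v⟩ := sat_ext hS hF (hg.sub l) (e1 ▸ sat_fn_fc hS hF t)
      obtain ⟨g', w, -, -, w'⟩ := (hg.sub l).exists_inv' e1
      have c' : E.IsCentric (Q ⊓ T) := w' ▸ cc _ _ w (cc _ _ (e.sub l) h.2)
      exact ⟨k, a2 _ _ (centric_mono c' (inf_le_inf_right _ hg.le_Ext) inf_le_right)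
        (gm_ext hS hE h1 h4 h2 c' hg.le_Ext u (a1 _ _ (hg.congr v))), v⟩
    · obtain ⟨f, hf, x, u, v, hn, w⟩ := exists_conj_not_rad hS hF hE.2.2 c.1 fun h => n ⟨c.1, h⟩
      obtain ⟨α, c, d, e, e'⟩ := fr P hf.le f hf
      have t := (mem_aut le_rfl).1 (inv_mem c)
      have e1 : im (im P f) (af α⁻¹) = im P d := by
        rw [hf.im_im, im_congr fun x hx => by rw [e' x hx, af_inv_af _ (e.mem hx)]]
      have z := hat_tr t hf.im_le (hT.1 u) ((mem_hat hn).2 ⟨hT.1 u, w⟩)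
      refine ⟨_, e.isConj, fun h => v ((t.mem_im_iff hf.im_le (hT.1 u)).1 (e1 ▸ h ?_))⟩
      rw [e1] at z
      have hn' := (NSK_le_nI z).2
      haveI := finite_of_le e.im_le
      exact (mem_hat hn').2 ⟨z.1, le_pCoreOf (K := piCoreOf {p} (F.autGroup _) ⊓ D.autGroup _)
        inf_le_right (le_norm_inf ((aut_mono l).trans le_norm_piCoreOf) le_normalizer)
        isPGroup_piCoreOf.to_inf_left
        ⟨((mem_hat hn').1 z).2, autInd_le_aut e.im_le le_rfl (cA_mem _ z.1)⟩⟩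
  refine ⟨D, normalIn_iff'.2 ⟨⟨sat, hF, inv_iff.2 ⟨l, sc_top, aF, fr⟩⟩, fun f hf =>
    ⟨f, (hf.sub l).mono (sup_le le_rfl cI_le), fun _ _ => rfl, fun c hc =>
      mul_mem (inv_mem hc.1) (hf.mem hc.1)⟩⟩, sub_iff_M.2 ?_, ?_,
    fun f => ⟨fun h => (kf S hT.1 f).1 (a1 _ _ h), fun h => a2 _ _ (cT S hT.1) ((kf S hT.1 f).2 h)⟩,
    ai⟩
  · refine alperin_ind (hS.to_le hT.1) hE.1 (M D) (fun _ _ _ a e => a.congr e)
      (fun P l g hg => M_conj (l.trans hT.1) (hT.1 hg)) (fun _ _ _ _ _ _ a b m => a.comp b m)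
      (fun _ _ _ _ a e => a.of_leftInv e) fun P h f hf _ => a2 _ _ ?_ ⟨hf.sub hE.2.2.1, 1, one_mem _,
        f, hf.mono inf_le_left, fun x hx => (af_one (hf.mem hx.1)).symm⟩
    rw [inf_eq_left.2 hf.le]
    exact h.elim (fun e => by rw [e]; exact centric_top) fun h => h.1
  · ext α
    rw [mem_aut hT.1]
    refine ⟨fun h => ?_, fun h => a2 _ _ (cT T le_rfl)
      ((kf T le_rfl _).2 ⟨(mem_aut hT.1).1 (h2 h), Kf.af h⟩)⟩
    obtain ⟨γ, u, v⟩ := ((kf T le_rfl _).1 (a1 _ _ h)).2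
    rwa [← af_ext v]

end CfsgH2
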