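import Cfsg.Agent.H2.Sa5
import Cfsg.Agent.S5198

/-! Residual limits and the reduction to a normal subsystem. -/

namespace CfsgH2
open Cfsg Subgroup CfsgL0 Function
open Cfsg.FusionSystem hiding inv_mem center

variable {Ω : Type*} [Group Ω] {S T U V : Subgroup Ω} {F : FusionSystem S} {P Q R : Subgroup Ω}
  {f g : Ω → Ω} {p : ℕ} {E : FusionSystem T} {D : FusionSystem U} {Γ Γ' : Subgroup (MulAut T)}

theorem mem_of_pow_pow {G : Type*} [Group G] {H : Subgroup G} {x : G} {a b : ℕ} (h1 : x ^ a ∈ H)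
    (h2 : x ^ b ∈ H) (h : a.Coprime b) : x ∈ H := by
  have := mul_mem (zpow_mem h1 (Nat.gcdA a b)) (zpow_mem h2 (Nat.gcdB a b))
  rwa [← zpow_natCast, ← zpow_natCast, ← zpow_mul, ← zpow_mul, ← zpow_add, ← Nat.gcd_eq_gcd_ab,
    h.gcd_eq_one, Nat.cast_one, zpow_one] at this

theorem sub_trans {L : FusionSystem V} (h : L.IsSubsystemOf D) (h' : D.IsSubsystemOf F) :
    L.IsSubsystemOf F := fun P => (h P).trans (h' P)

/-- stable systems -/
def Stb (p : ℕ) (L : FusionSystem V) : Prop := L.hyperfocalSubgroup p = V ∧ L.IsPPrimeResidual p L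

variable [Finite S] [hp : Fact p.Prime] (hS : IsPGroup p S)

omit hp in
theorem inv_trans (h1 : D.IsInvariantIn E) (h2 : E.IsInvariantIn F) (h3 : F.StronglyClosed U)
    (h4 : AI D F) : D.IsInvariantIn F := by
  refine inv_iff.2 ⟨sub_trans h1.1 h2.1, h3, h4, fun P hP f hf => ?_⟩
  have l := h1.2.1.1
  obtain ⟨α, a, f₀, b, c⟩ := (inv_iff.1 h2).2.2.2 P (hP.trans l) f hf
  obtain ⟨β, a', f₁, b', c'⟩ := (inv_iff.1 h1).2.2.2 P hP f₀ b
  have m := ((mem_aut h2.2.1.1).1 a).mono l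
  obtain ⟨γ, u, v⟩ := m.exists_aut (sc_im h3 m le_rfl)
  exact ⟨γ * β, mul_mem u (aut_mono h2.1 a'), f₁, b', fun x hx => by
    rw [c x hx, c' x hx, af_mul _ _ (b'.mem hx), v _ (af_mem _ (b'.mem hx))]⟩

theorem hyp_mono (h : E.IsSubsystemOf F) : E.hyperfocalSubgroup p ≤ F.hyperfocalSubgroup p :=
  haveI := finite_of_le (sub_le h)
  hyp_le_iff.2 fun _ hP _ a _ hx => mem_hyp (hP.trans (sub_le h)) (piRes_mono (aut_mono h) a) hx

include hS

theorem wn_sub (h : E.IsWeaklyNormalIn F p) (hD : D.IsSaturated p) (h1 : E.IsSubsystemOf D)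
    (h2 : D.IsSubsystemOf F) : E.IsWeaklyNormalIn D p := by
  haveI := finite_of_le (sub_le h2)
  refine ⟨h.1, hD, inv_of_si (hS.to_le (sub_le h2)) hD ?_ h1 fun P Q f k g a b =>
    si_of_inv h.2.2 P Q f k g a (b.sub h2)⟩
  simpa only [inf_eq_left.2 (sub_le h1)] using sc_sub h2 h.2.2.2.1

theorem ppi_ai (hE : E.IsInvariantIn F) (hD : D.IsSaturated p) (h : D.HasPPowerIndexIn E p) :
    AI D F := by
  haveI := finite_of_le hE.2.1.1
  obtain ⟨h1, -, h3⟩ := ppi_iff.1 h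
  have l := (sub_le h1).trans hE.2.1.1
  obtain ⟨D', a, b, c⟩ := exists_aicore F D
  refine fs_le_antisymm b (le_of_piRes hS hD l le_rfl fun P hP β hβ => M.af_mem_aut ((c _ _).2
    ⟨(mem_aut hP).1 (piRes_le hβ), fun α hα => ?_⟩)) ▸ a
  have k := ((mem_aut l).1 hα).mono hP
  have hP' : im P (af α) ≤ U := im_le_iff.2 fun x hx => af_mem _ (hP hx)
  haveI := finite_of_le k.le
  haveI := finite_of_le k.im_le
  have t := mem_map_of_mem (k.tr rfl).toMonoidHom hβ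
  rw [map_piRes] at t
  refine M.congr_im k.homOn ((mem_aut hP').1 (h3 _ hP' (piRes_mono ?_ t))) fun x hx => ?_
  · rintro _ ⟨γ, u, rfl⟩
    exact M.af_mem_aut (si_of_inv hE _ _ _ _ _ (((mem_aut hP).1 u).sub h1) k le_rfl
      (fun _ => af_mem γ) fun x hx => k.af_tr rfl γ hx)
  · rw [af_inv_af _ (hP hx)]; exact (k.af_tr rfl β hx).symm

theorem pres_wn (hE : E.IsWeaklyNormalIn F p) {D : FusionSystem (E.hyperfocalSubgroup p)}
    (h : E.IsPResidual p D) : D.IsWeaklyNormalIn F p := by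
  haveI := finite_of_le hE.2.2.2.1.1
  have hT := hS.to_le hE.2.2.2.1.1
  have a := hyp_sc hT hE.1
  refine ⟨h.1, hE.2.1, inv_trans (ppi_normal hT hE.1 (sc_le_norm a) h.1 h.2).1.2.2 hE.2.2
    (sc_of_inv hE.2.2 a fun α hα x hx => ?_) (ppi_ai hS hE.2.2 h.1 h.2)⟩
  rw [((inv_iff.1 hE.2.2).2.2.1.smor hα).hyp]
  exact mem_im_of _ hx

theorem ppr_mono {L : FusionSystem T} {D : FusionSystem S} (hE : E.IsWeaklyNormalIn F p)
    (hL : E.IsPPrimeResidual p L) (hD : D.IsWeaklyNormalIn F p) : L.IsSubsystemOf D := by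
  have hT := hE.2.2.2.1
  haveI := finite_of_le hT.1
  have l := hD.2.2.1
  obtain ⟨D', h⟩ := exists_subFS D T (fun P f => M D P f ∧ P ≤ T) (fun _ _ h => h.1)
    (fun _ _ h => ⟨h.2, fun x hx => sc_mem hT (h.1.sub l) hx (h.2 hx)⟩)
    (fun _ _ _ h e => ⟨h.1.congr e, h.2⟩) (fun P a g b => ⟨M_conj (a.trans hT.1) (hT.1 b), a⟩)
    (fun _ _ _ _ a b m => ⟨a.1.comp b.1 m, a.2⟩) fun P f a =>
      let ⟨g, b, c, _⟩ := a.1.exists_inv
      ⟨g, ⟨b, im_le_iff.2 fun x hx => sc_mem hT (a.1.sub l) hx (a.2 hx)⟩, c⟩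
  refine sub_iff_M.2 fun P f hf => ((h _ _).1 (le_iff_M.1 (ppr_le (hS.to_le hT.1) hE.1 hL
    (adm_of (hS.to_le hT.1) hE.1 ?_ ?_ ?_)) P f hf)).1
  · intro P f α a g b e
    refine (h _ _).2 ⟨si_of_inv hD.2.2 _ _ _ _ _ ((h _ _).1 b).1
      ((mem_aut hT.1).1 (aut_mono hE.2.2.1 a)) b.le (fun _ => b.mem) e,
      im_le_iff.2 fun x hx => af_mem α (b.le hx)⟩
  · exact fun P c α a b => (h _ _).2 ⟨si_pelem hS hE.2.1 (fun _ _ h => h) (si_of_inv hD.2.2)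
      (c.1.trans hT.1) (aut_mono hE.2.2.1 a) b, c.1⟩
  intro R Q f a b n c d
  replace d := ((h _ _).1 d).1
  replace a := a.sub hE.2.2.1 |> fun a' => And.intro a' a
  obtain ⟨a, a0⟩ := a
  obtain ⟨ψ, p1, p2⟩ := sat_nmap_fn hS hD.1 d.im_le
  have l1 : im R f ≤ normalizerIn S (im Q f) := a.im_nI_le b.le le_rfl n
  have fm : ∀ x ∈ R, f x ∈ normalizerIn S (im Q f) := im_le_iff.1 l1
  have t := d.comp p1 fun x hx => fm x (b.le hx)
  have t' := a.comp (p1.sub l) fm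
  rw [d.im_im] at p2
  obtain ⟨g, u, v⟩ := sat_ext hS hD.1 t (sat_fn_fc hS hD.1 p2)
  replace u := u.mono ((le_inf le_rfl n).trans (t'.le_Ext_of b.le fun _ _ => rfl))
  obtain ⟨m, m0, m1, -, -⟩ := p1.exists_inv
  refine ⟨_, (h _ _).2 ⟨u.comp m0 fun x hx => ?_, a0.le⟩, fun x hx => by
    rw [v x hx, m1 _ (fm x (b.le hx))]⟩
  have z : (ψ (f x))⁻¹ * g x ∈ im Q fun x => ψ (f x) := by
    refine cent_mem_im hE.2.2 c (t.sub l) (mul_mem (inv_mem (sc_mem hT t' hx (a0.le hx)))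
      (sc_mem hT (u.sub l) hx (a0.le hx))) (mem_cent_iff.2 fun w hw => ?_)
    obtain ⟨y, hy, rfl⟩ := t.mem_im.1 hw
    have e := u.conj hx (b.le hy)
    rw [v _ (conj_mem_of_norm (n hx) hy), v y hy] at e
    have e' := t'.conj hx (b.le hy)
    beta_reduce at e'
    calc ψ (f y) * ((ψ (f x))⁻¹ * g x)
        = (ψ (f x))⁻¹ * (ψ (f x) * ψ (f y) * (ψ (f x))⁻¹) * g x := by group
      _ = _ := by rw [← e', e]; group
  rw [← d.im_im] at z
  simpa using mul_mem (mem_im_of ψ (fm x hx)) (im_mono ψ (le_nI d.im_le) z)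

omit hS hp in
theorem lim_wn {L : FusionSystem V} (h : L.IsResidualLimitOf E p) : ∀ [Fact p.Prime],
    IsPGroup p S → E.IsWeaklyNormalIn F p →
      L.IsWeaklyNormalIn F p ∧ L.IsSubsystemOf E ∧ Stb p L := by
  induction h with
  | stable _ _ a b => exact fun _ h => ⟨h, fun _ _ h => h, a, b⟩
  | step G p D D' a b _ ih =>
    intro _ hS h
    obtain ⟨u, v, w⟩ := ih hS (ppr_normal hS h.2.1 (pres_wn hS h a) b).1
    exact ⟨u, sub_trans v (sub_trans b.2.1.1 a.2.1), w⟩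

omit hp hS [Finite S] in
theorem le_lim {L' : FusionSystem U} (h : L'.IsResidualLimitOf F p) : ∀ [Fact p.Prime] [Finite S]
    {L : FusionSystem V}, IsPGroup p S → L.IsWeaklyNormalIn F p → Stb p L →
      L.IsSubsystemOf L' := by
  induction h with
  | stable => exact fun _ h _ => h.2.2.1
  | step G p D D' a b _ ih =>
    intro _ _ L hS h s
    haveI := finite_of_le (hyp_le (F := G) (p := p))
    have hH := hS.to_le (hyp_le (F := G) (p := p))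
    have h1 := wn_sub hS h a.1 (sub_ppi hS h.1 h.2.2.1 (s.1.ge.trans (hyp_mono h.2.2.1)) a.2) a.2.1
    have h2 := (ppr_normal hH a.1 (self_normal hH a.1).1 b).1
    exact ih hH (wn_sub hH h1 b.1 (ppr_mono hH h1 s.2 h2) b.2.1.1) s

omit hS in
/-- the state of the reduction -/
def St (F : FusionSystem S) (E : FusionSystem T) (p : ℕ) (Γ : Subgroup (MulAut T)) : Prop :=
  ∃ (U : Subgroup Ω) (D : FusionSystem U), U = NSK S Γ ∧ D.IsWeaklyNormalIn F p ∧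
    E.IsSubsystemOf D ∧ D.autGroup T = Γ ∧ ∀ (V : Subgroup Ω) (L : FusionSystem V), Stb p L →
      L.IsWeaklyNormalIn F p → L.IsSubsystemOf D

variable (hE : E.IsWeaklyNormalIn F p) (h1 : E.autGroup T ≤ Γ') (h2 : Γ' ≤ Γ)
  (h3 : F.autGroup T ≤ N[Γ'])
include hE h1 h2 h3

theorem st_ptp (h4 : ∀ α ∈ Γ, ∀ k, α ^ p ^ k ∈ Γ' → α ∈ Γ') (h : St F E p Γ) : St F E p Γ' := by
  obtain ⟨U, D, e, a, b, rfl, d⟩ := h
  have l := a.2.2.2.1.1
  haveI := finite_of_le l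
  have hU := hS.to_le l
  obtain ⟨D', a1, a2, a3, -, a5⟩ := exists_ptp hU (wn_sub hS hE a.1 b a.2.2.1) h1 h4 h2
    ((aut_mono a.2.2.1).trans h3)
  refine ⟨U, D', e.trans (le_antisymm (fun x hx => ?_) fun x hx => ⟨hx.1, hx.2.mono h2⟩),
    ⟨a1.1.1, hE.2.1, inv_trans a1.1.2.2 a.2.2 a.2.2.2.1 (a5 F a.2.2 hE.2.2 h3)⟩, a2, a3,
    fun V L s w => ppr_mono hU (wn_sub hS w a.1 (d V L s w) a.2.2.1) s.2 a1.1⟩
  have n := hx.2.norm
  obtain ⟨k, ek⟩ := pgroup_pow_eq_one (isPGroup_autInd hS) (cA_mem n hx.1)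
  exact ⟨hx.1, (Kf_cA n).2 (h4 _ ((Kf_cA n).1 hx.2) k (ek ▸ one_mem _))⟩

theorem st_ppi (h4 : ∀ α ∈ Γ, ∃ k, α ^ p ^ k ∈ Γ') (h : St F E p Γ) : St F E p Γ' := by
  obtain ⟨U, D, e, a, b, rfl, d⟩ := h
  have l := a.2.2.2.1.1
  have hT := hE.2.2.2.1
  haveI := finite_of_le l
  haveI := finite_of_le hT.1
  have hU := hS.to_le l
  have w := wn_sub hS hE a.1 b a.2.2.1
  have r : piRes {p} (D.autGroup T) ≤ Γ' := (closure_le _).2 fun α ⟨u, v⟩ =>
    let ⟨k, ek⟩ := h4 α u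
    mem_of_pow_mem_coprime ek (((piN_compl_singleton' hp.out).1 v).pow_right k)
  have i : Inn T ≤ Γ' := (inn_le_aut le_rfl).trans h1
  have l1 : D.hyperfocalSubgroup p ≤ NSK S Γ' := fun x hx => by
    obtain ⟨α, u, v⟩ := Cfsg.Agent.S5198.result p hU D a.1 T w.2.2.2.1 x hx
    rw [map_pResidual] at u
    exact ⟨l (hyp_le hx), α, sup_le r i u, fun y hy => (af_apply α hy).trans (v ⟨y, hy⟩)⟩
  have l2 : NSK S Γ' ≤ U := e ▸ fun x hx => ⟨hx.1, hx.2.mono h2⟩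
  have l3 : T ≤ NSK S Γ' := fun x hx =>
    ⟨hT.1 hx, (Kf_cA (le_normalizer hx)).2 (i (inn_eq T ▸ cA_mem _ hx))⟩
  have sc : ∀ R g, M F R g → T ≤ R → ∀ x ∈ R, x ∈ NSK S Γ' → g x ∈ NSK S Γ' :=
    fun R g m t x hx hx' => ⟨m.mem hx, Kf_conj h3 (m.mono t) (sc_im hT m t) hx'.2
      fun y hy => (m.conj hx (t hy)).symm⟩
  obtain ⟨D', a1, a2⟩ := exists_ppi hU a.1 l1 l2
  haveI := finite_of_le l2
  have n := ppi_normal hU a.1 (fun x hx => mem_norm_of_conj' NSK_le fun y hy =>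
    sc S _ (M_conj le_rfl (l hx)) hT.1 y hy.1 hy) a1 a2
  refine ⟨_, D', rfl, ⟨a1, hE.2.1, inv_trans n.1.2.2 a.2.2 (sc_of_inv a.2.2 n.1.2.2.2.1
    fun α hα x hx => sc U _ ((mem_aut l).1 hα) (l3.trans l2) x (l2 hx) hx)
    (ppi_ai hS a.2.2 a1 a2)⟩, sub_ppi hU hE.1 b l3 a2, le_antisymm (fun α hα => ?_) fun α hα => ?_,
    fun V L s w => sub_ppi hU w.1 (d V L s w) ((s.1.ge.trans (hyp_mono (d V L s w))).trans l1) a2⟩
  · obtain ⟨β, u, s, v, hn, e'⟩ := aut_decomp (hU.to_le l2) a1 (fn_of_normal l3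
      (NSK_le.trans (sc_le_norm hT))) hα
    rw [af_ext (α := α) (β := cA hn * β) fun x hx => by
      rw [e' x hx, af_mul _ _ hx, af_cA _ (af_mem _ hx)]]
    exact mul_mem ((Kf_cA hn).1 v.2) (r (piRes_mono (aut_mono a2.1) u))
  · obtain ⟨β, u, s, v, hn, e'⟩ := aut_decomp hU a.1 (fn_of_normal (l3.trans l2)
      (l.trans (sc_le_norm hT))) (h2 hα)
    have e1 : α = cA hn * β := af_ext fun x hx => by
      rw [e' x hx, af_mul _ _ hx, af_cA _ (af_mem _ hx)]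
    have : cA hn ∈ Γ' := by simpa [e1] using mul_mem hα (inv_mem (r u))
    rw [e1]
    exact mul_mem (autInd_le_aut l3 le_rfl (cA_mem _ ⟨l v, (Kf_cA hn).2 this⟩))
      ((ppi_iff.1 a2).2.2 T l3 u)

omit h1 h2 h3 in
theorem st_top : St F E p (F.autGroup T) :=
  ⟨S, F, le_antisymm (fun x hx => ⟨hx, (Kf_cA (sc_le_norm hE.2.2.2.1 hx)).2
    (autInd_le_aut hE.2.2.2.1.1 le_rfl (cA_mem _ hx))⟩) NSK_le, (self_normal hS hE.2.1).1,
    hE.2.2.1, rfl, fun _ _ _ w => w.2.2.1⟩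

omit h1 h2 h3 in
theorem st_bot [hn : ((E.autGroup T).subgroupOf (F.autGroup T)).Normal]
    (h : IsPSolvable p (F.autGroup T ⧸ (E.autGroup T).subgroupOf (F.autGroup T))) :
    St F E p (E.autGroup T) := by
  obtain ⟨n, H, h0, h1, h2, h3, h4⟩ := h
  let G := fun i => ((H i).comap (QuotientGroup.mk' _)).map (F.autGroup T).subtype
  have m : ∀ i (α : F.autGroup T), α.1 ∈ G i ↔ QuotientGroup.mk' _ α ∈ H i := fun i α =>
    mem_map_iff_mem (f := (F.autGroup T).subtype) (subtype_injective _)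
  have e0 : G 0 = E.autGroup T := by
    simp only [G, h0, MonoidHom.comap_bot, QuotientGroup.ker_mk', subgroupOf_map_subtype]
    exact inf_eq_left.2 (aut_mono hE.2.2.1)
  rw [← e0]
  refine Fin.reverseInduction (motive := fun i => St F E p (G i)) ?_ (fun i ih => ?_) 0
  · simp only [G, h1, comap_top, ← MonoidHom.range_eq_map, range_subtype]
    exact st_top hS hE
  haveI := h3 i.castSucc
  have a1 : E.autGroup T ≤ G i.castSucc := e0 ▸ map_mono (comap_mono (h2 (Fin.zero_le _)))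
  have a2 : G i.castSucc ≤ G i.succ := map_mono (comap_mono (h2 (Fin.castSucc_lt_succ).le))
  have a3 : F.autGroup T ≤ N[G i.castSucc] := le_norm_map_subtype _
  rcases h4 i with ⟨k, e⟩ | e
  · refine st_ppi hS hE a1 a2 a3 ?_ ih
    rintro _ ⟨α, u, rfl⟩
    exact ⟨k, (m _ (α ^ p ^ k)).2 (by rw [map_pow, ← e]; exact pow_relIndex_mem _ u)⟩
  · refine st_ptp hS hE a1 a2 a3 ?_ ih
    rintro _ ⟨α, u, rfl⟩ k v
    have := (m _ (α ^ p ^ k)).1 v
    rw [map_pow] at this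
    exact (m _ α).2 (mem_of_pow_pow (pow_relIndex_mem _ u) this (e.pow_right k))

omit h1 h2 h3 in
theorem NSK_aut : NSK S (E.autGroup T) = T ⊔ centralizerIn S T := by
  have l := hE.2.2.2.1.1
  haveI := finite_of_le l
  rw [← NSK_inn l]
  refine le_antisymm (fun x hx => ⟨hx.1, ?_⟩) fun x hx => ⟨hx.1, hx.2.mono (inn_le_aut le_rfl)⟩
  have n := hx.2.norm
  obtain ⟨k, ek⟩ := pgroup_pow_eq_one (isPGroup_autInd hS) (cA_mem n hx.1)
  refine (Kf_cA n).2 (inn_eq T ▸ (sat_syl (hS.to_le l) hE.1 fn_top).mem_of_norm ?_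
    ((Kf_cA n).1 hx.2) ek)
  rw [← inn_eq]; exact aut_le_norm_inn

end CfsgH2
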