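import Cfsg.Agent.H2.Sa6

/-! Extension of automorphisms of a normal subsystem over centralizers. -/

namespace CfsgH2
open Cfsg Subgroup CfsgL0 Function
open Cfsg.FusionSystem hiding inv_mem center

variable {Ω : Type*} [Group Ω] {S T U W X Y : Subgroup Ω} {F : FusionSystem S}
  {P Q R : Subgroup Ω} {f g : Ω → Ω} {p : ℕ} {E : FusionSystem T}

/-- `f` has order prime to `p` on `P` -/
def PPo (p : ℕ) (P : Subgroup Ω) (f : Ω → Ω) : Prop := ∃ k, k.Coprime p ∧ ∀ x ∈ P, f^[k] x = x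

theorem PPo.mono (h : PPo p P f) (l : Q ≤ P) : PPo p Q f :=
  let ⟨k, a, b⟩ := h; ⟨k, a, fun x hx => b x (l hx)⟩

theorem iter_mem (h : ∀ x ∈ P, f x ∈ P) (n : ℕ) : ∀ x ∈ P, f^[n] x ∈ P := fun x hx => by
  induction n with
  | zero => exact hx
  | succ n ih => rw [iterate_succ_apply']; exact h _ ih

theorem iter_congr (h : ∀ x ∈ P, f x ∈ P) (e : ∀ x ∈ P, g x = f x) (n : ℕ) :
    ∀ x ∈ P, g^[n] x = f^[n] x := fun x hx => by
  induction n with
  | zero => rfl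
  | succ n ih => rw [iterate_succ_apply', iterate_succ_apply', ih, e _ (iter_mem h n x hx)]

theorem PPo.congr (h : PPo p P f) (m : ∀ x ∈ P, f x ∈ P) (e : ∀ x ∈ P, g x = f x) : PPo p P g :=
  let ⟨k, a, b⟩ := h; ⟨k, a, fun x hx => (iter_congr m e k x hx).trans (b x hx)⟩

theorem iter_semi {k f' : Ω → Ω} (m : ∀ x ∈ P, f x ∈ P) (e : ∀ x ∈ P, f' (k x) = k (f x)) (n : ℕ) :
    ∀ x ∈ P, f'^[n] (k x) = k (f^[n] x) := fun x hx => by
  induction n with
  | zero => rfl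
  | succ n ih => rw [iterate_succ_apply', iterate_succ_apply', ih, e _ (iter_mem m n x hx)]

theorem PPo.tr {k f' : Ω → Ω} (h : PPo p P f) (hk : HomOn P k) (m : ∀ x ∈ P, f x ∈ P)
    (e : ∀ x ∈ P, f' (k x) = k (f x)) : PPo p (im P k) f' :=
  let ⟨n, a, b⟩ := h; ⟨n, a, fun y hy => by
    obtain ⟨x, hx, rfl⟩ := hk.mem_im.1 hy
    rw [iter_semi m e n x hx, b x hx]⟩

theorem af_iter (α : MulAut P) (n : ℕ) : ∀ x ∈ P, (af α)^[n] x = af (α ^ n) x := fun x hx => by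
  induction n with
  | zero => rw [pow_zero, af_one hx]; rfl
  | succ n ih => rw [iterate_succ_apply', ih, af_pow_succ _ _ hx]

theorem ppo_af {α : MulAut P} (h : (orderOf α).Coprime p) : PPo p P (af α) :=
  ⟨_, h, fun x hx => by rw [af_iter α _ x hx, pow_orderOf_eq_one, af_one hx]⟩

theorem PPo.cop {α : MulAut P} (h : PPo p P (af α)) : (orderOf α).Coprime p := by
  obtain ⟨k, a, b⟩ := h
  exact a.coprime_dvd_left (orderOf_dvd_of_pow_eq_one (af_ext fun x hx => by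
    rw [← af_iter α k x hx, b x hx, af_one hx]))

theorem M.iter (h : M F P f) (m : ∀ x ∈ P, f x ∈ P) (n : ℕ) : M F P f^[n] := by
  induction n with
  | zero => exact M_id h.le
  | succ n ih => exact (ih.comp h (iter_mem m n)).congr fun x _ => iterate_succ_apply' _ _ _

theorem iter_triv (m : ∀ x ∈ P, f x ∈ P) (h : ∀ x ∈ P, x⁻¹ * f x ∈ R) (n : ℕ) :
    ∀ x ∈ P, x⁻¹ * f^[n] x ∈ R := fun x hx => by
  induction n with
  | zero => simp
  | succ n ih =>
    have := mul_mem ih (h _ (iter_mem m n x hx))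
    rw [iterate_succ_apply']; simpa [mul_assoc] using this

theorem iter_fix {x : Ω} (h : f x = x) (n : ℕ) : f^[n] x = x := iterate_fixed h n

/-- `f` extends over `Y` acting trivially modulo `R` -/
def XT (F : FusionSystem S) (R Y : Subgroup Ω) (f : Ω → Ω) : Prop :=
  ∃ g, M F (R ⊔ Y) g ∧ (∀ x ∈ R, g x = f x) ∧ ∀ y ∈ Y, y⁻¹ * g y ∈ R

theorem XT.mono (h : XT F R Y f) (l : X ≤ Y) : XT F R X f :=
  let ⟨g, a, b, c⟩ := h; ⟨g, a.mono (sup_le_sup_left l _), b, fun y hy => c y (l hy)⟩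

theorem XT.congr (h : XT F R Y f) (e : ∀ x ∈ R, g x = f x) : XT F R Y g :=
  let ⟨k, a, b, c⟩ := h; ⟨k, a, fun x hx => (b x hx).trans (e x hx).symm, c⟩

theorem xt_mem (hg : HomOn (R ⊔ Y) g) (m : ∀ x ∈ R, g x ∈ R) (c : ∀ y ∈ Y, y⁻¹ * g y ∈ R) :
    ∀ x ∈ R ⊔ Y, g x ∈ R ⊔ Y := im_le_iff.1 (by
  rw [hg.im_sup]
  exact sup_le (im_le_iff.2 fun x hx => mem_sup_left (m x hx)) (im_le_iff.2 fun y hy => by
    simpa using mul_mem (mem_sup_right hy) (mem_sup_left (c y hy))))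

theorem xt_triv (hg : HomOn (R ⊔ Y) g) (n : Y ≤ N[R]) (m : ∀ x ∈ R, g x ∈ R)
    (c : ∀ y ∈ Y, y⁻¹ * g y ∈ R) : ∀ x ∈ R ⊔ Y, x⁻¹ * g x ∈ R := fun x hx => by
  rw [sup_comm] at hx
  obtain ⟨y, hy, r, hr, rfl⟩ := (mem_sup_of_norm n).1 hx
  rw [hg.mul (mem_sup_right hy) (mem_sup_left hr)]
  have := mul_mem (mul_mem (inv_mem hr) (c y hy)) (m r hr)
  simpa [mul_assoc] using this

theorem XT.comp (h : XT F R Y f) (h' : XT F R Y g) (n : Y ≤ N[R]) (m : ∀ x ∈ R, f x ∈ R)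
    (m' : ∀ x ∈ R, g x ∈ R) : XT F R Y fun x => g (f x) := by
  obtain ⟨k, a, b, c⟩ := h
  obtain ⟨k', a', b', c'⟩ := h'
  have t := xt_mem a.homOn (fun x hx => b x hx ▸ m x hx) c
  refine ⟨_, a.comp a' t, fun x hx => by rw [b x hx, b' _ (m x hx)], fun y hy => ?_⟩
  have := mul_mem (c y hy) (xt_triv a'.homOn n (fun x hx => b' x hx ▸ m' x hx) c' _
    (t y (mem_sup_right hy)))
  simpa [mul_assoc] using this

variable [Finite S]

theorem XT.inv (h : XT F R Y f) (n : Y ≤ N[R]) (m : ∀ x ∈ R, f x ∈ R)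
    (e : ∀ x ∈ R, g (f x) = x) : XT F R Y g := by
  obtain ⟨k, a, b, c⟩ := h
  have m' : ∀ x ∈ R, k x ∈ R := fun x hx => b x hx ▸ m x hx
  obtain ⟨j, j0, j1, j2, -⟩ := a.exists_inv' (a.im_eq_of_le le_rfl (xt_mem a.homOn m' c))
  refine ⟨j, j0, fun y hy => ?_, fun y hy => ?_⟩
  · obtain ⟨x, hx, rfl⟩ := (a.mem_im' le_sup_left).1 ((a.im_eq_of_le le_sup_left m').ge hy)
    rw [j1 x (mem_sup_left hx), b x hx, e x hx]
  · have := inv_mem (xt_triv a.homOn n m' c _ (j2 y (mem_sup_right hy)).1)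
    rw [(j2 y (mem_sup_right hy)).2] at this; simpa using this

omit [Finite S] in
theorem XT.pull {k f' : Ω → Ω} (hk : M F U k) (h1 : R ≤ U) (h2 : Y ≤ U) (m : ∀ x ∈ R, f x ∈ R)
    (e : ∀ x ∈ R, f' (k x) = k (f x)) (h : XT F (im R k) (im Y k) f') : XT F R Y f := by
  obtain ⟨g, a, b, c⟩ := h
  replace hk := hk.mono (sup_le h1 h2)
  have t := xt_mem a.homOn (fun y hy => by
    obtain ⟨x, hx, rfl⟩ := (hk.mem_im' le_sup_left).1 hy
    rw [b _ hy, e x hx]; exact mem_im_of _ (m x hx)) c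
  rw [← hk.homOn.im_sup] at a t
  obtain ⟨j, j0, j1, j2, -⟩ := hk.exists_inv
  refine ⟨_, hk.comp_im (a.comp j0 t), fun x hx => ?_, fun y hy => ?_⟩
  · rw [b _ (mem_im_of _ hx), e x hx, j1 _ (mem_sup_left (m x hx))]
  · obtain ⟨r, hr, e1⟩ := (hk.mem_im' le_sup_left).1 (c _ (mem_im_of _ hy))
    rw [show g (k y) = k (y * r) by rw [hk.mul (mem_sup_right hy) (mem_sup_left hr), e1]; group,
      j1 _ (mul_mem (mem_sup_right hy) (mem_sup_left hr))]
    simpa using hr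

variable [hp : Fact p.Prime]

theorem pp_part (h : M F X g) (m : ∀ x ∈ X, g x ∈ X) (c : PPo p P g) :
    ∃ n, PPo p X g^[n] ∧ ∀ x ∈ P, g^[n] x = g x := by
  haveI := finite_of_le h.le
  obtain ⟨α, -, e⟩ := h.exists_aut (h.im_eq_of_le le_rfl m)
  obtain ⟨k, a, b⟩ := c
  obtain ⟨i, j, hj, e1⟩ := Nat.exists_eq_pow_mul_and_not_dvd (orderOf_pos α).ne' p hp.out.ne_one
  have k0 : k ≠ 0 := by rintro rfl; exact hp.out.ne_one (by simpa using a)
  obtain ⟨t, ht⟩ := Nat.exists_eq_succ_of_ne_zero (Nat.totient_pos.2 (Nat.pos_of_ne_zero k0)).ne'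
  have := Nat.ModEq.pow_totient (a.symm.pow_left i)
  refine ⟨(p ^ i) ^ k.totient, ⟨j, (coprime_iff_not_dvd hp.out).2 hj, fun x hx => ?_⟩, fun x hx => ?_⟩
  · rw [← iterate_mul, ← iter_congr m e _ x hx, af_iter α _ x hx, ht, pow_succ, mul_assoc, ← e1,
      pow_mul', pow_orderOf_eq_one, one_pow, af_one hx]
  · obtain ⟨u, hu⟩ := (Nat.modEq_iff_dvd' (Nat.pos_of_ne_zero (pow_ne_zero _
      (pow_ne_zero _ hp.out.ne_zero)))).1 this.symm
    rw [show (p ^ i) ^ k.totient = 1 + k * u by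
      have := Nat.pos_of_ne_zero (pow_ne_zero k.totient (pow_ne_zero i hp.out.ne_zero)); omega,
      iterate_add_apply, iterate_mul, iter_fix (b x hx)]; rfl

variable (hS : IsPGroup p S)
include hS

omit [Finite S] in
theorem cop2 (hg : M F W g) (h1 : X ≤ W) (h2 : P ≤ X) (h3 : ∀ y ∈ X, y⁻¹ * g y ∈ P)
    (c : PPo p W g) {x : Ω} (hx : x ∈ W) (h : x⁻¹ * g x ∈ X) : x⁻¹ * g x ∈ P := by
  obtain ⟨k, a, b⟩ := c
  have key : ∀ n, ((x⁻¹ * g x) ^ n)⁻¹ * (x⁻¹ * g^[n] x) ∈ P := fun n => by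
    induction n with
    | zero => simp
    | succ n ih =>
      have t := mul_mem (pow_mem h n) (h2 ih)
      rw [mul_inv_cancel_left] at t
      have := mul_mem ih (h3 _ t)
      rw [iterate_succ_apply', show g^[n] x = x * (x⁻¹ * g^[n] x) by group, hg.mul hx (h1 t),
        pow_succ']
      generalize (x⁻¹ * g x) ^ n = u at this ⊢
      convert this using 1; group
  have := inv_mem (key k)
  rw [b x hx] at this
  obtain ⟨i, hi⟩ := pgroup_pow_eq_one hS (hg.le (h1 h))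
  exact mem_of_pow_pow (by simpa using this) (hi ▸ one_mem _) (a.pow_right i)

theorem XT.trans (h : XT F W Y g) (l : R ≤ W) (n : Y ≤ N[W]) (c : PPo p W g)
    (t : ∀ x ∈ W, x⁻¹ * g x ∈ R) : XT F R Y g := by
  obtain ⟨k, a, b, d⟩ := h
  have m : ∀ x ∈ W, g x ∈ W := fun x hx => by simpa using mul_mem hx (l (t x hx))
  have m' : ∀ x ∈ W, k x ∈ W := fun x hx => b x hx ▸ m x hx
  have u := xt_mem a.homOn m' d
  obtain ⟨i, v, w⟩ := pp_part a u (c.congr m b)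
  refine ⟨_, (M.iter a u i).mono (sup_le_sup_right l _), fun x hx => (w x (l hx)).trans (b x (l hx)),
    fun y hy => cop2 hS (M.iter a u i) le_sup_left l (fun x hx => ?_) v (mem_sup_right hy)
      (iter_triv u (xt_triv a.homOn n m' d) i y (mem_sup_right hy))⟩
  rw [w x hx, b x hx]; exact t x hx

omit hS in
/-- an extension of `p'`-order -/
theorem XT.pp (h : XT F R Y f) (n : Y ≤ N[R]) (m : ∀ x ∈ R, f x ∈ R) (c : PPo p R f) :
    ∃ g, M F (R ⊔ Y) g ∧ PPo p (R ⊔ Y) g ∧ (∀ x ∈ R, g x = f x) ∧ ∀ y ∈ R ⊔ Y, y⁻¹ * g y ∈ R := by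
  obtain ⟨k, a, b, d⟩ := h
  have m' : ∀ x ∈ R, k x ∈ R := fun x hx => b x hx ▸ m x hx
  have u := xt_mem a.homOn m' d
  obtain ⟨i, v, w⟩ := pp_part a u (c.congr m b)
  exact ⟨_, M.iter a u i, v, fun x hx => (w x hx).trans (b x hx),
    iter_triv u (xt_triv a.homOn n m' d) i⟩

variable (hF : F.IsSaturated p)
include hF

theorem exists_S_of_fix (hT : F.StronglyClosed T) (hW : F.IsFullyNormalized W) (hg : M F W g)
    (h1 : ∀ x ∈ W, x ∈ T → g x = x) (h2 : ∀ x ∈ W, x⁻¹ * g x ∈ T) (h3 : ∀ x ∈ W, g x ∈ W) :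
    ∃ s ∈ S, ∀ x ∈ W, g x = s * x * s⁻¹ := by
  haveI := finite_of_le hW.1
  obtain ⟨α, a, e⟩ := hg.exists_aut (hg.im_eq_of_le le_rfl h3)
  have := (sat_syl hS hF hW).pCoreOf_le (mem_Op_of_chain (hS.to_le hW.1)
    (fun i => match i with | 0 => ⊥ | 1 => T | _ => W) (n := 2) le_rfl
    (fun β _ _ _ _ x hx h => by rw [mem_bot.1 h, (homOn_af β).one])
    (fun β hβ i x hx h => match i with
      | 0 => by rw [mem_bot.1 h, (homOn_af β).one]; exact one_mem _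
      | 1 => sc_mem hT ((mem_aut hW.1).1 hβ) hx h
      | _ + 2 => af_mem _ hx) a
    (fun i x hx h => match i with
      | 0 => by rw [e x hx, h1 x hx h]; simp
      | 1 => e x hx ▸ h2 x hx
      | _ + 2 => mul_mem (inv_mem hx) (af_mem _ hx)))
  obtain ⟨s, hs, e'⟩ := mem_autInd'.1 this
  exact ⟨s, hs, fun x hx => (e x hx).symm.trans (e' x hx)⟩

theorem xt_core (hT : F.StronglyClosed T) (hR : R ≤ T) (hC : centralizerIn T R ≤ R)
    (hW : F.IsFullyNormalized (R ⊔ centralizerIn S R)) (hY : Y ≤ normalizerIn S R)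
    (m : ∀ x ∈ R, f x ∈ R) (c : PPo p R f) (h : XT F R (centralizerIn S R) f)
    (e : ∀ y ∈ Y, ∃ z ∈ R, ∀ x ∈ R, f (y * x * y⁻¹) = y * z * f x * (y * z)⁻¹) : XT F R Y f := by
  obtain ⟨g, a, b, d, t⟩ := h.pp (cI_le_cent.trans (cent_le_norm _)) m c
  set W := R ⊔ centralizerIn S R with eW
  have nW : ∀ y ∈ S, y ∈ N[R] → y ∈ N[W] := fun y h1 h2 => mem_norm_sup h2
    (mem_norm_inf (le_normalizer h1) (norm_le_norm_cent _ h2))
  have WR : W ≤ N[R] := sup_le le_normalizer (cI_le_cent.trans (cent_le_norm _))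
  have gm : ∀ x ∈ W, g x ∈ W := fun x hx => by simpa using mul_mem hx (mem_sup_left (t x hx))
  have gi := a.im_eq_of_le le_rfl gm
  have WT : ∀ x ∈ W, x ∈ T → x ∈ R := fun x hx h => by
    obtain ⟨r, hr, s, hs, rfl⟩ := (mem_sup_of_norm' (cI_le_cent.trans (cent_le_norm _))).1 hx
    exact mul_mem hr (hC ⟨(mul_mem_cancel_left (hR hr)).1 h, hs.2⟩)
  obtain ⟨j, j0, j1, j2, -⟩ := a.exists_inv' gi
  have key : ∀ y ∈ Y, ∃ w ∈ W, ∀ x ∈ W, g (y * x * y⁻¹) = y * w * g x * (y * w)⁻¹ := fun y hy => by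
    obtain ⟨z, hz, e1⟩ := e y hy
    have n1 := nW y (hY hy).1 (hY hy).2
    have s1 : (y * z)⁻¹ ∈ S := inv_mem (mul_mem (hY hy).1 (hW.1 (mem_sup_left hz)))
    have n2 : (y * z)⁻¹ ∈ N[W] := inv_mem (mul_mem n1 (le_normalizer (mem_sup_left hz : z ∈ W)))
    have jm : ∀ x ∈ W, y * j x * y⁻¹ ∈ W := fun x hx => conj_mem_of_norm n1 (j2 x hx).1
    obtain ⟨s, hs, e2⟩ := exists_S_of_fix hS hF hT hW
      (((j0.conj_comp (hY hy).1).comp a jm).conj_comp s1) (fun x hx h => by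
        obtain ⟨u, hu, rfl⟩ := (a.mem_im' le_sup_left).1 ((a.im_eq_of_le le_sup_left
          fun x hx => d x hx ▸ m x hx).ge (WT x hx h))
        rw [j1 u (mem_sup_left hu), d _ (conj_mem_of_norm (hY hy).2 hu), e1 u hu, d u hu]; group)
      (fun x hx => hR (by
        have t1 := t _ (jm x hx)
        have t2 := t _ (j2 x hx).1
        rw [(j2 x hx).2] at t2
        have := mul_mem (mul_mem (inv_mem t2) (conj_mem_of_norm' (WR (j2 x hx).1) (inv_mem hz)))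
          (mul_mem (conj_mem_of_norm' (hY hy).2 t1) hz)
        convert this using 1; group))
      fun x hx => conj_mem_of_norm n2 (gm _ (jm x hx))
    have hs' : s ∈ W := mem_sup_right (mem_cI.2 ⟨hs, mem_cent_iff.2 fun x hx => by
      obtain ⟨u, hu, rfl⟩ := (a.mem_im' le_sup_left).1 ((a.im_eq_of_le le_sup_left
          fun x hx => d x hx ▸ m x hx).ge hx)
      have := e2 _ (gm u (mem_sup_left hu))
      rw [j1 u (mem_sup_left hu), d _ (conj_mem_of_norm (hY hy).2 hu), e1 u hu, ← d u hu] at this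
      rw [mul_inv_eq_iff_eq_mul.1 this.symm]; group⟩)
    refine ⟨z * s, mul_mem (mem_sup_left hz) hs', fun x hx => ?_⟩
    have := e2 _ (gm x hx)
    rw [j1 x hx] at this
    rw [show y * (z * s) * g x * (y * (z * s))⁻¹ = y * z * (s * g x * s⁻¹) * (y * z)⁻¹ by group,
      ← this]; group
  obtain ⟨k, k0, k1⟩ := sat_ext hS hF a (gi.symm ▸ sat_fn_fc hS hF hW)
  have l : W ⊔ Y ≤ Ext S W g := sup_le a.le_Ext fun y hy => by
    obtain ⟨w, hw, e1⟩ := key y hy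
    exact mem_Ext.2 ⟨(hY hy).1, nW y (hY hy).1 (hY hy).2, _, mul_mem (hY hy).1 (hW.1 hw), e1⟩
  refine (XT.trans hS ⟨k, k0.mono l, k1, fun y hy => ?_⟩ le_sup_left
    (fun y hy => nW y (hY hy).1 (hY hy).2) b t).congr fun x hx => (d x hx).symm
  obtain ⟨w, hw, e1⟩ := key y hy
  have y1 := l (mem_sup_right hy)
  have : (y * w)⁻¹ * k y ∈ W := mem_sup_right (mem_cI.2 ⟨mul_mem (inv_mem (mul_mem (hY hy).1
    (hW.1 hw))) (k0.mem y1), mem_cent_iff.2 fun x hx => by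
      obtain ⟨u, hu, rfl⟩ := a.mem_im.1 (gi.ge (mem_sup_left hx))
      have := e1 u hu
      rw [← k1 _ (conj_mem_of_norm (nW y (hY hy).1 (hY hy).2) hu), k0.conj y1 (a.le_Ext hu),
        k1 u hu] at this
      rw [show g u * ((y * w)⁻¹ * k y) = (y * w)⁻¹ * (y * w * g u * (y * w)⁻¹) * k y by group,
        ← this]; group⟩)
  simpa [mul_assoc] using mul_mem hw this

theorem xt_of_inn (h : E.IsInvariantIn F) (c : E.IsCentric R)
    (ih : ∀ R', F.IsConj R R' → ∀ f, M E R' f → (∀ x ∈ R', f x ∈ R') →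
      XT F R' (centralizerIn S R') f) (hY : Y ≤ normalizerIn S R) (hf : M E R f)
    (m : ∀ x ∈ R, f x ∈ R) (o : PPo p R f)
    (e : ∀ y ∈ Y, ∃ z ∈ R, ∀ x ∈ R, f (y * x * y⁻¹) = y * z * f x * (y * z)⁻¹) : XT F R Y f := by
  have hT := h.2.1
  have hR := c.1.trans hT.1
  obtain ⟨k, hk, a, b⟩ : ∃ k, M F (normalizerIn S R) k ∧
      F.IsFullyNormalized (im R k ⊔ centralizerIn S (im R k)) ∧ True := by
    obtain ⟨k, hk, a⟩ := sat_nmap_fn hS hF hR
    obtain ⟨j, hj, b⟩ := sat_nmap_fn hS hF (sup_le a.1 cI_le : im R k ⊔ centralizerIn S (im R k) ≤ S)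
    have l : normalizerIn S (im R k) ≤ normalizerIn S (im R k ⊔ centralizerIn S (im R k)) :=
      fun y hy => ⟨hy.1, mem_norm_sup hy.2
        (mem_norm_inf (le_normalizer hy.1) (norm_le_norm_cent _ hy.2))⟩
    refine ⟨_, hk.comp hj fun x hx => l ⟨hk.mem hx, hk.mem_norm (le_nI hR) hx hx.2⟩, ?_, trivial⟩
    rwa [hj.homOn.im_sup' ((le_nI a.1).trans l) (cI_le_nI.trans l), hj.im_cI_eq
      (sat_fn_fc hS hF a) ((le_nI a.1).trans l) (cI_le_nI.trans l),
      (hk.mono (le_nI hR)).im_im] at b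
  have hk' := hk.mono (le_nI hR)
  obtain ⟨j, -, j1, j2, -⟩ := hk'.exists_inv
  have e1 : ∀ x ∈ R, (fun y => k (f (j y))) (k x) = k (f x) := fun x hx => by
    beta_reduce; rw [j1 x hx]
  have m' : ∀ y ∈ im R k, k (f (j y)) ∈ im R k := fun y hy => mem_im_of _ (m _ (j2 y hy).1)
  have c' := inv_centric h c hk'
  refine XT.pull hk (le_nI hR) hY m e1 (xt_core hS hF hT c'.1 (centric_cI c') a
    (hk.im_nI_le (le_nI hR) hY (hY.trans nI_le_norm)) m' (o.tr hk'.homOn m e1)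
    (ih _ hk'.isConj _ (si_of_inv h _ _ _ _ _ hf hk' le_rfl m e1) m') fun y' hy' => ?_)
  obtain ⟨y, hy, rfl⟩ := (hk.mem_im' hY).1 hy'
  obtain ⟨z, hz, e2⟩ := e y hy
  refine ⟨k z, mem_im_of _ hz, fun x' hx' => ?_⟩
  obtain ⟨x, hx, rfl⟩ := hk'.mem_im.1 hx'
  have u := le_nI hR
  rw [← hk.conj (hY hy) (u hx), j1 _ (conj_mem_of_norm (hY hy).2 hx), j1 x hx, e2 x hx,
    hk.conj (mul_mem (hY hy) (u hz)) (u (m x hx)), hk.mul (hY hy) (u hz)]

theorem lemL_fn (h : E.IsNormalIn F p) (c : E.IsCentric P) (hP : F.IsFullyNormalized P)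
    (ih : ∀ Q : Subgroup Ω, Nat.card P < Nat.card Q → E.IsCentric Q → ∀ f, M E Q f → (∀ x ∈ Q, f x ∈ Q) →
      XT F Q (centralizerIn S Q) f) (hf : M E P f) (m : ∀ x ∈ P, f x ∈ P) :
    XT F P (centralizerIn S P) f := by
  obtain ⟨⟨hE, -, hi⟩, hx⟩ := normalIn_iff'.1 h
  have hT := hi.2.1
  haveI := finite_of_le hT.1
  haveI := finite_of_le hP.1
  have hT' := hS.to_le hT.1
  have n : centralizerIn S P ≤ N[P] := cI_le_cent.trans (cent_le_norm _)
  have cen : ∀ g, M F (P ⊔ centralizerIn S P) g → (∀ x ∈ P, g x ∈ P) → ∀ y ∈ centralizerIn S P,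
      y⁻¹ * g y ∈ T → y⁻¹ * g y ∈ P := fun g hg m y hy h => centric_cI c (mem_cI.2 ⟨h,
        mul_mem (inv_mem (cI_le_cent hy)) (hg.im_eq_of_le le_sup_left m ▸
          hg.mem_cent le_sup_left (mem_sup_right hy) hy.2)⟩)
  rcases c.1.eq_or_lt with rfl | hlt
  · exact hx f hf
  let A : Subgroup (MulAut P) :=
    { carrier := {α | α ∈ E.autGroup P ∧ XT F P (centralizerIn S P) (af α)}
      mul_mem' := fun {a b} ha hb => ⟨mul_mem ha.1 hb.1, (hb.2.comp ha.2 n (fun _ => af_mem _)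
        fun _ => af_mem _).congr fun x hx => af_mul _ _ hx⟩
      one_mem' := ⟨one_mem _, _, M_id (sup_le hP.1 cI_le), fun x hx => (af_one hx).symm,
        fun y _ => by simp⟩
      inv_mem' := fun {a} ha => ⟨inv_mem ha.1, ha.2.inv n (fun _ => af_mem _)
        fun _ => af_inv_af _⟩ }
  have hfn := fn_sub hS hF hT hi.1 c.1 hP
  have s := sat_syl hT' hE hfn
  have l : autInducedBy T P ≤ A := fun α hα => ⟨s.le hα, by
    obtain ⟨t, ht, nt, e⟩ := mem_autInd.1 hα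
    have u := M_conj (F := F) (sup_le hP.1 cI_le : P ⊔ centralizerIn S P ≤ S) (hT.1 ht)
    refine ⟨_, u, fun x hx => (e x hx).symm, fun y hy => cen _ u (fun x => conj_mem_of_norm nt) y hy ?_⟩
    have := mul_mem (conj_mem_of_norm' (sc_le_norm hT hy.1) ht) (inv_mem ht)
    simpa [mul_assoc] using this⟩
  have nA : E.autGroup P ≤ N[A] := fun χ hχ => mem_norm_of_conj fun α hα =>
    ⟨mul_mem (mul_mem hχ hα.1) (inv_mem hχ), by
      have u := (mem_aut hP.1).1 (aut_mono hi.1 (inv_mem hχ))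
      obtain ⟨k, k0, k1⟩ := sat_ext hS hF u (by rw [im_af]; exact sat_fn_fc hS hF hP)
      have e1 : im P k = P := (im_congr k1).trans (im_af _)
      refine XT.pull (f' := af α) (f := af (χ * α * χ⁻¹)) k0 u.le_Ext cI_le_Ext
        (fun _ => af_mem _) (fun x hx => ?_) ?_
      · rw [k1 x hx, k1 _ (af_mem _ hx), af_mul _ _ hx, af_mul _ _ (af_mem _ hx),
          af_inv_af _ (af_mem _ (af_mem _ hx))]
      · rw [k0.im_cI_eq (sat_fn_fc hS hF hP) u.le_Ext cI_le_Ext, e1]; exact hα.2⟩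
  obtain ⟨α, hα, e⟩ := hf.exists_aut (hf.im_eq_of_le le_rfl m)
  obtain ⟨ν, hν, κ, hκ, rfl⟩ := (s.mono l fun _ h => h.1).frattini' (nA hα)
  have hν' : ν ∈ E.autGroup P := (mul_mem_cancel_right hκ.1).1 hα
  suffices ν ∈ A from (mul_mem this hκ).2.congr fun x hx => (e x hx).symm
  obtain ⟨a, ha, b, hb, rfl, oa, ob⟩ := exists_pi_parts {p} ν
  have z := zpowers_le.2 (show a * b ∈ E.autGroup P ⊓ N[autInducedBy T P] from ⟨hν', hν⟩)
  obtain ⟨i, hi'⟩ := (piN_singleton hp.out (orderOf_pos a).ne').1 oa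
  refine mul_mem (l ((s.mono (le_inf s.le le_normalizer) inf_le_left).mem_of_norm inf_le_right
    (z ha) (k := i) (hi' ▸ pow_orderOf_eq_one a))) ⟨(z hb).1, ?_⟩
  have u := (mem_aut c.1).1 (z hb).1
  obtain ⟨g, g0, g1⟩ := sat_ext hT' hE u (by rw [im_af]; exact sat_fn_fc hT' hE hfn)
  replace g0 := g0.mono (show normalizerIn T P ≤ _ from fun y hy =>
    mem_Ext_of_norm le_rfl (z hb).2 hy.1 hy.2 (cA_mem _ hy.1))
  have pl := le_nI c.1
  have e1 : im P g = P := (im_congr g1).trans (im_af _)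
  have gm : ∀ x ∈ normalizerIn T P, g x ∈ normalizerIn T P := fun x hx =>
    ⟨g0.mem hx, e1 ▸ g0.mem_norm pl hx hx.2⟩
  obtain ⟨j, o, g2⟩ := pp_part g0 gm ((ppo_af ((piN_compl_singleton' hp.out).1 ob)).congr
    (fun _ => af_mem _) g1)
  have g3 := M.iter g0 gm j
  have gm' := iter_mem gm j
  set k := g^[j]
  have cR := centric_mono c pl nI_le
  have hY : centralizerIn S P ≤ normalizerIn S (normalizerIn T P) := fun y hy => ⟨hy.1,
    mem_norm_inf (sc_le_norm hT hy.1) (norm_le_norm_norm _ (n hy))⟩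
  obtain ⟨w, w0, w1, w2⟩ := xt_of_inn hS hF hi cR (fun R' hc => ih R' (fconj_card hc ▸
    card_lt_of_lt' nI_le (lt_nI hT' le_rfl hlt)) (by
      obtain ⟨f, hf, rfl⟩ := isConj_iff'.1 hc; exact inv_centric hi cR hf)) hY g3 gm' o
    fun y hy => by
      have v := si_of_inv hi _ _ _ _ (fun x => y⁻¹ * k (y * x * y⁻¹) * y) g3
        (M_conj (cR.1.trans hT.1) (inv_mem hy.1)) le_rfl gm' fun x _ => by simp [mul_assoc]
      rw [(M_conj (F := F) (cR.1.trans hT.1) (inv_mem hy.1)).im_eq_of_le le_rfl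
        fun x => conj_mem_of_norm (inv_mem (hY hy).2)] at v
      obtain ⟨z, z1, -, z2⟩ := ext_unique hT' hE g3 P pl c _ v fun x hx => by
        have := mem_cent_iff.1 hy.2 _ (show k x ∈ P by rw [g2 x hx, g1 x hx]; exact af_mem _ hx)
        rw [← mem_cent_iff.1 hy.2 x hx, mul_inv_cancel_right, mul_assoc, this]; simp
      refine ⟨k z, gm' z (pl z1), fun x hx => ?_⟩
      have := z2 x hx
      rw [g3.conj (pl z1) hx] at this
      rw [show y * k z * k x * (y * k z)⁻¹ = y * (k z * k x * (k z)⁻¹) * y⁻¹ by group, ← this]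
      group
  have w3 : ∀ x ∈ P, w x = af b x := fun x hx => by rw [w1 x (pl hx), g2 x hx, g1 x hx]
  have w4 := w0.mono (sup_le_sup_right pl _)
  exact ⟨w, w4, w3, fun y hy => cen w w4 (fun x hx => w3 x hx ▸ af_mem _ hx) y hy (w2 y hy).1⟩

/-- automorphisms of a normal subsystem extend over centralizers -/
theorem lemL (h : E.IsNormalIn F p) (c : E.IsCentric P) (hf : M E P f) (m : ∀ x ∈ P, f x ∈ P) :
    XT F P (centralizerIn S P) f := by
  have hi := h.1.2.2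
  suffices H : ∀ R ≤ S, ∀ P : Subgroup Ω, Nat.card P = Nat.card R → E.IsCentric P → ∀ f, M E P f →
    (∀ x ∈ P, f x ∈ P) → XT F P (centralizerIn S P) f from H P (c.1.trans hi.2.1.1) P rfl c f hf m
  refine down_ind fun R _ ih P e c f hf m => ?_
  have l := le_nI (c.1.trans hi.2.1.1)
  obtain ⟨k, hk, a⟩ := sat_nmap_fn hS hF (c.1.trans hi.2.1.1)
  have hk' := hk.mono l
  obtain ⟨j, -, j1, j2, -⟩ := hk'.exists_inv
  have e1 : ∀ x ∈ P, (fun y => k (f (j y))) (k x) = k (f x) := fun x hx => by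
    beta_reduce; rw [j1 x hx]
  exact XT.pull hk l cI_le_nI m e1 ((lemL_fn hS hF h (inv_centric hi c hk') a
    (fun Q a b => ih Q (b.1.trans hi.2.1.1) (e ▸ hk'.card_im ▸ a) Q rfl b)
    (si_of_inv hi _ _ _ _ _ hf hk' le_rfl m e1) fun y hy => mem_im_of _ (m _ (j2 y hy).1)).mono
    (hk.im_cI_le l cI_le_nI cI_le_cent))

end CfsgH2
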