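import Cfsg.Agent.H2.Sa8

/-! The centralizer in `S` of a normal subsystem. -/

namespace CfsgH2
open Cfsg Subgroup CfsgL0 Function
open Cfsg.FusionSystem hiding inv_mem center

variable {Ω : Type*} [Group Ω] {S T U W X Y A : Subgroup Ω} {F : FusionSystem S}
  {P Q R : Subgroup Ω} {f g : Ω → Ω} {p : ℕ} {E : FusionSystem T}

/-- the fixed points of all canonical extensions -/
def CE (F : FusionSystem S) (E : FusionSystem T) (p : ℕ) : Subgroup Ω where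
  carrier := {y | y ∈ centralizerIn S T ∧ ∀ P g, E.IsCentric P →
    M F (P ⊔ centralizerIn S T) g → M E P g → (∀ x ∈ P, g x ∈ P) →
    PPo p (P ⊔ centralizerIn S T) g → (∀ y ∈ centralizerIn S T, y⁻¹ * g y ∈ P) → g y = y}
  mul_mem' := fun {a b} ha hb => ⟨mul_mem ha.1 hb.1, fun P g h1 h2 h3 h4 h5 h6 => by
    rw [h2.mul (mem_sup_right ha.1) (mem_sup_right hb.1), ha.2 P g h1 h2 h3 h4 h5 h6,
      hb.2 P g h1 h2 h3 h4 h5 h6]⟩
  one_mem' := ⟨one_mem _, fun _ _ _ h _ _ _ _ => h.one⟩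
  inv_mem' := fun {a} ha => ⟨inv_mem ha.1, fun P g h1 h2 h3 h4 h5 h6 => by
    rw [h2.inv (mem_sup_right ha.1), ha.2 P g h1 h2 h3 h4 h5 h6]⟩

theorem CE_le : CE F E p ≤ centralizerIn S T := fun _ h => h.1

theorem tr_ext {k : Ω → Ω} (hk : M F (P ⊔ A) k) (hg : M F X g) (h1 : im P k ≤ X) (h2 : im A k ≤ X)
    (m : ∀ x ∈ im P k, g x ∈ im P k) (t : ∀ a ∈ im A k, a⁻¹ * g a ∈ im P k) (o : PPo p X g) :
    ∃ g', M F (P ⊔ A) g' ∧ (∀ x ∈ P ⊔ A, k (g' x) = g (k x)) ∧ (∀ x ∈ P, g' x ∈ P) ∧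
      (∀ a ∈ A, a⁻¹ * g' a ∈ P) ∧ PPo p (P ⊔ A) g' := by
  replace o := o.mono (sup_le h1 h2)
  replace hg := hg.mono (sup_le h1 h2)
  have u := xt_mem hg.homOn m t
  rw [← hk.homOn.im_sup] at hg u o
  obtain ⟨j, j0, j1, j2, j3⟩ := hk.exists_inv
  have e : ∀ x ∈ P ⊔ A, k (j (g (k x))) = g (k x) := fun x hx => (j2 _ (u _ (mem_im_of _ hx))).2
  have v := fun x (hx : x ∈ P ⊔ A) => (j2 _ (u _ (mem_im_of _ hx))).1
  refine ⟨_, hk.comp_im (hg.comp j0 u), e, fun x hx => ?_, fun a ha => ?_, ?_⟩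
  · rw [← hk.mem_im_iff le_sup_left (v x (mem_sup_left hx)), e x (mem_sup_left hx)]
    exact m _ (mem_im_of _ hx)
  · have := mem_sup_right ha (S := P)
    rw [← hk.mem_im_iff le_sup_left (mul_mem (inv_mem this) (v a this)),
      hk.mul (inv_mem this) (v a this), hk.inv this, e a this]
    exact t _ (mem_im_of _ ha)
  · rw [← j3]; exact o.tr j0.homOn u fun y hy => by rw [(j2 y hy).2]

variable [Finite S] [hp : Fact p.Prime] (hS : IsPGroup p S) (hF : F.IsSaturated p)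
include hS hF

theorem ess_ind (X : Subgroup Ω → (Ω → Ω) → Prop)
    (hcongr : ∀ P f g, X P f → (∀ x ∈ P, g x = f x) → X P g)
    (hcomp : ∀ P Q f g, M F P f → M F Q g → X P f → X Q g → (∀ x ∈ P, f x ∈ Q) →
      X P (fun x => g (f x)))
    (hmono : ∀ P Q f, M F P f → X P f → Q ≤ P → X Q f)
    (hinv : ∀ P f g, M F P f → X P f → (∀ x ∈ P, g (f x) = x) → X (im P f) g)
    (hid : ∀ P, X P fun x => x)
    (hE : ∀ P, F.IsFullyNormalized P → F.IsCentric P → F.IsRadical p P →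
      (∀ (Q : Subgroup Ω) g, Nat.card P < Nat.card Q → M F Q g → X Q g) →
      ∀ α ∈ F.autGroup P, X P (af α)) : ∀ P f, M F P f → X P f := by
  refine fn_ind hS hF X hcongr hcomp hmono hinv fun P hP ih f hf e => ?_
  obtain ⟨α, hα, e⟩ := hf.exists_aut e
  refine hcongr _ _ _ ?_ fun x hx => (e x hx).symm
  rcases hP.1.eq_or_lt with rfl | hlt
  · exact hE _ hP centric_top (radical_top hS hF) ih α hα
  by_cases he : F.IsEssential p P
  · exact hE _ hP he.1 (ess_radical hS hF he) ih α hα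
  rw [ess_iff hS hF hlt hP, not_not] at he
  rw [← he] at hα
  clear e
  have m := fun β (h : β ∈ HX F P) => (mem_aut hP.1).1 (HX_le h)
  induction hα using closure_induction with
  | mem β h =>
    obtain ⟨Q, a, g, b, c⟩ := h
    exact hcongr _ _ _ (hmono _ _ _ b (ih Q g (card_lt_of_lt' b.le a) b) a.le)
      fun x hx => (c x hx).symm
  | one => exact hcongr _ _ _ (hid P) fun x hx => af_one hx
  | mul a b ha hb h1 h2 =>
    exact hcongr _ _ _ (hcomp _ _ _ _ (m b hb) (m a ha) h2 h1 fun _ => af_mem _)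
      fun x hx => af_mul _ _ hx
  | inv a ha h1 => simpa only [im_af] using hinv _ _ (af a⁻¹) (m a ha) h1 fun _ => af_inv_af _

theorem alperin_pp (X : Subgroup Ω → (Ω → Ω) → Prop)
    (hcongr : ∀ P f g, X P f → (∀ x ∈ P, g x = f x) → X P g)
    (hconj : ∀ P ≤ S, ∀ g ∈ S, X P (fun x => g * x * g⁻¹))
    (hcomp : ∀ P Q f g, M F P f → M F Q g → X P f → X Q g → (∀ x ∈ P, f x ∈ Q) →
      X P (fun x => g (f x)))
    (hinv : ∀ P f g, M F P f → X P f → (∀ x ∈ P, g (f x) = x) → X (im P f) g)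
    (hE : ∀ P, F.IsFullyNormalized P → F.IsCentric P → F.IsRadical p P → ∀ f, M F P f →
      (∀ x ∈ P, f x ∈ P) → PPo p P f → X P f) : ∀ P f, M F P f → X P f := by
  refine alperin_ind hS hF X hcongr hconj hcomp hinv fun P hP f hf e => ?_
  obtain ⟨h1, h2, h3⟩ : F.IsFullyNormalized P ∧ F.IsCentric P ∧ F.IsRadical p P := by
    rcases hP with rfl | hP
    · exact ⟨fn_top, centric_top, radical_top hS hF⟩
    · exact ⟨hP.2.1, hP.1, ess_radical hS hF hP⟩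
  obtain ⟨α, hα, e⟩ := hf.exists_aut e
  obtain ⟨β, hβ, s, hs, -, e'⟩ := aut_decomp hS hF h1 hα
  have m := fun β (h : β ∈ piRes {p} (F.autGroup P)) => (mem_aut h1.1).1 (piRes_le h)
  refine hcongr _ _ _ (hcomp _ _ _ _ (m β hβ) (M_conj h1.1 hs) ?_ (hconj P h1.1 s hs)
    fun _ => af_mem _) fun x hx => by rw [← e x hx, e' x hx]
  clear e'
  induction hβ using closure_induction with
  | mem β h =>
    exact hE P h1 h2 h3 _ ((mem_aut h1.1).1 h.1) (fun _ => af_mem _)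
      (ppo_af ((piN_compl_singleton' hp.out).1 h.2))
  | one => exact hcongr _ _ _ (hconj P h1.1 1 (one_mem _)) fun x hx => by simpa using af_one hx
  | mul a b ha hb h1 h2 =>
    exact hcongr _ _ _ (hcomp _ _ _ _ (m b hb) (m a ha) h2 h1 fun _ => af_mem _)
      fun x hx => af_mul _ _ hx
  | inv a ha h1 => simpa only [im_af] using hinv _ _ (af a⁻¹) (m a ha) h1 fun _ => af_inv_af _

variable (h : E.IsNormalIn F p)
include h

theorem fix_of_ker (c : E.IsCentric P) (hg : M F X g) (l : P ≤ X) (h1 : ∀ x ∈ P, g x = x)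
    (h2 : ∀ x ∈ X, x⁻¹ * g x ∈ P) {y : Ω} (hy : y ∈ X) (yc : y ∈ C[P]) (hf : M E P f)
    (m : ∀ x ∈ P, f x ∈ P) : f (y⁻¹ * g y) = y⁻¹ * g y := by
  have hi := h.1.2.2
  obtain ⟨γ, a, e⟩ := hg.exists_aut (hg.im_eq_of_le le_rfl fun x hx => by
    simpa using mul_mem hx (l (h2 x hx)))
  obtain ⟨k, hk, -, s, hs, e1⟩ := exists_conj_pelem hS hF hg.le a (pgroup_of_fix hS hg.le l
    (fun x hx => (e x (l hx)).trans (h1 x hx)) fun x hx => e x hx ▸ h2 x hx)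
  have hk' := hk.mono l
  obtain ⟨j, -, j1, j2, -⟩ := hk'.exists_inv
  have e2 : ∀ x ∈ P, (fun y => k (f (j y))) (k x) = k (f x) := fun x hx => by
    beta_reduce; rw [j1 x hx]
  have m' : ∀ y ∈ im P k, k (f (j y)) ∈ im P k := fun y hy => mem_im_of _ (m _ (j2 y hy).1)
  obtain ⟨w, w0, w1, w2⟩ := lemL hS hF h (inv_centric hi c hk')
    (si_of_inv hi _ _ _ _ _ hf hk' le_rfl m e2) m'
  have s1 : s ∈ centralizerIn S (im P k) := mem_cI.2 ⟨hs, mem_cent_iff.2 fun x' hx' => by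
    obtain ⟨x, hx, rfl⟩ := hk'.mem_im.1 hx'
    have := e1 x (l hx)
    rw [e x (l hx), h1 x hx] at this
    exact (mul_inv_eq_iff_eq_mul.1 this.symm).symm⟩
  have y1 : k y ∈ centralizerIn S (im P k) := ⟨hk.mem hy, hk.mem_cent l hy yc⟩
  have z := h2 y hy
  refine hk'.inj (m _ z) z ?_
  have e3 : k (y⁻¹ * g y) = (k y)⁻¹ * (s * k y * s⁻¹) := by
    rw [hk.mul (inv_mem hy) (e y hy ▸ af_mem _ hy), hk.inv hy, ← e y hy, e1 y hy]
  have wc : w (k y) ∈ C[im P k] := by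
    have := w0.mem_cent le_sup_left (mem_sup_right y1) y1.2
    rwa [w0.im_eq_of_le le_sup_left fun x hx => w1 x hx ▸ m' x hx] at this
  rw [← e2 _ z, ← w1 _ (mem_im_of _ z), e3, w0.mul (mem_sup_right (inv_mem y1))
    (mem_sup_right (mul_mem (mul_mem s1 y1) (inv_mem s1))), w0.inv (mem_sup_right y1),
    w0.conj (mem_sup_right s1) (mem_sup_right y1)]
  have c1 := mem_cent_iff.1 wc _ (w2 s s1)
  have c2 := mem_cent_iff.1 s1.2 _ (w2 _ y1)
  have c3 := mem_cent_iff.1 y1.2 _ (w2 _ y1)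
  rw [show w s = s * (s⁻¹ * w s) by group, mul_assoc s, c1,
    show w (k y) = k y * ((k y)⁻¹ * w (k y)) by group]
  generalize (k y)⁻¹ * w (k y) = a at c2 c3 ⊢
  generalize s⁻¹ * w s = b
  rw [show (k y * a)⁻¹ * (s * (k y * a * b) * (s * b)⁻¹) =
    a⁻¹ * (k y)⁻¹ * (s * (k y * (a * s⁻¹))) by group, ← mul_inv_rev, ← c3,
    (show Commute a s from c2).inv_right.eq, ← mul_assoc (k y), ← mul_assoc s]
  rw [show (a * k y)⁻¹ * (s * (k y * s⁻¹) * a) = (k y)⁻¹ * (a⁻¹ * (s * k y * s⁻¹) * a) by group,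
    (((show Commute a s from c2).mul_right c3).mul_right
      (show Commute a s from c2).inv_right).inv_left.eq]
  group

theorem ext_uniq (c : E.IsCentric P) (hA : A ≤ C[P]) (hf : M F (P ⊔ A) f) (hg : M F (P ⊔ A) g)
    (hf' : M E P f) (m : ∀ x ∈ P, f x ∈ P) (e : ∀ x ∈ P, g x = f x)
    (t1 : ∀ a ∈ A, a⁻¹ * f a ∈ P) (t2 : ∀ a ∈ A, a⁻¹ * g a ∈ P) (o1 : PPo p (P ⊔ A) f)
    (o2 : PPo p (P ⊔ A) g) : ∀ x ∈ P ⊔ A, g x = f x := by
  have m' : ∀ x ∈ P, g x ∈ P := fun x hx => e x hx ▸ m x hx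
  have n := hA.trans (cent_le_norm _)
  have u1 := xt_mem hf.homOn m t1
  have u2 := xt_mem hg.homOn m' t2
  haveI := finite_of_le hf.le
  obtain ⟨α, a1, a2⟩ := hf.exists_aut (hf.im_eq_of_le le_rfl u1)
  obtain ⟨β, b1, b2⟩ := hg.exists_aut (hg.im_eq_of_le le_rfl u2)
  have d1 : ∀ x ∈ P, af (α⁻¹ * β) x = x := fun x hx => by
    have := mem_sup_left hx (T := A)
    rw [af_mul _ _ this, b2 x this, e x hx, ← a2 x this, af_inv_af _ this]
  have d2 : α⁻¹ * β ∈ TQ (P ⊔ A) P := mul_mem (inv_mem (show α ∈ TQ _ _ from fun x hx =>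
    a2 x hx ▸ xt_triv hf.homOn n m t1 x hx)) fun x hx => b2 x hx ▸ xt_triv hg.homOn n m' t2 x hx
  have d3 := (mem_aut hf.le).1 (mul_mem (inv_mem a1) b1)
  have cm : Commute α (α⁻¹ * β) := af_ext ((homOn_af _).eq_of_sup (homOn_af _) (fun x hx => by
      have := mem_sup_left hx (T := A)
      rw [af_mul α _ this, af_mul _ α this, d1 x hx, a2 x this, d1 _ (m x hx)])
    fun y hy => by
      have y1 := mem_sup_right hy (S := P)
      have z := d2 y y1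
      have z1 := fix_of_ker hS hF h c d3 le_sup_left d1 d2 y1 (hA hy) hf' m
      have zc : af (α⁻¹ * β) y ∈ C[P] := by
        have := d3.mem_cent le_sup_left y1 (hA hy)
        rwa [im_of_eq d1] at this
      have := mem_cent_iff.1 (mul_mem (inv_mem (hA hy)) zc) _ (t1 y hy)
      rw [af_mul α _ y1, af_mul _ α y1, a2 _ (af_mem _ y1), a2 y y1,
        show af (α⁻¹ * β) y = y * (y⁻¹ * af (α⁻¹ * β) y) by group, hf.mul y1 (mem_sup_left z), z1,
        show f y = y * (y⁻¹ * f y) by group, d3.mul y1 (mem_sup_left (t1 y hy)), d1 _ (t1 y hy),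
        mul_assoc y, this]; group)
  have := eq_one_of_coprime_order (pgroup_of_fix hS hf.le le_sup_left d1 d2) (mem_zpowers _)
    ((Nat.Coprime.mul_left (o1.congr u1 a2).cop (o2.congr u2 b2).cop).coprime_dvd_left
      (orderOf_dvd_of_pow_eq_one (by
        have := cm.mul_pow (orderOf α * orderOf β)
        rwa [mul_inv_cancel_left, pow_mul', pow_orderOf_eq_one, one_pow, pow_mul α,
          pow_orderOf_eq_one, one_pow, one_mul, eq_comm] at this)))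
  intro x hx
  rw [← a2 x hx, ← b2 x hx, inv_mul_eq_one.1 this]

theorem exists_can (c : E.IsCentric P) (hf : M E P f) (m : ∀ x ∈ P, f x ∈ P) (o : PPo p P f) :
    ∃ g, M F (P ⊔ centralizerIn S T) g ∧ PPo p (P ⊔ centralizerIn S T) g ∧ (∀ x ∈ P, g x = f x) ∧
      (∀ y ∈ centralizerIn S T, y⁻¹ * g y ∈ P) ∧ ∀ y ∈ CE F E p, g y = y := by
  obtain ⟨g, a, b, d, e⟩ := ((lemL hS hF h c hf m).mono (X := centralizerIn S T)
    fun y hy => ⟨hy.1, cent_anti c.1 hy.2⟩).pp (cI_le_cent.trans ((cent_anti c.1).trans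
      (cent_le_norm _))) m o
  have e' := fun y hy => e y (mem_sup_right hy)
  exact ⟨g, a, b, d, e', fun y hy => hy.2 P g c a (hf.congr d) (fun x hx => d x hx ▸ m x hx) b e'⟩

theorem fix_CE (c : E.IsCentric P) (hA : A ≤ CE F E p) (hg : M F (P ⊔ A) g) (hg' : M E P g)
    (m : ∀ x ∈ P, g x ∈ P) (t : ∀ a ∈ A, a⁻¹ * g a ∈ P) (o : PPo p (P ⊔ A) g) :
    ∀ a ∈ A, g a = a := by
  obtain ⟨k, a, b, d, e, e'⟩ := exists_can hS hF h c hg' m (o.mono le_sup_left)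
  have l := sup_le_sup_left (hA.trans CE_le) P
  exact fun y hy => (ext_uniq hS hF h c (hA.trans (CE_le.trans (cI_le_cent.trans (cent_anti c.1))))
    hg (a.mono l) hg' m d t (fun y hy => e y (CE_le (hA hy))) o (b.mono l) y
    (mem_sup_right hy)).symm.trans (e' y (hA hy))

theorem le_CE (hY : Y ≤ centralizerIn S T)
    (e : ∀ P f, M E P f → NKM F (⊥ : Subgroup (MulAut Y)) P f) : Y ≤ CE F E p :=
  fun y hy => ⟨hY hy, fun P g c a b m o t => by
    obtain ⟨-, k, k0, k1, k2⟩ := NKM_bot_iff.1 (e P g b)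
    have u := xt_mem k0.homOn (fun x hx => k1 x hx ▸ m x hx) fun y hy => by simp [k2 y hy]
    obtain ⟨n, n1, n2⟩ := pp_part k0 u ((o.mono le_sup_left).congr m k1)
    have l := sup_le_sup_left hY P
    exact (ext_uniq hS hF h c (hY.trans (cI_le_cent.trans (cent_anti c.1))) (a.mono l)
      (M.iter k0 u n) b m (fun x hx => (n2 x hx).trans (k1 x hx)) (fun y hy => t y (hY hy))
      (fun y hy => by simp [iter_fix (k2 y hy)]) (o.mono l) n1 y (mem_sup_right hy)).symm.trans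
      (iter_fix (k2 y hy) n)⟩

theorem sub_CE (hf : M E P f) : NKM F (⊥ : Subgroup (MulAut (CE F E p))) P f := by
  have hT := h.1.2.2.2.1
  have hs := h.1.2.2.1
  haveI := finite_of_le hT.1
  have l : CE F E p ≤ S := CE_le.trans cI_le
  refine NKM_bot_iff.2 ⟨fun x hx => mem_cI.2 ⟨hT.1 (hf.le hx), mem_cent_iff.2 fun y hy =>
    (mem_cent_iff.1 hy.1.2 x (hf.le hx)).symm⟩, ?_⟩
  refine alperin_pp (hS.to_le hT.1) h.1.1 (fun P f => ∃ g, M F (P ⊔ CE F E p) g ∧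
    (∀ x ∈ P, g x = f x) ∧ ∀ x ∈ CE F E p, g x = x) ?_ ?_ ?_ ?_ ?_ P f hf
  · rintro P f g ⟨k, a, b, c⟩ e
    exact ⟨k, a, fun x hx => (b x hx).trans (e x hx).symm, c⟩
  · exact fun P hP g hg => ⟨_, M_conj (sup_le (hP.trans hT.1) l) (hT.1 hg), fun _ _ => rfl,
      fun x hx => by rw [mem_cent_iff.1 hx.1.2 g hg]; simp⟩
  · rintro P Q f g - - ⟨k, a, b, c⟩ ⟨k', a', b', c'⟩ m
    refine ⟨_, a.comp a' (im_le_iff.1 ?_), fun x hx => by rw [b x hx, b' _ (m x hx)],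
      fun x hx => by rw [c x hx, c' x hx]⟩
    rw [a.homOn.im_sup, im_of_eq c, im_congr b]
    exact sup_le_sup_right (im_le_iff.2 m) _
  · rintro P f g hf ⟨k, a, b, c⟩ e
    obtain ⟨j, j0, j1, -⟩ := a.exists_inv
    rw [a.homOn.im_sup, im_of_eq c, im_congr b] at j0
    refine ⟨j, j0, fun y hy => ?_, fun x hx => by
      conv_lhs => rw [← c x hx, j1 x (mem_sup_right hx)]⟩
    obtain ⟨x, hx, rfl⟩ := hf.mem_im.1 hy
    rw [e x hx, ← b x hx, j1 x (mem_sup_left hx)]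
  · intro P _ c _ f hf m o
    obtain ⟨k, a, -, d, -, e'⟩ := exists_can hS hF h c hf m o
    exact ⟨k, a.mono (sup_le_sup_left CE_le _), d, e'⟩

theorem CE_tr {k : Ω → Ω} (hk : M F U k) (hU : T ≤ U) {y : Ω} (h1 : y ∈ U) (hy : y ∈ CE F E p) :
    k y ∈ CE F E p := by
  have hi := h.1.2.2
  have e := sc_im hi.2.1 hk hU
  have y1 : k y ∈ centralizerIn S T := ⟨hk.mem h1, e ▸ hk.mem_cent hU h1 hy.1.2⟩
  refine ⟨y1, fun P g c a b m o t => ?_⟩
  obtain ⟨j, j0, j1, j2, -⟩ := (hk.mono hU).exists_inv' e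
  have l : im P j ≤ T := im_le_iff.2 fun x hx => (j2 x (c.1 hx)).1
  have e1 : im (im P j) k = P := by
    rw [(j0.mono c.1).im_im]; exact im_of_eq fun x hx => (j2 x (c.1 hx)).2
  have z := zpowers_le.2 h1
  have e2 : im (zpowers y) k ≤ centralizerIn S T := by
    rw [hk.homOn.im_zpowers h1]; exact zpowers_le.2 y1
  obtain ⟨w, w0, w1, w2, w3, w4⟩ := tr_ext (hk.mono (sup_le (l.trans hU) z)) a
    (e1.le.trans le_sup_left) (e2.trans le_sup_right) (e1.symm ▸ m)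
    (fun x hx => e1.symm ▸ t x (e2 hx)) o
  rw [← w1 y (mem_sup_right (mem_zpowers y)), fix_CE hS hF h (inv_centric hi c (j0.mono c.1))
    (zpowers_le.2 hy) w0 (si_of_inv hi _ _ _ _ _ b (j0.mono c.1) le_rfl m fun x hx => ?_) w2 w3 w4 y
    (mem_zpowers y)]
  have := mem_im_of j hx
  rw [← j1 _ (l (w2 _ this)), w1 _ (mem_sup_left this), (j2 x (c.1 hx)).2]

theorem foc_le_CE {D : FusionSystem (centralizerIn S T)} (hD : F.IsCentralizerSystem T D) :
    D.focalSubgroup ≤ CE F E p := by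
  refine foc_le_iff.2 fun A f hf x hx => ⟨mul_mem (inv_mem (hf.le hx)) (hf.mem hx),
    fun P g c a b m o t => ?_⟩
  obtain ⟨-, k, k0, k1, k2⟩ := NKM_bot_iff.1 ((isC_iff.1 hD A f).1 hf)
  have e1 : im P k = P := im_of_eq fun x hx => k2 x (c.1 hx)
  have e2 : im A k ≤ centralizerIn S T := im_le_iff.2 fun x hx => k1 x hx ▸ hf.mem hx
  have k3 := k0.mono (show P ⊔ A ≤ A ⊔ T from sup_le (c.1.trans le_sup_right) le_sup_left)
  obtain ⟨w, w0, w1, w2, w3, w4⟩ := tr_ext k3 a (e1.le.trans le_sup_left) (e2.trans le_sup_right)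
    (e1.symm ▸ m) (fun x hx => e1.symm ▸ t x (e2 hx)) o
  have l := sup_le_sup_left hf.le P
  have := ext_uniq hS hF h c (hf.le.trans (cI_le_cent.trans (cent_anti c.1))) (a.mono l) w0 b m
    (fun x hx => by rw [← k2 _ (c.1 (w2 x hx)), w1 x (mem_sup_left hx), k2 x (c.1 hx)])
    (fun y hy => t y (hf.le hy)) w3 (o.mono l) w4 x (mem_sup_right hx)
  have u := t x (hf.le hx)
  have e3 := w1 x (mem_sup_right hx)
  rw [this, show g x = x * (x⁻¹ * g x) by group, k3.mul (mem_sup_right hx) (mem_sup_left u),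
    k2 _ (c.1 u), k1 x hx] at e3
  rw [a.mul (mem_sup_right (inv_mem (hf.le hx))) (mem_sup_right (hf.mem hx)),
    a.inv (mem_sup_right (hf.le hx)), ← e3, show (g x)⁻¹ * (f x * (x⁻¹ * g x)) =
      (x⁻¹ * g x)⁻¹ * (x⁻¹ * f x * (x⁻¹ * g x)) by group,
    ← mem_cent_iff.1 (mul_mem (inv_mem (cI_le_cent (hf.le hx))) (cI_le_cent (hf.mem hx))) _ (c.1 u)]
  group

theorem sc_CE_step (hR : F.IsFullyNormalized R) (c' : E.IsCentric (R ⊓ T)) (hTR : ¬ T ≤ R)
    {α : MulAut R} (hα : α ∈ F.autGroup R) : ∃ β ∈ F.autGroup R, ∃ κ : MulAut R, α = β * κ ∧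
      (∀ x ∈ R ⊓ CE F E p, af κ x = x) ∧ R < Ext S R (af β) := by
  have hi := h.1.2.2
  have hT := hi.2.1
  haveI := finite_of_le hR.1
  have m := fun β (h : β ∈ F.autGroup R) => (mem_aut hR.1).1 h
  have st : F.autGroup R ≤ stabA (inf_le_left : R ⊓ T ≤ R) := fun β hβ =>
    mem_stabA.2 ((m β hβ).im_eq_of_le inf_le_left fun x hx =>
      ⟨af_mem _ hx.1, sc_mem hT (m β hβ) hx.1 hx.2⟩)
  obtain ⟨H, hH⟩ : ∃ H : Subgroup (MulAut R), ∀ β, β ∈ H ↔
      β ∈ F.autGroup R ⊓ TQ R T ∧ M E (R ⊓ T) (af β) := ⟨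
    { carrier := {β | β ∈ F.autGroup R ⊓ TQ R T ∧ M E (R ⊓ T) (af β)}
      mul_mem' := fun {a b} ha hb => ⟨mul_mem ha.1 hb.1, (hb.2.comp ha.2 fun _ =>
        stabA_mem (st hb.1.1)).congr fun x hx => af_mul _ _ hx.1⟩
      one_mem' := ⟨one_mem _, (M_id c'.1).congr fun x hx => af_one hx.1⟩
      inv_mem' := fun {a} ha => ⟨inv_mem ha.1, by
        simpa only [mem_stabA.1 (st ha.1.1)] using ha.2.of_leftInv (g := af a⁻¹)
          fun x hx => af_inv_af _ hx.1⟩ }, fun _ => Iff.rfl⟩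
  have nH : F.autGroup R ≤ N[H] := fun χ hχ => mem_norm_of_conj fun β hβ => by
    rw [hH] at hβ ⊢
    refine ⟨mem_inf.2 ⟨mul_mem (mul_mem hχ hβ.1.1) (inv_mem hχ), fun y hy => ?_⟩, ?_⟩
    · obtain ⟨x, hx, rfl⟩ := (homOn_af χ).mem_im.1 ((im_af χ).ge hy)
      have := hβ.1.2 x hx
      have u := mul_mem (inv_mem hx) (af_mem β hx)
      rw [af_conj _ _ hx, ← (m χ hχ).inv hx, ← (m χ hχ).mul (inv_mem hx) (af_mem _ hx)]
      exact sc_mem hT (m χ hχ) u this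
    · simpa only [mem_stabA.1 (st hχ)] using si_of_inv hi _ _ _ _ (af (χ * β * χ⁻¹)) hβ.2 (m χ hχ)
        inf_le_left (fun x hx => af_mem _ hx.1) fun x hx => af_conj _ _ hx.1
  have s := (sat_syl hS hF hR).inf_norm (K := H) (fun β h => ((hH β).1 h).1.1)
    ((autInd_le_aut hR.1 le_rfl).trans nH)
  obtain ⟨ν, hν, κ', hκ', rfl⟩ := s.frattini' (nH hα)
  obtain ⟨σ, hσ, κ, hκ, rfl⟩ := (mem_sup_of_norm (s.le.trans (le_norm_piRes (π := {p})))).1
    (show κ' ∈ _ from by rw [sup_comm, s.piRes_sup]; exact hκ')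
  have k0 : κ ∈ H := piRes_le (π := {p}) (M := H) hκ
  have k1 : κ ∈ F.autGroup R := (mem_inf.1 ((hH κ).1 k0).1).1
  rw [← mul_assoc] at hα
  have b1 : ν * σ ∈ F.autGroup R := (Subgroup.mul_mem_cancel_right _ k1).1 hα
  obtain ⟨t, t1, t2, t3⟩ := exists_mem_norm_not hS hR.1 hT.1 (hR.1.trans (sc_le_norm hT)) hTR
  have t4 : cA t2 ∈ H := by
    refine (hH _).2 ⟨mem_inf.2 ⟨autInd_le_aut hR.1 le_rfl (cA_mem t2 (hT.1 t1)), fun x hx => ?_⟩,
      (M_conj c'.1 t1).congr fun x hx => af_cA t2 hx.1⟩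
    rw [af_cA _ hx]
    simpa [mul_assoc] using mul_mem (conj_mem_of_norm' (sc_le_norm hT (hR.1 hx)) t1) (inv_mem t1)
  have t5 : t ∈ Ext S R (af (ν * σ)) := mem_Ext_of_norm inf_le_left
    (mul_mem hν (le_normalizer hσ)) (hT.1 t1) t2 (mem_inf.2 ⟨cA_mem _ (hT.1 t1), t4⟩)
  refine ⟨_, b1, κ, (mul_assoc _ _ _).symm, ?_, lt_of_le_of_ne (m _ b1).le_Ext fun e => t3 (e.ge t5)⟩
  clear k1 k0 hα hκ'
  induction hκ using closure_induction with
  | mem β b =>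
    have l : R ⊓ T ⊔ R ⊓ CE F E p ≤ R := sup_le inf_le_left inf_le_left
    obtain ⟨⟨b1, b2⟩, b3⟩ := (hH β).1 b.1
    exact fix_CE hS hF h c' inf_le_right ((m β b1).mono l) b3
      (fun _ => stabA_mem (st b1)) (fun a ha => mem_inf.2 ⟨mul_mem (inv_mem (mem_inf.1 ha).1)
        (af_mem _ ha.1), b2 a ha.1⟩) ((ppo_af ((piN_compl_singleton' hp.out).1 b.2)).mono l)
  | one => exact fun x hx => af_one hx.1
  | mul a b _ _ h1 h2 => exact fun x hx => by rw [af_mul _ _ hx.1, h2 x hx, h1 x hx]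
  | inv a _ h1 => exact fun x hx => by conv_lhs => rw [← h1 x hx, af_inv_af _ hx.1]

theorem sc_CE : F.StronglyClosed (CE F E p) := by
  have hi := h.1.2.2
  have hT := hi.2.1
  refine sc_iff.2 ⟨CE_le.trans cI_le, fun P f hf x hx => (ess_ind hS hF
    (fun P f => ∀ x ∈ P, x ∈ CE F E p ↔ f x ∈ CE F E p)
    (fun P f g a e x hx => by rw [e x hx]; exact a x hx)
    (fun P Q f g _ _ a b m x hx => (a x hx).trans (b _ (m x hx))) (fun P Q f _ a l x hx => a x (l hx))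
    (fun P f g hf a e y hy => ?_) (fun _ _ _ => Iff.rfl) (fun R hR c r ih α hα => ?_) P f hf x hx).1⟩
  · obtain ⟨x, hx, rfl⟩ := hf.mem_im.1 hy
    rw [e x hx]; exact (a x hx).symm
  have m := fun β (h : β ∈ F.autGroup R) => (mem_aut hR.1).1 h
  by_cases hTR : T ≤ R
  · exact fun x hx => ⟨CE_tr hS hF h (m α hα) hTR hx, fun a => by
      simpa only [af_inv_af _ hx] using CE_tr hS hF h (m _ (inv_mem hα)) hTR (af_mem _ hx) a⟩
  obtain ⟨β, b, κ, rfl, fx, l⟩ := sc_CE_step hS hF h hR (inf_centric_of_cr hS hF hi c r) hTR hα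
  obtain ⟨g, g0, g1⟩ := sat_ext hS hF (m β b) (by rw [im_af]; exact sat_fn_fc hS hF hR)
  have := ih _ g (card_lt_of_lt' Ext_le l) g0
  intro x hx
  rw [af_mul _ _ hx, ← g1 _ (af_mem _ hx), ← this _ (l.le (af_mem _ hx))]
  refine ⟨fun a => by rwa [fx x ⟨hx, a⟩], fun a => ?_⟩
  rwa [← af_inj κ (af_mem _ hx) hx (fx _ ⟨af_mem _ hx, a⟩)]

end CfsgH2
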