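import Cfsg.Agent.S5224
import Cfsg.Agent.L0.Deg2
import Cfsg.Agent.L0.HS
import Cfsg.Agent.H2.Sa8

/-! A nilpotency criterion through weakly embedded subgroups. -/

set_option autoImplicit false
universe u
namespace CfsgH2
open Cfsg Subgroup CfsgL0 Function
open Cfsg.FusionSystem hiding inv_mem center

/-- the hypotheses of the criterion -/
structure WE {Ω : Type u} [Group Ω] {S : Subgroup Ω} (F : FusionSystem S) (p k : ℕ) : Prop where
  pos : 0 < k
  lt : p ^ k < Nat.card S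
  we : ∀ Q ≤ S, Nat.card Q = p ^ k → ∃ P, F.StronglyClosed P ∧ F.StronglyClosed (Q ⊔ P) ∧
    F.StronglyClosed (Q ⊓ P)
  nm : ∀ H, F.IsFullyNormalized H → Nat.card H = p ^ k → ∀ N : FusionSystem (normalizerIn S H),
    F.IsNormalizerSystem H N → N = innerFusionSystem _

variable {Ω : Type u} [Group Ω] {S T : Subgroup Ω} {F : FusionSystem S} {p k : ℕ} [hp : Fact p.Prime]

theorem SMor.inner {Ω' : Type*} [Group Ω'] {S' : Subgroup Ω'} {E : FusionSystem S'} {θ : S →* Ω'}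
    (h : SMor F θ E) (hF : F = innerFusionSystem S) : E = innerFusionSystem S' :=
  eq_inner_iff.2 fun P f hf => by
    obtain ⟨g, a, b⟩ := h.lift P f hf
    obtain ⟨s, c, d⟩ := eq_inner_iff.1 hF _ g a
    refine ⟨ex θ s, h.mem s c, fun y hy => ?_⟩
    obtain ⟨x, hx, rfl⟩ := h.sur hf.le hy
    have hθ := homOn_ex θ
    rw [b x hx, d x hx, hθ.conj c (pre_le hx)]

theorem WE.quot [Finite S] (h : WE F p k) {Ω' : Type u} [Group Ω'] {S' : Subgroup Ω'} {E : FusionSystem S'}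
    {θ : S →* Ω'} (m : SMor F θ E) {j : ℕ} (c : Nat.card (preimageAlong θ ⊥) = p ^ j) (l : j < k) :
    WE E p (k - j) := by
  have e : p ^ (k - j) * p ^ j = p ^ k := by rw [← pow_add, Nat.sub_add_cancel l.le]
  have hθ := homOn_ex θ
  refine ⟨by omega, ?_, fun Q hQ cQ => ?_, fun H hH cH N hN => ?_⟩
  · have := m.card_pre le_rfl
    rw [m.pre_top, c] at this
    have h2 := h.lt
    rw [← this, ← e] at h2
    exact lt_of_mul_lt_mul_right h2 (Nat.zero_le _)
  · obtain ⟨P, a, b, d⟩ := h.we (preimageAlong θ Q) pre_le (by rw [← m.card_pre hQ, cQ, c, e])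
    refine ⟨im P (ex θ), m.sc_im a, ?_, ?_⟩
    · have := m.sc_im b
      rwa [(hθ.mono b.1).im_sup, m.im_pre' hQ] at this
    · have := m.sc_im d
      have e2 : im (preimageAlong θ Q ⊓ P) (ex θ) = Q ⊓ im P (ex θ) := le_antisymm
        (le_inf ((im_mono _ inf_le_left).trans (m.im_pre' hQ).le) (im_mono _ inf_le_right)) fun y hy => by
          obtain ⟨x, hx, rfl⟩ := (mem_imθ a.1).1 hy.2
          exact (mem_imθ d.1).2 ⟨x, ⟨mem_pre.2 ⟨a.1 hx, hy.1⟩, hx⟩, rfl⟩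
      rwa [e2] at this
  · obtain ⟨N₀, hN₀⟩ := exists_N F (pre_le : preimageAlong θ H ≤ S)
    exact (m.norm hH.1 hN₀ hN).inner (h.nm _ ((m.fn_iff hH.1).2 hH)
      (by rw [← m.card_pre hH.1, cH, c, e]) N₀ hN₀)

theorem WE.conj (h : WE F p k) [Finite S] (hT : F.StronglyClosed T) (c : Nat.card T = p ^ k) {P : Subgroup Ω}
    {f : Ω → Ω} (hf : M F P f) (l : T ≤ P) : ∃ s ∈ S, ∀ x ∈ P, f x = s * x * s⁻¹ := by
  obtain ⟨N, hN⟩ := exists_N F hT.1
  have n := sc_le_norm hT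
  obtain ⟨s, a, b⟩ := eq_inner_iff.1 (h.nm T (fn_of_normal hT.1 n) c N hN) P f ((isN_iff.1 hN P f).2
    (NKM_top_iff.2 ⟨fun x hx => mem_nI.2 ⟨hf.le hx, n (hf.le hx)⟩, f, by rwa [sup_eq_left.2 l],
      fun _ _ => rfl, sc_im hT hf l⟩))
  exact ⟨s, nI_le a, b⟩

theorem WE.main (n : ℕ) : ∀ {Ω : Type u} [Group Ω] [Finite Ω] {S : Subgroup Ω} {F : FusionSystem S} {k : ℕ},
    IsPGroup p S → F.IsSaturated p → Nat.card S = n → WE F p k → F = innerFusionSystem S := by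
  induction n using Nat.strong_induction_on with
  | _ n ih =>
  intro Ω _ _ S F k hS hF hn h
  have p1 := hp.out.one_lt
  have d1 : 1 < p ^ k := Nat.one_lt_pow h.pos.ne' p1
  have dS : p ^ (k + 1) ∣ Nat.card S := pow_succ_dvd_card_of_lt hS h.lt
  set R := F.hyperfocalSubgroup p with hR
  have sR : F.StronglyClosed R := hyp_sc hS hF
  -- strongly closed subgroups of small order contain `R`
  have A : ∀ T, F.StronglyClosed T → T ≠ ⊥ → Nat.card T ≤ p ^ k → R ≤ T := fun T hT h0 c => by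
    obtain ⟨j, hj⟩ := exists_card_eq_pow (hS.to_le hT.1)
    have jk : j ≤ k := (Nat.pow_le_pow_iff_right p1).1 (hj ▸ c)
    rcases jk.eq_or_lt with rfl | jk
    · obtain ⟨N, hN⟩ := exists_N F hT.1
      have n := sc_le_norm hT
      refine hyp_le_of_over hS hF hT le_rfl hT.1 fun P hP l α hα x hx => ?_
      have e : F.autGroup P ≤ autInducedBy S P := fun β hβ =>
        mem_autInd'.2 (h.conj hT hj ((mem_aut hP).1 hβ) l)
      have : piRes {p} (F.autGroup P) = ⊥ := piRes_eq_bot ((isPGroup_autInd hS).to_le e)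
      rw [this, mem_bot] at hα
      rw [hα, af_one hx, inv_mul_cancel]; exact one_mem _
    · obtain ⟨Ω', _, θ, E, m, e⟩ := exists_quot hS hF hT
      haveI := m.finite
      haveI : Finite Ω' := Finite.of_equiv _ (topEquiv (G := Ω')).toEquiv
      have c1 := m.card_pre le_rfl
      rw [m.pre_top, e] at c1
      have := ih _ (by
        rw [← hn, ← c1]
        exact lt_mul_of_one_lt_right (card_pos' _) ((one_lt_card_iff_ne_bot _).2 h0))
        (m.pgroup hS) (m.sat hS hF) rfl (h.quot m (e ▸ hj) jk)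
      have h2 := m.hyp (p := p)
      rw [this, CfsgL0.hyp_inner (m.pgroup hS)] at h2
      rw [← e, le_pre hyp_le, ← h2]
  -- every nontrivial strongly closed subgroup contains `R`
  have B : ∀ T, F.StronglyClosed T → T ≠ ⊥ → R ≤ T ∧ Nat.card R ≤ p ^ k := fun T hT h0 => by
    obtain ⟨U, l, ⟨sU, U0⟩, mn⟩ := exists_minimal_le (fun U => F.StronglyClosed U ∧ U ≠ ⊥) ⟨hT, h0⟩
    suffices c : Nat.card U ≤ p ^ k from ⟨(A U sU U0 c).trans l, (card_le_of_le (A U sU U0 c)).trans c⟩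
    by_contra! c
    obtain ⟨Q, q1, q2⟩ := exists_card_pow_le k (pow_dvd_card_of_le (hS.to_le sU.1) c.le)
    have Q0 : Q ≠ ⊥ := (one_lt_card_iff_ne_bot _).1 (q2 ▸ d1)
    have QU : Q ≠ U := fun e => c.ne (e ▸ q2.symm)
    obtain ⟨P, a, b, d⟩ := h.we Q (q1.trans sU.1) q2
    have e1 : Q ⊓ P = ⊥ := by_contra fun e => QU (le_antisymm q1
      ((mn _ ⟨d, e⟩ (inf_le_left.trans q1)).ge.trans inf_le_left))
    have e2 : P ⊓ U = ⊥ := by_contra fun e => Q0 (le_bot_iff.1 (e1 ▸ le_inf le_rfl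
      (q1.trans ((mn _ ⟨sc_inf sU a, e⟩ inf_le_right).ge.trans inf_le_left))))
    have e3 := mn _ ⟨sc_inf sU b, fun e => Q0 (le_bot_iff.1 (e ▸ le_inf le_sup_left q1))⟩ inf_le_right
    rw [sup_inf_of_norm (.inl ((q1.trans sU.1).trans (sc_le_norm a))) q1, e2, sup_bot_eq] at e3
    exact QU e3
  by_contra hne
  have R0 : R ≠ ⊥ := fun e => hne (inner_of_hyp hS hF (by rw [← hR, e]; exact bot_le))
  obtain ⟨M₀, m0, m1⟩ : ∃ M₀ : Subgroup S, IsCoatom M₀ ∧ ¬ R.subgroupOf S ≤ M₀ := by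
    by_contra! f
    refine hne (inner_of_hyp hS hF fun x hx => ⟨⟨x, hyp_le hx⟩, ?_, rfl⟩)
    exact mem_iInf.2 fun K => mem_iInf.2 fun hK => f K hK hx
  set K := M₀.map S.subtype with hK
  have KS : K ≤ S := map_subtype_le _
  have RK : ¬ R ≤ K := fun e => m1 fun x hx => by
    obtain ⟨y, a, b⟩ := e hx
    rwa [← Subtype.ext b]
  have mx : ∀ L, K ≤ L → L ≤ S → L ≠ K → L = S := fun L l1 l2 l3 => by
    have := m0.2 (L.subgroupOf S) (lt_of_le_of_ne (fun x hx => l1 ⟨x, hx, rfl⟩) fun e => l3 (by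
      rw [hK, e, map_subgroupOf_eq_of_le l2]))
    exact le_antisymm l2 (subgroupOf_eq_top.1 this)
  have K1 : K < S := lt_of_le_of_ne KS fun e => RK (e ▸ sR.1)
  have dK : p ^ k ∣ Nat.card K := by
    obtain ⟨L, l1, l2, -, l3, -⟩ := exists_step IsPGroup.of_bot hS K1 bot_le bot_le
    have := mx L l1 l2 fun e => by rw [e, relIndex_self] at l3; exact p1.ne l3
    rw [← card_mul_relIndex KS, ← this, l3, pow_succ] at dS
    exact Nat.dvd_of_mul_dvd_mul_right hp.out.pos dS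
  have cR := (B R sR R0).2
  have dR : ∀ U ≤ R, Nat.card U ∣ p ^ k := fun U l => by
    obtain ⟨j, hj⟩ := exists_card_eq_pow (hS.to_le (l.trans sR.1))
    rw [hj]
    exact pow_dvd_pow p ((Nat.pow_le_pow_iff_right p1).1 (hj ▸ (card_le_of_le l).trans cR))
  have RK0 : R ⊓ K = ⊥ := by
    obtain ⟨Q, q1, q2, q3⟩ := exists_between_card (hS.to_le KS) (inf_le_right : R ⊓ K ≤ K)
      (dR _ inf_le_left) dK
    have Q0 : Q ≠ ⊥ := (one_lt_card_iff_ne_bot _).1 (q3 ▸ d1)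
    obtain ⟨P, a, b, d⟩ := h.we Q (q2.trans KS) q3
    have e1 : Q ⊓ P = ⊥ := by_contra fun e => RK ((B _ d e).1.trans (inf_le_left.trans q2))
    have e2 : P ≠ ⊥ := by
      rintro rfl
      rw [sup_bot_eq] at b
      exact RK ((B _ b Q0).1.trans q2)
    exact le_bot_iff.1 (e1 ▸ le_inf q1 (inf_le_left.trans (B _ a e2).1))
  have RZ : R ≤ C[S] := by
    have z0 := inf_cent_ne_bot' hS (hS.to_le sR.1) (sc_le_norm sR) R0
    have e := mx (R ⊓ C[S] ⊔ K) le_sup_right (sup_le (inf_le_left.trans sR.1) KS) fun e => z0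
      (le_bot_iff.1 (RK0 ▸ le_inf inf_le_left (le_sup_left.trans e.le)))
    have e2 := sup_inf_of_norm (L := R) (.inl ((inf_le_right.trans (cent_anti KS)).trans (cent_le_norm _)) :
      R ⊓ C[S] ≤ N[K] ∨ K ≤ N[R ⊓ C[S]]) inf_le_left
    rw [e, inf_eq_right.2 sR.1, inf_comm K, RK0, sup_bot_eq] at e2
    exact e2.le.trans inf_le_right
  obtain ⟨j, hj⟩ := exists_card_eq_pow (hS.to_le sR.1)
  have jk : j ≤ k := (Nat.pow_le_pow_iff_right p1).1 (hj ▸ cR)
  obtain ⟨H, h1, h2, h3, h4⟩ := exists_between_pow hS hS sR.1 (sc_le_norm sR) le_normalizer (k - j) (by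
    have := (pow_dvd_pow p k.le_succ).trans dS
    rw [← card_mul_relIndex sR.1, hj, ← Nat.add_sub_cancel' jk, pow_add] at this
    exact Nat.dvd_of_mul_dvd_mul_left (pow_pos hp.out.pos _) this)
  have cH : Nat.card H = p ^ k := by
    rw [← card_mul_relIndex h1, hj, h3, ← pow_add, Nat.add_sub_cancel' jk]
  have sH := sc_of_hyp hS hF h1 h2 h4
  have fix : ∀ P f, M F P f → ∀ y ∈ P, y ∈ R → f y = y := fun P f hf y hy hy' => by
    have hf' := hf.mono (inf_le_left : P ⊓ R ≤ P)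
    have l : im (P ⊓ R) f ≤ R := im_le_iff.2 fun w a => (sc_iff.1 sR).2 P f hf w a.1 a.2
    have cc : ∀ U ≤ R, S ≤ centralizerIn S U := fun U l x hx =>
      mem_cI.2 ⟨hx, cent_anti l (le_centralizer_iff.1 RZ hx)⟩
    obtain ⟨g, a, b⟩ := (rec_iff.1 (sat_fc_rec hS hF ⟨l.trans sR.1, fun Q _ =>
      card_le_of_le (cI_le.trans (cc _ l))⟩)).2 _ f hf' rfl
    obtain ⟨s, c, d⟩ := h.conj sH cH (a.mono ((cc _ inf_le_right).trans cI_le_Ext)) h2
    rw [← b y ⟨hy, hy'⟩, d y (sR.1 hy'), mem_cent_iff.1 (RZ hy') s c, mul_inv_cancel_right]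
  refine R0 (le_bot_iff.1 (hyp_le_iff'.2 fun P hP α hα o x hx => ?_))
  have hf := (mem_aut hP).1 hα
  exact cop2 hS hf (inf_le_left : P ⊓ R ≤ P) bot_le (fun y hy => by
    rw [fix P _ hf y hy.1 hy.2, inv_mul_cancel]; exact one_mem _) (ppo_af o) hx
    (mem_inf.2 ⟨mul_mem (inv_mem hx) (af_mem α hx), hyp_le_iff'.1 le_rfl P hP α hα o x hx⟩)

theorem WE.inner [Finite S] (hS : IsPGroup p S) (hF : F.IsSaturated p) (h : WE F p k) :
    F = innerFusionSystem S := by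
  obtain ⟨Ω', _, θ, E, m, e⟩ := exists_quot hS hF (sc_bot (F := F))
  haveI := m.finite
  haveI : Finite Ω' := Finite.of_equiv _ (topEquiv (G := Ω')).toEquiv
  have := WE.main _ (m.pgroup hS) (m.sat hS hF) rfl (h.quot m (j := 0) (by rw [e]; simp) h.pos)
  have h2 := m.hyp (p := p)
  rw [this, CfsgL0.hyp_inner (m.pgroup hS)] at h2
  refine inner_of_hyp hS hF (le_trans ?_ bot_le)
  rw [← e, le_pre hyp_le, ← h2]

theorem exists_idx [Finite S] (hS : IsPGroup p S) (c : p ^ 2 ≤ Nat.card S) :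
    ∃ D, ⊥ < D ∧ D < S ∧ ∀ Q ≤ S, Nat.card Q = Nat.card D → S ≤ N[Q] := by
  obtain ⟨n, hn⟩ := IsPGroup.iff_card.1 hS
  have p1 := hp.out.one_lt
  have n2 : 2 ≤ n := (Nat.pow_le_pow_iff_right p1).1 (hn ▸ c)
  obtain ⟨D, -, d⟩ := exists_card_pow_le (H := (⊤ : Subgroup S)) (p := p) (n - 1)
    (by rw [card_top, hn]; exact pow_dvd_pow p (by omega))
  have d' : Nat.card (D.map S.subtype) = p ^ (n - 1) := by
    rw [card_map_of_injective S.subtype_injective, d]
  refine ⟨D.map S.subtype, bot_lt_iff_ne_bot.2 fun e => ?_, lt_of_le_of_ne (map_subtype_le _) fun e => ?_,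
    fun Q hQ cQ => ?_⟩
  · rw [e, card_bot] at d'
    exact (Nat.one_lt_pow (by omega) p1).ne d'
  · rw [e, hn] at d'
    have := Nat.pow_right_injective p1 d'
    omega
  · have c1 : Nat.card (Q.subgroupOf S) = p ^ (n - 1) := by
      rw [← d', ← cQ]; exact Nat.card_congr (subgroupOfEquivOfLe hQ).toEquiv
    have c2 := card_mul_relIndex (le_top : Q.subgroupOf S ≤ ⊤)
    rw [c1, card_top, hn, show n = n - 1 + 1 by omega, pow_succ, Nat.add_sub_cancel] at c2
    have c3 := Nat.eq_of_mul_eq_mul_left (pow_pos hp.out.pos _) c2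
    have := le_norm_of_relIndex_prime (hS.to_subgroup ⊤) (le_top : Q.subgroupOf S ≤ ⊤) (c3.symm ▸ hp.out)
    exact (normal_subgroupOf_iff' hQ).1 (normal_of_top_le_norm this)

end CfsgH2
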