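import Cfsg.Agent.L0.Fus4
import Cfsg.Agent.H2.JA1

/-! Transvection groups acting on abelian `p`-groups. -/

set_option autoImplicit false
namespace CfsgH2.Xs
open Subgroup Function Cfsg CfsgL0
open scoped commutatorElement

variable {V : Type*} [Group V] {A T : Subgroup (MulAut V)} {W W' Z Z₀ D : Subgroup V} {p : ℕ}
  {a u : MulAut V}

/-- automorphisms centralizing `W` and `V/W` -/
def RR (W : Subgroup V) : Subgroup (MulAut V) where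
  carrier := {a | (∀ w ∈ W, a w = w) ∧ ∀ v, v⁻¹ * a v ∈ W}
  one_mem' := ⟨fun _ _ => rfl, fun v => by simp⟩
  mul_mem' := fun {a b} ha hb => ⟨fun w hw => by rw [MulAut.mul_apply, hb.1 w hw, ha.1 w hw], fun v => by
    simpa [mul_assoc] using mul_mem (hb.2 v) (ha.2 (b v))⟩
  inv_mem' := fun {a} ha => ⟨fun w hw => by rw [MulAut.inv_apply, MulEquiv.symm_apply_eq, ha.1 w hw],
    fun v => by simpa using inv_mem (ha.2 (a⁻¹ v))⟩

def TM (W : Subgroup V) : Subgroup (MulAut V) where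
  carrier := {a | ∀ v, v⁻¹ * a v ∈ W}
  one_mem' := fun v => by simp
  mul_mem' := fun {a b} ha hb v => by simpa [mul_assoc] using mul_mem (hb v) (ha (b v))
  inv_mem' := fun {a} ha v => by simpa using inv_mem (ha (a⁻¹ v))

theorem RR_pow (h : a ∈ RR W) (v : V) (n : ℕ) : (a ^ n) v = v * (v⁻¹ * a v) ^ n := by
  induction n with
  | zero => simp
  | succ n ih =>
    rw [pow_succ', MulAut.mul_apply, ih, map_mul, h.1 _ (pow_mem (h.2 v) n), pow_succ', ← mul_assoc,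
      mul_inv_cancel_left]

theorem RR_pg (h : o[W] = p) : PG[p, RR W] := fun a => ⟨1, Subtype.ext (MulEquiv.ext fun v => by
  have : (v⁻¹ * a.1 v) ^ p = 1 := by
    have := pow_card_eq_one' (x := (⟨_, a.2.2 v⟩ : W))
    rw [h] at this; exact congrArg Subtype.val this
  rw [pow_one, Subgroup.coe_pow, RR_pow a.2, this, mul_one]; rfl)⟩

theorem RR_conj (h : u ∈ RR W) (hW : ∀ v, v ∈ W' ↔ a⁻¹ v ∈ W) : a * u * a⁻¹ ∈ RR W' :=
  ⟨fun w hw => by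
    rw [MulAut.mul_apply, MulAut.mul_apply, h.1 _ ((hW w).1 hw)]; simp, fun v => by
    rw [hW]; simpa using h.2 (a⁻¹ v)⟩

variable [Finite V] [hp : Fact p.Prime]

omit [Finite V] in
theorem zp (h : o[W] = p) {w v : V} (hw : w ∈ W) (h1 : w ≠ 1) (hv : v ∈ W) : ∃ n : ℕ, w ^ n = v := by
  haveI : Finite W := Nat.finite_of_card_ne_zero (h ▸ hp.out.ne_zero)
  haveI : Fact (o[W]).Prime := h ▸ hp
  have := (zpowers (⟨w, hw⟩ : W)).eq_bot_or_eq_top_of_prime_card.resolve_left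
    fun e => h1 (congrArg Subtype.val (zpowers_eq_bot.1 e))
  obtain ⟨n, hn⟩ := mem_powers_iff_mem_zpowers.2 (this.ge (mem_top (⟨v, hv⟩ : W)))
  exact ⟨n, congrArg Subtype.val hn⟩

omit hp in
theorem stab_iff (h : ∀ w ∈ W, a w ∈ W) (v : V) : v ∈ W ↔ a⁻¹ v ∈ W := by
  have : W.map a.toMonoidHom = W := eq_of_le_of_card_ge (map_le_iff_le_comap.2 h)
    (card_map_of_injective a.injective).ge
  conv_lhs => rw [← this]
  exact ⟨by rintro ⟨w, hw, rfl⟩; simpa using hw, fun e => ⟨_, e, by simp⟩⟩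

omit hp in
theorem norm_RR (h : ∀ w ∈ W, a w ∈ W) : a ∈ N[RR W] :=
  mem_norm_of_conj fun _ hu => RR_conj hu (stab_iff h)

/-- conjugates of `Z₀` -/
def CJ (A : Subgroup (MulAut V)) (Z₀ W : Subgroup V) : Prop := ∃ a ∈ A, ∀ v, v ∈ W ↔ a⁻¹ v ∈ Z₀

omit [Finite V] hp in
theorem CJ.card (h : CJ A Z₀ W) (h0 : o[Z₀] = p) : o[W] = p := by
  obtain ⟨a, -, e⟩ := h
  have : W = Z₀.map a.toMonoidHom := Subgroup.ext fun v => (e v).trans
    ⟨fun e => ⟨_, e, by simp⟩, by rintro ⟨w, hw, rfl⟩; simpa using hw⟩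
  rw [this, card_map_of_injective a.injective, h0]

theorem CJ.syl (h : CJ A Z₀ W) (h0 : o[Z₀] = p) (hT : Syl p T A) (h1 : T ≤ RR Z₀) :
    Syl p (A ⊓ RR W) A := by
  have c := h.card h0
  obtain ⟨a, ha, e⟩ := h
  have s := hT.map_cj_mem ha
  have l : T.map (cj a) ≤ A ⊓ RR W := le_inf s.le (by
    rintro _ ⟨t, ht, rfl⟩; exact RR_conj (h1 ht) e)
  rwa [s.eq_of_le ((RR_pg c).to_le inf_le_right) l inf_le_left]

theorem k1 (h0 : o[Z₀] = p) (hT : Syl p T A) (h1 : T ≤ RR Z₀) (h : CJ A Z₀ W) (h' : CJ A Z₀ W')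
    (hu : u ∈ A ⊓ RR W) (u1 : u ≠ 1) {w : V} (hw : w ∈ W') (w1 : w ≠ 1) (e : u w = w) : W = W' := by
  have n : u ∈ N[A ⊓ RR W'] := le_norm_inf (zpowers_le.2 (le_normalizer hu.1)) (zpowers_le.2
    (norm_RR fun v hv => by
      obtain ⟨n, rfl⟩ := zp (h'.card h0) hw w1 hv
      rw [map_pow, e]; exact hv)) (mem_zpowers u)
  have m : u ∈ A ⊓ RR W' := (h'.syl h0 hT h1).le_of_norm'
    ((RR_pg (h.card h0)).to_le (zpowers_le.2 hu.2)) (zpowers_le.2 hu.1) (zpowers_le.2 n) (mem_zpowers u)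
  obtain ⟨v, hv⟩ : ∃ v, v⁻¹ * u v ≠ 1 := by
    by_contra e; push Not at e
    exact u1 (MulEquiv.ext fun v => (inv_mul_eq_one.1 (e v)).symm)
  refine le_antisymm (fun x hx => ?_) fun x hx => ?_
  · obtain ⟨n, rfl⟩ := zp (h.card h0) (hu.2.2 v) hv hx
    exact pow_mem (m.2.2 v) n
  · obtain ⟨n, rfl⟩ := zp (h'.card h0) (m.2.2 v) hv hx
    exact pow_mem (hu.2.2 v) n

omit [Finite V] hp in
theorem CJ.conj (h : CJ A Z₀ W) (ha : a ∈ A) : CJ A Z₀ (W.comap a⁻¹.toMonoidHom) := by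
  obtain ⟨b, hb, e⟩ := h
  exact ⟨a * b, mul_mem ha hb, fun v => by rw [mem_comap, e]; simp⟩

theorem lemX (hc : ∀ x y : V, x * y = y * x) (h0 : o[Z₀] = p) (hT : Syl p T A) (h1 : T ≤ RR Z₀)
    (hZ : ∀ v, v ∈ Z ↔ ∀ t ∈ T, t v = v) (h2 : p < o[Z]) (T0 : T ≠ ⊥) {g : MulAut V} (hg : g ∈ A)
    (g0 : ¬ ∀ z ∈ Z₀, g z ∈ Z₀) : ∃ C ≤ Z, C ≠ ⊥ ∧ C ⊓ Z₀ = ⊥ ∧ (∀ a ∈ A, ∀ c ∈ C, a c ∈ C) ∧
      ∃ α ∈ A, (∀ c ∈ C, α c = c) ∧ ∀ z ∈ Z₀, α z = z⁻¹ := by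
  letI : CommGroup V := { ‹Group V› with mul_comm := hc }
  have j0 : CJ A Z₀ Z₀ := ⟨1, one_mem _, fun v => by simp⟩
  have j1 := j0.conj hg
  set Z₁ := Z₀.comap g⁻¹.toMonoidHom with hZ₁
  have ne : Z₀ ≠ Z₁ := fun e => g0 fun z hz => by rw [e, hZ₁, mem_comap]; simpa using hz
  have c1 := j1.card h0
  obtain ⟨s, hs, s1⟩ := (T.bot_or_exists_ne_one).resolve_left T0
  have s2 : s ∈ A ⊓ RR Z₀ := ⟨hT.le hs, h1 hs⟩
  obtain ⟨z₁, hz₁, z11⟩ := (Z₁.bot_or_exists_ne_one).resolve_left fun e =>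
    hp.out.one_lt.ne (by rw [← c1, e, card_bot])
  obtain ⟨z₀, e0⟩ : ∃ z₀, z₀ = z₁⁻¹ * s z₁ := ⟨_, rfl⟩
  have hz₀ : z₀ ∈ Z₀ := e0 ▸ s2.2.2 z₁
  have z01 : z₀ ≠ 1 := fun e => ne (k1 h0 hT h1 j0 j1 s2 s1 hz₁ z11 (inv_mul_eq_one.1 (e0 ▸ e)).symm)
  have gen : ∀ W, CJ A Z₀ W → W ≠ Z₀ → ∀ u ∈ A ⊓ RR W, u ≠ 1 → ∀ w ∈ W,
      ∃ n : ℕ, (z₀⁻¹ * u z₀) ^ n = w := fun W j e u hu u1 w hw => zp (j.card h0) (hu.2.2 z₀)
    (fun e' => e (k1 h0 hT h1 j j0 hu u1 hz₀ z01 (inv_mul_eq_one.1 e').symm)) hw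
  have t2 : g * s * g⁻¹ ∈ A ⊓ RR Z₁ :=
    mem_inf.2 ⟨mul_mem (mul_mem hg s2.1) (inv_mem hg), RR_conj s2.2 fun v => Iff.rfl⟩
  have t1 : g * s * g⁻¹ ≠ 1 := by rwa [Ne, conj_eq_one_iff]
  obtain ⟨t₀, ht₀⟩ : ∃ t₀, t₀ = g * s * g⁻¹ := ⟨_, rfl⟩
  rw [← ht₀] at t1 t2
  let C : Subgroup V :=
    { carrier := {v | ∀ W, CJ A Z₀ W → ∀ u ∈ A ⊓ RR W, u v = v}
      one_mem' := fun _ _ _ _ => map_one _
      mul_mem' := fun h h' W j u hu => by rw [map_mul, h W j u hu, h' W j u hu]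
      inv_mem' := fun h W j u hu => by rw [map_inv, h W j u hu] }
  obtain ⟨c, hc1, c0, c2⟩ : ∃ c ∈ Z, c ≠ 1 ∧ t₀ c = c := by
    by_contra e; push Not at e
    have := Nat.card_le_card_of_injective (fun z : Z => (⟨z.1⁻¹ * t₀ z, t2.2.2 _⟩ : Z₁))
      fun x y e' => by
        have e2 : x.1⁻¹ * t₀ x = y.1⁻¹ * t₀ y := congrArg Subtype.val e'
        by_contra n
        refine e (x.1 * y.1⁻¹) (mul_mem x.2 (inv_mem y.2)) (fun e3 => n (Subtype.ext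
          (mul_inv_eq_one.1 e3))) ?_
        rw [map_mul, map_inv, ← mul_inv_cancel_left x.1 (t₀ x), e2, mul_assoc, mul_inv_cancel_right]
    omega
  have c3 : ∀ u ∈ A ⊓ RR Z₁, u c = c := fun u hu => by
    obtain ⟨n, hn⟩ := gen _ j1 ne.symm _ t2 t1 _ (hu.2.2 z₀)
    have : (t₀ ^ n)⁻¹ * u = 1 := by
      by_contra e
      refine ne (k1 h0 hT h1 j1 j0 (mul_mem (inv_mem (pow_mem t2 n)) hu) e hz₀ z01 ?_).symm
      rw [MulAut.mul_apply, MulAut.inv_apply, MulEquiv.symm_apply_eq, RR_pow t2.2, hn,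
        mul_inv_cancel_left]
    rw [← inv_mul_eq_one.1 this, RR_pow t2.2, c2]; simp
  have T1 : ∀ u ∈ A ⊓ RR Z₀, u ∈ T := fun u hu =>
    (hT.eq_of_le ((RR_pg h0).to_le inf_le_right) (le_inf hT.le h1) inf_le_left).le hu
  have cC : c ∈ C := fun W j u hu => by
    by_cases e : W = Z₀
    · exact (hZ c).1 hc1 u (T1 u (e ▸ hu))
    by_cases u1 : u = 1
    · simp [u1]
    obtain ⟨i, hi⟩ := gen W j e u hu u1 _ (inv_mem (hu.2.2 z₁))
    have j2 := j1.conj (pow_mem s2.1 i)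
    have e1 : (s ^ i) z₁ = z₁ * z₀ ^ i := by rw [RR_pow s2.2, ← e0]
    have e2 := k1 h0 hT h1 j j2 hu u1 (w := (s ^ i) z₁) (by rw [mem_comap]; simpa using hz₁)
      (by simpa using z11) (by
        rw [e1, map_mul, map_pow, ← mul_inv_cancel_left z₀ (u z₀), mul_pow, hi, mul_inv_rev, inv_inv,
          mul_left_comm, mul_inv_cancel_left, mul_comm])
    have m : (s ^ i)⁻¹ * u * (s ^ i)⁻¹⁻¹ ∈ A ⊓ RR Z₁ := mem_inf.2 ⟨mul_mem (mul_mem (inv_mem (pow_mem s2.1 i))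
      hu.1) (inv_mem (inv_mem (pow_mem s2.1 i))), RR_conj hu.2 fun v => by
        rw [e2]; show _ ↔ (s ^ i)⁻¹ ((s ^ i)⁻¹⁻¹ v) ∈ Z₁; simp⟩
    have e3 := c3 _ m
    have e4 := (hZ c).1 hc1 _ (pow_mem hs i)
    rw [inv_inv, MulAut.mul_apply, MulAut.mul_apply, e4, MulAut.inv_apply, MulEquiv.symm_apply_eq,
      e4] at e3
    exact e3
  obtain ⟨k, hk⟩ := gen _ j1 ne.symm _ t2 t1 _ (inv_mem hz₁)
  have t3 := pow_mem t2 k
  have a1 : (t₀ ^ k) z₀ = z₀ * z₁⁻¹ := by rw [RR_pow t2.2, hk]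
  have a2 : (t₀ ^ k) z₁ = z₁ := t3.2.1 _ hz₁
  have a3 : s z₀ = z₀ := s2.2.1 _ hz₀
  have a4 : s z₁ = z₁ * z₀ := by rw [e0, mul_inv_cancel_left]
  refine ⟨C, fun v hv => (hZ v).2 fun t ht => hv _ j0 t ⟨hT.le ht, h1 ht⟩,
    fun e => c0 (mem_bot.1 (e ▸ cC)), eq_bot_iff.2 fun v hv => ?_, fun a ha v hv W j u hu => ?_,
    (s * t₀ ^ k * s) * (s * t₀ ^ k * s), ?_, fun v hv => ?_, fun v hv => ?_⟩
  · by_contra e
    exact ne (k1 h0 hT h1 j1 j0 t2 t1 hv.2 e (hv.1 _ j1 _ t2)).symm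
  · have := hv _ (j.conj (inv_mem ha)) (a⁻¹ * u * a⁻¹⁻¹) (mem_inf.2 ⟨mul_mem (mul_mem (inv_mem ha) hu.1)
      (inv_mem (inv_mem ha)), RR_conj hu.2 fun v => by rw [mem_comap]; simp⟩)
    rwa [inv_inv, MulAut.mul_apply, MulAut.mul_apply, MulAut.inv_apply, MulEquiv.symm_apply_eq] at this
  · exact mul_mem (mul_mem (mul_mem s2.1 t3.1) s2.1) (mul_mem (mul_mem s2.1 t3.1) s2.1)
  · simp only [MulAut.mul_apply, hv _ j0 s s2, hv _ j1 _ t3]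
  · obtain ⟨n, rfl⟩ := zp h0 hz₀ z01 hv
    rw [map_pow, ← inv_pow]; congr 1
    have b1 : (s * t₀ ^ k * s) z₀ = z₁⁻¹ := by
      simp only [MulAut.mul_apply, a1, a3, map_mul, map_inv, a4]
      rw [mul_inv_rev, mul_inv_cancel_left]
    have b2 : (s * t₀ ^ k * s) z₁ = z₀ := by
      simp only [MulAut.mul_apply, a1, a2, a3, map_mul, map_inv, a4]
      rw [mul_left_comm (z₁ * z₀), mul_inv_cancel, mul_one]
    rw [MulAut.mul_apply, b1, map_inv, b2]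

theorem lemW (hp2 : p ≠ 2) (h0 : o[Z₀] = p) (hA : ¬ p ∣ o[A]) {α : MulAut V} (hα : α ∈ A)
    (d1 : ∀ v, ∃ z ∈ Z₀, ∃ c ∈ D, z * c = v) (d2 : ∀ c ∈ D, α c = c) (d3 : ∀ z ∈ Z₀, α z = z⁻¹)
    (hc : ∀ x y : V, x * y = y * x) (v : V) :
    (∀ γ ∈ A, (∀ x, x⁻¹ * γ x ∈ Z₀) → γ v = v) ↔ v ∈ D := by
  letI : CommGroup V := { ‹Group V› with mul_comm := hc }
  have sq : ∀ z ∈ Z₀, z⁻¹ = z → z = 1 := fun z hz e => eq_one_of_coprime_order
    (IsPGroup.of_card (h0.trans (pow_one p).symm)) hz (Nat.Coprime.coprime_dvd_left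
      (orderOf_dvd_of_pow_eq_one (by rw [pow_two, ← mul_inv_cancel z, e]))
      ((Nat.coprime_primes Nat.prime_two hp.out).2 hp2.symm))
  have a1 : ∀ x, x⁻¹ * α x ∈ Z₀ := fun x => by
    obtain ⟨z, hz, c, hc, rfl⟩ := d1 x
    rw [map_mul, d2 c hc, d3 z hz, mul_inv_rev, mul_assoc, mul_comm, mul_assoc, mul_assoc,
      mul_inv_cancel, mul_one]
    exact mul_mem (inv_mem hz) (inv_mem hz)
  refine ⟨fun h => ?_, fun hv γ hγ h => ?_⟩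
  · obtain ⟨z, hz, c, hc, rfl⟩ := d1 v
    have := h α hα a1
    rw [map_mul, d2 c hc, d3 z hz, mul_left_inj] at this
    rwa [sq z hz this, one_mul]
  · have g0 : ∀ z ∈ Z₀, γ z ∈ Z₀ := fun z hz => by simpa using mul_mem hz (h z)
    have m : (γ * α)⁻¹ * (α * γ) ∈ A ⊓ RR Z₀ := mem_inf.2 ⟨mul_mem (inv_mem (mul_mem hγ hα)) (mul_mem hα hγ),
      fun z hz => by
        rw [MulAut.mul_apply, MulAut.inv_apply, MulEquiv.symm_apply_eq, MulAut.mul_apply,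
          MulAut.mul_apply, d3 z hz, d3 _ (g0 z hz), map_inv],
      (TM Z₀).mul_mem (inv_mem ((TM Z₀).mul_mem h a1)) ((TM Z₀).mul_mem a1 h)⟩
    rw [inf_eq_bot_of_coprime' (coprime_of_pgroup (RR_pg h0) hA).symm, mem_bot, inv_mul_eq_one] at m
    have e := congrArg (fun f : MulAut V => f v) m
    simp only [MulAut.mul_apply, d2 v hv] at e
    rw [← mul_inv_cancel_left v (γ v), map_mul, d2 v hv, d3 _ (h v), mul_right_inj] at e
    exact (inv_mul_eq_one.1 (sq _ (h v) e.symm)).symm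

theorem lemY {Q : Subgroup V} (hG : IsPGroup p V) (hi : Q.index = p) (h1 : ⁅Q, Q⁆ ≤ Z[Q])
    (h2 : o[Z[Q]] = p) (hne : Z[(⊤ : Subgroup V)] ≠ Z[Q]) : Z[Q] ≤ Z[(⊤ : Subgroup V)] ∧
      (∀ x y : V, ⁅x, y⁆ ∈ Z[Q]) ∧ o[Z[(⊤ : Subgroup V)]] = p * p := by
  have pT : PG[p, (⊤ : Subgroup V)] := hG.to_subgroup ⊤
  have nQ : ⊤ ≤ N[Q] := le_norm_of_relIndex_prime pT le_top (by rw [relIndex_top_right, hi]; exact hp.out)
  have a : Z[Q] ≤ Z[(⊤ : Subgroup V)] := le_inf le_top (le_centralizer_iff.1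
    (le_cent_of_card_prime pT (nQ.trans norm_le_norm_center) h2))
  have b : Q ⊓ Z[(⊤ : Subgroup V)] = Z[Q] := le_antisymm
    (inf_le_inf_left _ (inf_le_right.trans (cent_anti le_top))) (le_inf inf_le_left a)
  have n : Q ≤ N[Z[(⊤ : Subgroup V)]] := le_top.trans (le_normalizer.trans norm_le_norm_center)
  have c : Q ⊔ Z[(⊤ : Subgroup V)] = ⊤ := by
    have e := relIndex_mul_index (le_sup_left : Q ≤ Q ⊔ Z[(⊤ : Subgroup V)])
    rw [hi] at e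
    rcases hp.out.eq_one_or_self_of_dvd _ (Dvd.intro _ e) with e1 | e1
    · exact absurd ((inf_eq_right.2 (le_sup_right.trans (relIndex_eq_one.1 e1))).symm.trans b) hne
    · rw [e1, mul_eq_left₀ hp.out.ne_zero] at e; exact index_eq_one.1 e
  refine ⟨a, fun x y => ?_, ?_⟩
  · obtain ⟨q, hq, z, hz, rfl⟩ := (mem_sup_of_norm n).1 (c.ge (mem_top x))
    obtain ⟨r, hr, w, hw, rfl⟩ := (mem_sup_of_norm n).1 (c.ge (mem_top y))
    have e : ⁅q * z, r * w⁆ = q * (z * (r * w * z⁻¹)) * (q⁻¹ * w⁻¹) * r⁻¹ := by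
      rw [commutatorElement_def]; group
    rw [e, ← mul_assoc z, ← hz.2 _ (mem_top _), mul_inv_cancel_right, (inv_mem hw).2 _ (mem_top _)]
    convert h1 (commutator_mem_commutator hq hr) using 1
    rw [commutatorElement_def]; group
  · have e := card_sup_mul_card_inf n
    rw [c, b, h2, card_top, ← Q.card_mul_index, hi, mul_assoc] at e
    exact (Nat.eq_of_mul_eq_mul_left Nat.card_pos e).symm

theorem lemD (h0 : o[Z₀] = p) (h1 : o[Z] = p * p) (l : Z₀ ≤ Z) (hD : D ≤ Z) (d0 : D ≠ ⊥)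
    (d1 : D ⊓ Z₀ = ⊥) (hc : ∀ x y : V, x * y = y * x) {v : V} (hv : v ∈ Z) :
    ∃ z ∈ Z₀, ∃ c ∈ D, z * c = v := by
  have n : Z₀ ≤ N[D] := le_norm_of_le_cent fun x _ y _ => hc y x
  have e := card_sup_of_disj (Or.inl n) (inf_comm D Z₀ ▸ d1)
  have pD : PG[p, D] := (IsPGroup.of_card (h1.trans (pow_two p).symm)).to_le hD
  have := le_relIndex_pg (K := ⊥) pD (by rwa [le_bot_iff])
  rw [relIndex_bot_left] at this
  exact (mem_sup_of_norm n).1 ((eq_of_le_of_card_ge (sup_le l hD) (by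
    rw [e, h0, h1]; exact Nat.mul_le_mul_left _ this)).ge hv)

end CfsgH2.Xs
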