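import Cfsg.Agent.H2.Xs1
import Cfsg.Agent.L0.Fus12

/-! Fusion systems on `p`-groups whose derived subgroup has order `p` and centre order `p²`. -/

set_option autoImplicit false
namespace CfsgH2.Xs
open Subgroup Function Cfsg CfsgL0
open Cfsg.FusionSystem hiding inv_mem center
open scoped commutatorElement

variable {Ω : Type*} [Group Ω] {S : Subgroup Ω} {F : FusionSystem S} {P E Z₀ : Subgroup Ω}
  {f : Ω → Ω} {p : ℕ} [hp : Fact p.Prime]

theorem inv0 (h0 : o[Z₀] = p) (hc : ∀ x ∈ S, ∀ y ∈ S, ⁅x, y⁆ ∈ Z₀) (hf : M F P f) {x y : Ω}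
    (hx : x ∈ P) (hy : y ∈ P) (h : ⁅x, y⁆ ≠ 1) {z : Ω} (hz : z ∈ Z₀) : f z ∈ Z₀ := by
  obtain ⟨n, rfl⟩ := zp h0 (hc x (hf.le hx) y (hf.le hy)) h hz
  have m := mul_mem (mul_mem hx hy) (inv_mem hx)
  rw [commutatorElement_def, hf.pow (mul_mem m (inv_mem hy)), hf.mul m (inv_mem hy), hf.conj hx hy,
    hf.inv hy]
  exact pow_mem (hc _ (hf.mem hx) _ (hf.mem hy)) n

variable [Finite S]

theorem loc (hS : IsPGroup p S) (hF : F.IsSaturated p) (h0 : o[Z₀] = p) (l : Z₀ ≤ Z[S])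
    (hc : ∀ x ∈ S, ∀ y ∈ S, ⁅x, y⁆ ∈ Z₀) (h1 : o[Z[S]] = p * p) (hE : F.IsEssential p E) :
    ∃ C ≤ Z[S], C ≠ ⊥ ∧ (∀ z ∈ Z[S], ∃ z₀ ∈ Z₀, ∃ c ∈ C, z₀ * c = z) ∧
      (∀ f, M F E f → im E f = E → ∀ c ∈ C, f c ∈ C) ∧
      ∃ f, M F Z[S] f ∧ (∀ c ∈ C, f c = c) ∧ ∀ z ∈ Z₀, f z = z⁻¹ := by
  have ES : E ≤ S := hE.1.1
  haveI := finite_of_le ES
  have ZE : Z[S] ≤ E := (inf_le_inf_left _ (cent_anti ES)).trans (centric_cI hE.1)
  have nE : S ≤ N[E] := fun x hx => mem_normalizer_fintype fun n hn => by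
    have := mul_mem (ZE (l (hc x hx n (ES hn)))) hn
    rwa [commutatorElement_def, inv_mul_cancel_right] at this
  have sy := sat_syl hS hF hE.2.1
  have c0 : o[Z₀.subgroupOf E] = p := (card_subgroupOf (l.trans ZE)).trans h0
  have c1 : o[Z[S].subgroupOf E] = p * p := (card_subgroupOf ZE).trans h1
  have fx : ∀ v : E, v ∈ Z[S].subgroupOf E ↔ ∀ t ∈ autInducedBy S E, t v = v := fun v =>
    ⟨fun hv t ht => by
      obtain ⟨x, hx, e⟩ := mem_autInd'.1 ht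
      exact Subtype.ext (by rw [← af_coe, e _ v.2, (mem_subgroupOf.1 hv).2 x hx, mul_inv_cancel_right]),
    fun h => ⟨ES v.2, fun x hx => by
      have := congrArg Subtype.val (h _ (cA_mem (nE hx) hx))
      rwa [← af_coe, af_cA _ v.2, mul_inv_eq_iff_eq_mul] at this⟩⟩
  have t1 : autInducedBy S E ≤ RR (Z₀.subgroupOf E) := fun t ht =>
    ⟨fun w hw => (fx w).1 (l hw) t ht, fun v => by
      obtain ⟨x, hx, e⟩ := mem_autInd'.1 ht
      have := hc _ (inv_mem (ES v.2)) x hx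
      rw [mem_subgroupOf, Subgroup.coe_mul, ← af_coe, e _ v.2]
      convert this using 1
      rw [commutatorElement_def]; simp [mul_assoc]⟩
  obtain ⟨g, hg, g0⟩ : ∃ g ∈ F.autGroup E, ¬ ∀ z ∈ Z₀.subgroupOf E, g z ∈ Z₀.subgroupOf E := by
    by_contra e; push Not at e
    exact (ess_lt hS hF hE).not_ge (le_of_cr hS hE.1 (ess_radical hS hF hE) le_rfl
      (ES.trans le_normalizer) fun x hx hn => le_pCoreOf inf_le_left
        (le_norm_inf le_normalizer fun a ha => norm_RR (e a ha)) ((RR_pg c0).to_le inf_le_right)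
        ⟨sy.le (cA_mem hn hx), t1 (cA_mem hn hx)⟩)
  have cm : ∀ x y : E, x * y = y * x := fun x y => by
    by_contra e
    refine g0 fun z hz => ?_
    rw [mem_subgroupOf, ← af_coe]
    exact inv0 h0 hc ((mem_aut ES).1 hg) x.2 y.2
      (fun e' => e (Subtype.ext (commutatorElement_eq_one_iff_mul_comm.1 e'))) hz
  obtain ⟨C, a1, a2, a3, a4, α, hα, a5, a6⟩ := lemX cm c0 sy t1 fx
    (c1 ▸ (Nat.lt_mul_iff_one_lt_right hp.out.pos).2 hp.out.one_lt)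
    (ne_bot_of_gt (ess_nab hS hF hE).1) hg g0
  refine ⟨C.map E.subtype, ?_, ?_, fun z hz => ?_, fun f hf e => ?_, af α,
    ((mem_aut ES).1 hα).mono ZE, ?_, fun z hz => ?_⟩
  · rintro _ ⟨c, hc, rfl⟩; exact a1 hc
  · rwa [Ne, map_eq_bot_iff_of_injective _ E.subtype_injective]
  · obtain ⟨z₀, b1, c, b2, e⟩ := lemD c0 c1 (fun x hx => l hx) a1 a2 a3 cm (v := ⟨z, ZE hz⟩) hz
    exact ⟨z₀, b1, c, ⟨c, b2, rfl⟩, congrArg Subtype.val e⟩
  · rintro _ ⟨c, hc, rfl⟩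
    obtain ⟨β, b1, b2⟩ := hf.exists_aut e
    exact ⟨β c, a4 β b1 c hc, by rw [coe_subtype, ← b2 _ c.2, af_coe]⟩
  · rintro _ ⟨c, hc, rfl⟩
    rw [coe_subtype, af_coe, a5 c hc]
  · exact (af_coe α ⟨z, ZE (l hz)⟩).trans (congrArg Subtype.val (a6 ⟨z, _⟩ hz))

theorem main (hp2 : p ≠ 2) (hS : IsPGroup p S) (hF : F.IsSaturated p) (h0 : o[Z₀] = p)
    (l : Z₀ ≤ Z[S]) (hc : ∀ x ∈ S, ∀ y ∈ S, ⁅x, y⁆ ∈ Z₀) (h1 : o[Z[S]] = p * p) {x y : Ω}
    (hx : x ∈ S) (hy : y ∈ S) (hxy : ⁅x, y⁆ ≠ 1) : F.core ≠ ⊥ := by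
  intro hO
  have ZS : Z[S] ≤ S := inf_le_left
  haveI := finite_of_le ZS
  by_cases he : ∀ P, ¬ F.IsEssential p P
  · exact hxy (mem_bot.1 (hO ▸ le_core (normal_top_of hS hF he) (ZS (l (hc x hx y hy)))))
  push Not at he
  have nd : ¬ p ∣ o[F.autGroup Z[S]] := by
    have sy := sat_syl hS hF (fn_of_normal (F := F) ZS (le_norm_of_le_cent
      (le_centralizer_iff.1 inf_le_right)))
    have : autInducedBy S Z[S] = ⊥ := eq_bot_iff.2 fun t ht => by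
      obtain ⟨s, hs, e⟩ := mem_autInd'.1 ht
      exact af_ext fun z hz => by rw [e z hz, af_one hz, hz.2 s hs, mul_inv_cancel_right]
    have := this ▸ sy.nd
    rwa [relIndex_bot_left] at this
  let D : Subgroup Z[S] :=
    { carrier := {v | ∀ γ ∈ F.autGroup Z[S], (∀ x, x⁻¹ * γ x ∈ Z₀.subgroupOf Z[S]) → γ v = v}
      one_mem' := fun _ _ _ => map_one _
      mul_mem' := fun h h' γ a b => by rw [map_mul, h γ a b, h' γ a b]
      inv_mem' := fun h γ a b => by rw [map_inv, h γ a b] }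
  have key : ∀ E, F.IsEssential p E → D.map Z[S].subtype ≠ ⊥ ∧
      ∀ f, M F E f → im E f = E → ∀ c ∈ D.map Z[S].subtype, f c ∈ D.map Z[S].subtype := fun E hE => by
    obtain ⟨C, a1, a2, a3, a4, f, hf, a5, a6⟩ := loc hS hF h0 l hc h1 hE
    obtain ⟨α, b1, b2⟩ := hf.exists_aut (hf.im_eq_of_le le_rfl fun z hz => by
      obtain ⟨z₀, d1, c, d2, rfl⟩ := a3 z hz
      rw [hf.mul (l d1) (a1 d2), a5 c d2, a6 _ d1]; exact mul_mem (inv_mem (l d1)) (a1 d2))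
    have e : D = C.subgroupOf Z[S] := Subgroup.ext fun v => lemW hp2
      ((card_subgroupOf l).trans h0) nd b1 (fun v => by
        obtain ⟨z₀, d1, c, d2, e⟩ := a3 v v.2
        exact ⟨⟨z₀, l d1⟩, d1, ⟨c, a1 d2⟩, d2, Subtype.ext e⟩)
      (fun c hc => Subtype.ext (by rw [← af_coe, b2 _ c.2, a5 _ (mem_subgroupOf.1 hc)]))
      (fun z hz => Subtype.ext (by rw [← af_coe, b2 _ z.2, a6 _ (mem_subgroupOf.1 hz)]; rfl))
      (fun x y => Subtype.ext (y.2.2 x x.2.1)) v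
    rw [e, map_subgroupOf_eq_of_le a1]
    exact ⟨a2, a4⟩
  have DZ : D.map Z[S].subtype ≤ Z[S] := map_subtype_le _
  have ZE : ∀ E, F.IsEssential p E → D.map Z[S].subtype ≤ E := fun E hE =>
    DZ.trans ((inf_le_inf_left _ (cent_anti hE.1.1)).trans (centric_cI hE.1))
  obtain ⟨E, hE⟩ := he
  refine (key E hE).1 (eq_bot_iff.2 (hO ▸ le_core (normal_of_ess hS hF (DZ.trans ZS) ZE
    fun P hP f hf e => ?_)))
  rcases hP with rfl | hP
  · refine hf.im_eq_of_le (DZ.trans ZS) ?_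
    rintro _ ⟨v, hv, rfl⟩
    obtain ⟨β, b1, b2⟩ := (hf.mono ZS).exists_aut (by rw [hf.im_center, e])
    have s0 : ∀ w ∈ Z₀.subgroupOf Z[P], β w ∈ Z₀.subgroupOf Z[P] := fun w hw => by
      rw [mem_subgroupOf, ← af_coe, b2 _ w.2]; exact inv0 h0 hc hf hx hy hxy hw
    refine ⟨β v, fun γ a b => ?_, by rw [coe_subtype, ← b2 _ v.2, af_coe]⟩
    have := hv (β⁻¹ * γ * β) (mul_mem (mul_mem (inv_mem b1) a) b1) fun x => by
      simpa using (stab_iff s0 _).1 (b (β x))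
    rwa [MulAut.mul_apply, MulAut.mul_apply, MulAut.inv_apply, MulEquiv.symm_apply_eq] at this
  · exact hf.im_eq_of_le (ZE P hP) ((key P hP).2 f hf e)

theorem center_eq (hp2 : p ≠ 2) (hS : IsPGroup p S) {Q : Subgroup Ω} (hQS : Q ≤ S)
    (hQ : IsExtraspecial p Q) (hi : (Q.subgroupOf S).index = p) (hF : F.IsSaturated p)
    (hO : F.core = ⊥) : Z[S] = Z[Q] := by
  by_contra hne
  have c0 : o[Z[Q]] = p := by
    rw [← map_center_subtype, card_map_of_injective Q.subtype_injective]; exact hQ.2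
  have c1 : ⁅Q, Q⁆ = Z[Q] := by
    rw [← map_center_subtype, ← hQ.1.2.2, commutator_def, map_commutator, map_subtype_top]
  have e0 : Z[Q.subgroupOf S].map S.subtype = Z[Q] := by
    rw [← inj_inf_cent S.subtype_injective, map_subgroupOf_eq_of_le hQS]
  have e1 : Z[(⊤ : Subgroup S)].map S.subtype = Z[S] := by
    rw [← inj_inf_cent S.subtype_injective, map_subtype_top]
  obtain ⟨a, b, c⟩ := lemY hS hi (by
      rw [← map_le_map_iff_of_injective S.subtype_injective, e0, map_commutator,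
        map_subgroupOf_eq_of_le hQS, c1])
    (by rw [← card_map_of_injective S.subtype_injective, e0, c0])
    fun e => hne (by rw [← e0, ← e1, e])
  obtain ⟨x, hx, y, hy, hxy⟩ : ∃ x ∈ Q, ∃ y ∈ Q, ⁅x, y⁆ ≠ 1 := by
    by_contra e; push Not at e
    have : Z[Q] = ⊥ := c1 ▸ eq_bot_iff.2 (commutator_le.2 fun x hx y hy => mem_bot.2 (e x hx y hy))
    rw [this, card_bot] at c0
    exact hp.out.one_lt.ne c0
  exact main hp2 hS hF c0 (e0 ▸ e1 ▸ map_mono a)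
    (fun x hx y hy => e0 ▸ ⟨_, b ⟨x, hx⟩ ⟨y, hy⟩, rfl⟩)
    (by rw [← e1, card_map_of_injective S.subtype_injective, c]) (hQS hx) (hQS hy) hxy hO

end CfsgH2.Xs
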