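import Cfsg.Agent.H2.Xs2

/-! Essential subgroups inside an extraspecial subgroup. -/

set_option autoImplicit false
namespace CfsgH2.Xs
open Subgroup Function Cfsg CfsgL0
open Cfsg.FusionSystem hiding inv_mem center
open scoped commutatorElement

section
variable {V : Type*} [Group V] [Finite V] {A T Y : Subgroup (MulAut V)} {Z₀ E : Subgroup V} {p : ℕ}
  [hp : Fact p.Prime]

theorem lemS (hc : ∀ x y : V, x * y = y * x) (h0 : o[Z₀] = p) (hT : Syl p T A) (hY : NAb A T ⊥ Y)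
    (hA : ¬ A ≤ Y) (h1 : ∀ t ∈ T, ∀ z ∈ Z₀, t z ∈ Z₀)
    (h : ∀ v, ∃ s ∈ A ⊓ RR Z₀, s ≠ 1 ∧ s v = v) : False := by
  have l : A ⊓ RR Z₀ ≤ T := hT.le_of_norm ((RR_pg h0).to_le inf_le_right) inf_le_left
    (le_norm_inf (hT.le.trans le_normalizer) fun t ht => norm_RR (h1 t ht))
  obtain ⟨g, hg, gY⟩ := SetLike.not_le_iff_exists.1 hA
  obtain ⟨z, hz, z1⟩ := (Z₀.bot_or_exists_ne_one).resolve_left fun e =>
    hp.out.one_lt.ne (by rw [← h0, e, card_bot])
  obtain ⟨s, s1, s2, s3⟩ := h (g z)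
  obtain ⟨u, u1, u2, u3⟩ := h (g⁻¹ z)
  have t1 : g * u * g⁻¹ ∈ RR (Z₀.comap g⁻¹.toMonoidHom) := RR_conj u1.2 fun v => Iff.rfl
  have tA : g * u * g⁻¹ ∈ A := mul_mem (mul_mem hg u1.1) (inv_mem hg)
  have a1 : ∀ w ∈ Z₀.comap g⁻¹.toMonoidHom, s w = w := fun w hw => by
    obtain ⟨n, hn⟩ := zp h0 hz z1 (mem_comap.1 hw)
    have : w = g z ^ n := by rw [← map_pow, hn]; simp
    rw [this, map_pow, s3]
  have a2 : ∀ w ∈ Z₀, (g * u * g⁻¹) w = w := fun w hw => by
    obtain ⟨n, rfl⟩ := zp h0 hz z1 hw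
    rw [map_pow, MulAut.mul_apply, MulAut.mul_apply, u3]; simp
  have cm : g * u * g⁻¹ * s = s * (g * u * g⁻¹) := MulEquiv.ext fun v => by
    have b1 := a1 _ (t1.2 v)
    have b2 := a2 _ (s1.2.2 v)
    generalize g * u * g⁻¹ = t at b1 b2
    rw [map_mul, map_inv, inv_mul_eq_iff_eq_mul] at b1 b2
    letI : CommGroup V := { ‹Group V› with mul_comm := hc }
    rw [MulAut.mul_apply, MulAut.mul_apply, b1, b2, mul_left_comm, mul_left_comm (s v), mul_comm (s v)]
  have tY : g * u * g⁻¹ ∈ Y := hY (zpowers s) (bot_lt_iff_ne_bot.2 (by rwa [Ne, zpowers_eq_bot]))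
    (zpowers_le.2 (l s1)) ⟨tA, cent_le_norm _ (by
      rw [cent_zpowers]; exact mem_centralizer_singleton_iff.2 cm)⟩
  have TY : T ≤ Y := (le_inf hT.le le_normalizer).trans (hY T (bot_lt_iff_ne_bot.2 fun e =>
    s2 (mem_bot.1 (e ▸ l s1))) le_rfl)
  obtain ⟨y, y1, y2⟩ := (hT.mono (le_inf TY hT.le) inf_le_right).exists_conj_le
    (((hT.pg.to_le (zpowers_le.2 (l u1))).map (cj g))) (by
      rw [MonoidHom.map_zpowers]; exact zpowers_le.2 ⟨tY, tA⟩)
  have := NAb.mem hT (by rw [norm_bot]; exact le_top) hY (zpowers u) (zpowers_le.2 (l u1))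
    (bot_lt_iff_ne_bot.2 (by rwa [Ne, zpowers_eq_bot])) (y * g) (mul_mem y1.2 hg) (by
      rw [MonoidHom.map_zpowers, MonoidHom.map_zpowers] at y2
      rw [MonoidHom.map_zpowers]
      simpa [mul_assoc] using y2)
  exact gY ((Y.mul_mem_cancel_left y1.1).1 this)

theorem lemE (hG : IsPGroup p V) (h0 : o[Z₀] = p) (hc : ∀ x y : V, ⁅x, y⁆ ∈ Z₀)
    (hZ : C[(⊤ : Subgroup V)] ≤ Z₀) (ab : E ≤ C[E]) (hE : E ≠ ⊤) {z : V} (h : C1[z] ≤ E) :
    Nat.card V ≤ p ^ 3 := by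
  have i1 : E.index ≤ p := by
    have := relIndex_cent1_le (H := ⊤) (a := z) fun x _ => hc x z
    rw [relIndex_top_right, h0] at this
    exact (Nat.le_of_dvd (Nat.pos_of_ne_zero index_ne_zero_of_finite) (index_dvd_of_le h)).trans this
  obtain ⟨q, -, hq⟩ := SetLike.not_le_iff_exists.1 (fun e => hE (top_le_iff.1 e))
  have i2 : E ⊔ zpowers q = ⊤ := by
    have e := relIndex_mul_index (le_sup_left : E ≤ E ⊔ zpowers q)
    have := le_relIndex_pg (K := E) (hG.to_subgroup (E ⊔ zpowers q))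
      fun e => hq (e (mem_sup_right (mem_zpowers q)))
    have i0 : (E ⊔ zpowers q).index ≠ 0 := index_ne_zero_of_finite
    refine index_eq_one.1 (by_contra fun n => ?_)
    have : 2 ≤ (E ⊔ zpowers q).index := by omega
    have := hp.out.pos
    nlinarith
  have i3 := relIndex_cent1_le (H := E) (a := q) fun x _ => hc x q
  have i4 : o[C1[q] ⊓ E] ≤ p := h0 ▸ card_le_of_le (le_trans (by
    rw [← i2, cent_sup, cent_zpowers, inf_comm]; exact inf_le_inf_right _ ab) hZ)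
  rw [← E.card_mul_index, ← card_inf_mul_relIndex C1[q] E, pow_succ, pow_two]
  exact Nat.mul_le_mul (Nat.mul_le_mul i4 (h0 ▸ i3)) i1
end

variable {Ω : Type*} [Group Ω] {S : Subgroup Ω} {F : FusionSystem S} {Q E : Subgroup Ω}
  {p : ℕ} [hp : Fact p.Prime] [Finite S]

theorem ess_eq (hS : IsPGroup p S) (hQS : Q ≤ S) (hQ : IsExtraspecial p Q)
    (hi : (Q.subgroupOf S).index = p) (h6 : p ^ 6 ≤ o[S]) (hF : F.IsSaturated p) (hZ : Z[S] = Z[Q])
    (hEQ : E ≤ Q) (hE : F.IsEssential p E) : E = Q := by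
  by_contra hne
  have ES : E ≤ S := hE.1.1
  haveI := finite_of_le ES
  haveI := finite_of_le hQS
  have c0 : o[Z[Q]] = p := by
    rw [← map_center_subtype, card_map_of_injective Q.subtype_injective]; exact hQ.2
  have c1 : ⁅Q, Q⁆ = Z[Q] := by
    rw [← map_center_subtype, ← hQ.1.2.2, commutator_def, map_commutator, map_subtype_top]
  have hc : ∀ x ∈ Q, ∀ y ∈ Q, ⁅x, y⁆ ∈ Z[Q] := fun x hx y hy => c1 ▸ commutator_mem_commutator hx hy
  have ZE : Z[Q] ≤ E := hZ ▸ (inf_le_inf_left _ (cent_anti ES)).trans (centric_cI hE.1)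
  have nE : Q ≤ N[E] := fun x hx => mem_normalizer_fintype fun n hn => by
    have := mul_mem (ZE (hc x hx n (hEQ hn))) hn
    rwa [commutatorElement_def, inv_mul_cancel_right] at this
  have sy := sat_syl hS hF hE.2.1
  have c2 : o[Z[Q].subgroupOf E] = p := (card_subgroupOf ZE).trans c0
  have t1 : ∀ x ∈ Q, ∀ hn : x ∈ N[E], cA hn ∈ F.autGroup E ⊓ RR (Z[Q].subgroupOf E) := fun x hx hn =>
    ⟨sy.le (cA_mem hn (hQS hx)), fun w hw => Subtype.ext (by
      rw [← af_coe, af_cA _ w.2, (mem_subgroupOf.1 hw).2 x hx, mul_inv_cancel_right]), fun v => by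
      have := hc _ (inv_mem (hEQ v.2)) x hx
      rw [mem_subgroupOf, Subgroup.coe_mul, ← af_coe, af_cA _ v.2]
      convert this using 1
      rw [commutatorElement_def]; simp [mul_assoc]⟩
  obtain ⟨g, hg, g0⟩ : ∃ g ∈ F.autGroup E, ¬ ∀ z ∈ Z[Q].subgroupOf E, g z ∈ Z[Q].subgroupOf E := by
    by_contra e; push Not at e
    exact hne (le_antisymm hEQ (le_of_cr hS hE.1 (ess_radical hS hF hE) hQS
      (hEQ.trans le_normalizer) fun x hx hn => le_pCoreOf inf_le_left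
        (le_norm_inf le_normalizer fun a ha => norm_RR (e a ha)) ((RR_pg c2).to_le inf_le_right)
        (t1 x hx hn)))
  have cm : ∀ x y : E, x * y = y * x := fun x y => by
    by_contra e
    refine g0 fun z hz => ?_
    obtain ⟨n, hn⟩ := zp c0 (hc _ (hEQ x.2) _ (hEQ y.2))
      (fun e' => e (Subtype.ext (commutatorElement_eq_one_iff_mul_comm.1 e'))) hz
    have : z = ⁅x, y⁆ ^ n := Subtype.ext hn.symm
    rw [this, map_pow, map_commutatorElement]
    exact pow_mem (hc _ (hEQ (g x).2) _ (hEQ (g y).2)) n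
  obtain ⟨-, Y, -, y1, y2⟩ := ess_nab hS hF hE
  have i0 : Inn E = ⊥ := eq_bot_iff.2 fun t ht => by
    obtain ⟨x, hx, e⟩ := mem_inn.1 ht
    exact af_ext fun z hz => by
      rw [e z hz, af_one hz, show x * z = z * x from congrArg Subtype.val (cm ⟨x, hx⟩ ⟨z, hz⟩),
        mul_inv_cancel_right]
  refine lemS cm c2 sy (i0 ▸ y2) y1 (fun t ht z hz => ?_) fun v => ?_
  · obtain ⟨x, hx, e⟩ := mem_autInd'.1 ht
    rwa [mem_subgroupOf, ← af_coe, e _ z.2, (hZ.ge (mem_subgroupOf.1 hz)).2 x hx, mul_inv_cancel_right]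
  · have : ¬ C1[(⟨v, hEQ v.2⟩ : Q)] ≤ E.subgroupOf Q := fun e => by
      have := lemE (E := E.subgroupOf Q) (hS.to_le hQS) ((card_subgroupOf inf_le_left).trans c0)
        (fun x y => hc _ x.2 _ y.2) (fun x hx => ⟨x.2, fun y hy =>
          congrArg Subtype.val (hx ⟨y, hy⟩ trivial)⟩)
        (fun x hx y hy => Subtype.ext (congrArg Subtype.val (cm ⟨y, hy⟩ ⟨x, hx⟩) :))
        (fun e => hne (le_antisymm hEQ (subgroupOf_eq_top.1 e))) e
      rw [← (Q.subgroupOf S).card_mul_index, hi, card_subgroupOf hQS] at h6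
      have := h6.trans (Nat.mul_le_mul_right _ this)
      rw [← pow_succ, Nat.pow_le_pow_iff_right hp.out.one_lt] at this
      omega
    obtain ⟨x, x1, x2⟩ := SetLike.not_le_iff_exists.1 this
    refine ⟨cA (nE x.2), t1 _ x.2 _, fun e => x2 (centric_cI hE.1 ⟨hQS x.2, (cA_eq_one _).1 e⟩),
      Subtype.ext ?_⟩
    rw [← af_coe, af_cA _ v.2, mul_inv_eq_iff_eq_mul]
    exact congrArg Subtype.val (mem_centralizer_singleton_iff.1 x1)

end CfsgH2.Xs
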