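import Cfsg.Agent.H2.ZN2
import Cfsg.Agent.S0214

/-! `ZN`-groups of local characteristic two. -/

set_option autoImplicit false
namespace CfsgH2
open Subgroup Function Cfsg CfsgL0 CfsgBG
open scoped commutatorElement

variable {G : Type*} [Group G] [Finite G] {A B D E H J K L M P Q R S T U V W X Y : Subgroup G}

theorem core_le_norm_of_sn {p : ℕ} [Fact p.Prime] (s : CfsgH9.Sn K H) (r : piRes {p} K = K) :
    O[{p}, H] ≤ N[K] := by
  have := CfsgH9.Op_le_normalizer_Oup (p := p) s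
  rwa [← CfsgH9.Oup_eq, map_pResidual, r, CfsgH9.Op, map_pCore_subtype] at this

theorem le_core_of_sn {p : ℕ} [Fact p.Prime] (s : CfsgH9.Sn K H) (r : PG[p, K]) :
    K ≤ O[{p}, H] := by
  have := CfsgH9.le_Op s r
  rwa [CfsgH9.Op, map_pCore_subtype] at this

theorem se_iff_norm (h0 : M ≠ ⊤) (e : 2 ∣ o[M]) : IsStronglyEmbedded M ↔
    ∀ X ≤ M, PG[2, X] → X ≠ ⊥ → N[X] ≤ M := by
  constructor
  · intro h X l pX x0
    obtain ⟨T, t, l2⟩ := exists_syl_ge pX l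
    obtain ⟨P, rfl⟩ := t.exists_sub
    have := (Cfsg.Agent.S0214.result M h0 P fun c => t.ne_bot e (by rw [c, Subgroup.map_bot])).1 h
      (X.subgroupOf M) (by rwa [← map_le_map_iff_of_injective M.subtype_injective,
        map_subgroupOf_eq_of_le l]) (fun c => x0 (by rw [← map_subgroupOf_eq_of_le l, c,
          Subgroup.map_bot]))
    rwa [map_subgroupOf_eq_of_le l] at this
  · intro h
    obtain ⟨T, t⟩ := exists_syl (p := 2) M
    obtain ⟨P, rfl⟩ := t.exists_sub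
    exact (Cfsg.Agent.S0214.result M h0 P fun c => t.ne_bot e (by rw [c, Subgroup.map_bot])).2
      fun X l x0 => h _ (map_subtype_le _) (t.pg.to_le (map_mono l))
        (mt (map_eq_bot_iff_of_injective _ M.subtype_injective).1 x0)

/-- The standing hypothesis. -/
structure ZN (G : Type*) [Group G] : Prop where
  ch : IsCharacteristicTwoType G
  sol : ∀ N : Subgroup G, IsTwoLocal N → Sol[N]
  z : ∀ S : Sylow 2 G, C[omegaCenterOf (S : Subgroup G)] ≤ N[(S : Subgroup G)]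

omit [Finite G] in
theorem loc (pQ : PG[2, Q]) (h0 : Q ≠ ⊥) : IsTwoLocal N[Q] := ⟨Q, pQ, h0, rfl⟩
theorem loc_core (h : IsTwoLocal L) : O2[L] ≠ ⊥ := by
  obtain ⟨Q, pQ, h0, rfl⟩ := h
  exact fun e => h0 (le_bot_iff.1 (e ▸ le_pCoreOf le_normalizer le_rfl pQ))
theorem exists_mloc (h0 : O2[L] ≠ ⊥) : ∃ M, IsMaximalTwoLocal M ∧ L ≤ M := by
  obtain ⟨M, l, a, b⟩ := exists_maximal_ge IsTwoLocal (loc isPGroup_piCoreOf h0)
  exact ⟨M, ⟨a, b⟩, le_norm_piCoreOf.trans l⟩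
theorem exists_mloc' (pQ : PG[2, Q]) (h0 : Q ≠ ⊥) : ∃ M, IsMaximalTwoLocal M ∧ N[Q] ≤ M :=
  exists_mloc (loc_core (loc pQ h0))
omit [Finite G] in
theorem mloc_norm (h : IsMaximalTwoLocal L) (pQ : PG[2, Q]) (h0 : Q ≠ ⊥) (n : L ≤ N[Q]) :
    N[Q] = L := h.2 _ (loc pQ h0) n
theorem mloc_self (h : IsMaximalTwoLocal L) : N[L] ≤ L :=
  norm_le_norm_piCoreOf.trans (mloc_norm h isPGroup_piCoreOf (loc_core h.1) le_norm_piCoreOf).le
omit [Finite G] in
theorem loc_map_cj (h : IsTwoLocal L) (g : G) : IsTwoLocal (L.map (cj g)) := by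
  obtain ⟨Q, pQ, h0, rfl⟩ := h
  exact ⟨Q.map (cj g), pQ.map _, mt map_cj_eq_bot.1 h0, (normalizer_map_cj _ _).symm⟩
omit [Finite G] in
theorem mloc_map_cj (h : IsMaximalTwoLocal L) (g : G) : IsMaximalTwoLocal (L.map (cj g)) :=
  ⟨loc_map_cj h.1 g, fun N n l => by
    rw [← h.2 _ (loc_map_cj n g⁻¹) (map_cj_le_iff.1 l), map_cj_cj_inv]⟩

namespace ZN
variable (h : ZN G)
include h

theorem z' (s : Syl 2 S ⊤) : C[ΩZ[S]] ≤ N[S] := by
  obtain ⟨P, rfl⟩ := s.exists_top; exact h.z P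
theorem con (l : IsTwoLocal L) : C[O2[L]] ≤ O2[L] := by
  obtain ⟨Q, pQ, h0, rfl⟩ := l
  exact (le_inf ((cent_anti (le_pCoreOf le_normalizer le_rfl pQ)).trans (cent_le_norm _))
    le_rfl).trans (con_sub.1 (con_top_iff.1 (h.ch.2 Q pQ h0)))
theorem core_ne (c : C[O2[L]] ≤ O2[L]) : O2[L] ≠ ⊥ := fun e => by
  rw [e, cent_bot] at c
  have := h.ch.1
  rw [← card_top, le_bot_iff.1 c, card_bot] at this
  exact Nat.not_even_one this
theorem ls (c : C[O2[L]] ≤ O2[L]) : LS L := by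
  refine ⟨CfsgH9.isSolvable_of_le le_norm_piCoreOf (h.sol _ (loc isPGroup_piCoreOf (h.core_ne c))),
    c, fun T t => ?_⟩
  obtain ⟨S, s, l⟩ := exists_syl_ge t.pg le_top
  have l2 : ΩZ[S] ≤ C[O2[L]] := OZ_le_cent.trans (cent_anti (t.pCoreOf_le.trans l))
  rw [← t.eq_of_le (s.pg.to_le inf_le_left) (le_inf l t.le) inf_le_right]
  exact le_norm_inf (inf_le_right.trans ((cent_anti (le_OZ elem_OZ (l2.trans c) l2)).trans
    (h.z' s))) (le_norm_of_le inf_le_left)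
theorem ls' (l : IsTwoLocal L) : LS L := h.ls (h.con l)
end ZN

theorem jo_iff : L ∈ jOvergroups T ↔ Syl 2 T L ∧ ¬ J[2, T] ≤ O2[L] ∧ C[O2[L]] ≤ O2[L] := by
  rw [jOvergroups, Set.mem_setOf_eq, sylIn_iff, pCoreOf_eq]

/-- The members of `𝒦₀`. -/
structure J0 (J K : Subgroup G) : Prop extends JC J K where
  z : ∀ S, J ≤ S → Syl 2 S N[wOf K] → J[2, S] = J

theorem j0_iff : K ∈ jComponentsZero T ↔ J0 J[2, T] K :=
  ⟨fun h => ⟨jc_iff.1 h.1, fun S l s => h.2 S l (sylIn_iff.2 s)⟩,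
    fun h => ⟨jc_iff.2 h.toJC, fun S l s => h.z S l (sylIn_iff.1 s)⟩⟩

theorem JC.W_ne (k : JC J K) : wOf K ≠ ⊥ := fun e => by
  have := k.cW; rw [e, card_bot] at this; omega
theorem JC.loc (k : JC J K) : IsTwoLocal N[wOf K] := CfsgH2.loc (elem_pgroup elem_wOf) k.W_ne

theorem J0.map_cj (k : J0 J K) (g : G) : J0 (J.map (cj g)) (K.map (cj g)) :=
  ⟨k.toJC.map_cj g, fun S l s => by
    have := k.z (S.map (cj g⁻¹)) (le_map_cj_iff.2 (by rwa [inv_inv])) (by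
      simpa only [wOf_map_cj, normalizer_map_cj, map_cj_inv_cj] using s.map_cj g⁻¹)
    rw [← this, J_map_cj, map_cj_cj_inv]⟩

theorem J0.exists_syl (k : J0 J K) (pJ : PG[2, J]) : ∃ S, Syl 2 S N[wOf K] ∧ J[2, S] = J := by
  obtain ⟨S, s, l⟩ := exists_syl_ge pJ (k.nJ.trans norm_le_norm_wOf)
  exact ⟨S, s, k.z S l s⟩

theorem ZN.norm_eq (h : ZN G) (k : J0 J K) (pJ : PG[2, J]) : N[K] = N[wOf K] := by
  obtain ⟨S, s, rfl⟩ := k.exists_syl pJ
  exact le_antisymm norm_le_norm_wOf ((h.ls' k.loc).le_norm s k.toJC le_norm_wOf le_rfl)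

theorem ZN.jc_cj (h : ZN G) (k : J0 J K) (pJ : PG[2, J]) {g : G} (l : J.map (cj g) ≤ N[wOf K]) :
    JC (J.map (cj g)) K := by
  obtain ⟨S, s, rfl⟩ := k.exists_syl pJ
  obtain ⟨x, hx, l2⟩ := s.exists_conj_le (pJ.map _) l
  rw [map_cj_cj] at l2
  have := k.toJC.map_cj x⁻¹
  rwa [map_cj_eq (inv_mem ((h.norm_eq k pJ).ge hx)), ← J_weak l2, ← map_cj_cj, map_cj_inv_cj] at this

theorem K3.le_of_ord (k : K3 K) (h : ∀ x ∈ K, orderOf x = 3 → x ∈ X) : K ≤ X := by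
  refine k.res.ge.trans (piRes_le_iff'.2 fun x hx o => ?_)
  obtain ⟨m, e⟩ := k.card
  have d : orderOf x ∣ 3 := (Nat.Coprime.dvd_mul_right (((piN_compl_singleton' Nat.prime_two).1
    o).pow_right m)).1 (e ▸ orderOf_dvd_of_mem hx)
  rcases (Nat.dvd_prime Nat.prime_three).1 d with f | f
  exacts [orderOf_eq_one_iff.1 f ▸ one_mem _, h x hx f]

end CfsgH2
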