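import Cfsg.Agent.H2.ZN3

/-! `J(T)`-components: recognition and the centre of `J(T)`. -/

set_option autoImplicit false
namespace CfsgH2
open Subgroup Function Cfsg CfsgL0 CfsgBG
open scoped commutatorElement

variable {G : Type*} [Group G] [Finite G] {A B D E H J K L M P Q R S T U V W X Y : Subgroup G}

theorem K3.comm_le_wOf (k : K3 K) (e : IsElementaryAbelian 2 V) (n : K ≤ N[V]) (n2 : V ≤ N[K])
    (c : O2[K] ≤ C[V]) : ⁅V, K⁆ ≤ wOf K := by
  obtain ⟨D, cD, eD⟩ := k.exists_D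
  have l : D ≤ K := le_sup_right.trans eD.le
  have cop : o[D].Coprime o[V] := (coprime_of_pgroup (elem_pgroup e) (by rw [cD]; decide)).symm
  have e1 : ⁅V, K⁆ = ⁅V, D⁆ := by
    conv_lhs => enter [2]; rw [← eD]
    rw [comm_sup_right_ab e.1 (le_norm_of_le_cent c) (l.trans n),
      comm_eq_bot_iff.2 (le_centralizer_iff.1 c), bot_sup_eq]
  have l2 : ⁅V, K⁆ ≤ ΩZ[O2[K]] := le_OZ (elem_of_le e (comm_le_left n))
    (le_pCoreOf (comm_le_right n2) le_norm_comm_right ((elem_pgroup e).to_le (comm_le_left n)))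
    ((comm_le_left n).trans (le_centralizer_iff.1 c))
  rw [wOf_eq]
  refine le_trans ?_ (commutator_mono l2 l)
  rw [e1, coprime_comm_comm (l.trans n) cop (.inr (haveI := nil_of_pg (elem_pgroup e)
    inferInstance))]

theorem LS.wOf_KE (h : LS L) (c : AC 2 VL[L] L E) (t : Syl 2 T L) : wOf KE[E] = ⁅VL[L], E⁆ :=
  (h.facts c (h.k3 c) (h.core_le_norm t (h.jc c t) ((LS.KE_le c).trans c.le)) (LS.KE_le c)
    (h.KE_not_cent c) (h.jc c t).cW.le).2.2

/-- an element of order three with small commutator normalizes each component -/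
theorem LS.mem_norm_three (h : LS L) (t : Syl 2 T L) (d : JC J[2, T] D) (l : D ≤ L) {x : G}
    (hx : x ∈ L) (o3 : orderOf x = 3) (cW : o[W] = 4) (c : ∀ v ∈ VL[L], ⁅v, x⁆ ∈ W) :
    x ∈ N[D] := by
  classical
  by_contra n
  have x3 : x * x * x = 1 := by rw [← pow_three', ← o3, pow_orderOf_eq_one]
  have n2 : x * x ∉ N[D] := fun m => n (by
    rw [eq_inv_of_mul_eq_one_right x3]; exact inv_mem m)
  have dx : ∀ g ∈ L, g ∉ N[D] → D ≤ C[(wOf D).map (cj g)] := fun g hg m => by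
    rw [← wOf_map_cj]
    exact (h.dich t (h.map_cj t d l hg) (map_cj_le_of_mem l hg) d l).resolve_left fun e =>
      m (map_cj_eq_iff.1 e)
  have WV := h.wOf_le t d l
  have ab : Ab[VL[L]] := elem_OZ.1
  have z : ∀ w ∈ wOf D, w ∈ C[D] → w = 1 := fun w hw m => mem_bot.1 (d.wOf_facts.2.le ⟨hw, m⟩)
  have c1 := le_centralizer_iff.1 (dx x hx n)
  have c2 := le_centralizer_iff.1 (dx _ (mul_mem hx hx) n2)
  let f : wOf D → W := fun w => ⟨⁅(w : G), x⁆, c _ (WV w.2)⟩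
  have inj : Injective f := fun a b e => by
    have e : ⁅(a : G), x⁆ = ⁅(b : G), x⁆ := congrArg Subtype.val e
    have : (b : G)⁻¹ * a = x * ((b : G)⁻¹ * a) * x⁻¹ := by
      simp only [commutatorElement_def] at e
      calc (b : G)⁻¹ * a = (b : G)⁻¹ * (a * x * (a : G)⁻¹ * x⁻¹) * (x * a * x⁻¹) := by group
        _ = _ := by rw [e]; group
    have m := mul_mem (inv_mem b.2) a.2
    exact Subtype.ext (inv_mul_eq_one.1 (z _ m (this ▸ c1 (conj_mem_map_cj m)))).symm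
  obtain ⟨u, hu, u1⟩ := exists_ne_one d.W_ne
  have bij := (Nat.bijective_iff_injective_and_card f).2 ⟨inj, d.cW.trans cW.symm⟩
  obtain ⟨w, e⟩ := bij.2 ⟨⁅x * u * x⁻¹, x⁆, c _ (conj_mem_of_norm (nVL hx) (WV hu))⟩
  have e : ⁅(w : G), x⁆ = ⁅x * u * x⁻¹, x⁆ := congrArg Subtype.val e
  have w1 : (w : G) = 1 := z _ w.2 (by
    have : (w : G) = (x * u * x⁻¹) * (x * x * u⁻¹ * (x * x)⁻¹) * (x * w * x⁻¹) := by
      simp only [commutatorElement_def] at e
      calc (w : G) = (w * x * (w : G)⁻¹ * x⁻¹) * (x * w * x⁻¹) := by group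
        _ = _ := by rw [e]; group
    rw [this]
    exact mul_mem (mul_mem (c1 (conj_mem_map_cj hu)) (c2 (conj_mem_map_cj (inv_mem hu))))
      (c1 (conj_mem_map_cj w.2)))
  rw [w1, commutatorElement_one_left, eq_comm, commutatorElement_eq_one_iff_mul_comm] at e
  have : u = x * u * x⁻¹ := by
    calc u = x⁻¹ * (x * u * x⁻¹ * x) := by group
      _ = _ := by rw [e]; group
  exact u1 (z _ hu (this ▸ c1 (conj_mem_map_cj hu)))

theorem ZN.J_le_norm (h : ZN G) (t : Syl 2 T L) (c : C[O2[L]] ≤ O2[L]) (k : K3 K) (c4 : o[wOf K] = 4)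
    (nc : ¬ K ≤ C[wOf K]) (l : K ≤ L) (s : CfsgH9.Sn K (K ⊔ J[2, T])) : J[2, T] ≤ N[wOf K] := by
  have nK := core_le_norm_of_sn s k.res
  have pJ : PG[2, J[2, T]] := t.pg.to_le J_le
  by_cases n : K ≤ N[J[2, T]]
  · exact (le_pCoreOf le_sup_right (sup_le n le_normalizer) pJ).trans (nK.trans norm_le_norm_wOf)
  have lH : K ⊔ J[2, T] ≤ L := sup_le l (J_le.trans t.le)
  obtain ⟨L1, e1⟩ : ∃ L1, L1 = (K ⊔ J[2, T]) ⊔ O2[L] := ⟨_, rfl⟩
  have l0 : K ⊔ J[2, T] ≤ L1 := e1 ▸ le_sup_left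
  have l1 : L1 ≤ L := e1 ▸ sup_le lH piCoreOf_le
  have c1 : O2[L] ≤ O2[L1] := piCoreOf_le_piCoreOf (e1 ▸ le_sup_right) l1
  have h1 : LS L1 := h.ls ((cent_anti c1).trans (c.trans c1))
  obtain ⟨T1, t1, l2⟩ := exists_syl_ge pJ (le_sup_right.trans l0)
  have eJ := J_eq_of_syl t t1.pg (t1.le.trans l1) l2
  have c2 : O2[K ⊔ J[2, T]] ≤ O2[L1] := by
    refine le_sup_left.trans (le_pCoreOf (sup_le (piCoreOf_le.trans l0) (c1.trans piCoreOf_le))
      ?_ (isPGroup_sup isPGroup_piCoreOf isPGroup_piCoreOf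
        (.inl (piCoreOf_le.trans (lH.trans le_norm_piCoreOf)))))
    rw [e1]
    exact sup_le (le_norm_sup le_norm_piCoreOf (lH.trans le_norm_piCoreOf))
      (le_norm_of_le le_sup_right)
  have KL : K ≤ L1 := le_sup_left.trans l0
  have nV : K ≤ N[VL[L1]] := KL.trans nVL
  have w1 : ⁅VL[L1], K⁆ ≤ wOf K := k.comm_le_wOf elem_OZ nV ((le_pCoreOf ((eJ ▸ h1.V_le_J t1).trans
    le_sup_right) (l0.trans nVL) (elem_pgroup elem_OZ)).trans nK) ((le_core_of_sn
      ((CfsgH9.Sn.of_normal piCoreOf_le le_norm_piCoreOf).trans s) isPGroup_piCoreOf).trans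
      (c2.trans le_cent_OZ))
  have w2 : ⁅VL[L1], K⁆ = wOf K := (k.four c4 le_norm_wOf nc w1 le_norm_comm_right).resolve_left
    fun e => n (eJ ▸ (le_inf KL (le_centralizer_iff.1 (comm_eq_bot_iff.1 e))).trans
      (h1.C_le_norm_J t1))
  have JL : J[2, T] ≤ J[2, L1] := eJ ▸ J_syl_le t1
  by_cases a : ∀ E, AC 2 VL[L1] L1 E → K ≤ C[⁅VL[L1], E⁆]
  · have a2 : ⁅K, J[2, L1]⁆ ≤ C[VL[L1]] := h1.af.le_cent ((comm_le_right (KL.trans
      le_norm_J)).trans le_sup_left) fun E c => (commutator_mono (a E c) le_rfl).trans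
        (comm_le_left (le_norm_cent (le_norm_commutator (J_le.trans nVL)
          (le_sup_left.trans (c.norm h1.af)))))
    have : wOf K = ⁅VL[L1], K ⊔ L1 ⊓ C[VL[L1]]⁆ := by
      rw [comm_sup_right_ab elem_OZ.1 nV (inf_le_left.trans nVL), w2,
        comm_eq_bot_iff.2 (le_centralizer_iff.1 inf_le_right), sup_bot_eq]
    rw [this]
    refine JL.trans (le_norm_commutator (J_le.trans nVL) (le_norm_of_comm_le
      (K := K ⊔ L1 ⊓ C[VL[L1]]) (comm_sup_le (le_norm_of_le le_sup_left)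
        (le_norm_of_le le_sup_right) ?_ ?_) le_rfl))
    · exact (le_inf (comm_le_norm KL J_le) a2).trans le_sup_right
    · exact (comm_le_left (J_le.trans nCL)).trans le_sup_right
  push Not at a
  obtain ⟨E, c, a⟩ := a
  have d := h1.jc c t1
  have dl := (LS.KE_le c).trans c.le
  rw [← h1.wOf_KE c t1] at a
  have nD : K ≤ N[wOf KE[E]] := (k.le_of_ord fun x hx o => h1.mem_norm_three t1 d dl (KL hx) o c4
    fun v hv => w1 (commutator_mem_commutator hv hx)).trans norm_le_norm_wOf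
  have e : wOf KE[E] = wOf K := eq_of_le_of_card_le ((k.four_comm d.cW nD a).ge.trans
    ((commutator_mono (h1.wOf_le t1 d dl) le_rfl).trans w1)) (c4.trans d.cW.symm).le
  rw [← e, ← eJ]
  exact d.nJ.trans norm_le_norm_wOf

namespace JC
variable (k : JC J K) (pJ : PG[2, J])
include k pJ

theorem ex : ∃ S, Syl 2 S (K ⊔ J) ∧ J ≤ S ∧ J[2, S] = J ∧ O2[K] ≤ S := by
  obtain ⟨S, s, l⟩ := exists_syl_ge pJ (le_sup_right : J ≤ K ⊔ J)
  exact ⟨S, s, l, k.syl S s l, (piCoreOf_le_of_norm le_sup_left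
    (sup_le le_normalizer k.nJ)).trans s.pCoreOf_le⟩

theorem gen (l : J ≤ X) (n : ¬ X ⊓ K ≤ O2[K]) : K ≤ X := by
  obtain ⟨S, -, -, e, l2⟩ := k.ex pJ
  refine k.comm.ge.trans (commutator_le.2 fun y hy j hj => ?_)
  rw [← k.sup_eq inf_le_right n, sup_comm] at hy
  obtain ⟨x, hx, q, hq, rfl⟩ := (mem_sup_of_norm (inf_le_right.trans le_norm_piCoreOf)).1 hy
  rw [commutator_mul_left']
  exact mul_mem (mul_mem (mul_mem hx.1 (l (comm_le_right (l2.trans (e ▸ le_norm_J))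
    (commutator_mem_commutator hq hj)))) (inv_mem hx.1))
    (comm_le_norm le_rfl l (commutator_mem_commutator hx.1 hj))

theorem pg_cent : PG[2, (K ⊔ J) ⊓ C[wOf K]] := by
  have l : R2[(K ⊔ J) ⊓ C[wOf K]] ≤ K ⊓ C[wOf K] := le_inf ((piRes_mono inf_le_left).trans
    ((piRes_sup_le k.nJ pJ).trans piRes_le)) (piRes_le.trans inf_le_right)
  exact isPGroup_of_piRes (isPGroup_piCoreOf.to_le (l.trans ((k.norm_cases inf_le_left
    (le_norm_inf le_normalizer (le_norm_cent le_norm_wOf))).resolve_right fun e =>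
      k.not_cent (e.ge.trans inf_le_right))))

omit pJ in
theorem J_not_cent : ¬ J ≤ C[wOf K] := fun c => k.not_cent (k.comm.ge.trans
  (comm_le_cent_of_norm le_norm_wOf c))

/-- The structure of `Ω₁(Z(J))`. -/
theorem OZ : o[ΩZ[J] ⊓ wOf K] = 2 ∧ (ΩZ[J] ⊓ C[K]) ⊔ (ΩZ[J] ⊓ wOf K) = ΩZ[J] := by
  obtain ⟨S, s, -, rfl, l2⟩ := k.ex pJ
  obtain ⟨A, a, n⟩ : ∃ A, ME 2 S A ∧ ¬ A ≤ C[wOf K] := by
    by_contra! c; exact k.J_not_cent (J_le_iff.2 c)
  have nH : K ⊔ J[2, S] ≤ N[wOf K] := (sup_le le_normalizer k.nJ).trans norm_le_norm_wOf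
  have pW := elem_pgroup (elem_wOf (K := K))
  have WS := wOf_le_core.trans l2
  have half : ∀ X, ¬ X ≤ C[wOf K] → o[wOf K ⊓ C[X]] ≤ 2 := fun X n => by
    have := mul_card_dvd_of_lt pW (inf_lt_left.2 (mt le_centralizer_iff.1 n))
    rw [k.cW] at this
    have := Nat.le_of_dvd (by omega) this
    omega
  have iA : C[wOf K].relIndex A ≤ 2 := Nat.le_of_dvd (by omega) (relIndex_cent_dvd_of_card_sq
    (elem_pgroup a.el) (a.le.trans (s.le.trans nH)) (by rw [k.cW]; decide))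
  have b : ME 2 S (A ⊓ C[wOf K] ⊔ wOf K) := by
    refine a.of_card (sup_le (inf_le_left.trans a.le) WS) (elem_sup (elem_of_le a.el inf_le_left)
      elem_wOf inf_le_right) ?_
    have e1 := card_sup_mul_card_inf (le_norm_of_le_cent (inf_le_right : A ⊓ C[wOf K] ≤ _))
    have e2 := card_inf_mul_relIndex C[wOf K] A
    have e3 : o[A ⊓ C[wOf K] ⊓ wOf K] ≤ 2 := (card_le_of_le (le_inf inf_le_right
      ((inf_le_left.trans inf_le_left).trans (le_cent_self a.ab)))).trans (half A n)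
    rw [inf_comm] at e2
    rw [k.cW] at e1
    nlinarith
  have CS : (K ⊔ J[2, S]) ⊓ C[wOf K] ≤ S := s.le_of_norm (k.pg_cent pJ) inf_le_left
    (le_norm_inf (le_norm_of_le s.le) (le_norm_cent (s.le.trans nH)))
  obtain ⟨x, hx, y, hy, n4⟩ : ∃ x ∈ K, ∃ y ∈ A, ⁅x, y⁆ ∉ O2[K] := by
    by_contra! c
    have c := commutator_le.2 c
    refine n (le_centralizer_iff.1 (((k.four k.cW le_norm_wOf k.not_cent inf_le_left
      (K3.norm_inf_cent c)).resolve_left (inf_cent_ne_bot' (elem_pgroup a.el) pW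
        (a.le.trans (s.le.trans nH)) k.W_ne)).ge.trans inf_le_right))
  have b2 : ME 2 S ((A ⊓ C[wOf K] ⊔ wOf K).map (cj x)) := b.of_card (le_trans (map_cj_le_of_norm
    (le_inf (b.le.trans s.le) (sup_le inf_le_right (le_cent_self elem_wOf.1)))
    (le_norm_inf (le_norm_of_le le_sup_left) (le_norm_cent le_norm_wOf) hx)) CS)
    (elem_map _ b.el) (card_map_cj _ _).ge
  have i2 : C[A.map (cj x)].relIndex ΩZ[J[2, S]] ≤ 2 := by
    refine (relIndex_le_of_le_right (omega_ZJ_le b2) (relIndex_pos _ _).ne').trans ?_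
    rw [centralizer_map_cj, relIndex_map_cj]
    refine (relIndex_le_of_le_left (inf_le_left.trans (le_cent_self a.ab) : A ⊓ C[wOf K] ≤ _)
      (relIndex_pos _ _).ne').trans ?_
    have e1 := card_mul_relIndex (le_sup_left : A ⊓ C[wOf K] ≤ A ⊓ C[wOf K] ⊔ wOf K)
    have e2 := card_inf_mul_relIndex C[wOf K] A
    rw [inf_comm, ← b.card_eq a, ← e1] at e2
    rw [← Nat.eq_of_mul_eq_mul_left (card_pos' _) e2]; exact iA
  have cK : ΩZ[J[2, S]] ⊓ C[A.map (cj x)] ≤ C[K] := le_centralizer_iff.1 (k.gen pJ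
    (le_cent_OZ.trans (cent_anti inf_le_left)) fun l => n4 (l ⟨by
      rw [commutatorElement_def]
      exact mul_mem (le_centralizer_iff.1 inf_le_right (conj_mem_map_cj hy))
        (le_cent_OZ.trans (cent_anti inf_le_left) (inv_mem (a.le_J hy))),
      comm_le_left (a.le_J.trans k.nJ) (commutator_mem_commutator hx hy)⟩))
  have eW : ΩZ[J[2, S]] ⊓ wOf K = wOf K ⊓ C[J[2, S]] := le_antisymm (le_inf inf_le_right
    (inf_le_left.trans OZ_le_cent)) (le_inf (le_OZ (elem_of_le elem_wOf inf_le_left)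
      (inf_le_left.trans (le_sup_right.trans b.le_J)) inf_le_right) inf_le_left)
  have n0 : wOf K ⊓ C[J[2, S]] ≠ ⊥ := inf_cent_ne_bot' pJ pW (le_sup_right.trans nH) k.W_ne
  refine ⟨?_, le_antisymm (sup_le inf_le_left inf_le_left) ?_⟩
  · have := half _ k.J_not_cent
    have h2 := mt card_eq_one.1 n0
    have := card_pos' (wOf K ⊓ C[J[2, S]])
    rw [eW]; omega
  have n5 : ¬ ΩZ[J[2, S]] ⊓ wOf K ≤ ΩZ[J[2, S]] ⊓ C[A.map (cj x)] := fun l =>
    n0 (eW ▸ le_bot_iff.1 ((le_inf inf_le_right (l.trans cK)).trans k.wOf_facts.2.le))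
  have i3 : (ΩZ[J[2, S]] ⊓ C[A.map (cj x)]).relIndex ΩZ[J[2, S]] = 2 := by
    have := relIndex_pos C[A.map (cj x)] ΩZ[J[2, S]]
    have h1 : C[A.map (cj x)].relIndex ΩZ[J[2, S]] ≠ 1 := fun e =>
      n5 (le_inf inf_le_left (inf_le_left.trans (relIndex_eq_one.1 e)))
    rw [inf_comm, inf_relIndex_right]; omega
  refine ((eq_or_eq_of_relIndex_prime (by rw [i3]; exact Nat.prime_two) le_sup_left
    (sup_le inf_le_left inf_le_left)).resolve_left fun e => n5 (le_sup_right.trans e.le)).ge.trans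
    (sup_le_sup_right (le_inf inf_le_left cK) _)

end JC

end CfsgH2
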