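import Cfsg.Agent.H2.ZN4

/-! `ZN`-groups of local characteristic two: the maximal straddling subgroups. -/

set_option autoImplicit false
namespace CfsgH2
open Subgroup Function Cfsg CfsgL0 CfsgBG
open scoped commutatorElement

variable {G : Type*} [Group G] [Finite G] {A B D E H J K L M P Q R S T U V W X Y : Subgroup G}

theorem mea_eq (a : ME 2 T A) : maxElemAbelianOrder T = o[A] := by
  have : (fun B : Subgroup T => Nat.card B) '' maxElementaryAbelianSubgroups 2 T = {o[A]} := by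
    ext n
    constructor
    · rintro ⟨B, b, rfl⟩
      exact (card_map_of_injective T.subtype_injective).symm.trans ((ME_sub.1 b).card_eq a)
    · rintro rfl
      exact ⟨A.subgroupOf T, ME_sub.2 (by rwa [map_subgroupOf_eq_of_le a.le]), card_subgroupOf a.le⟩
  rw [maxElemAbelianOrder, this, csSup_singleton]

theorem le_of_norm_le {p : ℕ} [Fact p.Prime] (pP : PG[p, P]) (h : P ⊓ N[P ⊓ M] ≤ M) : P ≤ M := by
  by_contra n
  exact (lt_inf_norm (nil_of_pg pP) (inf_lt_left.2 n)).not_ge (le_inf inf_le_left h)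

theorem le_norm_sSup {s : Set (Subgroup G)} (h : ∀ D ∈ s, ∀ g ∈ X, D.map (cj g) ≤ sSup s) :
    X ≤ N[sSup s] := fun g hg =>
  mem_norm_of_map_le (map_cj_le_iff.2 (sSup_le fun D d => map_cj_le_iff.1 (h D d g hg)))

theorem mem_four (c : o[W] = 4) {x y u : G} (hx : x ∈ W) (hy : y ∈ W) (hu : u ∈ W) (x1 : x ≠ 1)
    (y1 : y ≠ 1) (n : x ≠ y) (x2 : x * x = 1) : u = 1 ∨ u = x ∨ u = y ∨ u = x * y := by
  classical
  by_contra! k
  have h1 : x * y ≠ 1 := fun e => n (mul_left_cancel (x2.trans e.symm))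
  have : ({u, 1, x, y, x * y} : Finset G).card ≤ 4 := by
    rw [← c, ← Set.ncard_coe_finset]
    refine Set.ncard_le_ncard (t := (W : Set G)) ?_
    simp [Set.insert_subset_iff, hx, hy, hu, one_mem, mul_mem]
  rw [Finset.card_insert_of_notMem (by simp [k]), Finset.card_insert_of_notMem
    (by simp [x1.symm, y1.symm, h1.symm]), Finset.card_insert_of_notMem (by simp [n, y1]),
    Finset.card_pair (by simp [x1])] at this
  omega

theorem se_iff_st (o : O2[(⊤ : Subgroup G)] = ⊥) (l : IsTwoLocal M) :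
    IsStronglyEmbedded M ↔ straddlingTwoSubgroups M = ∅ := by
  rw [se_iff_norm (fun e => loc_core l (by rw [e]; exact o)) ((dvd_card_of_pgroup isPGroup_piCoreOf
    (loc_core l)).trans (card_dvd_of_le piCoreOf_le)), Set.eq_empty_iff_forall_notMem]
  refine ⟨?_, fun h X lX pX x0 => by_contra fun n => h X ⟨pX, x0, lX, _, loc pX x0,
    le_normalizer, n⟩⟩
  rintro h T ⟨pT, t0, lT, _, ⟨Q, pQ, q0, rfl⟩, l2, n⟩
  have p2 := isPGroup_sup pT pQ (.inl l2)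
  exact n (h Q (le_sup_right.trans (le_of_norm_le p2 (inf_le_right.trans (h _ inf_le_right
    (p2.to_le inf_le_left) fun e => t0 (le_bot_iff.1 (e ▸ le_inf le_sup_left lT)))))) pQ q0)

theorem exists_mst (h : T ∈ straddlingTwoSubgroups M) : ∃ T, T ∈ maxStraddlingTwoSubgroups M := by
  obtain ⟨T1, a1, m1⟩ := Set.exists_max_image (straddlingTwoSubgroups M) maxElemAbelianOrder
    (Set.toFinite _) ⟨T, h⟩
  obtain ⟨T2, ⟨a2, e2⟩, m2⟩ := Set.exists_max_image {T ∈ straddlingTwoSubgroups M |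
    maxElemAbelianOrder T = maxElemAbelianOrder T1} (fun T => o[J[2, T]]) (Set.toFinite _)
    ⟨T1, a1, rfl⟩
  obtain ⟨T3, ⟨a3, e3, f3⟩, m3⟩ := Set.exists_max_image {T ∈ straddlingTwoSubgroups M |
    maxElemAbelianOrder T = maxElemAbelianOrder T1 ∧ o[J[2, T]] = o[J[2, T2]]} (fun T => o[T])
    (Set.toFinite _) ⟨T2, a2, e2, rfl⟩
  exact ⟨T3, a3, fun T t => ⟨e3 ▸ m1 T t, fun e => ⟨f3 ▸ m2 T ⟨t, e.trans e3⟩, fun f =>
    m3 T ⟨t, e.trans e3, f.trans f3⟩⟩⟩⟩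

/-- `T` is a maximal straddling subgroup for `M`. -/
structure Cx (M T : Subgroup G) : Prop where
  zn : ZN G
  ex : ∃ S, Syl 2 S ⊤ ∧ T ≤ S ∧ N[J[2, S]] ≤ M
  st : T ∈ straddlingTwoSubgroups M
  mx : ∀ T' ∈ straddlingTwoSubgroups M, J[2, T] ≤ T' → J[2, T'] = J[2, T] ∧ o[T'] ≤ o[T]

theorem cx_of (h : ZN G) (s : Syl 2 S ⊤) (n : N[J[2, S]] ≤ M)
    (t : T ∈ maxStraddlingTwoSubgroups M) : Cx M T := by
  refine ⟨h, ?_, t.1, fun T' t' l => ?_⟩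
  · obtain ⟨g, hg, l⟩ := (s.mono (le_norm_J.trans n) le_top).exists_le_conj t.1.1 t.1.2.2.1
    exact ⟨_, s.map_cj_mem (mem_top g), l, by
      rw [J_map_cj, normalizer_map_cj]; exact map_cj_le_of_mem n hg⟩
  obtain ⟨A, a⟩ := exists_ME 2 T
  obtain ⟨B, b⟩ := exists_ME 2 T'
  obtain ⟨m1, m2⟩ := t.2 T' t'
  rw [mea_eq a, mea_eq b] at m1 m2
  obtain ⟨m3, m4⟩ := m2 (le_antisymm m1 (b.max (a.le_J.trans l) a.el))
  have e := eq_of_le_of_card_le (J_le_iff.2 fun C c => (b.of_card (c.le_J.trans l) c.el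
    (m1.trans (a.card_eq c).le)).le_J) m3
  exact ⟨e.symm, m4 (by rw [e])⟩

theorem cx_syl (h : ZN G) (s : Syl 2 S ⊤) (n : N[J[2, S]] ≤ M) (t : S ∈ straddlingTwoSubgroups M) :
    Cx M S := ⟨h, ⟨S, s, le_rfl, n⟩, t, fun _ t' l => ⟨J_eq_of_syl s t'.1 le_top l,
      s.card_le t'.1 le_top⟩⟩

/-- The subgroup generated by the `J`-components of `L`. -/
def XJ (J L : Subgroup G) : Subgroup G := sSup {D | JC J D ∧ D ≤ L}

omit [Finite G] in
theorem XJ_le : XJ J L ≤ L := sSup_le fun _ d => d.2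
omit [Finite G] in
theorem le_XJ (k : JC J K) (l : K ≤ L) : K ≤ XJ J L := le_sSup ⟨k, l⟩
omit [Finite G] in
theorem XJ_mono (l : XJ J L ≤ M) : XJ J L ≤ XJ J M :=
  sSup_le fun _ d => le_XJ d.1 ((le_XJ d.1 d.2).trans l)
theorem LS.XJ_le_norm (h : LS L) (t : Syl 2 T L) (k : JC J[2, T] K) (l : K ≤ L) :
    XJ J[2, T] L ≤ N[K] :=
  sSup_le fun _ d => (LS.leJ t d.1 d.2).trans (le_sup_left.trans (h.norm t k l))
theorem LS.norm_XJ (h : LS L) (t : Syl 2 T L) : L ≤ N[XJ J[2, T] L] :=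
  le_norm_sSup fun _ d _ hg => le_XJ (h.map_cj t d.1 d.2 hg) (map_cj_le_of_mem d.2 hg)

namespace Cx
variable (c : Cx M T)
include c

omit [Finite G] in
theorem pg : PG[2, T] := c.st.1
omit [Finite G] in
theorem pJ : PG[2, J[2, T]] := c.pg.to_le J_le
theorem J_ne : J[2, T] ≠ ⊥ := J_ne_bot dvd_rfl c.pg c.st.2.1

theorem normJ : N[J[2, T]] ≤ M := by
  by_contra n
  obtain ⟨S, s, l, n2⟩ := c.ex
  have l1 : S ⊓ N[J[2, T]] ≤ M := inf_le_left.trans (le_norm_J.trans n2)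
  have l2 : T ≤ S ⊓ N[J[2, T]] := le_inf l le_norm_J
  have e := eq_of_le_of_card_le l2 (c.mx _ ⟨s.pg.to_le inf_le_left, fun e => c.st.2.1
    (le_bot_iff.1 (e ▸ l2)), l1, _, loc c.pJ c.J_ne, inf_le_right, n⟩ (J_le.trans l2)).2
  have : S ≤ T := le_of_norm_le s.pg (by
    rw [inf_eq_right.2 l]; exact (inf_le_inf_left _ norm_le_norm_J).trans e.ge)
  exact n (le_antisymm l this ▸ n2)

theorem of_pg (l : IsTwoLocal L) (n : ¬ L ≤ M) (pS : PG[2, S]) (lS : S ≤ L) (lJ : J[2, T] ≤ S) :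
    S ∈ straddlingTwoSubgroups M ∧ J[2, S] = J[2, T] ∧ o[S] ≤ o[T] := by
  have l1 : J[2, T] ≤ S ⊓ M := le_inf lJ (J_le.trans c.st.2.2.1)
  have a : S ⊓ M ∈ straddlingTwoSubgroups M := ⟨pS.to_le inf_le_left, fun e => c.J_ne
    (le_bot_iff.1 (e ▸ l1)), inf_le_right, L, l, inf_le_left.trans lS, n⟩
  have b := c.mx _ a l1
  have : S ≤ M := le_of_norm_le pS (inf_le_right.trans (norm_le_norm_J.trans (b.1 ▸ c.normJ)))
  rw [inf_eq_left.2 this] at a b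
  exact ⟨a, b⟩

theorem exists_syl (l : IsTwoLocal L) (n : ¬ L ≤ M) (lJ : J[2, T] ≤ L) :
    ∃ S, Syl 2 S L ∧ J[2, S] = J[2, T] := by
  obtain ⟨S, s, l2⟩ := exists_syl_ge c.pJ lJ
  exact ⟨S, s, (c.of_pg l n s.pg s.le l2).2.1⟩

theorem syl (l : IsTwoLocal L) (n : ¬ L ≤ M) (lT : T ≤ L) : Syl 2 T L := by
  obtain ⟨S, s, l2⟩ := exists_syl_ge c.pg lT
  exact eq_of_le_of_card_le l2 (c.of_pg l n s.pg s.le (J_le.trans l2)).2.2 ▸ s

theorem not_le (n : ¬ L ≤ M) (s : Syl 2 S L) (e : J[2, S] = J[2, T]) : ¬ J[2, S] ≤ O2[L] := fun l =>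
  n (le_trans (by
    rw [← e, ← J_eq_of_le l s.pCoreOf_le]; exact le_norm_piCoreOf.trans norm_le_norm_J) c.normJ)

theorem j0 (k : JC J[2, T] K) (n : ¬ K ≤ M) : J0 J[2, T] K :=
  ⟨k, fun _ l s => (c.of_pg k.loc (fun e => n (le_norm_wOf.trans e)) s.pg s.le l).2.1⟩

theorem exists_jc (l : IsTwoLocal L) (n : ¬ L ≤ M) (lT : T ≤ L) :
    ∃ K, JC J[2, T] K ∧ K ≤ L ∧ ¬ K ≤ M ∧ O2[K ⊔ T] ≠ ⊥ := by
  have t := c.syl l n lT
  by_contra! a
  refine n ((c.zn.ls' l).gen t (fun K k l2 => by_contra fun m => loc_core l (le_bot_iff.1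
    (a K k l2 m ▸ piCoreOf_le_piCoreOf (t.pCoreOf_le.trans le_sup_right) (sup_le l2 lT))))
    (inf_le_right.trans c.normJ))

variable (k : JC J[2, T] K) (n : ¬ K ≤ M)
include k n

theorem mloc_eq (m : IsMaximalTwoLocal L) (l : K ⊔ J[2, T] ≤ L) :
    L = N[O2[XJ J[2, T] N[wOf K]]] := by
  have lK := le_sup_left.trans l
  obtain ⟨S, s, e⟩ := c.exists_syl m.1 (fun e => n (lK.trans e)) (le_sup_right.trans l)
  obtain ⟨S0, s0, e0⟩ := c.exists_syl k.loc (fun e => n (le_norm_wOf.trans e))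
    (k.nJ.trans norm_le_norm_wOf)
  have h := c.zn.ls' m.1
  have h0 := c.zn.ls' k.loc
  have a : XJ J[2, T] L ≤ N[K] := e ▸ h.XJ_le_norm s (e ▸ k) lK
  have b : N[O2[XJ J[2, T] L]] = L := mloc_norm m isPGroup_piCoreOf (fun z => k.W_ne (le_bot_iff.1
    (z ▸ wOf_le_core.trans (piCoreOf_le_of_norm (le_XJ k lK) a))))
    ((e ▸ h.norm_XJ s).trans norm_le_norm_piCoreOf)
  have d : XJ J[2, T] N[wOf K] ≤ N[XJ J[2, T] L] := le_norm_sSup fun D d g hg => by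
    rw [map_cj_eq (h0.XJ_le_norm s0 (e0 ▸ d.1) ((le_XJ d.1 d.2).trans (a.trans norm_le_norm_wOf))
      (e0 ▸ hg))]
    exact le_sSup d
  rw [le_antisymm (XJ_mono (d.trans (norm_le_norm_piCoreOf.trans b.le)))
    (XJ_mono (a.trans norm_le_norm_wOf)), b]

theorem uniq (m : IsMaximalTwoLocal L) (l : K ⊔ J[2, T] ≤ L) (m2 : IsMaximalTwoLocal H)
    (l2 : K ⊔ J[2, T] ≤ H) : H = L := (c.mloc_eq k n m2 l2).trans (c.mloc_eq k n m l).symm

theorem T_le (o : O2[K ⊔ T] ≠ ⊥) (m : IsMaximalTwoLocal L) (l : K ⊔ J[2, T] ≤ L) : T ≤ L := by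
  obtain ⟨H, m2, l2⟩ := exists_mloc o
  exact c.uniq k n m l m2 ((sup_le_sup_left J_le _).trans l2) ▸ le_sup_right.trans l2

variable (m : IsMaximalTwoLocal L) (l : K ≤ L) (lT : T ≤ L)
include m l lT

theorem syl' : Syl 2 T L := c.syl m.1 (fun e => n (l.trans e)) lT

theorem norm_le (lX : X ≤ ΩZ[J[2, T]] ⊓ C[K]) (x0 : X ≠ ⊥) : N[X] ≤ L := by
  obtain ⟨H, m2, l2⟩ := exists_mloc' ((elem_pgroup elem_OZ).to_le (lX.trans inf_le_left)) x0
  exact c.uniq k n m (sup_le l (J_le.trans lT)) m2 ((sup_le (le_centralizer_iff.1 (lX.trans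
    inf_le_right)) (le_cent_OZ.trans (cent_anti (lX.trans inf_le_left)))).trans
    ((cent_le_norm _).trans l2)) ▸ l2

theorem cent1_le {x : G} (hx : x ∈ ΩZ[J[2, T]] ⊓ C[K]) (x1 : x ≠ 1) : C1[x] ≤ L :=
  (cent_zpowers x).ge.trans ((cent_le_norm _).trans (c.norm_le k n m l lT (zpowers_le.2 hx)
    (mt zpowers_eq_bot.1 x1)))

theorem Z_le (pS : PG[2, S]) (lS : T ≤ S) : ΩZ[S] ≤ ΩZ[T] := by
  have t := c.syl' k n m l lT
  exact le_OZ elem_OZ ((OZ_le_cent.trans (cent_anti (t.pCoreOf_le.trans lS))).trans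
    ((c.zn.con m.1).trans t.pCoreOf_le)) (OZ_le_cent.trans (cent_anti lS))

theorem not_conj : ∀ g ∈ N[J[2, T]], g ∉ L → ¬ K.map (cj g) ≤ L := fun g hg gL e => by
  have k2 := k.map_cj g
  rw [map_cj_eq hg] at k2
  refine gL (mloc_self m (map_cj_eq_iff.1 (c.uniq k2 (fun e => n ?_) m (sup_le e (J_le.trans lT))
    (mloc_map_cj m g) (sup_le (map_mono l) ?_))))
  · exact (map_cj_le_iff.1 e).trans (map_cj_of_mem (inv_mem (c.normJ hg))).le
  · exact (map_cj_eq hg).ge.trans (map_mono (J_le.trans lT))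

end Cx

theorem JC.card_OZ (k : JC J K) (pJ : PG[2, J]) : o[ΩZ[J] ⊓ C[K]] * 2 = o[ΩZ[J]] := by
  obtain ⟨a, b⟩ := k.OZ pJ
  have := card_sup_of_disj (H := ΩZ[J] ⊓ C[K]) (K := ΩZ[J] ⊓ wOf K) (.inl (le_norm_of_le_cent
    (inf_le_left.trans (le_cent_of_comm elem_OZ.1 inf_le_left)))) (le_bot_iff.1 ((le_inf
      (inf_le_right.trans inf_le_right) (inf_le_left.trans inf_le_right)).trans k.wOf_facts.2.le))
  rw [b, a] at this; exact this.symm

theorem sq_OZ {x : G} (h : x ∈ ΩZ[X]) : x * x = 1 := by rw [← pow_two]; exact elem_OZ.2 x h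

namespace Cx
variable (c : Cx M T) (k : JC J[2, T] K) (n : ¬ K ≤ M) (m : IsMaximalTwoLocal L) (l : K ≤ L)
  (lT : T ≤ L)
include c k n m l lT

theorem key (d : JC J[2, T] D) (nD : ¬ D ≤ L) (z : ΩZ[J[2, T]] ⊓ C[K] ≠ ⊥) :
    o[ΩZ[J[2, T]]] = 4 ∧ T ≤ C[ΩZ[J[2, T]]] := by
  have e0 : (ΩZ[J[2, T]] ⊓ C[K]) ⊓ (ΩZ[J[2, T]] ⊓ C[D]) = ⊥ := by_contra fun e => nD
    ((le_centralizer_iff.1 (inf_le_right.trans inf_le_right)).trans ((cent_le_norm _).trans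
      (c.norm_le k n m l lT inf_le_left e)))
  have e1 := k.card_OZ c.pJ
  have e2 := d.card_OZ c.pJ
  have e3 := card_le_of_le (sup_le inf_le_left inf_le_left :
    (ΩZ[J[2, T]] ⊓ C[K]) ⊔ (ΩZ[J[2, T]] ⊓ C[D]) ≤ _)
  rw [card_sup_of_disj (.inl (le_norm_of_le_cent (inf_le_left.trans
    (le_cent_of_comm elem_OZ.1 inf_le_left)))) e0] at e3
  have e4 := mt card_eq_one.1 z
  have e5 := card_pos' (ΩZ[J[2, T]] ⊓ C[K])
  have e6 : o[ΩZ[J[2, T]] ⊓ C[K]] = 2 := by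
    rw [show o[ΩZ[J[2, T]] ⊓ C[D]] = o[ΩZ[J[2, T]] ⊓ C[K]] by omega, ← e1] at e3
    have := Nat.le_of_mul_le_mul_left e3 e5
    omega
  have c4 : o[ΩZ[J[2, T]]] = 4 := by omega
  refine ⟨c4, fun t ht => ?_⟩
  obtain ⟨S, s, lS, -⟩ := c.ex
  obtain ⟨x, hx, x1⟩ := exists_ne_one z
  obtain ⟨y, hy, y1⟩ := exists_ne_one (H := ΩZ[J[2, T]] ⊓ C[D])
    fun e => by rw [e, card_bot] at e2; omega
  have xy : x ≠ y := fun e => x1 (mem_bot.1 (e0.le ⟨hx, e ▸ hy⟩))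
  have gen : ∀ u ∈ ΩZ[J[2, T]], ∀ v ∈ ΩZ[J[2, T]], u ≠ 1 → v ≠ 1 → u ≠ v → t ∈ C1[u] → t ∈ C1[v] →
      t ∈ C[ΩZ[J[2, T]]] := fun u hu v hv u1 v1 uv a b => mem_cent_iff.2 fun w hw => by
    have : w ∈ C1[t] := by
      have a := le_cent1_iff.1 (zpowers_le.2 a)
      have b := le_cent1_iff.1 (zpowers_le.2 b)
      rw [cent_zpowers] at a b
      rcases mem_four c4 hu hv hw u1 v1 uv (sq_OZ hu) with rfl | rfl | rfl | rfl
      exacts [one_mem _, a, b, mul_mem a b]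
    exact (mem_centralizer_singleton_iff.1 this)
  have lZ := c.Z_le k n m l lT s.pg lS
  have nZ : ∀ E, JC J[2, T] E → ¬ ΩZ[S] ≤ C[E] := fun E e a =>
    e.not_norm s.pg (J_le.trans lS) ((le_centralizer_iff.1 a).trans (c.zn.z' s))
  have tZ : ∀ u ∈ ΩZ[S], t ∈ C1[u] := fun u hu => cent_le_cent1 hu (le_cent_OZ (lS ht))
  have Z0 : ∀ u ∈ ΩZ[S], u ∈ ΩZ[J[2, T]] := fun u hu => omega_center_le (lZ hu)
  obtain ⟨u, hu, u1⟩ : ∃ u ∈ ΩZ[S], u ∉ C[K] := SetLike.not_le_iff_exists.1 (nZ K k)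
  obtain ⟨v, hv, v1⟩ : ∃ u ∈ ΩZ[S], u ∉ C[D] := SetLike.not_le_iff_exists.1 (nZ D d)
  have u0 : u ≠ 1 := fun e => u1 (e ▸ one_mem _)
  by_cases uv : u = v
  swap
  · exact gen u (Z0 u hu) v (Z0 v hv) u0 (fun e => v1 (e ▸ one_mem _)) uv (tZ u hu) (tZ v hv)
  subst uv
  have ux : u ≠ x := fun e => u1 (e ▸ hx.2)
  have uy : u ≠ y := fun e => v1 (e ▸ hy.2)
  by_contra a
  have a1 : t ∉ C1[x] := fun b => a (gen u (Z0 u hu) x hx.1 u0 x1 ux (tZ u hu) b)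
  have a2 := mem_centralizer_singleton_iff.1 (tZ u hu)
  have e7 : y = u * x := by
    rcases mem_four c4 (Z0 u hu) hx.1 hy.1 u0 x1 ux (sq_OZ (Z0 u hu)) with e | e | e | e
    exacts [(y1 e).elim, (uy e.symm).elim, (xy e.symm).elim, e]
  have e8 : t * x * t⁻¹ = y := by
    rcases mem_four c4 (Z0 u hu) hx.1 (conj_mem_of_norm (le_norm_omegaOne' (le_norm_J.trans
      norm_le_norm_center) ht) hx.1) u0 x1 ux (sq_OZ (Z0 u hu)) with e | e | e | e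
    · exact (x1 (by simpa using e)).elim
    · refine (ux ?_).elim
      calc u = t⁻¹ * (t * u) := by group
        _ = x := by rw [a2, ← e]; group
    · exact (a1 (mem_centralizer_singleton_iff.2 (mul_inv_eq_iff_eq_mul.1 e))).elim
    · rw [e, e7]
  refine nD ((le_cent1_iff.2 hy.2).trans ?_)
  rw [← e8, centralizer_conj]
  exact map_cj_le_of_mem (c.cent1_le k n m l lT hx x1) (lT ht)

end Cx

end CfsgH2
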