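import Cfsg.Agent.H2.ZN5
import Cfsg.Agent.H2.AM2
import Cfsg.Agent.L0.StrEmb

/-! `ZN`-groups of local characteristic two: the amalgam. -/

set_option autoImplicit false
namespace CfsgH2
open Subgroup Function Cfsg CfsgL0 CfsgBG
open scoped commutatorElement

variable {G : Type*} [Group G] [Finite G]
  {A B D E H J K L M P Q R S T U V W X Y K₁ K₂ L₁ L₂ P₁ P₂ : Subgroup G}

/-- An auxiliary hypothesis, which turns out to hold always. -/
def HH (M T : Subgroup G) : Prop := ∀ L, IsMaximalTwoLocal L → ¬ L ≤ M → N[J[2, T]] ≤ L →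
  ¬ J[2, T] ≤ O2[L] → T ∈ straddlingTwoSubgroups L

omit [Finite G] in
theorem Cx.hh_max (c : Cx M T) (m : IsMaximalTwoLocal M) : HH M T := fun _ l n a _ =>
  ⟨c.pg, c.st.2.1, le_norm_J.trans a, M, m.1, c.st.2.2.1, fun e => n (m.2 _ l.1 e).le⟩

theorem Syl.top_of_norm (t : Syl 2 T L) (n : N[T] ≤ L) : Syl 2 T ⊤ :=
  .of_norm le_top (t.mono (le_inf le_top le_normalizer) (inf_le_right.trans n))

/-- A component with its maximal `2`-local subgroup. -/
structure Pk (T K L : Subgroup G) : Prop where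
  k : JC J[2, T] K
  nT : T ≤ N[K]
  m : IsMaximalTwoLocal L
  l : K ≤ L
  t : Syl 2 T L
  u : ∀ H, IsMaximalTwoLocal H → K ⊔ J[2, T] ≤ H → H = L
  z : T ≤ C[ΩZ[J[2, T]]]

theorem OZ_eq_of (z : T ≤ C[ΩZ[J[2, T]]]) : ΩZ[T] = ΩZ[J[2, T]] :=
  le_antisymm omega_center_le (le_OZ elem_OZ (OZ_le.trans J_le) (le_centralizer_iff.1 z))

namespace Cx
variable (c : Cx M T) (hh : HH M T) (k : JC J[2, T] K) (n : ¬ K ≤ M) (m : IsMaximalTwoLocal L)
  (l : K ≤ L) (lT : T ≤ L)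
include c hh k n m l lT

theorem cx2 (a : N[J[2, T]] ≤ L) : Cx L T :=
  have t := c.syl' k n m l lT
  cx_syl c.zn (t.top_of_norm (norm_le_norm_J.trans a)) a (hh L m (fun e => n (l.trans e)) a
    (c.not_le (fun e => n (l.trans e)) t rfl))

theorem four (z : ΩZ[J[2, T]] ⊓ C[K] ≠ ⊥) : o[ΩZ[J[2, T]]] = 4 ∧ T ≤ C[ΩZ[J[2, T]]] := by
  by_cases a : N[J[2, T]] ≤ L
  · have c2 := c.cx2 hh k n m l lT a
    obtain ⟨-, -, -, H, h1, h2, h3⟩ := c2.st
    obtain ⟨D, d, -, nD, -⟩ := c2.exists_jc h1 h3 h2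
    exact c.key k n m l lT d nD z
  obtain ⟨g, hg, g1⟩ := SetLike.not_le_iff_exists.1 a
  exact c.key k n m l lT (map_cj_eq hg ▸ k.map_cj g) (c.not_conj k n m l lT g hg g1) z

theorem T_cent : T ≤ C[ΩZ[J[2, T]]] := by
  by_cases z : ΩZ[J[2, T]] ⊓ C[K] = ⊥
  · have := k.card_OZ c.pJ
    rw [z, card_bot, one_mul] at this
    exact cent_of_card_two this.symm (le_norm_omegaOne' (le_norm_J.trans norm_le_norm_center))
  exact (c.four hh k n m l lT z).2

theorem pk : Pk T K L :=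
  have t := c.syl' k n m l lT
  have z := c.T_cent hh k n m l lT
  ⟨k, (c.zn.ls' m.1).T_le_norm t k l fun e => by
    have := (k.OZ c.pJ).1
    rw [le_bot_iff.1 ((inf_le_inf_right _ ((OZ_eq_of z).ge.trans omegaOne_le)).trans e.le),
      card_bot] at this
    omega, m, l, t, fun _ a b => c.uniq k n m (sup_le l (J_le.trans lT)) a b, z⟩

theorem cases (s : Syl 2 S ⊤) (lS : T ≤ S) : (ΩZ[S] = ΩZ[J[2, T]] ∧ o[ΩZ[J[2, T]]] = 2) ∨
    (ΩZ[S] = ΩZ[J[2, T]] ∧ o[ΩZ[J[2, T]]] = 4 ∧ T = S) ∨ (ΩZ[T] = ΩZ[J[2, T]] ∧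
      o[ΩZ[J[2, T]]] = 4 ∧ (L ⊓ C[ΩZ[J[2, T]]]).relIndex N[ΩZ[J[2, T]]] = 2) := by
  have lZ := (c.Z_le k n m l lT s.pg lS).trans omega_center_le
  have Z0 : ΩZ[S] ≠ ⊥ := omega_center_ne_bot dvd_rfl s.pg fun e =>
    c.st.2.1 (le_bot_iff.1 (lS.trans e.le))
  by_cases z : ΩZ[J[2, T]] ⊓ C[K] = ⊥
  · have := k.card_OZ c.pJ
    rw [z, card_bot, one_mul] at this
    exact .inl ⟨eq_of_le_prime (by rw [← this]; exact Nat.prime_two) lZ Z0, this.symm⟩
  obtain ⟨c4, cT⟩ := c.four hh k n m l lT z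
  have e := OZ_eq_of cT
  by_cases TS : T = S
  · exact .inr (.inl ⟨TS ▸ e, c4, TS⟩)
  refine .inr (.inr ⟨e, c4, ?_⟩)
  have t := c.syl' k n m l lT
  obtain ⟨g, hg, g1⟩ := SetLike.exists_of_lt (lt_inf_norm (nil_of_pg s.pg) (lS.lt_of_ne TS))
  have gL : g ∉ L := fun f => g1 ((t.eq_of_le (s.pg.to_le inf_le_left) (le_inf lS lT)
    inf_le_right).le ⟨hg.1, f⟩)
  have gN : g ∈ N[ΩZ[J[2, T]]] := le_norm_omegaOne' (norm_le_norm_J.trans norm_le_norm_center) hg.2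
  obtain ⟨x, hx, x1⟩ := exists_ne_one z
  obtain ⟨u, hu, u1⟩ := exists_ne_one Z0
  have cx := c.cent1_le k n m l lT hx x1
  have nc : ∀ y : G, y * x * y⁻¹ ≠ u := fun y f => TS (eq_of_le_of_card_le lS (by
    have : S ≤ L.map (cj y) := (le_cent_OZ.trans (cent_le_cent1 hu)).trans (by
      rw [← f, centralizer_conj]; exact map_mono cx)
    exact ((t.map_cj y).card_le s.pg this).trans (card_map_cj _ _).le))
  have xu : x ≠ u := by simpa using nc 1
  have cj4 : ∀ y ∈ N[ΩZ[J[2, T]]], y * x * y⁻¹ = x ∨ y * x * y⁻¹ = x * u := fun y hy => by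
    rcases mem_four c4 hx.1 (lZ hu) (conj_mem_of_norm hy hx.1) x1 u1 xu (sq_OZ hx.1) with
      f | f | f | f
    exacts [(x1 (by simpa using f)).elim, .inl f, (nc y f).elim, .inr f]
  have gx : g * x * g⁻¹ = x * u := (cj4 g gN).resolve_left fun f =>
    gL (cx (mem_centralizer_singleton_iff.2 (mul_inv_eq_iff_eq_mul.1 f)))
  have fu : ∀ y ∈ N[ΩZ[J[2, T]]], y * u * y⁻¹ = u := fun y hy => by
    rcases mem_four c4 hx.1 (lZ hu) (conj_mem_of_norm hy (lZ hu)) x1 u1 xu (sq_OZ hx.1) with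
      f | f | f | f
    · exact (u1 (by simpa using f)).elim
    · exact (nc y⁻¹ (by rw [← f]; group)).elim
    · exact f
    · refine (nc (y⁻¹ * g) ?_).elim
      calc _ = y⁻¹ * (g * x * g⁻¹) * y := by group
        _ = u := by rw [gx, ← f]; group
  have e2 : L ⊓ C[ΩZ[J[2, T]]] ⊓ N[ΩZ[J[2, T]]] = C1[x] ⊓ N[ΩZ[J[2, T]]] := by
    refine le_antisymm (inf_le_inf_right _ (inf_le_right.trans (cent_le_cent1 hx.1)))
      fun y hy => ⟨⟨cx hy.1, mem_cent_iff.2 fun w hw => ?_⟩, hy.2⟩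
    have a := mem_centralizer_singleton_iff.1 hy.1
    have b := mul_inv_eq_iff_eq_mul.1 (fu y hy.2)
    rcases mem_four c4 hx.1 (lZ hu) hw x1 u1 xu (sq_OZ hx.1) with rfl | rfl | rfl | rfl
    · simp
    · exact a.symm
    · exact b.symm
    · rw [mul_assoc, ← b, ← mul_assoc, ← a, mul_assoc]
  rw [← inf_relIndex_right, e2, inf_relIndex_right]
  have h1 : C1[x].relIndex N[ΩZ[J[2, T]]] ≤ o[zpowers u] := relIndex_cent1_le fun y hy => by
    rw [commutatorElement_def]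
    rcases cj4 y hy with f | f <;> rw [f]
    · simp
    · rw [comm_of_isMulComm elem_OZ.1 hx.1 (lZ hu)]; simp
  rw [card_zpowers_eq Nat.prime_two (elem_OZ.2 u hu) u1] at h1
  have h2 : C1[x].relIndex N[ΩZ[J[2, T]]] ≠ 1 := fun f => gL (cx (relIndex_eq_one.1 f gN))
  have := relIndex_pos C1[x] N[ΩZ[J[2, T]]]
  omega

end Cx

theorem Pk.map_cj (p : Pk T K L) {g : G} (hg : g ∈ N[T]) :
    Pk T (K.map (cj g)) (L.map (cj g)) := by
  have e := map_cj_eq (norm_le_norm_J (e := 2) hg)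
  refine ⟨e ▸ p.k.map_cj g, ?_, mloc_map_cj p.m g, map_mono p.l, map_cj_eq hg ▸ p.t.map_cj g,
    fun H m l => ?_, p.z⟩
  · rw [normalizer_map_cj, ← map_cj_eq hg]; exact map_mono p.nT
  · rw [← p.u _ (mloc_map_cj m g⁻¹) (map_cj_le_iff.1 (by rwa [Subgroup.map_sup, e])), map_cj_cj_inv]

theorem Cx.exists_pk (c : Cx M T) (hh : HH M T) : ∃ K L, Pk T K L ∧ ¬ K ≤ M := by
  obtain ⟨-, -, -, H, h1, h2, h3⟩ := c.st
  obtain ⟨K, k, -, n, o⟩ := c.exists_jc h1 h3 h2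
  obtain ⟨L, m, l⟩ := exists_mloc o
  exact ⟨K, L, c.pk hh k n m (le_sup_left.trans l) (le_sup_right.trans l), n⟩

theorem Cx.two (c : Cx M T) (hh : HH M T) :
    ∃ K₁ L₁ K₂ L₂, Pk T K₁ L₁ ∧ Pk T K₂ L₂ ∧ L₁ ≠ L₂ := by
  obtain ⟨K, L, p, n⟩ := c.exists_pk hh
  by_cases a : N[T] ≤ L
  · have s := p.t.top_of_norm a
    have c2 := c.cx2 hh p.k n p.m p.l p.t.le (le_trans (le_norm_omegaOne' norm_le_norm_center)
      ((OZ_eq_of p.z ▸ (norm_le_norm_cent _).trans ((s.mono le_cent_OZ le_top).norm_le_of_norm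
        (c.zn.z' s))).trans a))
    obtain ⟨K2, L2, p2, n2⟩ := c2.exists_pk (c2.hh_max p.m)
    exact ⟨K, L, K2, L2, p, p2, fun e => n2 (e ▸ p2.l)⟩
  obtain ⟨g, hg, g1⟩ := SetLike.not_le_iff_exists.1 a
  exact ⟨K, L, _, _, p, p.map_cj hg, fun e => g1 (mloc_self p.m (map_cj_eq_iff.1 e.symm))⟩

namespace Pk
variable (h : ZN G) (p : Pk T K L)
include h p

omit h in
theorem le : K ⊔ T ≤ L := sup_le p.l p.t.le
omit h in
theorem core_le : O2[L] ≤ O2[K ⊔ T] := piCoreOf_le_piCoreOf (p.t.pCoreOf_le.trans le_sup_right) p.le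
theorem con : C[O2[K ⊔ T]] ≤ O2[K ⊔ T] :=
  (cent_anti p.core_le).trans ((h.con p.m.1).trans p.core_le)
omit h in
theorem not_der : ¬ ⁅K ⊔ T, K ⊔ T⁆ ≤ O2[K ⊔ T] := fun l => p.k.not_pg (isPGroup_piCoreOf.to_le
  ((p.k.comm.ge.trans (commutator_mono le_sup_left (J_le.trans le_sup_right))).trans l))

theorem ap : AP (K ⊔ T) T := by
  have t := p.t.mono le_sup_right p.le
  have e : T ⊓ K = O2[K] := by
    have s := t.inf_norm le_sup_left p.nT
    exact ((eq_or_eq_of_relIndex_prime (p.k.idx ▸ Nat.prime_three) s.pCoreOf_le s.le).resolve_right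
      fun e => p.k.not_pg (e ▸ s.pg))
  have i3 : T.relIndex (K ⊔ T) = 3 := by
    have e1 := card_sup_mul_card_inf' p.nT
    have e2 := card_mul_relIndex (piCoreOf_le : O2[K] ≤ K)
    rw [inf_comm, e, ← card_mul_relIndex (le_sup_right : T ≤ K ⊔ T), ← e2, p.k.idx] at e1
    exact Nat.eq_of_mul_eq_mul_left (Nat.mul_pos (card_pos' T) (card_pos' O2[K])) (by
      rw [mul_right_comm, e1]; ring)
  have lB : T ⊓ stab K O2[K] ≤ O2[K ⊔ T] := le_pCoreOf (inf_le_left.trans le_sup_right) (sup_le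
    (le_norm_of_comm_le (((commutator_comm _ _).le.trans (comm_le_of_le_stab inf_le_right)).trans
      (le_inf (e.ge.trans inf_le_left) (le_stab le_normalizer (comm_le_right le_norm_piCoreOf))))
      le_rfl) (le_norm_inf le_normalizer (le_norm_stab p.nT (p.nT.trans norm_le_norm_piCoreOf))))
    (t.pg.to_le inf_le_left)
  have i2 : O2[K ⊔ T].relIndex T = 2 := by
    have h1 := relIndex_le_of_le_left lB (relIndex_pos _ T).ne'
    rw [inf_comm, inf_relIndex_right] at h1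
    have h2 := p.k.idx_stab t.pg p.nT
    have h3 : O2[K ⊔ T].relIndex T ≠ 1 := fun f => p.k.not_norm t.pg J_le (le_sup_left.trans
      (le_antisymm t.pCoreOf_le (relIndex_eq_one.1 f) ▸ le_norm_piCoreOf))
    have := relIndex_pos O2[K ⊔ T] T
    omega
  refine ⟨t, by rw [← relIndex_mul_relIndex _ _ _ t.pCoreOf_le t.le, i2, i3],
    inf_le_right.trans (p.con h), fun l => ?_⟩
  have := (p.k.OZ (t.pg.to_le J_le)).1
  rw [← OZ_eq_of p.z, le_bot_iff.1 ((le_inf inf_le_right (inf_le_left.trans (le_centralizer_iff.1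
    (le_sup_left.trans l)))).trans p.k.wOf_facts.2.le), card_bot] at this
  omega

theorem eq (r : AR (K ⊔ T) T Q) (c : o[O2[K ⊔ T] ⊓ Q] = 2 ∨ o[O2[K ⊔ T] ⊓ Q] = 4) :
    K ⊔ T = L := by
  have ls := h.ls' p.m.1
  have e : O2[L] = O2[K ⊔ T] := le_antisymm p.core_le
    ((le_cent_of_comm r.el.1 p.core_le).trans ls.con)
  have c8 : o[O2[L]] = 4 ∨ o[O2[L]] = 8 := by have := r.c2; rw [e]; omega
  have WQ : wOf K ≤ O2[L] := (ls.wOf_le p.t p.k p.l).trans OZ_le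
  have nK : L ≤ N[K] := fun g hg => ls.mem_norm p.t p.k p.l hg fun z => by
    have l2 : (wOf K).map (cj g) ≤ O2[L] := map_cj_le_of_norm WQ (le_norm_piCoreOf hg)
    have := card_le_of_le (sup_le WQ l2)
    rw [card_sup_of_disj (.inl (le_norm_of_le_cent (WQ.trans (le_cent_of_comm (e ▸ r.el.1) l2)))) z,
      card_map_cj, p.k.cW] at this
    omega
  have nW := nK.trans norm_le_norm_wOf
  have cX := (p.k.OZ (p.t.pg.to_le J_le)).1
  obtain ⟨x, hx, x1⟩ := exists_ne_one (ne_bot_of_card_prime (by rw [cX]; exact Nat.prime_two))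
  have eX := zpowers_eq_of_prime (by rw [cX]; exact Nat.prime_two) hx x1
  have pY : PG[2, L ⊓ C1[x]] := isPGroup_of_piRes (isPGroup_piCoreOf.to_le
    ((piRes_le_cent_of_comm isPGroup_piCoreOf (inf_le_left.trans le_norm_piCoreOf) ?_ (four_res
      p.k.cW (X := zpowers x) ((zpowers_le.2 hx.2).lt_of_ne fun f => by
        have := p.k.cW; rw [← f, eX, cX] at this; omega) (mt zpowers_eq_bot.1 x1)
      (inf_le_left.trans nW) (le_norm_of_le_cent (inf_le_right.trans (cent_zpowers x).ge)))).trans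
      ls.con))
  · have eT := p.t.eq_of_le pY (le_inf p.t.le (p.z.trans (cent_le_cent1 hx.1))) inf_le_left
    have i : T.relIndex L ≤ 4 := by
      rw [← eT, inf_comm, inf_relIndex_right, ← p.k.cW]
      exact relIndex_cent1_le fun y hy => comm_le_right nW (commutator_mem_commutator hy hx.2)
    have i2 := p.t.nd
    refine eq_of_le_of_card_le p.le ?_
    rw [← card_mul_relIndex p.t.le, ← card_mul_relIndex r.syl.le, (syl_idx r.syl r.idx).1]
    exact Nat.mul_le_mul_left _ (by omega)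
  have i := card_mul_relIndex WQ
  rw [p.k.cW] at i
  rcases c8 with f | f
  · rw [← eq_of_le_of_card_le WQ (f.trans p.k.cW.symm).le]
    exact comm_le_left (inf_le_left.trans nW)
  · exact comm_le_of_relIndex_two (by omega) WQ (piCoreOf_le.trans nW) (inf_le_left.trans nW)
      (inf_le_left.trans le_norm_piCoreOf)

end Pk

theorem Pk.nb (p : Pk T K₁ L₁) (q : Pk T K₂ L₂) (n : L₁ ≠ L₂) (pX : PG[2, X])
    (a : K₁ ⊔ T ≤ N[X]) (b : K₂ ⊔ T ≤ N[X]) : X = ⊥ := by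
  by_contra z
  obtain ⟨H, m, l⟩ := exists_mloc' pX z
  exact n ((p.u H m ((sup_le_sup_left J_le _).trans (a.trans l))).symm.trans
    (q.u H m ((sup_le_sup_left J_le _).trans (b.trans l))))

/-- The final structure. -/
theorem Cx.final (c : Cx M T) (hh : HH M T) : ∃ P₁ P₂, P₁ ≠ P₂ ∧ IsMaximalTwoLocal P₁ ∧
    IsMaximalTwoLocal P₂ ∧ AR P₁ T O2[P₂] ∧ AR P₂ T O2[P₁] ∧
      (o[O2[P₁] ⊓ O2[P₂]] = 2 ∨ o[O2[P₁] ⊓ O2[P₂]] = 4) := by
  obtain ⟨K₁, L₁, K₂, L₂, p, q, n⟩ := c.two hh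
  obtain ⟨a, b, d⟩ := amal (p.ap c.zn) (q.ap c.zn) fun N l => p.nb q n (c.pg.to_le l)
  have e1 := p.eq c.zn a d
  have e2 := q.eq c.zn b (by rwa [inf_comm])
  rw [e1, e2] at a b d
  exact ⟨L₁, L₂, n, p.m, q.m, a, b, d⟩

section
variable (a : AR P₁ T O2[P₂]) (b : AR P₂ T O2[P₁])
include a b

theorem AR.inv {u : G} (hu : u ∈ T) (u2 : u * u = 1) : u ∈ O2[P₁] ∨ u ∈ O2[P₂] := by
  have QT := a.syl.pCoreOf_le
  rw [← a.sup] at hu
  obtain ⟨x, hx, y, hy, rfl⟩ := (mem_sup_of_norm (QT.trans (b.syl.le.trans le_norm_piCoreOf))).1 hu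
  by_contra! n
  have y1 : y ∉ O2[P₁] := fun f => n.1 (mul_mem hx f)
  have x2 := a.el.2 x hx
  have y2 := b.el.2 y hy
  rw [pow_two] at x2 y2
  have cm : x * y = y * x := by
    rw [eq_inv_of_mul_eq_one_left u2, mul_inv_rev, ← eq_inv_of_mul_eq_one_left x2,
      ← eq_inv_of_mul_eq_one_left y2]
  have i : (O2[P₂] ⊓ O2[P₁]).relIndex O2[P₂] = 2 := Nat.eq_of_mul_eq_mul_left (card_pos' _)
    ((card_mul_relIndex inf_le_left).trans b.c2)
  have := (eq_or_eq_of_relIndex_prime (by rw [i]; exact Nat.prime_two) le_sup_left (sup_le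
    inf_le_left (zpowers_le.2 hy))).resolve_left fun f => y1 (f.le (mem_sup_right
      (mem_zpowers y))).2
  refine n.2 (mul_mem (b.con ⟨b.syl.le (QT hx), ?_⟩) hy)
  rw [← this, cent_sup, cent_zpowers]
  exact ⟨le_cent_of_comm a.el.1 inf_le_right hx, mem_centralizer_singleton_iff.2 cm⟩

theorem AR.elem_le (l : U ≤ T) (e : IsElementaryAbelian 2 U) : U ≤ O2[P₁] ∨ U ≤ O2[P₂] := by
  by_contra! n
  obtain ⟨x, hx, x1⟩ := SetLike.not_le_iff_exists.1 n.1
  obtain ⟨y, hy, y1⟩ := SetLike.not_le_iff_exists.1 n.2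
  have f : ∀ u ∈ U, u ∈ O2[P₁] ∨ u ∈ O2[P₂] := fun u hu =>
    a.inv b (l hu) (by rw [← pow_two]; exact e.2 u hu)
  rcases f _ (mul_mem hx hy) with g | g
  · exact x1 ((mul_mem_cancel_right ((f y hy).resolve_right y1)).1 g)
  · exact y1 ((mul_mem_cancel_left ((f x hx).resolve_left x1)).1 g)

theorem AR.swap {x : G} (hx : x ∈ N[T]) (n : x ∉ N[O2[P₁]]) : O2[P₁].map (cj x) = O2[P₂] :=
  eq_of_le_of_card_le ((a.elem_le b (map_cj_le_of_norm a.syl.pCoreOf_le hx)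
    (elem_map _ a.el)).resolve_left fun l => n (mem_norm_of_map_le l))
    (by rw [card_map_cj, a.c2, b.c2, inf_comm])

end

omit [Finite G] in
theorem st_map_cj (t : T ∈ straddlingTwoSubgroups M) {g : G} (hg : g ∈ M) :
    T.map (cj g) ∈ straddlingTwoSubgroups M := by
  obtain ⟨a, b, c, L, d, e, f⟩ := t
  exact ⟨a.map _, mt map_cj_eq_bot.1 b, map_cj_le_of_mem c hg, _, loc_map_cj d g, map_mono e,
    fun l => f ((map_cj_le_iff.1 l).trans (map_cj_of_mem (inv_mem hg)).le)⟩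

theorem ZN.st (h : ZN G) (o : O2[(⊤ : Subgroup G)] = ⊥) (s : Syl 2 S ⊤) (m : IsMaximalTwoLocal L)
    (n : N[J[2, S]] ≤ L) (j : ¬ J[2, S] ≤ O2[L]) : S ∈ straddlingTwoSubgroups L := by
  have ls := h.ls' m.1
  have sL := s.mono (le_norm_J.trans n) le_top
  obtain ⟨T0, t0⟩ : (straddlingTwoSubgroups L).Nonempty := Set.nonempty_iff_ne_empty.2 fun e => by
    have se := (se_iff_st o m.1).2 e
    obtain ⟨v, hv, v1⟩ := exists_ne_one (omega_center_ne_bot (e := 2) dvd_rfl isPGroup_piCoreOf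
      (loc_core m.1))
    refine j (J_le_iff.2 fun A a x hx => by_contra fun x1 => ?_)
    obtain ⟨g, hg, f⟩ := se_conj_in se (orderOf_eq_of_pow Nat.prime_two (elem_OZ.2 v hv) v1)
      (orderOf_eq_of_pow Nat.prime_two (a.exp x hx) fun f => x1 (f ▸ one_mem _))
      (piCoreOf_le (OZ_le hv)) (sL.le (a.le hx))
    exact x1 (f ▸ conj_mem_of_norm (le_norm_piCoreOf hg) (OZ_le hv))
  obtain ⟨T, t⟩ := exists_mst t0
  have c := cx_of h s n t
  obtain ⟨P₁, P₂, -, m1, m2, a, b, d⟩ := c.final (c.hh_max m)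
  obtain ⟨g, hg, lS⟩ := sL.exists_le_conj c.pg c.st.2.2.1
  have s2 := sL.map_cj_mem hg
  by_cases TS : T = S.map (cj g)
  · simpa only [TS, map_cj_inv_cj] using st_map_cj c.st (inv_mem hg)
  exfalso
  obtain ⟨K, k, lK⟩ := ls.exists_jc sL j
  generalize S.map (cj g) = R at lS s2 TS
  have k := ls.of_syl sL k lK s2
  have nQ : ∀ {P Q : Subgroup G}, IsMaximalTwoLocal P → AR P T Q → R ⊓ N[O2[P]] ≤ T := fun m a => by
    rw [mloc_norm m isPGroup_piCoreOf a.core_ne le_norm_piCoreOf]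
    exact (a.syl.eq_of_le (s2.pg.to_le inf_le_left) (le_inf lS a.syl.le) inf_le_right).le
  have VR : VL[L] ≤ R := OZ_le.trans s2.pCoreOf_le
  have nV : T ≤ N[VL[L]] := c.st.2.2.1.trans nVL
  have VT : VL[L] ≤ T := le_sup_left.trans (le_of_norm_le (s2.pg.to_le (sup_le VR lS)) (by
    rw [inf_eq_right.2 (le_sup_right : T ≤ VL[L] ⊔ T), sup_inf_of_norm' (.inr nV) le_normalizer]
    refine sup_le ?_ le_rfl
    have f : ∀ {P Q : Subgroup G}, IsMaximalTwoLocal P → AR P T Q → VL[L] ⊓ T ≤ O2[P] →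
        VL[L] ⊓ N[T] ≤ T := fun m a l => le_trans (le_inf (inf_le_left.trans VR) (le_norm_of_comm_le
          ((le_inf ((commutator_mono a.syl.pCoreOf_le inf_le_left).trans (comm_le_right nV))
            ((commutator_mono a.syl.pCoreOf_le le_rfl).trans (comm_le_left inf_le_right))).trans l)
          le_rfl)) (nQ m a)
    exact (a.elem_le b inf_le_right (elem_of_le elem_OZ inf_le_left)).elim (f m1 a) (f m2 b)))
  obtain ⟨y, hy, y1⟩ := SetLike.exists_of_lt (lt_inf_norm (nil_of_pg s2.pg) (lS.lt_of_ne TS))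
  have yV := map_cj_eq (nVL (s2.le hy.1))
  have VD : VL[L] ≤ O2[P₁] ⊓ O2[P₂] := (a.elem_le b VT elem_OZ).elim
    (fun l => le_inf l (yV.ge.trans ((map_mono l).trans
      (a.swap b hy.2 fun f => y1 (nQ m1 a ⟨hy.1, f⟩)).le)))
    fun l => le_inf (yV.ge.trans ((map_mono l).trans
      (b.swap a hy.2 fun f => y1 (nQ m2 b ⟨hy.1, f⟩)).le)) l
  have WV := ls.wOf_le s2 k lK
  have d4 : o[O2[P₁] ⊓ O2[P₂]] = 4 := d.resolve_left fun f => by
    have := card_le_of_le (WV.trans VD); rw [k.cW] at this; omega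
  have eW := eq_of_le_of_card_le (WV.trans VD) (d4.trans k.cW.symm).le
  have cZ := a.card_Z b.el d4
  have Z0 : O2[P₁] ⊓ C[P₁] ≠ ⊥ := fun f => by rw [f, card_bot] at cZ; omega
  have ZW : O2[P₁] ⊓ C[P₁] ≤ wOf K := eW ▸ le_inf inf_le_left ((le_inf ((inf_le_left.trans
    a.syl.pCoreOf_le).trans b.syl.le) (inf_le_right.trans (cent_anti (b.syl.pCoreOf_le.trans
      a.syl.le)))).trans b.con)
  have nZ := mloc_norm m1 (isPGroup_piCoreOf.to_le inf_le_left) Z0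
    (le_norm_of_le_cent (le_centralizer_iff.1 inf_le_right))
  have eT : O2[L] = T := le_antisymm ((le_inf s2.pCoreOf_le ((le_cent_OZ.trans (cent_anti
    (ZW.trans WV))).trans ((cent_le_norm _).trans (nZ.le.trans le_norm_piCoreOf)))).trans (nQ m1 a))
    (ls.le_core c.pg (le_inf c.st.2.2.1 (a.sup.ge.trans (sup_le (le_cent_of_comm a.el.1
      (VD.trans inf_le_left)) (le_cent_of_comm b.el.1 (VD.trans inf_le_right))))))
  have KP : K ≤ N[O2[P₁]] := k.le_of_ord fun x hx o3 => by_contra fun f => by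
    have xT : x ∈ N[T] := eT ▸ le_norm_piCoreOf (lK hx)
    have e1 := a.swap b xT f
    have e2 := b.swap a xT fun f2 => a.core_ne (by
      have : O2[P₁] = O2[P₂] := map_cj_inj.1 (e1.trans (map_cj_eq f2).symm)
      have h2 := a.c2
      have h3 := card_pos' O2[P₂]
      rw [this, inf_idem] at h2
      omega)
    have x2 : x * x ∈ N[O2[P₁]] := map_cj_eq_iff.1 (by rw [← map_cj_cj, e1, e2])
    have x3 : x * x * x = 1 := by rw [← pow_three', ← o3, pow_orderOf_eq_one]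
    exact f (by rw [eq_inv_of_mul_eq_one_right x3]; exact inv_mem x2)
  rw [mloc_norm m1 isPGroup_piCoreOf a.core_ne le_norm_piCoreOf] at KP
  exact Z0 (le_bot_iff.1 ((le_inf ZW (inf_le_right.trans (cent_anti KP))).trans k.wOf_facts.2.le))

theorem Cx.hh (c : Cx M T) (o : O2[(⊤ : Subgroup G)] = ⊥) : HH M T := fun _ m n a j =>
  c.zn.st o ((c.syl m.1 n (le_norm_J.trans a)).top_of_norm (norm_le_norm_J.trans a)) m a j

end CfsgH2
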