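import Cfsg.Agent.H2.ZN6
import Cfsg.Agent.H2.S4F

/-! The final step of the `ZN`-theorem: passing to `O²(G)`. -/

set_option autoImplicit false
namespace CfsgH2
open Subgroup Function Cfsg CfsgL0 CfsgBG
open scoped commutatorElement

variable {G : Type*} [Group G] [Finite G] {A B D H M N S X Y Z T P Q W P₁ P₂ : Subgroup G}

local notation "𝕎[" P "]" => O2[P] ⊓ R2[P]
local notation "ℨ[" P "]" => O2[P] ⊓ C[P]

omit [Finite G] in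
theorem iso_of_compl (n : P ≤ N[Z]) (a1 : A ⊔ Z = P) (a2 : A ⊓ Z = ⊥) (b1 : B ⊔ Z = P)
    (b2 : B ⊓ Z = ⊥) : Nonempty (A ≃* B) := by
  haveI := (normal_subgroupOf_iff' (le_sup_right.trans a1.le)).2 n
  have key : ∀ {A : Subgroup G}, A ⊔ Z = P → A ⊓ Z = ⊥ → Nonempty (A ≃* P ⧸ Z.subgroupOf P) :=
    fun {A} a1 a2 => by
      have l : A ≤ P := le_sup_left.trans a1.le
      refine ⟨MulEquiv.ofBijective ((QuotientGroup.mk' _).comp (inclusion l)) ⟨?_, fun q => ?_⟩⟩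
      · refine (injective_iff_map_eq_one _).2 fun x hx => Subtype.ext (mem_bot.1 (a2.le ⟨x.2, ?_⟩))
        exact (QuotientGroup.eq_one_iff (N := Z.subgroupOf P) (inclusion l x)).1 hx
      · obtain ⟨x, rfl⟩ := QuotientGroup.mk'_surjective _ q
        obtain ⟨y, hy, z, hz, e⟩ := (mem_sup_of_norm (l.trans n)).1 (a1.ge x.2)
        refine ⟨⟨y, hy⟩, (QuotientGroup.eq (s := Z.subgroupOf P)).2 ?_⟩
        change y⁻¹ * (x : G) ∈ Z
        rwa [← e, inv_mul_cancel_left]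
  obtain ⟨f⟩ := key a1 a2
  obtain ⟨g⟩ := key b1 b2
  exact ⟨f.trans g.symm⟩

theorem four_trans (c : o[W] = 4) (e : ∀ w ∈ W, w * w = 1) {x : G} (n : x ∈ N[W]) (n2 : x ∉ C[W])
    (o : orderOf x = 3) {a u : G} (ha : a ∈ W) (a1 : a ≠ 1) (hu : u ∈ W) (u1 : u ≠ 1) :
    ∃ g : G, g * a * g⁻¹ = u := by
  have x3 : x * x * x = 1 := by rw [← pow_three', ← o, pow_orderOf_eq_one]
  have h1 : x * a * x⁻¹ ≠ a := fun f => n2 (piRes_le_iff.1 (four_res c (X := zpowers a)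
    ((zpowers_le.2 ha).lt_of_ne fun k => by
      rw [← k, Nat.card_zpowers, orderOf_eq_of_pow Nat.prime_two (by rw [pow_two]; exact e a ha) a1]
        at c
      omega) (mt zpowers_eq_bot.1 a1) (zpowers_le.2 n) (zpowers_le.2 (cent_le_norm _ (by
        rw [cent_zpowers]; exact mem_centralizer_singleton_iff.2 (mul_inv_eq_iff_eq_mul.1 f))))) x
    (mem_zpowers x) (by rw [o]; decide))
  have m1 := conj_mem_of_norm n ha
  have k1 : ∀ {g b : G}, b ≠ 1 → g * b * g⁻¹ ≠ 1 := fun h f => h (by simpa using f)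
  rcases mem_four c ha m1 hu a1 (k1 a1) h1.symm (e a ha) with f | f | f | f
  · exact absurd f u1
  · exact ⟨1, by simp [f]⟩
  · exact ⟨x, f.symm⟩
  rcases mem_four c ha m1 (conj_mem_of_norm n m1) a1 (k1 a1) h1.symm (e a ha) with k | k | k | k
  · exact absurd k (k1 (k1 a1))
  · refine absurd ?_ h1
    calc x * a * x⁻¹ = x * (x * (x * a * x⁻¹) * x⁻¹) * x⁻¹ := by rw [k]
      _ = (x * x * x) * a * (x * x * x)⁻¹ := by group
      _ = a := by rw [x3]; group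
  · exact absurd (cj_injective x k) h1
  · exact ⟨x * x, by rw [f, ← k]; group⟩

namespace AR
variable (h : AR P T Q) (e : IsElementaryAbelian 2 Q)
include h e

theorem facts : o[𝕎[P]] = 4 ∧ 𝕎[P] ⊔ ℨ[P] = O2[P] ∧ ⁅P, P⁆ ⊓ ℨ[P] = ⊥ ∧ ⁅O2[P], P⁆ ≤ 𝕎[P] ∧
    𝕎[P] ⊓ ℨ[P] = ⊥ ∧ ∀ M, M ⊔ ℨ[P] = P → M ⊓ ℨ[P] = ⊥ → Nonempty (M ≃* Equiv.Perm (Fin 4)) := by
  obtain ⟨H, a, b, c, ⟨f⟩⟩ := h.struct e
  have QP : O2[P] ≤ P := piCoreOf_le
  have cZ : P ≤ C[ℨ[P]] := le_centralizer_iff.1 inf_le_right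
  have HP : H ≤ P := le_sup_left.trans a.le
  have nH : ℨ[P] ≤ N[H] := le_norm_of_le_cent (inf_le_right.trans (cent_anti HP))
  have RH : R2[P] ≤ H := by
    conv_lhs => rw [← a]
    exact (piRes_sup_le nH (isPGroup_piCoreOf.to_le inf_le_left)).trans piRes_le
  have d : ∀ {X}, X ≤ H → X ⊓ ℨ[P] = ⊥ := fun l => le_bot_iff.1 ((inf_le_inf_right _ l).trans b.le)
  have e1 : H ⊓ O2[P] ⊔ ℨ[P] = O2[P] := by
    rw [← sup_inf_of_norm' (.inr nH) inf_le_left, a, inf_eq_right.2 QP]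
  have c1 : o[H ⊓ O2[P]] = 4 := by
    have := card_sup_of_disj (.inl (le_norm_of_le_cent ((inf_le_left.trans HP).trans cZ)))
      (d (inf_le_left : H ⊓ O2[P] ≤ H))
    rw [e1, ← c, mul_comm] at this
    exact (Nat.eq_of_mul_eq_mul_right (card_pos' _) this).symm
  have l1 : 𝕎[P] ≤ H ⊓ O2[P] := le_inf (inf_le_right.trans RH) inf_le_left
  have nW : P ≤ N[𝕎[P]] := le_norm_inf le_norm_piCoreOf le_norm_piRes
  have W1 : ¬ P ≤ C[𝕎[P]] := fun k => by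
    have : 𝕎[P] = ⊥ := le_bot_iff.1 ((le_inf le_rfl (le_inf inf_le_left
      (le_centralizer_iff.1 k))).trans (d (l1.trans inf_le_left)).le)
    have k2 : R2[P] ≤ O2[P] := (le_inf piRes_le (le_centralizer_iff.1 (comm_eq_bot_iff.1
      (le_bot_iff.1 ((le_inf (comm_le_left (piRes_le.trans le_norm_piCoreOf))
        (comm_le_right (QP.trans le_norm_piRes))).trans this.le))))).trans h.con
    have := piN_relIndex_of_piRes_le k2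
    rw [h.idx] at this
    exact absurd (this 3 Nat.prime_three (by decide)) (by decide)
  have c2 : o[𝕎[P]] = 4 := by
    have h1 := card_dvd_of_le l1
    rw [c1] at h1
    have h2 : o[𝕎[P]] ≠ 1 := fun k => W1 (by rw [card_eq_one.1 k, cent_bot]; exact le_top)
    have h3 : o[𝕎[P]] ≠ 2 := fun k => W1 (cent_of_card_two k nW)
    have := Nat.le_of_dvd (by omega) h1
    interval_cases k : o[𝕎[P]] <;> omega
  have e2 := eq_of_le_of_card_le l1 (c1.trans c2.symm).le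
  have PH : ⁅P, P⁆ ≤ H := by
    have k : ⁅P, ℨ[P]⁆ ≤ H := (comm_eq_bot_iff.2 cZ).le.trans bot_le
    conv_lhs => rw [← a]
    refine comm_sup_le le_normalizer nH ?_ ((commutator_comm _ _).le.trans ?_)
    · exact comm_le_left (sup_le le_normalizer nH)
    · rwa [a]
  exact ⟨c2, e2 ▸ e1, d PH, e2 ▸ le_inf ((commutator_mono QP le_rfl).trans PH)
    (comm_le_left le_norm_piCoreOf), d (l1.trans inf_le_left), fun M m1 m2 =>
      (iso_of_compl (le_norm_of_le_cent cZ) m1 m2 a b).map fun g => g.trans f⟩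

theorem trans {a u : G} (ha : a ∈ 𝕎[P]) (a1 : a ≠ 1) (hu : u ∈ 𝕎[P]) (u1 : u ≠ 1) :
    ∃ g : G, g * a * g⁻¹ = u := by
  obtain ⟨c, s, -⟩ := h.facts e
  obtain ⟨x, hx, o⟩ := exists_prime_order_mem (H := P) Nat.prime_three (by
    rw [← card_mul_relIndex (piCoreOf_le : O2[P] ≤ P), h.idx]; exact Dvd.dvd.mul_left (by decide) _)
  refine four_trans c (fun w hw => by rw [← pow_two]; exact h.el.2 w hw.1)
    (le_norm_inf le_norm_piCoreOf le_norm_piRes hx) (fun k => ?_) o ha a1 hu u1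
  have : x ∈ O2[P] := h.con ⟨hx, by
    rw [← s, cent_sup]; exact ⟨k, le_centralizer_iff.1 inf_le_right hx⟩⟩
  rw [eq_one_of_coprime_order isPGroup_piCoreOf this (by rw [o]; decide), orderOf_one] at o
  omega

end AR

omit [Finite G] in
theorem relIndex_two_of (l : T ≤ S) {y : G} (hy : y ∈ S) (y1 : y ∉ T)
    (h : ∀ x ∈ S, x ∉ T → x * y ∈ T) : T.relIndex S = 2 :=
  index_eq_two_iff.2 ⟨⟨y, hy⟩, fun x => by
    by_cases k : (x : G) ∈ T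
    · exact .inr ⟨k, fun f => y1 ((mul_mem_cancel_left k).1 f)⟩
    · exact .inl ⟨h x x.2 k, k⟩⟩

/-- the pair of `S₄ × C₂`'s -/
structure P4 (P₁ P₂ T : Subgroup G) : Prop where
  ne : P₁ ≠ P₂
  m1 : IsMaximalTwoLocal P₁
  m2 : IsMaximalTwoLocal P₂
  a : AR P₁ T O2[P₂]
  b : AR P₂ T O2[P₁]
  c : o[O2[P₁] ⊓ O2[P₂]] = 4

namespace P4
variable (h : P4 P₁ P₂ T)
include h

omit [Finite G] in
theorem symm : P4 P₂ P₁ T := ⟨h.ne.symm, h.m2, h.m1, h.b, h.a, by rw [inf_comm, h.c]⟩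

theorem nQ : N[O2[P₁]] = P₁ := mloc_norm h.m1 isPGroup_piCoreOf h.a.core_ne le_norm_piCoreOf
theorem QT : O2[P₁] ≤ T := h.a.syl.pCoreOf_le
theorem cZ : o[ℨ[P₁]] = 2 := h.a.card_Z h.b.el h.c
theorem cQ : o[O2[P₁]] = 8 := by rw [h.a.c2, h.c]
theorem i2 : O2[P₁].relIndex T = 2 := (syl_idx h.a.syl h.a.idx).2
theorem cT : o[T] = 16 := by rw [← card_mul_relIndex h.QT, h.cQ, h.i2]
theorem ZD : ℨ[P₁] ≤ O2[P₂] := (le_inf ((inf_le_left.trans h.QT).trans h.b.syl.le)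
  (inf_le_right.trans (cent_anti (h.symm.QT.trans h.a.syl.le)))).trans h.b.con
theorem sq {x : G} (hx : x ∈ O2[P₁]) : x * x = 1 := by rw [← pow_two]; exact h.a.el.2 x hx
theorem cD : T ≤ C[O2[P₁] ⊓ O2[P₂]] := h.a.sup.ge.trans (sup_le (le_cent_of_comm h.a.el.1
  inf_le_left) (le_cent_of_comm h.b.el.1 inf_le_right))
theorem c1 {x : G} (hx : x ∈ ℨ[P₁]) (x1 : x ≠ 1) : C1[x] = P₁ := by
  have e := zpowers_eq_of_prime (by rw [h.cZ]; exact Nat.prime_two) hx x1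
  have k : P₁ ≤ C[ℨ[P₁]] := le_centralizer_iff.1 inf_le_right
  refine le_antisymm ?_ (by rwa [← cent_zpowers, e])
  rw [← cent_zpowers, e]
  exact (cent_le_norm _).trans (mloc_norm h.m1 (isPGroup_piCoreOf.to_le inf_le_left)
    (ne_bot_of_card_prime (by rw [h.cZ]; exact Nat.prime_two)) (le_norm_of_le_cent k)).le
theorem exZ : ∃ x ∈ ℨ[P₁], x ≠ 1 :=
  exists_ne_one (ne_bot_of_card_prime (by rw [h.cZ]; exact Nat.prime_two))
theorem eqZ {x y : G} (hx : x ∈ ℨ[P₁]) (x1 : x ≠ 1) (hy : y ∈ ℨ[P₁]) (y1 : y ≠ 1) : x = y := by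
  obtain ⟨u, -, k⟩ := (Nat.card_eq_two_iff' (1 : ↥(ℨ[P₁]))).1 h.cZ
  exact congrArg Subtype.val ((k ⟨x, hx⟩ fun f => x1 (congrArg Subtype.val f)).trans
    (k ⟨y, hy⟩ fun f => y1 (congrArg Subtype.val f)).symm)

section
variable {z₁ z₂ : G} (h1 : z₁ ∈ ℨ[P₁]) (n1 : z₁ ≠ 1) (h2 : z₂ ∈ ℨ[P₂]) (n2 : z₂ ≠ 1)
include h1 n1 h2 n2

theorem zne : z₁ ≠ z₂ := fun e => h.ne (by rw [← h.c1 h1 n1, e, h.symm.c1 h2 n2])

theorem memD {u : G} (hu : u ∈ O2[P₁] ⊓ O2[P₂]) : u = 1 ∨ u = z₁ ∨ u = z₂ ∨ u = z₁ * z₂ :=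
  mem_four h.c ⟨h1.1, h.ZD h1⟩ ⟨h.symm.ZD h2, h2.1⟩ hu n1 n2 (h.zne h1 n1 h2 n2) (h.sq h1.1)

theorem zcomm : z₁ * z₂ ∈ ⁅O2[P₁], O2[P₂]⁆ := by
  obtain ⟨u, hu, u1⟩ := exists_ne_one (H := ⁅O2[P₁], O2[P₂]⁆) fun e => by
    have : T ≤ O2[P₁] := (le_inf h.a.syl.le (h.a.sup.ge.trans (sup_le (le_cent_self h.a.el.1)
      (le_centralizer_iff.1 (comm_eq_bot_iff.1 e))))).trans h.a.con
    have := h.i2
    rw [relIndex_eq_one.2 ‹_›] at this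
    omega
  have l1 : O2[P₂] ≤ P₁ := h.symm.QT.trans h.a.syl.le
  have l2 : O2[P₁] ≤ P₂ := h.QT.trans h.b.syl.le
  rcases h.memD h1 n1 h2 n2 ⟨comm_le_left (l1.trans le_norm_piCoreOf) hu,
    comm_le_right (l2.trans le_norm_piCoreOf) hu⟩ with e | e | e | e
  · exact absurd e u1
  · exact absurd (mem_bot.1 ((h.a.facts h.b.el).2.2.1.le ⟨commutator_mono piCoreOf_le l1 hu,
      e ▸ h1⟩)) u1
  · exact absurd (mem_bot.1 ((h.b.facts h.a.el).2.2.1.le ⟨commutator_mono l2 piCoreOf_le hu,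
      e ▸ h2⟩)) u1
  · exact e ▸ hu

theorem zW : z₁ * z₂ ∈ 𝕎[P₁] ⊓ 𝕎[P₂] :=
  ⟨(h.a.facts h.b.el).2.2.2.1 (commutator_mono le_rfl (h.symm.QT.trans h.a.syl.le)
    (h.zcomm h1 n1 h2 n2)), (h.b.facts h.a.el).2.2.2.1 (commutator_mono le_rfl (h.QT.trans h.b.syl.le)
    (commutator_comm O2[P₁] _ ▸ h.zcomm h1 n1 h2 n2))⟩

theorem z0 : z₁ * z₂ ≠ 1 := fun e => h.zne h1 n1 h2 n2 (by
  rw [eq_inv_of_mul_eq_one_left e, ← eq_inv_of_mul_eq_one_left (h.symm.sq h2.1)])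

theorem nconj (g : G) : g * (z₁ * z₂) * g⁻¹ ≠ z₁ := fun e => by
  have k : T.map (cj g) ≤ P₁ := by
    rw [← h.c1 h1 n1, ← e, centralizer_conj]
    exact map_mono (h.cD.trans (cent_le_cent1 ⟨(h.zW h1 n1 h2 n2).1.1, (h.zW h1 n1 h2 n2).2.1⟩))
  have := conj_mem_map_cj (g := g) (commutator_mono h.QT h.symm.QT (h.zcomm h1 n1 h2 n2))
  rw [e, Subgroup.map_commutator] at this
  exact n1 (mem_bot.1 ((h.a.facts h.b.el).2.2.1.le ⟨commutator_mono k k this, h1⟩))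

theorem zD : z₁ ∉ 𝕎[P₁] ⊔ 𝕎[P₂] := fun k => by
  obtain ⟨a1, a2, -, -, a5, -⟩ := h.a.facts h.b.el
  obtain ⟨b1, b2, -⟩ := h.b.facts h.a.el
  have z := h.zW h1 n1 h2 n2
  have k2 : z₂ ∈ 𝕎[P₁] ⊔ 𝕎[P₂] := (mul_mem_cancel_left k).1 (mem_sup_left z.1)
  have l : T ≤ 𝕎[P₁] ⊔ 𝕎[P₂] := by
    refine h.a.sup.ge.trans (sup_le (a2.ge.trans (sup_le le_sup_left ?_))
      (b2.ge.trans (sup_le le_sup_right ?_)))
    · rwa [← zpowers_eq_of_prime (by rw [h.cZ]; exact Nat.prime_two) h1 n1, zpowers_le]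
    · rwa [← zpowers_eq_of_prime (by rw [h.symm.cZ]; exact Nat.prime_two) h2 n2, zpowers_le]
  have c := card_sup_mul_card_inf (H := 𝕎[P₁]) (K := 𝕎[P₂]) ((inf_le_left.trans
    (h.QT.trans h.b.syl.le)).trans (le_norm_inf le_norm_piCoreOf le_norm_piRes))
  have c2 := card_le_of_le l
  have c3 : o[𝕎[P₁] ⊓ 𝕎[P₂]] ≠ 1 := fun f => h.z0 h1 n1 h2 n2 (mem_bot.1 (card_eq_one.1 f ▸ z))
  have c4 := card_pos' (𝕎[P₁] ⊓ 𝕎[P₂])
  rw [a1, b1] at c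
  rw [h.cT] at c2
  have := Nat.mul_le_mul c2 (show 2 ≤ o[𝕎[P₁] ⊓ 𝕎[P₂]] by omega)
  omega

end

theorem DT : 𝕎[P₁] ⊔ 𝕎[P₂] ≤ T :=
  sup_le (inf_le_left.trans h.QT) (inf_le_left.trans h.symm.QT)

theorem QD : O2[P₁] ⊓ (𝕎[P₁] ⊔ 𝕎[P₂]) = 𝕎[P₁] := by
  obtain ⟨z₁, h1, n1⟩ := h.exZ
  obtain ⟨z₂, h2, n2⟩ := h.symm.exZ
  have c := card_mul_relIndex (inf_le_left : 𝕎[P₁] ≤ O2[P₁])
  rw [(h.a.facts h.b.el).1, h.cQ] at c
  exact (eq_or_eq_of_relIndex_prime (by rw [show (𝕎[P₁]).relIndex O2[P₁] = 2 by omega]; decide)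
    (le_inf inf_le_left le_sup_left) inf_le_left).resolve_right fun e =>
      h.zD h1 n1 h2 n2 (e.ge h1.1).2

theorem nconjD {z₁ : G} (h1 : z₁ ∈ ℨ[P₁]) (n1 : z₁ ≠ 1) (g : G) :
    g * z₁ * g⁻¹ ∉ 𝕎[P₁] ⊔ 𝕎[P₂] := fun k => by
  obtain ⟨z₂, h2, n2⟩ := h.symm.exZ
  have z := h.zW h1 n1 h2 n2
  have u1 : g * z₁ * g⁻¹ ≠ 1 := fun f => n1 (by simpa using f)
  have : ∃ x : G, x * (z₁ * z₂) * x⁻¹ = g * z₁ * g⁻¹ := by
    rcases h.a.inv h.b (h.DT k) (by rw [conj_mul, h.sq h1.1]; simp) with f | f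
    · exact h.a.trans h.b.el z.1 (h.z0 h1 n1 h2 n2) (h.QD.le ⟨f, k⟩) u1
    · exact h.b.trans h.a.el z.2 (h.z0 h1 n1 h2 n2) (h.symm.QD.le ⟨f, sup_comm (𝕎[P₁]) _ ▸ k⟩) u1
  obtain ⟨x, e⟩ := this
  exact h.nconj h1 n1 h2 n2 (g⁻¹ * x) (by
    rw [show g⁻¹ * x * (z₁ * z₂) * (g⁻¹ * x)⁻¹ = g⁻¹ * (x * (z₁ * z₂) * x⁻¹) * g by group, e]; group)

theorem iD : (𝕎[P₁] ⊔ 𝕎[P₂]).relIndex T = 2 := by
  obtain ⟨z₁, h1, n1⟩ := h.exZ
  obtain ⟨z₂, h2, n2⟩ := h.symm.exZ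
  have cz : z₁ ∈ C[T] := le_centralizer_iff.1 h.cD ⟨h1.1, h.ZD h1⟩
  have e : 𝕎[P₁] ⊔ 𝕎[P₂] ⊔ zpowers z₁ = T := by
    refine le_antisymm (sup_le h.DT (zpowers_le.2 (h.QT h1.1))) (h.a.sup.ge.trans (sup_le
      ((h.a.facts h.b.el).2.1.ge.trans (sup_le (le_sup_left.trans le_sup_left) ?_))
      ((h.b.facts h.a.el).2.1.ge.trans (sup_le (le_sup_right.trans le_sup_left) ?_))))
    · rw [← zpowers_eq_of_prime (by rw [h.cZ]; exact Nat.prime_two) h1 n1]; exact le_sup_right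
    · rw [← zpowers_eq_of_prime (by rw [h.symm.cZ]; exact Nat.prime_two) h2 n2, zpowers_le]
      exact (mul_mem_cancel_left (mem_sup_right (mem_zpowers z₁))).1
        (mem_sup_left (mem_sup_left (h.zW h1 n1 h2 n2).1))
  rw [← e]
  exact relIndex_sup_zpowers_prime Nat.prime_two (cent_le_norm _ (cent_anti h.DT cz))
    (by rw [pow_two, h.sq h1.1]; exact one_mem _) (h.zD h1 n1 h2 n2)

section
variable {y : G} (hy : y ∈ N[T]) (ny : y ∉ N[O2[P₁]])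
include hy ny

theorem sw : O2[P₁].map (cj y) = O2[P₂] := h.a.swap h.b hy ny

theorem ny' : y ∉ N[O2[P₂]] := fun f => h.ne (by
  rw [← h.nQ, ← h.symm.nQ, map_cj_inj.1 ((h.sw hy ny).trans (map_cj_eq f).symm)])

theorem swP : P₁.map (cj y) = P₂ := by
  rw [← h.symm.nQ, ← h.sw hy ny, normalizer_map_cj, h.nQ]

theorem swW : (𝕎[P₁]).map (cj y) = 𝕎[P₂] := by
  rw [map_cj_inf, h.sw hy ny, ← piRes_map_cj, h.swP hy ny]

theorem nD : y ∈ N[𝕎[P₁] ⊔ 𝕎[P₂]] := map_cj_eq_iff.1 (by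
  rw [Subgroup.map_sup, h.swW hy ny, h.symm.swW hy (h.ny' hy ny), sup_comm])

theorem nfix {z : G} (h1 : z ∈ ℨ[P₁]) (n1 : z ≠ 1) : y * z * y⁻¹ ≠ z := fun e => h.ne (by
  rw [← h.swP hy ny, ← h.c1 h1 n1, ← centralizer_conj, e])

theorem fix {w : G} (hw : w ∈ O2[P₁] ⊓ O2[P₂]) (e : y * w * y⁻¹ = w) : w ∈ 𝕎[P₁] ⊔ 𝕎[P₂] := by
  obtain ⟨z₁, h1, n1⟩ := h.exZ
  obtain ⟨z₂, h2, n2⟩ := h.symm.exZ
  rcases h.memD h1 n1 h2 n2 hw with rfl | rfl | rfl | rfl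
  · exact one_mem _
  · exact absurd e (h.nfix hy ny h1 n1)
  · exact absurd e (h.symm.nfix hy (h.ny' hy ny) h2 n2)
  · exact mem_sup_left (h.zW h1 n1 h2 n2).1

theorem fix' {w : G} (hw : w ∈ O2[P₁] ∨ w ∈ O2[P₂]) (e : y * w * y⁻¹ = w⁻¹ ∨ y * w * y⁻¹ = w) :
    w ∈ 𝕎[P₁] ⊔ 𝕎[P₂] := by
  have e2 : y * w * y⁻¹ = w := e.elim (fun e => by
    rw [e, ← eq_inv_of_mul_eq_one_left (hw.elim h.sq h.symm.sq)]) id
  refine h.fix hy ny (hw.elim (fun k => ⟨k, ?_⟩) fun k => ⟨?_, k⟩) e2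
  · rw [← e2, ← h.sw hy ny]; exact conj_mem_map_cj k
  · rw [← e2, ← h.symm.sw hy (h.ny' hy ny)]; exact conj_mem_map_cj k

theorem exc {v : G} (hv : v ∈ T) (v1 : v ∉ O2[P₁]) (v2 : v ∉ O2[P₂]) : ∃ a ∈ 𝕎[P₁],
    a * (y * a * y⁻¹) ∈ 𝕎[P₁] ⊔ 𝕎[P₂] ∧ (a * (y * a * y⁻¹))⁻¹ * v ∈ O2[P₁] ⊓ O2[P₂] := by
  obtain ⟨a, ha, a1⟩ : ∃ a ∈ 𝕎[P₁], a ∉ O2[P₂] := SetLike.not_le_iff_exists.1 fun l => by
    have := card_le_of_le ((h.a.facts h.b.el).2.1.ge.trans (sup_le (le_inf inf_le_left l)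
      (le_inf inf_le_left h.ZD)))
    rw [h.cQ, h.c] at this
    omega
  have hb : y * a * y⁻¹ ∈ 𝕎[P₂] := h.swW hy ny ▸ conj_mem_map_cj ha
  have aQ : a ∈ O2[P₁] := ha.1
  have bQ : y * a * y⁻¹ ∈ O2[P₂] := hb.1
  have b1 : y * a * y⁻¹ ∉ O2[P₁] := fun f => a1 (by
    rw [← h.symm.sw hy (h.ny' hy ny)] at f
    simpa [mul_assoc] using mem_map_cj.1 f)
  have aT := h.QT ha.1
  have bT := h.symm.QT hb.1
  refine ⟨a, ha, mul_mem (mem_sup_left ha) (mem_sup_right hb), ?_, ?_⟩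
  · rw [mul_inv_rev, mul_assoc]
    exact mul_mem_of_relIndex_two h.i2 (inv_mem bT) (mul_mem (inv_mem aT) hv) (mt inv_mem_iff.1 b1)
      fun f => v1 ((mul_mem_cancel_left (inv_mem aQ)).1 f)
  · rw [mul_inv_rev, mul_assoc]
    exact O2[P₂].mul_mem (inv_mem bQ) (mul_mem_of_relIndex_two h.symm.i2 (inv_mem aT) hv
      (mt inv_mem_iff.1 a1) v2)

theorem sqD (y2 : y * y ∈ T) : y * y ∈ 𝕎[P₁] ⊔ 𝕎[P₂] := by
  by_cases k : y * y ∈ O2[P₁] ∨ y * y ∈ O2[P₂]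
  · exact h.fix' hy ny k (.inr (by group))
  push Not at k
  obtain ⟨a, ha, hc, hw⟩ := h.exc hy ny y2 k.1 k.2
  have hb : y * a * y⁻¹ ∈ O2[P₂] := h.sw hy ny ▸ conj_mem_map_cj ha.1
  have aT := h.QT ha.1
  generalize hbb : y * a * y⁻¹ = b at *
  have e1 := mem_cent_iff.1 (h.cD aT) _ hw
  have a2 := h.sq ha.1
  have b2 := h.symm.sq hb
  have c2 : a * b * (a * b) ∈ O2[P₁] := by
    have := mul_mem ha.1 (conj_mem_of_norm (h.a.syl.le.trans le_norm_piCoreOf (h.symm.QT hb)) ha.1)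
    rwa [← eq_inv_of_mul_eq_one_left b2, ← mul_assoc, ← mul_assoc, mul_assoc (a * b)] at this
  have c4 := h.sq c2
  have e2 : y * (a * b) * y⁻¹ = a * b := by
    have e3 : y * y * a * (y * y)⁻¹ = a * b * a * (a * b)⁻¹ := by
      calc y * y * a * (y * y)⁻¹ = a * b * ((a * b)⁻¹ * (y * y) * a) * (y * y)⁻¹ := by group
        _ = _ := by rw [e1]; group
    calc y * (a * b) * y⁻¹ = (y * a * y⁻¹) * (y * y * a * (y * y)⁻¹) := by rw [← hbb]; group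
      _ = b * (a * b * a * (a * b)⁻¹) := by rw [hbb, e3]
      _ = (a * b)⁻¹ * (a * b)⁻¹ * (a * b)⁻¹ := by
        rw [mul_inv_rev, ← eq_inv_of_mul_eq_one_left a2, ← eq_inv_of_mul_eq_one_left b2]
        simp only [mul_assoc]
      _ = (a * b * (a * b) * (a * b * (a * b)))⁻¹ * (a * b) := by group
      _ = a * b := by rw [c4]; group
  have := mul_mem hc (h.fix hy ny hw (by
    calc y * ((a * b)⁻¹ * (y * y)) * y⁻¹ = (y * (a * b) * y⁻¹)⁻¹ * (y * y) := by group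
      _ = _ := by rw [e2]))
  rwa [mul_inv_cancel_left] at this

theorem invD {v : G} (y2 : y * y = 1) (hv : v ∈ T) (e : y * v * y⁻¹ = v⁻¹) :
    v ∈ 𝕎[P₁] ⊔ 𝕎[P₂] := by
  by_cases k : v ∈ O2[P₁] ∨ v ∈ O2[P₂]
  · exact h.fix' hy ny k (.inl e)
  push Not at k
  obtain ⟨a, ha, hc, hw⟩ := h.exc hy ny hv k.1 k.2
  have hb : y * a * y⁻¹ ∈ O2[P₂] := h.sw hy ny ▸ conj_mem_map_cj ha.1
  have a2 := h.sq ha.1
  have e2 : y * (a * (y * a * y⁻¹)) * y⁻¹ = (a * (y * a * y⁻¹))⁻¹ := by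
    rw [mul_inv_rev a, ← eq_inv_of_mul_eq_one_left a2, ← eq_inv_of_mul_eq_one_left (h.symm.sq hb)]
    calc y * (a * (y * a * y⁻¹)) * y⁻¹ = y * a * y⁻¹ * ((y * y) * a * (y * y)⁻¹) := by group
      _ = _ := by rw [y2]; group
  have e1 := mem_cent_iff.1 (h.cD (h.DT hc)) _ hw
  have w2 := h.sq hw.1
  generalize a * (y * a * y⁻¹) = c at *
  have := mul_mem hc (h.fix hy ny hw (by
    calc y * (c⁻¹ * v) * y⁻¹ = (y * c * y⁻¹)⁻¹ * (y * v * y⁻¹) := by group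
      _ = c * (c⁻¹ * v)⁻¹ * c⁻¹ := by rw [e2, e]; group
      _ = _ := by rw [← eq_inv_of_mul_eq_one_left w2, ← e1]; group))
  rwa [mul_inv_cancel_left] at this

end

theorem idx (s : PG[2, S]) (l : T ≤ S) (n : S ≤ N[T]) {y : G} (hy : y ∈ S) (y1 : y ∉ T) :
    y ∉ N[O2[P₁]] ∧ T.relIndex S = 2 := by
  have key : ∀ {P₁ P₂ : Subgroup G}, P4 P₁ P₂ T → ∀ y ∈ S, y ∈ N[O2[P₁]] → y ∈ T := fun h y a b =>
    (h.a.syl.eq_of_le (s.to_le inf_le_left) (le_inf l h.a.syl.le) inf_le_right).le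
      ⟨a, h.nQ ▸ b⟩
  refine ⟨mt (key h y hy) y1, relIndex_two_of l hy y1 fun x hx x1 => key h _ (mul_mem hx hy)
    (map_cj_eq_iff.1 ?_)⟩
  rw [← map_cj_cj, h.sw (n hy) (mt (key h y hy) y1), h.symm.sw (n hx) (mt (key h.symm x hx) x1)]

theorem le_norm (s : PG[2, S]) (l : T ≤ S) : S ≤ N[T] := by
  have lR : T ≤ S ⊓ N[T] := le_inf l le_normalizer
  have key : ∀ A ≤ S ⊓ N[T], IsElementaryAbelian 2 A → o[A] = 8 → A ≤ T := fun A a e c y hy =>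
    by_contra fun y1 => by
      obtain ⟨ny, i⟩ := h.idx (s.to_le inf_le_left) lR inf_le_right (a hy) y1
      have i1 := relIndex_le_of_le_right (H := T) a (relIndex_pos _ _).ne'
      have i2 := card_mul_relIndex (inf_le_right : T ⊓ A ≤ A)
      rw [inf_relIndex_right, c] at i2
      have f : ∀ w ∈ T ⊓ A, y * w * y⁻¹ = w := fun w hw => by
        rw [comm_of_isMulComm e.1 hy hw.2, mul_inv_cancel_right]
      have lD : T ⊓ A ≤ O2[P₁] ⊓ O2[P₂] := fun w hw => by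
        rcases h.a.inv h.b hw.1 (by rw [← pow_two]; exact e.2 w hw.2) with k | k
        · exact ⟨k, by rw [← f w hw, ← h.sw (a hy).2 ny]; exact conj_mem_map_cj k⟩
        · exact ⟨by rw [← f w hw, ← h.symm.sw (a hy).2 (h.ny' (a hy).2 ny)]; exact conj_mem_map_cj k, k⟩
      obtain ⟨z, h1, n1⟩ := h.exZ
      exact h.nfix (a hy).2 ny h1 n1 (f z ((eq_of_le_of_card_le lD (by
        rw [h.c]; nlinarith)).ge ⟨h1.1, h.ZD h1⟩))
  refine le_of_norm_le s fun g hg => mem_norm_of_map_le ?_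
  conv_lhs => rw [← h.a.sup, Subgroup.map_sup]
  exact sup_le (key _ (map_cj_le_of_norm (h.QT.trans lR) hg.2) (elem_map _ h.a.el)
    (by rw [card_map_cj, h.cQ])) (key _ (map_cj_le_of_norm (h.symm.QT.trans lR) hg.2)
    (elem_map _ h.b.el) (by rw [card_map_cj, h.symm.cQ]))

theorem res : R2[(⊤ : Subgroup G)] ⊓ ℨ[P₁] = ⊥ := by
  refine (eq_bot_iff_forall _).2 fun z hz => by_contra fun n1 => ?_
  have h1 := hz.2
  have zT := h.QT h1.1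
  obtain ⟨S, s, l⟩ := exists_syl_ge (M := ⊤) h.a.syl.pg le_top
  have fin : ∀ U : Subgroup G, U.relIndex S = 2 → ¬ ∀ g : G, g * z * g⁻¹ ∉ U := fun U i k => by
    obtain ⟨M, m1, m2, m3⟩ := thompson_transfer (Nat.odd_iff.2 (Nat.two_dvd_ne_zero.1
      (relIndex_top_right S ▸ s.nd))) i (h.sq h1.1) (l zT) k
    exact m3 (piRes_le_of (π := {2}) (le_top.trans (normalizer_eq_top _).ge) (by
      rw [relIndex_top_right, m2]; exact PiN.of_prime Nat.prime_two rfl) hz.1)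
  rcases l.eq_or_lt with rfl | lt
  · exact fin _ h.iD (h.nconjD h1 n1)
  have n := h.le_norm s.pg l
  obtain ⟨z₂, h2, n2⟩ := h.symm.exZ
  obtain ⟨y, hy, y1, y2⟩ : ∃ y ∈ S, y ∉ T ∧ ∀ u ∈ S, u ∉ T → u * u = 1 →
      y⁻¹ * u ∉ 𝕎[P₁] ⊔ 𝕎[P₂] := by
    by_cases k : ∃ t ∈ S, t ∉ T ∧ t * t = 1
    · obtain ⟨t, ht, t1, t2⟩ := k
      obtain ⟨nt, i⟩ := h.idx s.pg l n ht t1
      refine ⟨t * z, mul_mem ht (l zT), fun f => t1 ((mul_mem_cancel_right zT).1 f),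
        fun u hu u1 u2 f => h.zD h1 n1 h2 n2 ?_⟩
      have := h.invD (n ht) nt t2 (mul_mem_of_relIndex_two i ht hu t1 u1) (by
        rw [mul_inv_rev, ← eq_inv_of_mul_eq_one_left t2, ← eq_inv_of_mul_eq_one_left u2,
          ← mul_assoc, t2, one_mul])
      rw [mul_inv_rev, ← eq_inv_of_mul_eq_one_left t2, mul_assoc] at f
      exact inv_mem_iff.1 ((mul_mem_cancel_right this).1 f)
    · obtain ⟨y, hy, y1⟩ := SetLike.exists_of_lt lt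
      exact ⟨y, hy, y1, fun u hu u1 u2 _ => k ⟨u, hu, u1, u2⟩⟩
  obtain ⟨ny, i⟩ := h.idx s.pg l n hy y1
  have yD : y ∉ 𝕎[P₁] ⊔ 𝕎[P₂] := fun f => y1 (h.DT f)
  have i2 := relIndex_sup_zpowers_prime Nat.prime_two (h.nD (n hy) ny) (by
    rw [pow_two]; exact h.sqD (n hy) ny (mul_mem_of_relIndex_two i hy hy y1 y1)) yD
  have lU : 𝕎[P₁] ⊔ 𝕎[P₂] ⊔ zpowers y ≤ S := sup_le (h.DT.trans l) (zpowers_le.2 hy)
  have yU : y ∈ 𝕎[P₁] ⊔ 𝕎[P₂] ⊔ zpowers y := mem_sup_right (mem_zpowers y)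
  refine fin (𝕎[P₁] ⊔ 𝕎[P₂] ⊔ zpowers y) ?_ fun g k => ?_
  · have e1 := relIndex_mul_relIndex _ _ _ le_sup_left lU
    have e2 := relIndex_mul_relIndex _ _ _ h.DT l
    rw [i2] at e1
    rw [i, h.iD] at e2
    omega
  have kD := h.nconjD h1 n1 g
  have m := mul_mem_of_relIndex_two i2 (inv_mem yU) k (mt inv_mem_iff.1 yD) kD
  refine y2 _ (lU k) (fun f => y1 ?_) (by rw [conj_mul, h.sq h1.1]; simp) m
  exact inv_mem_iff.1 ((mul_mem_cancel_right f).1 (h.DT m))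

end P4

/-- passing to a normal subgroup -/
theorem mloc_sub [H.Normal] (m : IsMaximalTwoLocal P) (c : Z ≤ C[P]) (e : P ⊓ H ⊔ Z = P)
    (w : O2[P] ⊓ H ≠ ⊥) : IsMaximalTwoLocal (P.subgroupOf H) := by
  have hi := H.subtype_injective
  have pW : PG[2, O2[P] ⊓ H] := isPGroup_piCoreOf.to_le inf_le_left
  have nW := mloc_norm m pW w (le_norm_inf le_norm_piCoreOf (le_top.trans (normalizer_eq_top _).ge))
  have nn : ∀ X : Subgroup H, N[X] = N[X.map H.subtype].subgroupOf H := fun X => by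
    ext x
    rw [mem_subgroupOf, ← zpowers_le (H := N[X]), ← inj_le_norm hi, MonoidHom.map_zpowers, zpowers_le]
    rfl
  refine ⟨⟨(O2[P] ⊓ H).subgroupOf H, pW.comap_of_injective _ hi, fun f => w (by
    rwa [subgroupOf_eq_bot, disjoint_iff, inf_assoc, inf_idem] at f), by
      rw [nn, map_subgroupOf_eq_of_le inf_le_right, nW]⟩, ?_⟩
  rintro _ ⟨X, pX, x0, rfl⟩ l
  rw [nn] at l ⊢
  have pX' : PG[2, X.map H.subtype] := pX.map _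
  have x1 : X.map H.subtype ≠ ⊥ := mt (map_eq_bot_iff_of_injective _ hi).1 x0
  generalize X.map H.subtype = Y at *
  have l1 : P ⊓ H ≤ N[Y] := fun x hx => l (show (⟨x, hx.2⟩ : H) ∈ _ from hx.1)
  have y0 : Y ⊓ P ≠ ⊥ := fun f => inf_cent_ne_bot' pW pX' ((inf_le_inf_right _ piCoreOf_le).trans l1)
    x1 (le_bot_iff.1 ((inf_le_inf_left _ ((cent_le_norm _).trans nW.le)).trans f.le))
  have nY := mloc_norm m (pX'.to_le inf_le_left) y0 (e.ge.trans (sup_le (le_norm_inf l1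
    (inf_le_left.trans le_normalizer)) (le_norm_of_le_cent (c.trans (cent_anti inf_le_right)))))
  rw [← inf_eq_left.2 (le_of_norm_le pX' (inf_le_right.trans nY.le)), nY]

theorem zn_fin (ne : P₁ ≠ P₂) (m1 : IsMaximalTwoLocal P₁) (a : AR P₁ T O2[P₂])
    (b : AR P₂ T O2[P₁]) [H.Normal] (r : R2[(⊤ : Subgroup G)] ≤ H) (l : ℨ[P₂] ≤ O2[P₁])
    (z : H ⊓ ℨ[P₁] = ⊥) : IsMaximalTwoLocal (P₁.subgroupOf H) ∧
      Nonempty (P₁.subgroupOf H ≃* Equiv.Perm (Fin 4)) ∧ o[T ⊓ H] = 8 ∧ P₁ ⊓ H ⊔ T = P₁ := by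
  obtain ⟨a1, a2, -, -, -, a6⟩ := a.facts b.el
  obtain ⟨-, b2, -⟩ := b.facts a.el
  have r1 : ∀ {P : Subgroup G}, R2[P] ≤ H := fun {_} => (piRes_mono le_top).trans r
  have q1 : O2[P₁] ≤ T ⊓ H ⊔ ℨ[P₁] := a2.ge.trans (sup_le_sup_right (inf_le_inf a.syl.pCoreOf_le r1) _)
  have e1 : T ⊓ H ⊔ ℨ[P₁] = T := le_antisymm (sup_le inf_le_left (inf_le_left.trans a.syl.pCoreOf_le))
    (a.sup.ge.trans (sup_le q1 (b2.ge.trans (sup_le ((inf_le_inf b.syl.pCoreOf_le r1).trans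
      le_sup_left) (l.trans q1)))))
  have e2 : P₁ ⊓ H ⊔ T = P₁ := le_antisymm (sup_le inf_le_left a.syl.le)
    (a.syl.piRes_sup.ge.trans (sup_le_sup_right (le_inf piRes_le r1) _))
  have e3 : P₁ ⊓ H ⊔ ℨ[P₁] = P₁ := le_antisymm (sup_le inf_le_left (inf_le_left.trans piCoreOf_le))
    (e2.ge.trans (sup_le le_sup_left (e1.ge.trans (sup_le_sup_right (inf_le_inf_right _ a.syl.le) _))))
  have d : ∀ {X : Subgroup G}, X ⊓ H ⊓ ℨ[P₁] = ⊥ :=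
    le_bot_iff.1 ((inf_le_inf_right _ inf_le_right).trans z.le)
  obtain ⟨f⟩ := a6 _ e3 d
  refine ⟨mloc_sub m1 inf_le_right e3 fun f => ?_, ⟨?_⟩, ?_, e2⟩
  · rw [le_bot_iff.1 ((inf_le_inf_left _ r1).trans f.le), card_bot] at a1
    omega
  · rw [← inf_subgroupOf_right]
    exact (subgroupOfEquivOfLe inf_le_right).trans f
  · have c1 := card_sup_of_disj (.inl (le_norm_of_le_cent ((inf_le_left.trans a.syl.le).trans
      (le_centralizer_iff.1 inf_le_right)))) (d (X := T))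
    have c2 := card_mul_relIndex a.syl.pCoreOf_le
    obtain ⟨-, -, -, c3, -⟩ := a.struct b.el
    rw [(syl_idx a.syl a.idx).2] at c2
    rw [e1] at c1
    have := card_pos' ℨ[P₁]
    nlinarith

theorem zn_final (h : ZN G) (o : O2[(⊤ : Subgroup G)] = ⊥) (hH : H = R2[(⊤ : Subgroup G)]) :
    (∃ K : Subgroup G, IsStronglyEmbedded K) ∨ ∃ M₁ M₂ : Subgroup H, M₁ ≠ M₂ ∧
      IsMaximalTwoLocal M₁ ∧ IsMaximalTwoLocal M₂ ∧ Nonempty (M₁ ≃* Equiv.Perm (Fin 4)) ∧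
      Nonempty (M₂ ≃* Equiv.Perm (Fin 4)) ∧ o[M₁ ⊓ M₂] = 8 := by
  haveI : H.Normal := normal_of_top_le_norm (hH ▸ le_norm_piRes)
  obtain ⟨S, s⟩ := exists_syl (p := 2) (⊤ : Subgroup G)
  have s0 : S ≠ ⊥ := fun e => s.nd (by
    rw [e, relIndex_bot_left, card_top]; exact even_iff_two_dvd.1 h.ch.1)
  obtain ⟨M, m, n⟩ := exists_mloc' (s.pg.to_le (J_le (e := 2))) (J_ne_bot dvd_rfl s.pg s0)
  refine or_iff_not_imp_left.2 fun k => ?_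
  obtain ⟨T0, t0⟩ : (straddlingTwoSubgroups M).Nonempty := Set.nonempty_iff_ne_empty.2 fun e =>
    k ⟨M, (se_iff_st o m.1).2 e⟩
  obtain ⟨T, t⟩ := exists_mst t0
  have c := cx_of h s n t
  obtain ⟨P₁, P₂, ne, m1, m2, a, b, d⟩ := c.final (c.hh_max m)
  have key : (ℨ[P₂] ≤ O2[P₁] ∧ H ⊓ ℨ[P₁] = ⊥) ∧ ℨ[P₁] ≤ O2[P₂] ∧ H ⊓ ℨ[P₂] = ⊥ := by
    rcases d with d | d
    · have k : ∀ {P Q : Subgroup G}, AR P T O2[Q] → AR Q T O2[P] → o[O2[P] ⊓ O2[Q]] = 2 →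
          ℨ[P] = ⊥ := fun a b d => by
        obtain ⟨-, -, -, c3, -⟩ := a.struct b.el
        have := a.c2
        exact card_eq_one.1 (by omega)
      rw [k a b d, k b a (by rwa [inf_comm])]
      simp
    · have p : P4 P₁ P₂ T := ⟨ne, m1, m2, a, b, d⟩
      exact ⟨⟨p.symm.ZD, hH ▸ p.res⟩, p.ZD, hH ▸ p.symm.res⟩
  obtain ⟨a1, a2, a3, a4⟩ := zn_fin ne m1 a b hH.ge key.1.1 key.1.2
  obtain ⟨b1, b2, -, b4⟩ := zn_fin ne.symm m2 b a hH.ge key.2.1 key.2.2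
  refine ⟨_, _, fun e => ne ?_, a1, b1, a2, b2, ?_⟩
  · rw [← a4, ← b4, subgroupOf_inj.1 e]
  · rw [subgroupOf, subgroupOf, ← comap_inf, ← subgroupOf, a.toAP.inf_eq b.toAP ne, ← a3, ← inf_subgroupOf_right]
    exact Nat.card_congr (subgroupOfEquivOfLe inf_le_right).toEquiv

end CfsgH2
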